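import Cfsg.Agent.H48.Move

/-! The Leech lattice modulo 2: congruence classes and their short representatives. -/

set_option autoImplicit false

namespace Cfsg.Agent.H49

open Cfsg Finset Cfsg.Agent.H48
open scoped Pointwise symmDiff

/-- congruence modulo twice the lattice -/
def cong (v w : Lam) : Prop := ∃ u : Lam, w = v + (u + u)

theorem cong.refl (v : Lam) : cong v v := ⟨0, by simp⟩

theorem cong.symm {v w : Lam} (h : cong v w) : cong w v := by
  obtain ⟨u, rfl⟩ := h
  exact ⟨-u, by abel⟩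

theorem cong.trans {v w x : Lam} (h : cong v w) (h' : cong w x) : cong v x := by
  obtain ⟨u, rfl⟩ := h
  obtain ⟨u', rfl⟩ := h'
  exact ⟨u + u', by abel⟩

theorem cong.add {v w v' w' : Lam} (h : cong v w) (h' : cong v' w') : cong (v + v') (w + w') := by
  obtain ⟨u, rfl⟩ := h
  obtain ⟨u', rfl⟩ := h'
  exact ⟨u + u', by abel⟩

theorem cong_neg (v : Lam) : cong v (-v) := ⟨-v, by abel⟩

theorem cong_add_self (v : Lam) : cong (v + v) 0 := ⟨-v, by abel⟩

theorem cong_add_sub (v w : Lam) : cong (v + w) (v - w) := ⟨-w, by abel⟩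

theorem cong.smul {v w : Lam} (h : cong v w) (g : Co0) : cong (g • v) (g • w) := by
  obtain ⟨u, rfl⟩ := h
  exact ⟨g • u, by rw [co_add, co_add]⟩

theorem cong_smul_iff {v w : Lam} (g : Co0) : cong (g • v) (g • w) ↔ cong v w :=
  ⟨fun h => by simpa using h.smul g⁻¹, fun h => h.smul g⟩

theorem cong_iff_add {v w : Lam} : cong v w ↔ cong 0 (v + w) := by
  constructor
  · rintro ⟨u, rfl⟩
    exact ⟨v + u, by abel⟩
  · rintro ⟨u, hu⟩
    refine ⟨u - v, ?_⟩
    have : w = 0 + (u + u) - v := by rw [← hu]; abel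
    rw [this]; abel

theorem cong_zero_iff {v : Lam} : cong 0 v ↔ ∃ w : Lam, v = w + w := by
  simp [cong]

theorem lam_min_norm {v : Lam} (h : v ≠ 0) : 32 ≤ sqNorm v.1 :=
  min_norm v.2 fun e => h (Subtype.ext e)

theorem cong_norm_eq (v u : Lam) :
    sqNorm (v + (u + u)).1 + sqNorm v.1 = 2 * sqNorm (u + v).1 + 2 * sqNorm u.1 := by
  simp only [AddSubgroup.coe_add, sqNorm_add, H48.dotInt_add_right, ← sqNorm_eq_dot,
    dotInt_comm v.1 u.1]
  ring

theorem cong.cases {v w : Lam} (h : cong v w) :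
    w = v ∨ w = -v ∨ 128 ≤ sqNorm v.1 + sqNorm w.1 := by
  obtain ⟨u, rfl⟩ := h
  by_cases h1 : u = 0
  · left; simp [h1]
  by_cases h2 : u + v = 0
  · right; left
    have : v = -u := by rw [← sub_eq_zero, ← h2]; abel
    rw [this]; abel
  · right; right
    have := cong_norm_eq v u
    have := lam_min_norm h1
    have := lam_min_norm h2
    omega

theorem cong.norm_mod {v w : Lam} (h : cong v w) : 32 ∣ sqNorm w.1 - sqNorm v.1 := by
  obtain ⟨u, rfl⟩ := h
  simp only [AddSubgroup.coe_add, sqNorm_add, H48.dotInt_add_right, ← sqNorm_eq_dot]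
  have h1 := sixteen_dvd_sqNorm u.2
  have h2 := eight_dvd_dot v.2 u.2
  omega

theorem cong.dot_mod {v w : Lam} (h : cong v w) (x : Lam) :
    16 ∣ dotInt w.1 x.1 - dotInt v.1 x.1 := by
  obtain ⟨u, rfl⟩ := h
  simp only [AddSubgroup.coe_add, H48.dotInt_add_left]
  have h2 := eight_dvd_dot u.2 x.2
  omega

theorem cong.norm_eq {v w : Lam} (h : cong v w) (hv : sqNorm v.1 ≤ 64) (hw : sqNorm w.1 ≤ 64) :
    sqNorm w.1 = sqNorm v.1 := by
  rcases h.cases with rfl | rfl | h'
  · rfl
  · rw [AddSubgroup.coe_neg, sqNorm_neg]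
  · omega

theorem cong.eq_zero {v : Lam} (h : cong 0 v) (hv : sqNorm v.1 ≤ 64) : v = 0 := by
  have := h.norm_eq (by simp [sqNorm]) hv
  apply Subtype.ext
  apply eq_zero_of_sqNorm
  rw [this]; simp [sqNorm]

/-- the vector `s e_i + t e_j` -/
def v44 (i j : GolayPt) (s t : ℤ) (hs : 4 ∣ s) (ht : 4 ∣ t) (hst : 8 ∣ s + t) : Lam :=
  ⟨Pi.single i s + Pi.single j t, single_add_single_mem i j s t hs ht hst⟩

theorem v44_apply (i j : GolayPt) (s t : ℤ) (hs : 4 ∣ s) (ht : 4 ∣ t) (hst : 8 ∣ s + t)
    (k : GolayPt) :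
    (v44 i j s t hs ht hst).1 k = (if k = i then s else 0) + (if k = j then t else 0) := by
  simp [v44, Pi.single_apply]

theorem sqNorm_v44 {i j : GolayPt} (hij : i ≠ j) (s t : ℤ) (hs : 4 ∣ s) (ht : 4 ∣ t)
    (hst : 8 ∣ s + t) : sqNorm (v44 i j s t hs ht hst).1 = s ^ 2 + t ^ 2 := by
  simp only [v44]
  rw [sqNorm_add, sqNorm_single, sqNorm_single, dotInt_single_left, Pi.single_eq_of_ne hij]
  ring

theorem dot_v44 (i j : GolayPt) (s t : ℤ) (hs : 4 ∣ s) (ht : 4 ∣ t)
    (hst : 8 ∣ s + t) (x : GolayPt → ℤ) :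
    dotInt (v44 i j s t hs ht hst).1 x = s * x i + t * x j := by
  simp only [v44]
  rw [H48.dotInt_add_left, dotInt_single_left, dotInt_single_left]

theorem e8_apply (i k : GolayPt) : (e8 i).1 k = if k = i then 8 else 0 := by
  simp [e8_val, Pi.single_apply]

theorem cong_e8_e8 (a b : GolayPt) : cong (e8 a) (e8 b) := by
  refine ⟨v44 a b (-4) 4 (by norm_num) (by norm_num) (by norm_num), ?_⟩
  apply Subtype.ext; funext k
  simp only [AddSubgroup.coe_add, Pi.add_apply, v44_apply, e8_apply]
  split_ifs <;> omega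

theorem cong_e8 {a : GolayPt} {w : Lam} (h : cong (e8 a) w) (hw : sqNorm w.1 ≤ 64) :
    ∃ b, w = e8 b ∨ w = -e8 b := by
  have hn := h.norm_eq (sqNorm_e8 a).le hw
  rw [sqNorm_e8] at hn
  obtain ⟨u, rfl⟩ := h
  by_cases h1 : u = 0
  · exact ⟨a, Or.inl (by simp [h1])⟩
  by_cases h2 : u + e8 a = 0
  · refine ⟨a, Or.inr ?_⟩
    have : e8 a = -u := by rw [← sub_eq_zero, ← h2]; abel
    rw [this]; abel
  have h3 := cong_norm_eq (e8 a) u
  have h4 := lam_min_norm h1
  have h5 := lam_min_norm h2
  rw [hn, sqNorm_e8] at h3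
  have h6 : sqNorm u.1 = 32 := by omega
  have h7 : sqNorm (u + e8 a).1 = 32 := by omega
  rw [AddSubgroup.coe_add, sqNorm_add, dot_e8, sqNorm_e8, h6] at h7
  have h8 : |u.1 a| = 4 := by rw [abs_eq (by norm_num)]; omega
  obtain ⟨b, hb, hb4, -⟩ := shape_four_four u.2 h6 h8
  refine ⟨b, eq_e8_of_abs hn ?_⟩
  simp only [AddSubgroup.coe_add, Pi.add_apply, e8_apply, if_neg hb]
  rw [abs_eq (by norm_num)] at hb4 ⊢
  omega

theorem mem_mono_of_cong {g : Co0} {a : GolayPt} (h : cong (e8 a) (g • e8 a)) : g ∈ Mono := by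
  obtain ⟨b, hb⟩ := cong_e8 h (by rw [co_sqNorm, sqNorm_e8])
  exact mem_mono_of_e8 hb

theorem cong_of_mem_mono {g : Co0} (hg : g ∈ Mono) (a : GolayPt) : cong (e8 a) (g • e8 a) := by
  obtain ⟨b, hb | hb⟩ := hg a
  · rw [hb]; exact cong_e8_e8 a b
  · rw [hb]; exact (cong_e8_e8 a b).trans (cong_neg _)

/-! ### Every class has a short representative -/

/-- the class of `v` contains a vector of norm at most 64 -/
def Short (v : Lam) : Prop := ∃ y : Lam, cong v y ∧ sqNorm y.1 ≤ 64

theorem Short.of_cong {v w : Lam} (h : Short w) (hvw : cong v w) : Short v := by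
  obtain ⟨y, hy, hn⟩ := h
  exact ⟨y, hvw.trans hy, hn⟩

theorem Short.smul {v : Lam} (h : Short v) (g : Co0) : Short (g • v) := by
  obtain ⟨y, hy, hn⟩ := h
  exact ⟨g • y, hy.smul g, by rwa [co_sqNorm]⟩

theorem short_of_le {v : Lam} (h : sqNorm v.1 ≤ 64) : Short v := ⟨v, cong.refl v, h⟩

theorem short_add_of_dot {v w : Lam} (h : sqNorm v.1 + sqNorm w.1 - 2 * |dotInt v.1 w.1| ≤ 64) :
    Short (v + w) := by
  rcases abs_cases (dotInt v.1 w.1) with ⟨h1, -⟩ | ⟨h1, -⟩
  · refine ⟨v - w, cong_add_sub v w, ?_⟩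
    rw [AddSubgroup.coe_sub, sqNorm_sub]; omega
  · apply short_of_le
    rw [AddSubgroup.coe_add, sqNorm_add]; omega

theorem exists_two_le_abs {u : Lam} (hu : sqNorm u.1 = 32) : ∃ i, 2 ≤ |u.1 i| := by
  by_contra hc
  push Not at hc
  have : sqNorm u.1 ≤ ∑ _i : GolayPt, (1 : ℤ) := by
    apply Finset.sum_le_sum
    intro i _
    have := hc i
    have h1 : |u.1 i| ≤ 1 := by omega
    rw [← sq_abs]
    nlinarith [abs_nonneg (u.1 i)]
  simp at this
  omega

theorem short_64_add {y u : Lam} (hy : sqNorm y.1 = 64) (hu : sqNorm u.1 = 32) : Short (y + u) := by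
  obtain ⟨g, hg⟩ := trans64 (sqNorm_e8 none) hy
  have hu' : sqNorm (g⁻¹ • u).1 = 32 := by rw [co_sqNorm, hu]
  obtain ⟨i, hi⟩ := exists_two_le_abs hu'
  have h1 : Short (e8 i + g⁻¹ • u) := by
    apply short_add_of_dot
    rw [sqNorm_e8, hu', dotInt_comm, dot_e8, abs_mul]
    norm_num
    omega
  have h2 : Short (e8 none + g⁻¹ • u) := h1.of_cong ((cong_e8_e8 _ _).add (cong.refl _))
  have := h2.smul g
  rwa [co_add, hg, smul_inv_smul] at this

theorem short_32_add {y u : Lam} (hy : sqNorm y.1 = 32) (hu : sqNorm u.1 = 32) : Short (y + u) := by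
  apply short_add_of_dot
  have := abs_nonneg (dotInt y.1 u.1)
  omega

theorem short_le_add {y u : Lam} (hy : sqNorm y.1 ≤ 64) (h48 : sqNorm y.1 ≠ 48)
    (hu : sqNorm u.1 = 32) : Short (y + u) := by
  rcases norm_cases y.2 hy with h | h | h | h
  · have : y = 0 := Subtype.ext h
    rw [this, zero_add]; exact short_of_le (by omega)
  · exact short_32_add h hu
  · exact absurd h h48
  · exact short_64_add h hu

theorem exists_good_index {u : Lam} (hu : sqNorm u.1 = 32)
    (hd : dotInt Spor.leechV.1 u.1 = 0) : ∃ j, j ≠ none ∧ 4 ∣ u.1 none + u.1 j := by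
  by_contra hc
  push Not at hc
  rcases (mem_leech_iff u.1).1 u.2 with ⟨h1, -, -⟩ | ⟨h1, -, -⟩
  · -- even vector
    have h0 := h1 none
    have hw := isWord_cls u.2 (u.1 none % 4)
    have : cls u.1 (u.1 none % 4) = {none} := by
      ext j
      rw [mem_cls, Finset.mem_singleton]
      constructor
      · intro hj
        by_contra hne
        have := hc j hne
        have := h1 j
        omega
      · rintro rfl; rfl
    rw [this] at hw
    have := hw.eq_empty_of_card_lt (by simp)
    simp at this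
  · -- odd vector
    rw [dot_leechV] at hd
    have hall : ∀ j, u.1 j % 4 = u.1 none % 4 := by
      intro j
      by_cases hj : j = none
      · rw [hj]
      · have := hc j hj
        have := h1 j
        have := h1 none
        omega
    have h3 : ∃ a, |u.1 a| = 3 := by
      rcases shape32 u.2 hu with hs | hs | hs <;> unfold Sh at hs
      · obtain ⟨a, ha⟩ := exists_abs0 u.1 0 (by omega)
        have := h1 a
        rw [abs_eq_zero] at ha; omega
      · obtain ⟨a, ha⟩ := exists_abs0 u.1 0 (by omega)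
        have := h1 a
        rw [abs_eq_zero] at ha; omega
      · exact exists_abs0 u.1 3 (by omega)
    obtain ⟨a, ha⟩ := h3
    have hone := fun i (hi : i ≠ a) => abs_one_of_three hu ha (i := i) hi
    have hval : ∀ i, i ≠ a → 3 * u.1 i = -u.1 a := by
      intro i hi
      have h2 := hone i hi
      have h3 := hall i
      have h4 := hall a
      rw [abs_eq (by norm_num)] at h2 ha
      omega
    have hsum : 3 * ∑ i, u.1 i = -20 * u.1 a := by
      rw [← Finset.add_sum_erase _ _ (Finset.mem_univ a), mul_add, Finset.mul_sum,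
        Finset.sum_congr rfl fun i hi => hval i (Finset.ne_of_mem_erase hi)]
      simp [Finset.card_erase_of_mem]
      ring
    rw [abs_eq (by norm_num)] at ha
    by_cases hn : none = a
    · subst hn; omega
    · have := hval none hn
      omega

theorem short_48_add {y u : Lam} (hy : sqNorm y.1 = 48) (hu : sqNorm u.1 = 32) : Short (y + u) := by
  by_cases hd : dotInt y.1 u.1 = 0
  swap
  · apply short_add_of_dot
    obtain ⟨k, hk⟩ := eight_dvd_dot y.2 u.2
    have : 8 ≤ |dotInt y.1 u.1| := by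
      rcases abs_cases (dotInt y.1 u.1) with ⟨h1, h2⟩ | ⟨h1, h2⟩ <;> omega
    omega
  obtain ⟨g, hg⟩ := trans48 sqNorm_leechV hy
  set u' := g⁻¹ • u with hu'def
  have hu' : sqNorm u'.1 = 32 := by rw [hu'def, co_sqNorm, hu]
  have hd' : dotInt Spor.leechV.1 u'.1 = 0 := by rw [← co_dot_inv, hg, hd]
  obtain ⟨j, hj, h4⟩ := exists_good_index hu' hd'
  let a : Lam := v44 none j (-4) (-4) (by norm_num) (by norm_num) (by norm_num)
  have ha : sqNorm a.1 = 32 := by rw [sqNorm_v44 hj.symm]; norm_num
  have hVa : dotInt Spor.leechV.1 a.1 = 24 := by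
    rw [dotInt_comm, dot_v44]
    have : Spor.leechV.1 j = -1 := by
      change Spor.vecV j = -1
      simp [Spor.vecV, hj]
    rw [this]; rfl
  let b : Lam := Spor.leechV - a
  have hb : sqNorm b.1 = 32 := by
    rw [AddSubgroup.coe_sub, sqNorm_sub, sqNorm_leechV, ha, hVa]; norm_num
  have hau : dotInt a.1 u'.1 = -4 * (u'.1 none + u'.1 j) := by rw [dot_v44]; ring
  have hbu : dotInt b.1 u'.1 = 4 * (u'.1 none + u'.1 j) := by
    rw [AddSubgroup.coe_sub, dotInt_sub_left, hd', hau]; ring
  have h1 : ∃ c : Lam, cong (b + u') c ∧ sqNorm c.1 ≤ 64 ∧ sqNorm c.1 ≠ 48 := by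
    rcases le_total 0 (u'.1 none + u'.1 j) with h | h
    · refine ⟨b - u', cong_add_sub _ _, ?_⟩
      rw [AddSubgroup.coe_sub _ b, sqNorm_sub, hb, hu', hbu]; omega
    · refine ⟨b + u', cong.refl _, ?_⟩
      rw [AddSubgroup.coe_add _ b, sqNorm_add, hb, hu', hbu]; omega
  obtain ⟨c, hc, hc1, hc2⟩ := h1
  have h2 : Short (Spor.leechV + u') := by
    apply (short_le_add hc1 hc2 ha).of_cong
    have : Spor.leechV + u' = (b + u') + a := by simp only [b]; abel
    rw [this]
    exact hc.add (cong.refl _)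
  have := h2.smul g
  rwa [co_add, hg, hu'def, smul_inv_smul] at this

theorem Short.add32 {v u : Lam} (h : Short v) (hu : sqNorm u.1 = 32) : Short (v + u) := by
  obtain ⟨y, hy, hn⟩ := h
  refine Short.of_cong ?_ (hy.add (cong.refl u))
  by_cases h48 : sqNorm y.1 = 48
  · exact short_48_add h48 hu
  · exact short_le_add hn h48 hu

theorem exists_split64 {u : Lam} (hu : sqNorm u.1 = 64) :
    ∃ a b : Lam, sqNorm a.1 = 32 ∧ sqNorm b.1 = 32 ∧ u = a + b := by
  obtain ⟨g, hg⟩ := trans64 (sqNorm_e8 none) hu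
  refine ⟨g • Spor.leechU, g • Spor.leechU', by rw [co_sqNorm, sqNorm_leechU],
    by rw [co_sqNorm, sqNorm_leechU'], ?_⟩
  rw [← co_add, ← hg]
  congr 1
  apply Subtype.ext
  decide +kernel

theorem exists_split48 {u : Lam} (hu : sqNorm u.1 = 48) :
    ∃ a b : Lam, sqNorm a.1 = 32 ∧ sqNorm b.1 = 32 ∧ u = a + b := by
  obtain ⟨g, hg⟩ := trans48 sqNorm_leechV hu
  refine ⟨g • (-Spor.leechU), g • (Spor.leechV + Spor.leechU),
    by rw [co_sqNorm, AddSubgroup.coe_neg, sqNorm_neg, sqNorm_leechU],
    by rw [co_sqNorm]; decide +kernel, ?_⟩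
  rw [← co_add, ← hg]
  congr 1
  abel

theorem Short.add_le {v u : Lam} (h : Short v) (hu : sqNorm u.1 ≤ 64) : Short (v + u) := by
  rcases norm_cases u.2 hu with h' | h' | h' | h'
  · have : u = 0 := Subtype.ext h'
    rwa [this, add_zero]
  · exact h.add32 h'
  · obtain ⟨a, b, ha, hb, rfl⟩ := exists_split48 h'
    rw [← add_assoc]; exact (h.add32 ha).add32 hb
  · obtain ⟨a, b, ha, hb, rfl⟩ := exists_split64 h'
    rw [← add_assoc]; exact (h.add32 ha).add32 hb

theorem Short.add {v w : Lam} (h : Short v) (h' : Short w) : Short (v + w) := by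
  obtain ⟨y, hy, hn⟩ := h'
  exact (h.add_le hn).of_cong ((cong.refl v).add hy)

/-- the classes with a short representative form a subgroup -/
def shortSub : AddSubgroup Lam where
  carrier := {v | Short v}
  zero_mem' := short_of_le (by simp [sqNorm])
  add_mem' := Short.add
  neg_mem' := fun {v} h => h.of_cong (cong_neg v).symm

theorem sqNorm_twoInd (c : Finset GolayPt) (hc : IsWord c) :
    sqNorm (twoInd c hc).1 = 4 * c.card := by
  unfold sqNorm
  have : ∀ i, (twoInd c hc).1 i ^ 2 = if i ∈ c then 4 else 0 := by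
    intro i
    change (if i ∈ c then (2 : ℤ) else 0) ^ 2 = _
    split_ifs <;> norm_num
  simp only [this]
  rw [Finset.sum_ite_mem]
  simp [mul_comm]

theorem twoInd_apply (c : Finset GolayPt) (hc : IsWord c) (i : GolayPt) :
    (twoInd c hc).1 i = if i ∈ c then 2 else 0 := rfl

theorem short_twoInd (c : Finset GolayPt) (hc : IsWord c) : Short (twoInd c hc) := by
  by_cases h : c.card ≤ 16
  · apply short_of_le
    rw [sqNorm_twoInd]; omega
  have hu : c = univ := by
    apply Finset.eq_univ_of_card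
    rcases hc.card_cases with h' | h' | h' | h' | h' <;> simp <;> omega
  subst hu
  have hq := isWord_qrSet 0
  have hcard : (qrSet 0).card = 12 := by decide +kernel
  have : twoInd univ hc = twoInd _ hq + twoInd _ hq.compl := by
    apply Subtype.ext; funext i
    simp only [AddSubgroup.coe_add, Pi.add_apply, twoInd_apply, Finset.mem_compl]
    by_cases hi : i ∈ qrSet 0 <;> simp [hi]
  rw [this]
  apply Short.add <;> apply short_of_le <;> rw [sqNorm_twoInd]
  · omega
  · rw [Finset.card_compl, hcard]; simp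

theorem short_of_four_dvd {v : Lam} (h4 : ∀ i, 4 ∣ v.1 i) (h8 : 8 ∣ ∑ i, v.1 i) : Short v := by
  have e : v = ∑ i, (v.1 i / 4) • v44 i none 4 (-4) (by norm_num) (by norm_num) (by norm_num) +
      ((∑ i, v.1 i) / 8) • e8 none := by
    apply Subtype.ext; funext k
    simp only [AddSubgroup.coe_add, Pi.add_apply, AddSubmonoidClass.coe_finsetSum,
      Finset.sum_apply, AddSubgroup.coe_zsmul, Pi.smul_apply, smul_eq_mul, v44_apply, e8_apply,
      mul_add, Finset.sum_add_distrib]
    have e1 : ∑ i, v.1 i / 4 * (if k = i then 4 else 0) = v.1 k := by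
      rw [Finset.sum_eq_single k]
      · simp only [if_true]; exact Int.ediv_mul_cancel (h4 k)
      · intro b _ hb; simp [Ne.symm hb]
      · simp
    have e2 : ∑ i, v.1 i / 4 * (-4) = -∑ i, v.1 i := by
      rw [← Finset.sum_neg_distrib]
      apply Finset.sum_congr rfl
      intro i _
      have := Int.ediv_mul_cancel (h4 i)
      omega
    rw [e1]
    by_cases hk : k = none
    · simp only [hk, if_true]
      rw [e2, Int.ediv_mul_cancel h8]; ring
    · simp [hk]
  rw [e]
  change _ ∈ shortSub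
  apply add_mem
  · apply sum_mem
    intro i _
    apply zsmul_mem
    apply short_of_le
    by_cases hi : i = none
    · subst hi
      have : (v44 none none 4 (-4) (by norm_num) (by norm_num) (by norm_num)).1 = 0 := by
        funext k; rw [v44_apply]; split_ifs <;> simp
      rw [this]; simp [sqNorm]
    · rw [sqNorm_v44 hi]; norm_num
  · exact zsmul_mem (short_of_le (sqNorm_e8 none).le) _

theorem short_of_even {v : Lam} (h : EvenCond v.1) : Short v := by
  obtain ⟨h1, h2, h3⟩ := h
  have e : v = (v - twoInd _ h3) + twoInd _ h3 := by abel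
  rw [e]
  refine Short.add (short_of_four_dvd (fun i => ?_) ?_) (short_twoInd _ _)
  · simp only [AddSubgroup.coe_sub, Pi.sub_apply, twoInd_apply, mem_cls]
    have := h1 i
    split_ifs <;> omega
  · have hx := (v - twoInd _ h3).2
    have : (v - twoInd _ h3).1 none % 2 = 0 := by
      simp only [AddSubgroup.coe_sub, Pi.sub_apply, twoInd_apply, mem_cls]
      have := h1 none
      split_ifs <;> omega
    have := (evenCond_of hx none this).2.1
    omega

/-- Every class modulo twice the lattice has a representative of norm at most 64. -/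
theorem short_all (v : Lam) : Short v := by
  rcases (mem_leech_iff v.1).1 v.2 with h | h
  · exact short_of_even h
  · have e : v = (v - Spor.leechV) + Spor.leechV := by abel
    rw [e]
    refine Short.add (short_of_even (evenCond_of (v - Spor.leechV).2 none ?_))
      (short_of_le (by rw [sqNorm_leechV]; norm_num))
    have := h.1 none
    have h5 : Spor.leechV.1 none = -5 := rfl
    simp only [AddSubgroup.coe_sub, Pi.sub_apply, h5]
    omega

/-- An invariant quadratic function on the lattice modulo two, described by its zero set `Z`: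
it vanishes exactly on the classes of norm divisible by 32. -/
theorem quad_invariant (q : Lam → ZMod 2) (hc : ∀ v w, cong v w → q v = q w)
    (hquad : ∀ u v w, q (u + v + w) + q u + q v + q w = q (u + v) + q (u + w) + q (v + w))
    (hinv : ∀ (g : Co0) v, q (g • v) = q v) (hne : ∃ v, q v ≠ 0) (v : Lam) :
    q v = 0 ↔ 32 ∣ sqNorm v.1 := by
  have h0 : q 0 = 0 := by
    have := hquad 0 0 0
    simp only [add_zero] at this
    revert this; generalize q 0 = a; revert a; decide
  have h32 : ∀ v : Lam, sqNorm v.1 = 32 → q v = q Spor.leechU := by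
    intro v hv
    obtain ⟨g, rfl⟩ := trans32 sqNorm_leechU hv
    exact hinv _ _
  have h48 : ∀ v : Lam, sqNorm v.1 = 48 → q v = q Spor.leechV := by
    intro v hv
    obtain ⟨g, rfl⟩ := trans48 sqNorm_leechV hv
    exact hinv _ _
  have h64 : ∀ v : Lam, sqNorm v.1 = 64 → q v = q (e8 none) := by
    intro v hv
    obtain ⟨g, rfl⟩ := trans64 (sqNorm_e8 none) hv
    exact hinv _ _
  have q4 : q (e8 none) = 0 := by
    let c : Lam := v44 (some 1) (some 2) 4 4 (by norm_num) (by norm_num) (by norm_num)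
    have h := hquad Spor.leechU Spor.leechU' c
    have e1 : q (Spor.leechU + Spor.leechU' + c) = q Spor.leechU := by
      have e : Spor.leechU + Spor.leechU' = e8 none := by apply Subtype.ext; decide +kernel
      rw [e, hc _ _ (((cong_e8_e8 none (some 1)).trans (cong_neg _)).add (cong.refl c))]
      apply h32
      decide +kernel
    rw [e1, h32 Spor.leechU' sqNorm_leechU', h32 c (by decide +kernel),
      h64 (Spor.leechU + Spor.leechU') (by decide +kernel), h64 (Spor.leechU + c) (by decide +kernel),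
      h64 (Spor.leechU' + c) (by decide +kernel)] at h
    revert h; generalize q Spor.leechU = a; generalize q (e8 none) = b; revert a b; decide
  have q2 : q Spor.leechU = 0 := by
    let a : Lam := lam [0, 0, 0, 0, 4, 0, 0, 0, 0, 0, 0, 0, 0, 0, 0, 0, 0, 0, 0, 0, 0, 0, 0, 4]
      (by decide +kernel)
    let b : Lam := lam [1, 1, 1, 1, 1, 1, 1, 1, 1, 1, 1, 1, 1, 1, 1, 1, 1, 1, 1, 1, 1, 1, 1, -3]
      (by decide +kernel)
    let c : Lam := lam [-2, -2, -2, -2, 0, -2, 0, 0, 0, 0, 0, 0, 0, 0, -2, 0, 0, -2, 0, 0, 0, 0, 0, -2]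
      (by decide +kernel)
    have h := hquad a b c
    rw [h48 (a + b + c) (by decide +kernel), h32 a (by decide +kernel), h32 b (by decide +kernel),
      h32 c (by decide +kernel), h48 (a + b) (by decide +kernel), h48 (a + c) (by decide +kernel),
      h48 (b + c) (by decide +kernel)] at h
    revert h; generalize q Spor.leechU = a; generalize q Spor.leechV = b; revert a b; decide
  have key : ∀ v : Lam, (32 ∣ sqNorm v.1 ∧ q v = 0) ∨ (¬ 32 ∣ sqNorm v.1 ∧ q v = q Spor.leechV) := by
    intro v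
    obtain ⟨y, hy, hn⟩ := short_all v
    have hm := hy.norm_mod
    rw [hc _ _ hy]
    rcases norm_cases y.2 hn with h | h | h | h
    · have : y = 0 := Subtype.ext h
      subst this
      left; refine ⟨?_, h0⟩
      have : sqNorm (0 : Lam).1 = 0 := by simp [sqNorm]
      omega
    · left; exact ⟨by omega, (h32 y h).trans q2⟩
    · right; exact ⟨by omega, h48 y h⟩
    · left; exact ⟨by omega, (h64 y h).trans q4⟩
  have q3 : q Spor.leechV ≠ 0 := by
    obtain ⟨w, hw⟩ := hne
    rcases key w with h | h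
    · exact absurd h.2 hw
    · rwa [← h.2]
  rcases key v with h | h
  · exact ⟨fun _ => h.1, fun _ => h.2⟩
  · exact ⟨fun h' => absurd (h.2 ▸ h') q3, fun h' => absurd h' h.1⟩

end Cfsg.Agent.H49
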