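import Cfsg.Agent.H49.Fix

/-! The centralizer in `Co0` of an element of order 3 of `M24`. -/

set_option autoImplicit false
set_option maxRecDepth 200000
set_option linter.style.longLine false

namespace Cfsg.Agent.H49

open Cfsg Subgroup Cfsg.Agent.H48 Cfsg.Agent.H42 Cfsg.Agent.H43
open scoped Pointwise

theorem f3_hn : NOk 9 := by decide

theorem f3_hk : 9 ≤ 2 ^ 4 := by decide

noncomputable def f3_g1 : Net := (Net.cons (nat_lit 1) (nat_lit 4) (Net.cons (nat_lit 2) (nat_lit 2) (Net.cons (nat_lit 1) (nat_lit 5) Net.nil)))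

theorem f3_g1_ok : Net.ok 9 f3_g1 = true := by decide +kernel

noncomputable def f3_g2 : Net := (Net.cons (nat_lit 1) (nat_lit 84) (Net.cons (nat_lit 2) (nat_lit 17) (Net.cons (nat_lit 4) (nat_lit 1) (Net.cons (nat_lit 8) (nat_lit 1) (Net.cons (nat_lit 2) (nat_lit 1) Net.nil)))))

theorem f3_g2_ok : Net.ok 9 f3_g2 = true := by decide +kernel

noncomputable def f3_O : List Net := [f3_g1, f3_g2]

theorem f3_O_ok : okE 9 f3_O = true := (okE_cons.2 ⟨f3_g1_ok, (okE_cons.2 ⟨f3_g2_ok, (okE_nil 9)⟩)⟩)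

noncomputable def f3_V3 : List Net := [f3_g1]

theorem f3_V3_ok : okE 9 f3_V3 = true := (okE_cons.2 ⟨f3_g1_ok, (okE_nil 9)⟩)

noncomputable def f3_g5 : Net := (Net.cons (nat_lit 1) (nat_lit 4) (Net.cons (nat_lit 2) (nat_lit 49) (Net.cons (nat_lit 4) (nat_lit 3) (Net.cons (nat_lit 8) (nat_lit 1) (Net.cons (nat_lit 2) (nat_lit 1) (Net.cons (nat_lit 1) (nat_lit 20) Net.nil))))))

theorem f3_g5_ok : Net.ok 9 f3_g5 = true := by decide +kernel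

noncomputable def f3_g6 : Net := (Net.cons (nat_lit 1) (nat_lit 81) (Net.cons (nat_lit 2) (nat_lit 16) (Net.cons (nat_lit 4) (nat_lit 1) (Net.cons (nat_lit 8) (nat_lit 1) (Net.cons (nat_lit 1) (nat_lit 5) Net.nil)))))

theorem f3_g6_ok : Net.ok 9 f3_g6 = true := by decide +kernel

noncomputable def f3_V7 : List Net := [f3_g5, f3_g6]

theorem f3_V7_ok : okE 9 f3_V7 = true := (okE_cons.2 ⟨f3_g5_ok, (okE_cons.2 ⟨f3_g6_ok, (okE_nil 9)⟩)⟩)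

noncomputable def f3_g9 : Net := (Net.cons (nat_lit 1) (nat_lit 84) (Net.cons (nat_lit 2) (nat_lit 33) (Net.cons (nat_lit 4) (nat_lit 3) (Net.cons (nat_lit 8) (nat_lit 1) (Net.cons (nat_lit 2) (nat_lit 17) Net.nil)))))

theorem f3_g9_ok : Net.ok 9 f3_g9 = true := by decide +kernel

noncomputable def f3_V10 : List Net := [f3_g9]

theorem f3_V10_ok : okE 9 f3_V10 = true := (okE_cons.2 ⟨f3_g9_ok, (okE_nil 9)⟩)

noncomputable def f3_g12 : Net := (Net.cons (nat_lit 2) (nat_lit 32) (Net.cons (nat_lit 1) (nat_lit 64) Net.nil))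

theorem f3_g12_ok : Net.ok 9 f3_g12 = true := by decide +kernel

noncomputable def f3_V13 : List Net := [f3_g2, f3_g12]

theorem f3_V13_ok : okE 9 f3_V13 = true := (okE_cons.2 ⟨f3_g2_ok, (okE_cons.2 ⟨f3_g12_ok, (okE_nil 9)⟩)⟩)

noncomputable def f3_V15 : List Net := [f3_g2]

theorem f3_V15_ok : okE 9 f3_V15 = true := (okE_cons.2 ⟨f3_g2_ok, (okE_nil 9)⟩)

noncomputable def f3_g17 : Net := (Net.cons (nat_lit 1) (nat_lit 64) (Net.cons (nat_lit 2) (nat_lit 1) (Net.cons (nat_lit 8) (nat_lit 1) (Net.cons (nat_lit 4) (nat_lit 1) (Net.cons (nat_lit 2) (nat_lit 17) (Net.cons (nat_lit 1) (nat_lit 68) Net.nil))))))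

theorem f3_g17_ok : Net.ok 9 f3_g17 = true := by decide +kernel

noncomputable def f3_g18 : Net := (Net.cons (nat_lit 2) (nat_lit 17) (Net.cons (nat_lit 4) (nat_lit 9) (Net.cons (nat_lit 8) (nat_lit 1) (Net.cons (nat_lit 2) (nat_lit 1) (Net.cons (nat_lit 1) (nat_lit 68) Net.nil)))))

theorem f3_g18_ok : Net.ok 9 f3_g18 = true := by decide +kernel

noncomputable def f3_V19 : List Net := [f3_g17, f3_g18]

theorem f3_V19_ok : okE 9 f3_V19 = true := (okE_cons.2 ⟨f3_g17_ok, (okE_cons.2 ⟨f3_g18_ok, (okE_nil 9)⟩)⟩)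

noncomputable def f3_g21 : Net := (Net.cons (nat_lit 4) (nat_lit 13) (Net.cons (nat_lit 8) (nat_lit 1) (Net.cons (nat_lit 4) (nat_lit 1) (Net.cons (nat_lit 1) (nat_lit 64) Net.nil))))

theorem f3_g21_ok : Net.ok 9 f3_g21 = true := by decide +kernel

noncomputable def f3_V22 : List Net := [f3_g21]

theorem f3_V22_ok : okE 9 f3_V22 = true := (okE_cons.2 ⟨f3_g21_ok, (okE_nil 9)⟩)

noncomputable def f3_g24 : Net := (Net.cons (nat_lit 1) (nat_lit 16) (Net.cons (nat_lit 2) (nat_lit 32) (Net.cons (nat_lit 4) (nat_lit 8) (Net.cons (nat_lit 2) (nat_lit 32) (Net.cons (nat_lit 1) (nat_lit 20) Net.nil)))))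

theorem f3_g24_ok : Net.ok 9 f3_g24 = true := by decide +kernel

noncomputable def f3_V25 : List Net := [f3_g17, f3_g24]

theorem f3_V25_ok : okE 9 f3_V25 = true := (okE_cons.2 ⟨f3_g17_ok, (okE_cons.2 ⟨f3_g24_ok, (okE_nil 9)⟩)⟩)

noncomputable def f3_g27 : Net := (Net.cons (nat_lit 2) (nat_lit 16) (Net.cons (nat_lit 4) (nat_lit 4) (Net.cons (nat_lit 2) (nat_lit 16) (Net.cons (nat_lit 1) (nat_lit 4) Net.nil))))

theorem f3_g27_ok : Net.ok 9 f3_g27 = true := by decide +kernel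

noncomputable def f3_V28 : List Net := [f3_g27]

theorem f3_V28_ok : okE 9 f3_V28 = true := (okE_cons.2 ⟨f3_g27_ok, (okE_nil 9)⟩)

noncomputable def f3_g30 : Net := (Net.cons (nat_lit 1) (nat_lit 64) (Net.cons (nat_lit 2) (nat_lit 16) (Net.cons (nat_lit 4) (nat_lit 1) (Net.cons (nat_lit 8) (nat_lit 1) (Net.cons (nat_lit 4) (nat_lit 1) (Net.cons (nat_lit 1) (nat_lit 64) Net.nil))))))

theorem f3_g30_ok : Net.ok 9 f3_g30 = true := by decide +kernel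

noncomputable def f3_g31 : Net := (Net.cons (nat_lit 1) (nat_lit 4) (Net.cons (nat_lit 2) (nat_lit 1) (Net.cons (nat_lit 4) (nat_lit 1) (Net.cons (nat_lit 8) (nat_lit 1) (Net.cons (nat_lit 2) (nat_lit 1) (Net.cons (nat_lit 1) (nat_lit 4) Net.nil))))))

theorem f3_g31_ok : Net.ok 9 f3_g31 = true := by decide +kernel

noncomputable def f3_V32 : List Net := [f3_g30, f3_g31]

theorem f3_V32_ok : okE 9 f3_V32 = true := (okE_cons.2 ⟨f3_g30_ok, (okE_cons.2 ⟨f3_g31_ok, (okE_nil 9)⟩)⟩)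

noncomputable def f3_g34 : Net := (Net.cons (nat_lit 1) (nat_lit 64) (Net.cons (nat_lit 4) (nat_lit 1) (Net.cons (nat_lit 8) (nat_lit 1) (Net.cons (nat_lit 4) (nat_lit 1) (Net.cons (nat_lit 2) (nat_lit 16) (Net.cons (nat_lit 1) (nat_lit 64) Net.nil))))))

theorem f3_g34_ok : Net.ok 9 f3_g34 = true := by decide +kernel

noncomputable def f3_V35 : List Net := [f3_g34]

theorem f3_V35_ok : okE 9 f3_V35 = true := (okE_cons.2 ⟨f3_g34_ok, (okE_nil 9)⟩)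

noncomputable def f3_g37 : Net := (Net.cons (nat_lit 1) (nat_lit 68) (Net.cons (nat_lit 2) (nat_lit 17) (Net.cons (nat_lit 4) (nat_lit 1) (Net.cons (nat_lit 8) (nat_lit 1) (Net.cons (nat_lit 2) (nat_lit 17) (Net.cons (nat_lit 1) (nat_lit 68) Net.nil))))))

theorem f3_g37_ok : Net.ok 9 f3_g37 = true := by decide +kernel

noncomputable def f3_V38 : List Net := [f3_g37, f3_g37]

theorem f3_V38_ok : okE 9 f3_V38 = true := (okE_cons.2 ⟨f3_g37_ok, (okE_cons.2 ⟨f3_g37_ok, (okE_nil 9)⟩)⟩)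

noncomputable def f3_g40 : Net := (Net.cons (nat_lit 1) (nat_lit 68) (Net.cons (nat_lit 2) (nat_lit 17) (Net.cons (nat_lit 8) (nat_lit 1) (Net.cons (nat_lit 4) (nat_lit 1) (Net.cons (nat_lit 2) (nat_lit 17) (Net.cons (nat_lit 1) (nat_lit 68) Net.nil))))))

theorem f3_g40_ok : Net.ok 9 f3_g40 = true := by decide +kernel

noncomputable def f3_V41 : List Net := [f3_g40]

theorem f3_V41_ok : okE 9 f3_V41 = true := (okE_cons.2 ⟨f3_g40_ok, (okE_nil 9)⟩)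

noncomputable def f3o_E7 : List Net := []

theorem f3o_E7_ok : okE 9 f3o_E7 = true := (okE_nil 9)

noncomputable def f3o_G6 : List Net := [f3_g40]

theorem f3o_G6_ok : okE 9 f3o_G6 = true := (okE_cons.2 ⟨f3_g40_ok, (okE_nil 9)⟩)

noncomputable def f3o_E6 : List Net := [f3_g40, f3_g37, f3_g37]

theorem f3o_E6_ok : okE 9 f3o_E6 = true := (okE_cons.2 ⟨f3_g40_ok, (okE_cons.2 ⟨f3_g37_ok, (okE_cons.2 ⟨f3_g37_ok, (okE_nil 9)⟩)⟩)⟩)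

noncomputable def f3o_G5 : List Net := [f3_g34, f3_g40, f3_g37, f3_g37]

theorem f3o_G5_ok : okE 9 f3o_G5 = true := (okE_cons.2 ⟨f3_g34_ok, (okE_cons.2 ⟨f3_g40_ok, (okE_cons.2 ⟨f3_g37_ok, (okE_cons.2 ⟨f3_g37_ok, (okE_nil 9)⟩)⟩)⟩)⟩)

noncomputable def f3o_E5 : List Net := [f3_g34, f3_g30, f3_g31, f3_g40, f3_g37, f3_g37]

theorem f3o_E5_ok : okE 9 f3o_E5 = true := (okE_cons.2 ⟨f3_g34_ok, (okE_cons.2 ⟨f3_g30_ok, (okE_cons.2 ⟨f3_g31_ok, (okE_cons.2 ⟨f3_g40_ok, (okE_cons.2 ⟨f3_g37_ok, (okE_cons.2 ⟨f3_g37_ok, (okE_nil 9)⟩)⟩)⟩)⟩)⟩)⟩)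

noncomputable def f3o_G4 : List Net := [f3_g27, f3_g34, f3_g30, f3_g31, f3_g40, f3_g37, f3_g37]

theorem f3o_G4_ok : okE 9 f3o_G4 = true := (okE_cons.2 ⟨f3_g27_ok, (okE_cons.2 ⟨f3_g34_ok, (okE_cons.2 ⟨f3_g30_ok, (okE_cons.2 ⟨f3_g31_ok, (okE_cons.2 ⟨f3_g40_ok, (okE_cons.2 ⟨f3_g37_ok, (okE_cons.2 ⟨f3_g37_ok, (okE_nil 9)⟩)⟩)⟩)⟩)⟩)⟩)⟩)

noncomputable def f3o_E4 : List Net := [f3_g27, f3_g17, f3_g24, f3_g34, f3_g30, f3_g31, f3_g40, f3_g37, f3_g37]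

theorem f3o_E4_ok : okE 9 f3o_E4 = true := (okE_cons.2 ⟨f3_g27_ok, (okE_cons.2 ⟨f3_g17_ok, (okE_cons.2 ⟨f3_g24_ok, (okE_cons.2 ⟨f3_g34_ok, (okE_cons.2 ⟨f3_g30_ok, (okE_cons.2 ⟨f3_g31_ok, (okE_cons.2 ⟨f3_g40_ok, (okE_cons.2 ⟨f3_g37_ok, (okE_cons.2 ⟨f3_g37_ok, (okE_nil 9)⟩)⟩)⟩)⟩)⟩)⟩)⟩)⟩)⟩)

noncomputable def f3o_G3 : List Net := [f3_g21, f3_g27, f3_g17, f3_g24, f3_g34, f3_g30, f3_g31, f3_g40, f3_g37, f3_g37]

theorem f3o_G3_ok : okE 9 f3o_G3 = true := (okE_cons.2 ⟨f3_g21_ok, (okE_cons.2 ⟨f3_g27_ok, (okE_cons.2 ⟨f3_g17_ok, (okE_cons.2 ⟨f3_g24_ok, (okE_cons.2 ⟨f3_g34_ok, (okE_cons.2 ⟨f3_g30_ok, (okE_cons.2 ⟨f3_g31_ok, (okE_cons.2 ⟨f3_g40_ok, (okE_cons.2 ⟨f3_g37_ok, (okE_cons.2 ⟨f3_g37_ok, (okE_nil 9)⟩)⟩)⟩)⟩)⟩)⟩)⟩)⟩)⟩)⟩)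

noncomputable def f3o_E3 : List Net := [f3_g21, f3_g18, f3_g27, f3_g17, f3_g24, f3_g34, f3_g30, f3_g31, f3_g40, f3_g37, f3_g37]

theorem f3o_E3_ok : okE 9 f3o_E3 = true := (okE_cons.2 ⟨f3_g21_ok, (okE_cons.2 ⟨f3_g18_ok, (okE_cons.2 ⟨f3_g27_ok, (okE_cons.2 ⟨f3_g17_ok, (okE_cons.2 ⟨f3_g24_ok, (okE_cons.2 ⟨f3_g34_ok, (okE_cons.2 ⟨f3_g30_ok, (okE_cons.2 ⟨f3_g31_ok, (okE_cons.2 ⟨f3_g40_ok, (okE_cons.2 ⟨f3_g37_ok, (okE_cons.2 ⟨f3_g37_ok, (okE_nil 9)⟩)⟩)⟩)⟩)⟩)⟩)⟩)⟩)⟩)⟩)⟩)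

noncomputable def f3o_G2 : List Net := [f3_g2, f3_g21, f3_g18, f3_g27, f3_g17, f3_g24, f3_g34, f3_g30, f3_g31, f3_g40, f3_g37, f3_g37]

theorem f3o_G2_ok : okE 9 f3o_G2 = true := (okE_cons.2 ⟨f3_g2_ok, (okE_cons.2 ⟨f3_g21_ok, (okE_cons.2 ⟨f3_g18_ok, (okE_cons.2 ⟨f3_g27_ok, (okE_cons.2 ⟨f3_g17_ok, (okE_cons.2 ⟨f3_g24_ok, (okE_cons.2 ⟨f3_g34_ok, (okE_cons.2 ⟨f3_g30_ok, (okE_cons.2 ⟨f3_g31_ok, (okE_cons.2 ⟨f3_g40_ok, (okE_cons.2 ⟨f3_g37_ok, (okE_cons.2 ⟨f3_g37_ok, (okE_nil 9)⟩)⟩)⟩)⟩)⟩)⟩)⟩)⟩)⟩)⟩)⟩)⟩)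

noncomputable def f3o_E2 : List Net := [f3_g2, f3_g12, f3_g21, f3_g18, f3_g27, f3_g17, f3_g24, f3_g34, f3_g30, f3_g31, f3_g40, f3_g37, f3_g37]

theorem f3o_E2_ok : okE 9 f3o_E2 = true := (okE_cons.2 ⟨f3_g2_ok, (okE_cons.2 ⟨f3_g12_ok, (okE_cons.2 ⟨f3_g21_ok, (okE_cons.2 ⟨f3_g18_ok, (okE_cons.2 ⟨f3_g27_ok, (okE_cons.2 ⟨f3_g17_ok, (okE_cons.2 ⟨f3_g24_ok, (okE_cons.2 ⟨f3_g34_ok, (okE_cons.2 ⟨f3_g30_ok, (okE_cons.2 ⟨f3_g31_ok, (okE_cons.2 ⟨f3_g40_ok, (okE_cons.2 ⟨f3_g37_ok, (okE_cons.2 ⟨f3_g37_ok, (okE_nil 9)⟩)⟩)⟩)⟩)⟩)⟩)⟩)⟩)⟩)⟩)⟩)⟩)⟩)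

noncomputable def f3o_G1 : List Net := [f3_g9, f3_g2, f3_g12, f3_g21, f3_g18, f3_g27, f3_g17, f3_g24, f3_g34, f3_g30, f3_g31, f3_g40, f3_g37, f3_g37]

theorem f3o_G1_ok : okE 9 f3o_G1 = true := (okE_cons.2 ⟨f3_g9_ok, (okE_cons.2 ⟨f3_g2_ok, (okE_cons.2 ⟨f3_g12_ok, (okE_cons.2 ⟨f3_g21_ok, (okE_cons.2 ⟨f3_g18_ok, (okE_cons.2 ⟨f3_g27_ok, (okE_cons.2 ⟨f3_g17_ok, (okE_cons.2 ⟨f3_g24_ok, (okE_cons.2 ⟨f3_g34_ok, (okE_cons.2 ⟨f3_g30_ok, (okE_cons.2 ⟨f3_g31_ok, (okE_cons.2 ⟨f3_g40_ok, (okE_cons.2 ⟨f3_g37_ok, (okE_cons.2 ⟨f3_g37_ok, (okE_nil 9)⟩)⟩)⟩)⟩)⟩)⟩)⟩)⟩)⟩)⟩)⟩)⟩)⟩)⟩)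

noncomputable def f3o_E1 : List Net := [f3_g9, f3_g5, f3_g6, f3_g2, f3_g12, f3_g21, f3_g18, f3_g27, f3_g17, f3_g24, f3_g34, f3_g30, f3_g31, f3_g40, f3_g37, f3_g37]

theorem f3o_E1_ok : okE 9 f3o_E1 = true := (okE_cons.2 ⟨f3_g9_ok, (okE_cons.2 ⟨f3_g5_ok, (okE_cons.2 ⟨f3_g6_ok, (okE_cons.2 ⟨f3_g2_ok, (okE_cons.2 ⟨f3_g12_ok, (okE_cons.2 ⟨f3_g21_ok, (okE_cons.2 ⟨f3_g18_ok, (okE_cons.2 ⟨f3_g27_ok, (okE_cons.2 ⟨f3_g17_ok, (okE_cons.2 ⟨f3_g24_ok, (okE_cons.2 ⟨f3_g34_ok, (okE_cons.2 ⟨f3_g30_ok, (okE_cons.2 ⟨f3_g31_ok, (okE_cons.2 ⟨f3_g40_ok, (okE_cons.2 ⟨f3_g37_ok, (okE_cons.2 ⟨f3_g37_ok, (okE_nil 9)⟩)⟩)⟩)⟩)⟩)⟩)⟩)⟩)⟩)⟩)⟩)⟩)⟩)⟩)⟩)⟩)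

noncomputable def f3o_G0 : List Net := [f3_g1, f3_g9, f3_g5, f3_g6, f3_g2, f3_g12, f3_g21, f3_g18, f3_g27, f3_g17, f3_g24, f3_g34, f3_g30, f3_g31, f3_g40, f3_g37, f3_g37]

theorem f3o_G0_ok : okE 9 f3o_G0 = true := (okE_cons.2 ⟨f3_g1_ok, (okE_cons.2 ⟨f3_g9_ok, (okE_cons.2 ⟨f3_g5_ok, (okE_cons.2 ⟨f3_g6_ok, (okE_cons.2 ⟨f3_g2_ok, (okE_cons.2 ⟨f3_g12_ok, (okE_cons.2 ⟨f3_g21_ok, (okE_cons.2 ⟨f3_g18_ok, (okE_cons.2 ⟨f3_g27_ok, (okE_cons.2 ⟨f3_g17_ok, (okE_cons.2 ⟨f3_g24_ok, (okE_cons.2 ⟨f3_g34_ok, (okE_cons.2 ⟨f3_g30_ok, (okE_cons.2 ⟨f3_g31_ok, (okE_cons.2 ⟨f3_g40_ok, (okE_cons.2 ⟨f3_g37_ok, (okE_cons.2 ⟨f3_g37_ok, (okE_nil 9)⟩)⟩)⟩)⟩)⟩)⟩)⟩)⟩)⟩)⟩)⟩)⟩)⟩)⟩)⟩)⟩)⟩)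

noncomputable def f3o_E0 : List Net := [f3_g1, f3_g9, f3_g5, f3_g6, f3_g2, f3_g12, f3_g21, f3_g18, f3_g27, f3_g17, f3_g24, f3_g34, f3_g30, f3_g31, f3_g40, f3_g37, f3_g37]

theorem f3o_E0_ok : okE 9 f3o_E0 = true := (okE_cons.2 ⟨f3_g1_ok, (okE_cons.2 ⟨f3_g9_ok, (okE_cons.2 ⟨f3_g5_ok, (okE_cons.2 ⟨f3_g6_ok, (okE_cons.2 ⟨f3_g2_ok, (okE_cons.2 ⟨f3_g12_ok, (okE_cons.2 ⟨f3_g21_ok, (okE_cons.2 ⟨f3_g18_ok, (okE_cons.2 ⟨f3_g27_ok, (okE_cons.2 ⟨f3_g17_ok, (okE_cons.2 ⟨f3_g24_ok, (okE_cons.2 ⟨f3_g34_ok, (okE_cons.2 ⟨f3_g30_ok, (okE_cons.2 ⟨f3_g31_ok, (okE_cons.2 ⟨f3_g40_ok, (okE_cons.2 ⟨f3_g37_ok, (okE_cons.2 ⟨f3_g37_ok, (okE_nil 9)⟩)⟩)⟩)⟩)⟩)⟩)⟩)⟩)⟩)⟩)⟩)⟩)⟩)⟩)⟩)⟩)⟩)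

theorem f3_le4 : grp 9 f3_V3 ≤ grp 9 f3_O :=
  grp_le_of_memB f3_hn f3_hk f3_O_ok f3_V3_ok (ws := [nat_lit 1]) (by decide +kernel)

theorem f3_le8 : grp 9 f3_V7 ≤ grp 9 f3_O :=
  grp_le_of_memB f3_hn f3_hk f3_O_ok f3_V7_ok (ws := [nat_lit 0x202030302, nat_lit 0x302040402030301]) (by decide +kernel)

theorem f3_le11 : grp 9 f3_V10 ≤ grp 9 f3_V7 :=
  grp_le_of_memB f3_hn f3_hk f3_V7_ok f3_V10_ok (ws := [nat_lit 259]) (by decide +kernel)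

theorem f3_le14 : grp 9 f3_V13 ≤ grp 9 f3_V7 :=
  grp_le_of_memB f3_hn f3_hk f3_V7_ok f3_V13_ok (ws := [nat_lit 0x3030203030203, nat_lit 0x202030301]) (by decide +kernel)

theorem f3_le16 : grp 9 f3_V15 ≤ grp 9 f3_V13 :=
  grp_le_of_memB f3_hn f3_hk f3_V13_ok f3_V15_ok (ws := [nat_lit 1]) (by decide +kernel)

theorem f3_le20 : grp 9 f3_V19 ≤ grp 9 f3_V13 :=
  grp_le_of_memB f3_hn f3_hk f3_V13_ok f3_V19_ok (ws := [nat_lit 770, nat_lit 65795]) (by decide +kernel)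

theorem f3_le23 : grp 9 f3_V22 ≤ grp 9 f3_V19 :=
  grp_le_of_memB f3_hn f3_hk f3_V19_ok f3_V22_ok (ws := [nat_lit 770]) (by decide +kernel)

theorem f3_le26 : grp 9 f3_V25 ≤ grp 9 f3_V19 :=
  grp_le_of_memB f3_hn f3_hk f3_V19_ok f3_V25_ok (ws := [nat_lit 0x4040401, nat_lit 0x302020202030104]) (by decide +kernel)

theorem f3_le29 : grp 9 f3_V28 ≤ grp 9 f3_V25 :=
  grp_le_of_memB f3_hn f3_hk f3_V25_ok f3_V28_ok (ws := [nat_lit 4]) (by decide +kernel)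

theorem f3_le33 : grp 9 f3_V32 ≤ grp 9 f3_V25 :=
  grp_le_of_memB f3_hn f3_hk f3_V25_ok f3_V32_ok (ws := [nat_lit 0x2020402040203, nat_lit 0x40101010402]) (by decide +kernel)

theorem f3_le36 : grp 9 f3_V35 ≤ grp 9 f3_V32 :=
  grp_le_of_memB f3_hn f3_hk f3_V32_ok f3_V35_ok (ws := [nat_lit 2]) (by decide +kernel)

theorem f3_le39 : grp 9 f3_V38 ≤ grp 9 f3_V32 :=
  grp_le_of_memB f3_hn f3_hk f3_V32_ok f3_V38_ok (ws := [nat_lit 0x204010302, nat_lit 769]) (by decide +kernel)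

theorem f3_le42 : grp 9 f3_V41 ≤ grp 9 f3_V38 :=
  grp_le_of_memB f3_hn f3_hk f3_V38_ok f3_V41_ok (ws := [nat_lit 2]) (by decide +kernel)

theorem f3o_card7 : Nat.card (grp 9 f3o_E7) = 1 :=
  card_grp_nil 9

theorem f3o_leO7 : grp 9 f3o_E7 ≤ grp 9 f3_O :=
  grp_nil_le _

theorem f3o_6_fix : grp 9 f3o_E7 ≤ MulAction.stabilizer (Equiv.Perm (Fin 9)) (⟨8, by decide⟩ : Fin 9) :=
  grp_le_stab f3o_E7_ok (by decide : 8 < 9) (by decide +kernel)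

noncomputable def f3o_6_ts : List ℕ := [nat_lit 0, nat_lit 1, nat_lit 2]

noncomputable def f3o_6_ds : List ℕ := [nat_lit 8, nat_lit 7, nat_lit 3]

theorem f3o_6_dist : Dist 9 f3o_E7 f3o_G6 (⟨8, by decide⟩ : Fin 9) f3o_6_ts f3o_6_ds :=
  dist_of_distB (k := 2) f3_hn f3o_E7_ok f3o_G6_ok (by decide : 8 < 9) (by decide +kernel)

noncomputable def f3o_6_sl0 : SL := (SL.cons (nat_lit 1) (nat_lit 7) Ch.nil [] (SL.cons (nat_lit 2) (nat_lit 3) Ch.nil [] SL.nil))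

theorem f3o_6_sc0 : SCs 9 f3o_E7 f3o_G6 (⟨8, by decide⟩ : Fin 9) (SL.words f3o_6_sl0) :=
  scs_of_ok f3_hn (det_lab f3_hk ⊤) f3o_E7_ok f3o_G6_ok le_top le_top (by decide : 8 < 9) f3o_6_fix f3o_card7.le (by decide +kernel)

noncomputable def f3o_6_l : List ℕ := (appL (SL.words f3o_6_sl0) [])

theorem f3o_6_scs : SCs 9 f3o_E7 f3o_G6 (⟨8, by decide⟩ : Fin 9) f3o_6_l :=
  (SCs.append f3o_6_sc0 SCs.nil)

noncomputable def f3o_6_rl0_0 : RL := (RL.cons (nat_lit 0) (nat_lit 8) (nat_lit 0) (nat_lit 0) (nat_lit 2) (nat_lit 0) (RL.cons (nat_lit 1) (nat_lit 7) (nat_lit 0) (nat_lit 0) (nat_lit 0) (nat_lit 0) (RL.cons (nat_lit 2) (nat_lit 3) (nat_lit 0) (nat_lit 0) (nat_lit 1) (nat_lit 0) RL.nil)))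

theorem f3o_6_good0_0 : GoodSet 9 f3o_E7 f3o_G6 (⟨8, by decide⟩ : Fin 9) f3o_6_ts (nat_lit 1) (RL.pts f3o_6_rl0_0) :=
  goodSet_of_ok f3_hn (det_lab f3_hk ⊤) f3o_E7_ok f3o_G6_ok le_top le_top (by decide : 8 < 9) (sepAt_lab f3_hk _) (by decide +kernel)

theorem f3o_6_step0 : Step 9 f3o_E7 f3o_G6 f3o_6_ts (2 * 0 + 1) :=
  step_of_cover f3o_E7_ok f3o_6_dist (by decide +kernel) f3o_6_scs (by decide +kernel) f3o_6_good0_0 (kw := [])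
    (conj_mem_of_scs f3o_E7_ok f3o_G6_ok (by decide : 8 < 9) f3o_6_scs (c := 0) (d := 7) (by decide +kernel)) (by decide +kernel)

theorem f3o_6_lev : grp 9 f3o_G6 ⊓ MulAction.stabilizer (Equiv.Perm (Fin 9)) (⟨8, by decide⟩ : Fin 9) = grp 9 f3o_E7 :=
  sims_level (gs := f3_V41) rfl (by decide) f3o_6_fix f3o_6_dist (forall_lt_one f3o_6_step0)

theorem f3o_6_cardG : Nat.card (grp 9 f3o_G6) = 3 :=
  card_of_level f3_hn f3o_G6_ok (by decide : 8 < 9) f3o_6_lev f3o_card7 (m := 3) (by decide +kernel)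

theorem f3_le43 : grp 9 f3o_E6 ≤ grp 9 f3o_G6 :=
  grp_le_of_memB f3_hn f3_hk f3o_G6_ok f3o_E6_ok (ws := [nat_lit 1, nat_lit 2, nat_lit 2]) (by decide +kernel)

theorem f3_le44 : grp 9 f3o_G6 ≤ grp 9 f3o_E6 :=
  grp_le_of_memB f3_hn f3_hk f3o_E6_ok f3o_G6_ok (ws := [nat_lit 1]) (by decide +kernel)

theorem f3o_6_eq : grp 9 f3o_E6 = grp 9 f3o_G6 :=
  le_antisymm f3_le43 f3_le44

theorem f3o_card6 : Nat.card (grp 9 f3o_E6) = 3 :=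
  by rw [f3o_6_eq]; exact f3o_6_cardG

theorem f3o_stab6 : grp 9 f3o_E6 ⊓ MulAction.stabilizer (Equiv.Perm (Fin 9)) (⟨8, by decide⟩ : Fin 9) = grp 9 f3o_E7 :=
  by rw [f3o_6_eq]; exact f3o_6_lev

theorem f3o_leO6 : grp 9 f3o_E6 ≤ grp 9 f3_O :=
  f3o_6_eq.le.trans (grp_cons_le ((f3_le39.trans (f3_le33.trans (f3_le26.trans (f3_le20.trans (f3_le14.trans (f3_le8.trans (le_refl (grp 9 f3_O)))))))) (f3_le42 (toPerm_mem_grp (E := f3_V41) (by simp [f3_V41])))) f3o_leO7)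

theorem f3o_5_fix : grp 9 f3o_E6 ≤ MulAction.stabilizer (Equiv.Perm (Fin 9)) (⟨4, by decide⟩ : Fin 9) :=
  grp_le_stab f3o_E6_ok (by decide : 4 < 9) (by decide +kernel)

noncomputable def f3o_5_ts : List ℕ := [nat_lit 0, nat_lit 1]

noncomputable def f3o_5_ds : List ℕ := [nat_lit 4, nat_lit 8]

theorem f3o_5_dist : Dist 9 f3o_E6 f3o_G5 (⟨4, by decide⟩ : Fin 9) f3o_5_ts f3o_5_ds :=
  dist_of_distB (k := 1) f3_hn f3o_E6_ok f3o_G5_ok (by decide : 4 < 9) (by decide +kernel)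

noncomputable def f3o_5_sl0 : SL := (SL.cons (nat_lit 1) (nat_lit 8) Ch.nil [] SL.nil)

theorem f3o_5_sc0 : SCs 9 f3o_E6 f3o_G5 (⟨4, by decide⟩ : Fin 9) (SL.words f3o_5_sl0) :=
  scs_of_ok f3_hn (det_lab f3_hk ⊤) f3o_E6_ok f3o_G5_ok le_top le_top (by decide : 4 < 9) f3o_5_fix f3o_card6.le (by decide +kernel)

noncomputable def f3o_5_l : List ℕ := (appL (SL.words f3o_5_sl0) [])

theorem f3o_5_scs : SCs 9 f3o_E6 f3o_G5 (⟨4, by decide⟩ : Fin 9) f3o_5_l :=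
  (SCs.append f3o_5_sc0 SCs.nil)

noncomputable def f3o_5_rl0_0 : RL := (RL.cons (nat_lit 0) (nat_lit 4) (nat_lit 0) (nat_lit 1) (nat_lit 1) (nat_lit 1) (RL.cons (nat_lit 1) (nat_lit 8) (nat_lit 0) (nat_lit 0) (nat_lit 0) (nat_lit 0) (RL.cons (nat_lit 1) (nat_lit 7) (nat_lit 1) (nat_lit 0) (nat_lit 1) (nat_lit 2) (RL.cons (nat_lit 1) (nat_lit 3) (nat_lit 2) (nat_lit 2) (nat_lit 1) (nat_lit 1) RL.nil))))

theorem f3o_5_good0_0 : GoodSet 9 f3o_E6 f3o_G5 (⟨4, by decide⟩ : Fin 9) f3o_5_ts (nat_lit 1) (RL.pts f3o_5_rl0_0) :=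
  goodSet_of_ok f3_hn (det_lab f3_hk ⊤) f3o_E6_ok f3o_G5_ok le_top le_top (by decide : 4 < 9) (sepAt_lab f3_hk _) (by decide +kernel)

theorem f3o_5_step0 : Step 9 f3o_E6 f3o_G5 f3o_5_ts (2 * 0 + 1) :=
  step_of_cover f3o_E6_ok f3o_5_dist (by decide +kernel) f3o_5_scs (by decide +kernel) f3o_5_good0_0 (kw := [])
    (conj_mem_of_scs f3o_E6_ok f3o_G5_ok (by decide : 4 < 9) f3o_5_scs (c := 0) (d := 8) (by decide +kernel)) (by decide +kernel)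

theorem f3o_5_lev : grp 9 f3o_G5 ⊓ MulAction.stabilizer (Equiv.Perm (Fin 9)) (⟨4, by decide⟩ : Fin 9) = grp 9 f3o_E6 :=
  sims_level (gs := f3_V35) rfl (by decide) f3o_5_fix f3o_5_dist (forall_lt_one f3o_5_step0)

theorem f3o_5_cardG : Nat.card (grp 9 f3o_G5) = 12 :=
  card_of_level f3_hn f3o_G5_ok (by decide : 4 < 9) f3o_5_lev f3o_card6 (m := 4) (by decide +kernel)

theorem f3_le45 : grp 9 f3o_E5 ≤ grp 9 f3o_G5 :=
  grp_le_of_memB f3_hn f3_hk f3o_G5_ok f3o_E5_ok (ws := [nat_lit 1, nat_lit 2, nat_lit 1025, nat_lit 3, nat_lit 5, nat_lit 5]) (by decide +kernel)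

theorem f3_le46 : grp 9 f3o_G5 ≤ grp 9 f3o_E5 :=
  grp_le_of_memB f3_hn f3_hk f3o_E5_ok f3o_G5_ok (ws := [nat_lit 1, nat_lit 7, nat_lit 9, nat_lit 9]) (by decide +kernel)

theorem f3o_5_eq : grp 9 f3o_E5 = grp 9 f3o_G5 :=
  le_antisymm f3_le45 f3_le46

theorem f3o_card5 : Nat.card (grp 9 f3o_E5) = 12 :=
  by rw [f3o_5_eq]; exact f3o_5_cardG

theorem f3o_stab5 : grp 9 f3o_E5 ⊓ MulAction.stabilizer (Equiv.Perm (Fin 9)) (⟨4, by decide⟩ : Fin 9) = grp 9 f3o_E6 :=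
  by rw [f3o_5_eq]; exact f3o_5_lev

theorem f3o_leO5 : grp 9 f3o_E5 ≤ grp 9 f3_O :=
  f3o_5_eq.le.trans (grp_cons_le ((f3_le33.trans (f3_le26.trans (f3_le20.trans (f3_le14.trans (f3_le8.trans (le_refl (grp 9 f3_O))))))) (f3_le36 (toPerm_mem_grp (E := f3_V35) (by simp [f3_V35])))) f3o_leO6)

theorem f3o_4_fix : grp 9 f3o_E5 ≤ MulAction.stabilizer (Equiv.Perm (Fin 9)) (⟨2, by decide⟩ : Fin 9) :=
  grp_le_stab f3o_E5_ok (by decide : 2 < 9) (by decide +kernel)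

noncomputable def f3o_4_ts : List ℕ := [nat_lit 0, nat_lit 1]

noncomputable def f3o_4_ds : List ℕ := [nat_lit 2, nat_lit 4]

theorem f3o_4_dist : Dist 9 f3o_E5 f3o_G4 (⟨2, by decide⟩ : Fin 9) f3o_4_ts f3o_4_ds :=
  dist_of_distB (k := 1) f3_hn f3o_E5_ok f3o_G4_ok (by decide : 2 < 9) (by decide +kernel)

noncomputable def f3o_4_sl0 : SL := (SL.cons (nat_lit 1) (nat_lit 4) (Ch.cons (nat_lit 8) [nat_lit 7, nat_lit 9, nat_lit 11] Ch.nil) [nat_lit 1, nat_lit 2, nat_lit 2] SL.nil)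

theorem f3o_4_sc0 : SCs 9 f3o_E5 f3o_G4 (⟨2, by decide⟩ : Fin 9) (SL.words f3o_4_sl0) :=
  scs_of_ok f3_hn (det_lab f3_hk ⊤) f3o_E5_ok f3o_G4_ok le_top le_top (by decide : 2 < 9) f3o_4_fix f3o_card5.le (by decide +kernel)

noncomputable def f3o_4_l : List ℕ := (appL (SL.words f3o_4_sl0) [])

theorem f3o_4_scs : SCs 9 f3o_E5 f3o_G4 (⟨2, by decide⟩ : Fin 9) f3o_4_l :=
  (SCs.append f3o_4_sc0 SCs.nil)

noncomputable def f3o_4_rl0_0 : RL := (RL.cons (nat_lit 0) (nat_lit 2) (nat_lit 0) (nat_lit 6) (nat_lit 1) (nat_lit 6) (RL.cons (nat_lit 1) (nat_lit 4) (nat_lit 0) (nat_lit 0) (nat_lit 0) (nat_lit 0) (RL.cons (nat_lit 1) (nat_lit 8) (nat_lit 1) (nat_lit 1) (nat_lit 1) (nat_lit 1794) RL.nil)))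

theorem f3o_4_good0_0 : GoodSet 9 f3o_E5 f3o_G4 (⟨2, by decide⟩ : Fin 9) f3o_4_ts (nat_lit 1) (RL.pts f3o_4_rl0_0) :=
  goodSet_of_ok f3_hn (det_lab f3_hk ⊤) f3o_E5_ok f3o_G4_ok le_top le_top (by decide : 2 < 9) (sepAt_lab f3_hk _) (by decide +kernel)

theorem f3o_4_step0 : Step 9 f3o_E5 f3o_G4 f3o_4_ts (2 * 0 + 1) :=
  step_of_cover f3o_E5_ok f3o_4_dist (by decide +kernel) f3o_4_scs (by decide +kernel) f3o_4_good0_0 (kw := [nat_lit 7, nat_lit 9, nat_lit 11])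
    (conj_mem_of_scs f3o_E5_ok f3o_G4_ok (by decide : 2 < 9) f3o_4_scs (c := 0) (d := 4) (by decide +kernel)) (by decide +kernel)

theorem f3o_4_lev : grp 9 f3o_G4 ⊓ MulAction.stabilizer (Equiv.Perm (Fin 9)) (⟨2, by decide⟩ : Fin 9) = grp 9 f3o_E5 :=
  sims_level (gs := f3_V28) rfl (by decide) f3o_4_fix f3o_4_dist (forall_lt_one f3o_4_step0)

theorem f3o_4_cardG : Nat.card (grp 9 f3o_G4) = 60 :=
  card_of_level f3_hn f3o_G4_ok (by decide : 2 < 9) f3o_4_lev f3o_card5 (m := 5) (by decide +kernel)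

theorem f3_le47 : grp 9 f3o_E4 ≤ grp 9 f3o_G4 :=
  grp_le_of_memB f3_hn f3_hk f3o_G4_ok f3o_E4_ok (ws := [nat_lit 1, nat_lit 259, nat_lit 2, nat_lit 3, nat_lit 5, nat_lit 7, nat_lit 9, nat_lit 11, nat_lit 11]) (by decide +kernel)

theorem f3_le48 : grp 9 f3o_G4 ≤ grp 9 f3o_E4 :=
  grp_le_of_memB f3_hn f3_hk f3o_E4_ok f3o_G4_ok (ws := [nat_lit 1, nat_lit 7, nat_lit 9, nat_lit 11, nat_lit 13, nat_lit 15, nat_lit 15]) (by decide +kernel)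

theorem f3o_4_eq : grp 9 f3o_E4 = grp 9 f3o_G4 :=
  le_antisymm f3_le47 f3_le48

theorem f3o_card4 : Nat.card (grp 9 f3o_E4) = 60 :=
  by rw [f3o_4_eq]; exact f3o_4_cardG

theorem f3o_stab4 : grp 9 f3o_E4 ⊓ MulAction.stabilizer (Equiv.Perm (Fin 9)) (⟨2, by decide⟩ : Fin 9) = grp 9 f3o_E5 :=
  by rw [f3o_4_eq]; exact f3o_4_lev

theorem f3o_leO4 : grp 9 f3o_E4 ≤ grp 9 f3_O :=
  f3o_4_eq.le.trans (grp_cons_le ((f3_le26.trans (f3_le20.trans (f3_le14.trans (f3_le8.trans (le_refl (grp 9 f3_O)))))) (f3_le29 (toPerm_mem_grp (E := f3_V28) (by simp [f3_V28])))) f3o_leO5)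

theorem f3o_3_fix : grp 9 f3o_E4 ≤ MulAction.stabilizer (Equiv.Perm (Fin 9)) (⟨6, by decide⟩ : Fin 9) :=
  grp_le_stab f3o_E4_ok (by decide : 6 < 9) (by decide +kernel)

noncomputable def f3o_3_ts : List ℕ := [nat_lit 0, nat_lit 1]

noncomputable def f3o_3_ds : List ℕ := [nat_lit 6, nat_lit 2]

theorem f3o_3_dist : Dist 9 f3o_E4 f3o_G3 (⟨6, by decide⟩ : Fin 9) f3o_3_ts f3o_3_ds :=
  dist_of_distB (k := 1) f3_hn f3o_E4_ok f3o_G3_ok (by decide : 6 < 9) (by decide +kernel)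

noncomputable def f3o_3_sl0 : SL := (SL.cons (nat_lit 1) (nat_lit 2) (Ch.cons (nat_lit 4) [nat_lit 7, nat_lit 9, nat_lit 11] (Ch.cons (nat_lit 8) [nat_lit 13, nat_lit 15, nat_lit 17] Ch.nil)) [nat_lit 855043, nat_lit 919297, nat_lit 8, nat_lit 459012, nat_lit 854017, nat_lit 854017] SL.nil)

theorem f3o_3_sc0 : SCs 9 f3o_E4 f3o_G3 (⟨6, by decide⟩ : Fin 9) (SL.words f3o_3_sl0) :=
  scs_of_ok f3_hn (det_lab f3_hk ⊤) f3o_E4_ok f3o_G3_ok le_top le_top (by decide : 6 < 9) f3o_3_fix f3o_card4.le (by decide +kernel)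

noncomputable def f3o_3_l : List ℕ := (appL (SL.words f3o_3_sl0) [])

theorem f3o_3_scs : SCs 9 f3o_E4 f3o_G3 (⟨6, by decide⟩ : Fin 9) f3o_3_l :=
  (SCs.append f3o_3_sc0 SCs.nil)

noncomputable def f3o_3_rl0_0 : RL := (RL.cons (nat_lit 0) (nat_lit 6) (nat_lit 0) (nat_lit 2) (nat_lit 1) (nat_lit 855042) (RL.cons (nat_lit 1) (nat_lit 2) (nat_lit 0) (nat_lit 0) (nat_lit 0) (nat_lit 0) (RL.cons (nat_lit 1) (nat_lit 4) (nat_lit 1) (nat_lit 3) (nat_lit 1) (nat_lit 0xd070104) RL.nil)))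

theorem f3o_3_good0_0 : GoodSet 9 f3o_E4 f3o_G3 (⟨6, by decide⟩ : Fin 9) f3o_3_ts (nat_lit 1) (RL.pts f3o_3_rl0_0) :=
  goodSet_of_ok f3_hn (det_lab f3_hk ⊤) f3o_E4_ok f3o_G3_ok le_top le_top (by decide : 6 < 9) (sepAt_lab f3_hk _) (by decide +kernel)

theorem f3o_3_step0 : Step 9 f3o_E4 f3o_G3 f3o_3_ts (2 * 0 + 1) :=
  step_of_cover f3o_E4_ok f3o_3_dist (by decide +kernel) f3o_3_scs (by decide +kernel) f3o_3_good0_0 (kw := [nat_lit 7, nat_lit 9, nat_lit 11, nat_lit 13, nat_lit 15, nat_lit 17])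
    (conj_mem_of_scs f3o_E4_ok f3o_G3_ok (by decide : 6 < 9) f3o_3_scs (c := 0) (d := 2) (by decide +kernel)) (by decide +kernel)

theorem f3o_3_lev : grp 9 f3o_G3 ⊓ MulAction.stabilizer (Equiv.Perm (Fin 9)) (⟨6, by decide⟩ : Fin 9) = grp 9 f3o_E4 :=
  sims_level (gs := f3_V22) rfl (by decide) f3o_3_fix f3o_3_dist (forall_lt_one f3o_3_step0)

theorem f3o_3_cardG : Nat.card (grp 9 f3o_G3) = 360 :=
  card_of_level f3_hn f3o_G3_ok (by decide : 6 < 9) f3o_3_lev f3o_card4 (m := 6) (by decide +kernel)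

theorem f3_le49 : grp 9 f3o_E3 ≤ grp 9 f3o_G3 :=
  grp_le_of_memB f3_hn f3_hk f3o_G3_ok f3o_E3_ok (ws := [nat_lit 1, nat_lit 261, nat_lit 3, nat_lit 5, nat_lit 7, nat_lit 9, nat_lit 11, nat_lit 13, nat_lit 15, nat_lit 17, nat_lit 17]) (by decide +kernel)

theorem f3_le50 : grp 9 f3o_G3 ≤ grp 9 f3o_E3 :=
  grp_le_of_memB f3_hn f3_hk f3o_E3_ok f3o_G3_ok (ws := [nat_lit 1, nat_lit 5, nat_lit 7, nat_lit 9, nat_lit 11, nat_lit 13, nat_lit 15, nat_lit 17, nat_lit 19, nat_lit 19]) (by decide +kernel)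

theorem f3o_3_eq : grp 9 f3o_E3 = grp 9 f3o_G3 :=
  le_antisymm f3_le49 f3_le50

theorem f3o_card3 : Nat.card (grp 9 f3o_E3) = 360 :=
  by rw [f3o_3_eq]; exact f3o_3_cardG

theorem f3o_stab3 : grp 9 f3o_E3 ⊓ MulAction.stabilizer (Equiv.Perm (Fin 9)) (⟨6, by decide⟩ : Fin 9) = grp 9 f3o_E4 :=
  by rw [f3o_3_eq]; exact f3o_3_lev

theorem f3o_leO3 : grp 9 f3o_E3 ≤ grp 9 f3_O :=
  f3o_3_eq.le.trans (grp_cons_le ((f3_le20.trans (f3_le14.trans (f3_le8.trans (le_refl (grp 9 f3_O))))) (f3_le23 (toPerm_mem_grp (E := f3_V22) (by simp [f3_V22])))) f3o_leO4)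

theorem f3o_2_fix : grp 9 f3o_E3 ≤ MulAction.stabilizer (Equiv.Perm (Fin 9)) (⟨5, by decide⟩ : Fin 9) :=
  grp_le_stab f3o_E3_ok (by decide : 5 < 9) (by decide +kernel)

noncomputable def f3o_2_ts : List ℕ := [nat_lit 0, nat_lit 1]

noncomputable def f3o_2_ds : List ℕ := [nat_lit 5, nat_lit 6]

theorem f3o_2_dist : Dist 9 f3o_E3 f3o_G2 (⟨5, by decide⟩ : Fin 9) f3o_2_ts f3o_2_ds :=
  dist_of_distB (k := 1) f3_hn f3o_E3_ok f3o_G2_ok (by decide : 5 < 9) (by decide +kernel)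

noncomputable def f3o_2_sl0 : SL := (SL.cons (nat_lit 1) (nat_lit 6) (Ch.cons (nat_lit 2) [nat_lit 5, nat_lit 7, nat_lit 9] (Ch.cons (nat_lit 4) [nat_lit 11, nat_lit 13, nat_lit 15] (Ch.cons (nat_lit 8) [nat_lit 17, nat_lit 19, nat_lit 21] Ch.nil))) [nat_lit 3079, nat_lit 0x110b0502, nat_lit 4102, nat_lit 0xc050802, nat_lit 0x1210060101, nat_lit 0x121006, nat_lit 0x110b01, nat_lit 0x1105080101, nat_lit 0x1105080101] SL.nil)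

theorem f3o_2_sc0 : SCs 9 f3o_E3 f3o_G2 (⟨5, by decide⟩ : Fin 9) (SL.words f3o_2_sl0) :=
  scs_of_ok f3_hn (det_lab f3_hk ⊤) f3o_E3_ok f3o_G2_ok le_top le_top (by decide : 5 < 9) f3o_2_fix f3o_card3.le (by decide +kernel)

noncomputable def f3o_2_l : List ℕ := (appL (SL.words f3o_2_sl0) [])

theorem f3o_2_scs : SCs 9 f3o_E3 f3o_G2 (⟨5, by decide⟩ : Fin 9) f3o_2_l :=
  (SCs.append f3o_2_sc0 SCs.nil)

noncomputable def f3o_2_rl0_0 : RL := (RL.cons (nat_lit 0) (nat_lit 5) (nat_lit 0) (nat_lit 259) (nat_lit 1) (nat_lit 259) (RL.cons (nat_lit 1) (nat_lit 6) (nat_lit 0) (nat_lit 0) (nat_lit 0) (nat_lit 0) (RL.cons (nat_lit 1) (nat_lit 2) (nat_lit 1) (nat_lit 3) (nat_lit 1) (nat_lit 0x120b05) RL.nil)))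

theorem f3o_2_good0_0 : GoodSet 9 f3o_E3 f3o_G2 (⟨5, by decide⟩ : Fin 9) f3o_2_ts (nat_lit 1) (RL.pts f3o_2_rl0_0) :=
  goodSet_of_ok f3_hn (det_lab f3_hk ⊤) f3o_E3_ok f3o_G2_ok le_top le_top (by decide : 5 < 9) (sepAt_lab f3_hk _) (by decide +kernel)

theorem f3o_2_step0 : Step 9 f3o_E3 f3o_G2 f3o_2_ts (2 * 0 + 1) :=
  step_of_cover f3o_E3_ok f3o_2_dist (by decide +kernel) f3o_2_scs (by decide +kernel) f3o_2_good0_0 (kw := [nat_lit 5, nat_lit 7, nat_lit 9, nat_lit 11, nat_lit 13, nat_lit 15, nat_lit 17, nat_lit 19, nat_lit 21])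
    (conj_mem_of_scs f3o_E3_ok f3o_G2_ok (by decide : 5 < 9) f3o_2_scs (c := 0) (d := 6) (by decide +kernel)) (by decide +kernel)

theorem f3o_2_lev : grp 9 f3o_G2 ⊓ MulAction.stabilizer (Equiv.Perm (Fin 9)) (⟨5, by decide⟩ : Fin 9) = grp 9 f3o_E3 :=
  sims_level (gs := f3_V15) rfl (by decide) f3o_2_fix f3o_2_dist (forall_lt_one f3o_2_step0)

theorem f3o_2_cardG : Nat.card (grp 9 f3o_G2) = 2520 :=
  card_of_level f3_hn f3o_G2_ok (by decide : 5 < 9) f3o_2_lev f3o_card3 (m := 7) (by decide +kernel)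

theorem f3_le51 : grp 9 f3o_E2 ≤ grp 9 f3o_G2 :=
  grp_le_of_memB f3_hn f3_hk f3o_G2_ok f3o_E2_ok (ws := [nat_lit 1, nat_lit 2305, nat_lit 3, nat_lit 5, nat_lit 7, nat_lit 9, nat_lit 11, nat_lit 13, nat_lit 15, nat_lit 17, nat_lit 19, nat_lit 21, nat_lit 21]) (by decide +kernel)

theorem f3_le52 : grp 9 f3o_G2 ≤ grp 9 f3o_E2 :=
  grp_le_of_memB f3_hn f3_hk f3o_E2_ok f3o_G2_ok (ws := [nat_lit 1, nat_lit 5, nat_lit 7, nat_lit 9, nat_lit 11, nat_lit 13, nat_lit 15, nat_lit 17, nat_lit 19, nat_lit 21, nat_lit 23, nat_lit 23]) (by decide +kernel)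

theorem f3o_2_eq : grp 9 f3o_E2 = grp 9 f3o_G2 :=
  le_antisymm f3_le51 f3_le52

theorem f3o_card2 : Nat.card (grp 9 f3o_E2) = 2520 :=
  by rw [f3o_2_eq]; exact f3o_2_cardG

theorem f3o_stab2 : grp 9 f3o_E2 ⊓ MulAction.stabilizer (Equiv.Perm (Fin 9)) (⟨5, by decide⟩ : Fin 9) = grp 9 f3o_E3 :=
  by rw [f3o_2_eq]; exact f3o_2_lev

theorem f3o_leO2 : grp 9 f3o_E2 ≤ grp 9 f3_O :=
  f3o_2_eq.le.trans (grp_cons_le ((f3_le14.trans (f3_le8.trans (le_refl (grp 9 f3_O)))) (f3_le16 (toPerm_mem_grp (E := f3_V15) (by simp [f3_V15])))) f3o_leO3)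

theorem f3o_1_fix : grp 9 f3o_E2 ≤ MulAction.stabilizer (Equiv.Perm (Fin 9)) (⟨1, by decide⟩ : Fin 9) :=
  grp_le_stab f3o_E2_ok (by decide : 1 < 9) (by decide +kernel)

noncomputable def f3o_1_ts : List ℕ := [nat_lit 0, nat_lit 1]

noncomputable def f3o_1_ds : List ℕ := [nat_lit 1, nat_lit 5]

theorem f3o_1_dist : Dist 9 f3o_E2 f3o_G1 (⟨1, by decide⟩ : Fin 9) f3o_1_ts f3o_1_ds :=
  dist_of_distB (k := 1) f3_hn f3o_E2_ok f3o_G1_ok (by decide : 1 < 9) (by decide +kernel)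

noncomputable def f3o_1_sl0 : SL := (SL.cons (nat_lit 1) (nat_lit 5) (Ch.cons (nat_lit 6) [nat_lit 5, nat_lit 7] (Ch.cons (nat_lit 2) [nat_lit 9, nat_lit 11, nat_lit 13] (Ch.cons (nat_lit 4) [nat_lit 15, nat_lit 17, nat_lit 19] (Ch.cons (nat_lit 8) [nat_lit 21, nat_lit 23, nat_lit 25] Ch.nil)))) [nat_lit 0x14050504, nat_lit 0x16100a050105, nat_lit 0x15100b, nat_lit 0xf0a050502, nat_lit 2316, nat_lit 0x160f050502, nat_lit 0x15100a050504, nat_lit 0x151409050105, nat_lit 0x160f090c050502, nat_lit 0xf050105, nat_lit 0xf050105] SL.nil)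

theorem f3o_1_sc0 : SCs 9 f3o_E2 f3o_G1 (⟨1, by decide⟩ : Fin 9) (SL.words f3o_1_sl0) :=
  scs_of_ok f3_hn (det_lab f3_hk ⊤) f3o_E2_ok f3o_G1_ok le_top le_top (by decide : 1 < 9) f3o_1_fix f3o_card2.le (by decide +kernel)

noncomputable def f3o_1_l : List ℕ := (appL (SL.words f3o_1_sl0) [])

theorem f3o_1_scs : SCs 9 f3o_E2 f3o_G1 (⟨1, by decide⟩ : Fin 9) f3o_1_l :=
  (SCs.append f3o_1_sc0 SCs.nil)

noncomputable def f3o_1_rl0_0 : RL := (RL.cons (nat_lit 0) (nat_lit 1) (nat_lit 0) (nat_lit 1) (nat_lit 1) (nat_lit 0x1514050501) (RL.cons (nat_lit 1) (nat_lit 5) (nat_lit 0) (nat_lit 0) (nat_lit 0) (nat_lit 0) (RL.cons (nat_lit 1) (nat_lit 6) (nat_lit 1) (nat_lit 262) (nat_lit 1) (nat_lit 0x150905070105) RL.nil)))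

theorem f3o_1_good0_0 : GoodSet 9 f3o_E2 f3o_G1 (⟨1, by decide⟩ : Fin 9) f3o_1_ts (nat_lit 1) (RL.pts f3o_1_rl0_0) :=
  goodSet_of_ok f3_hn (det_lab f3_hk ⊤) f3o_E2_ok f3o_G1_ok le_top le_top (by decide : 1 < 9) (sepAt_lab f3_hk _) (by decide +kernel)

theorem f3o_1_step0 : Step 9 f3o_E2 f3o_G1 f3o_1_ts (2 * 0 + 1) :=
  step_of_cover f3o_E2_ok f3o_1_dist (by decide +kernel) f3o_1_scs (by decide +kernel) f3o_1_good0_0 (kw := [nat_lit 5, nat_lit 7, nat_lit 9, nat_lit 11, nat_lit 13, nat_lit 15, nat_lit 17, nat_lit 19, nat_lit 21, nat_lit 23, nat_lit 25])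
    (conj_mem_of_scs f3o_E2_ok f3o_G1_ok (by decide : 1 < 9) f3o_1_scs (c := 0) (d := 5) (by decide +kernel)) (by decide +kernel)

theorem f3o_1_lev : grp 9 f3o_G1 ⊓ MulAction.stabilizer (Equiv.Perm (Fin 9)) (⟨1, by decide⟩ : Fin 9) = grp 9 f3o_E2 :=
  sims_level (gs := f3_V10) rfl (by decide) f3o_1_fix f3o_1_dist (forall_lt_one f3o_1_step0)

theorem f3o_1_cardG : Nat.card (grp 9 f3o_G1) = 20160 :=
  card_of_level f3_hn f3o_G1_ok (by decide : 1 < 9) f3o_1_lev f3o_card2 (m := 8) (by decide +kernel)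

theorem f3_le53 : grp 9 f3o_E1 ≤ grp 9 f3o_G1 :=
  grp_le_of_memB f3_hn f3_hk f3o_G1_ok f3o_E1_ok (ws := [nat_lit 1, nat_lit 0x17110b0e090104, nat_lit 0x17120d040104, nat_lit 3, nat_lit 5, nat_lit 7, nat_lit 9, nat_lit 11, nat_lit 13, nat_lit 15, nat_lit 17, nat_lit 19, nat_lit 21, nat_lit 23, nat_lit 25, nat_lit 25]) (by decide +kernel)

theorem f3_le54 : grp 9 f3o_G1 ≤ grp 9 f3o_E1 :=
  grp_le_of_memB f3_hn f3_hk f3o_E1_ok f3o_G1_ok (ws := [nat_lit 1, nat_lit 7, nat_lit 9, nat_lit 11, nat_lit 13, nat_lit 15, nat_lit 17, nat_lit 19, nat_lit 21, nat_lit 23, nat_lit 25, nat_lit 27, nat_lit 29, nat_lit 29]) (by decide +kernel)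

theorem f3o_1_eq : grp 9 f3o_E1 = grp 9 f3o_G1 :=
  le_antisymm f3_le53 f3_le54

theorem f3o_card1 : Nat.card (grp 9 f3o_E1) = 20160 :=
  by rw [f3o_1_eq]; exact f3o_1_cardG

theorem f3o_stab1 : grp 9 f3o_E1 ⊓ MulAction.stabilizer (Equiv.Perm (Fin 9)) (⟨1, by decide⟩ : Fin 9) = grp 9 f3o_E2 :=
  by rw [f3o_1_eq]; exact f3o_1_lev

theorem f3o_leO1 : grp 9 f3o_E1 ≤ grp 9 f3_O :=
  f3o_1_eq.le.trans (grp_cons_le ((f3_le8.trans (le_refl (grp 9 f3_O))) (f3_le11 (toPerm_mem_grp (E := f3_V10) (by simp [f3_V10])))) f3o_leO2)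

theorem f3o_0_fix : grp 9 f3o_E1 ≤ MulAction.stabilizer (Equiv.Perm (Fin 9)) (⟨0, by decide⟩ : Fin 9) :=
  grp_le_stab f3o_E1_ok (by decide : 0 < 9) (by decide +kernel)

noncomputable def f3o_0_ts : List ℕ := [nat_lit 0, nat_lit 1]

noncomputable def f3o_0_ds : List ℕ := [nat_lit 0, nat_lit 1]

theorem f3o_0_dist : Dist 9 f3o_E1 f3o_G0 (⟨0, by decide⟩ : Fin 9) f3o_0_ts f3o_0_ds :=
  dist_of_distB (k := 1) f3_hn f3o_E1_ok f3o_G0_ok (by decide : 0 < 9) (by decide +kernel)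

noncomputable def f3o_0_sl0 : SL := (SL.cons (nat_lit 1) (nat_lit 1) (Ch.cons (nat_lit 5) [nat_lit 7, nat_lit 9] (Ch.cons (nat_lit 6) [nat_lit 11, nat_lit 13] (Ch.cons (nat_lit 2) [nat_lit 15, nat_lit 17, nat_lit 19] (Ch.cons (nat_lit 4) [nat_lit 21, nat_lit 23, nat_lit 25] (Ch.cons (nat_lit 8) [nat_lit 27, nat_lit 29, nat_lit 31] Ch.nil))))) [nat_lit 0x1b16110104, nat_lit 4359, nat_lit 0xb0d0a04, nat_lit 0x100d070c03, nat_lit 0x150f120b0b070c03, nat_lit 0x150706, nat_lit 0x1c15080104, nat_lit 21, nat_lit 22, nat_lit 7189, nat_lit 27, nat_lit 28, nat_lit 28] SL.nil)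

theorem f3o_0_sc0 : SCs 9 f3o_E1 f3o_G0 (⟨0, by decide⟩ : Fin 9) (SL.words f3o_0_sl0) :=
  scs_of_ok f3_hn (det_lab f3_hk ⊤) f3o_E1_ok f3o_G0_ok le_top le_top (by decide : 0 < 9) f3o_0_fix f3o_card1.le (by decide +kernel)

noncomputable def f3o_0_l : List ℕ := (appL (SL.words f3o_0_sl0) [])

theorem f3o_0_scs : SCs 9 f3o_E1 f3o_G0 (⟨0, by decide⟩ : Fin 9) f3o_0_l :=
  (SCs.append f3o_0_sc0 SCs.nil)

noncomputable def f3o_0_rl0_0 : RL := (RL.cons (nat_lit 0) (nat_lit 0) (nat_lit 0) (nat_lit 523) (nat_lit 1) (nat_lit 0x1c15110b0b0a020b) (RL.cons (nat_lit 1) (nat_lit 1) (nat_lit 0) (nat_lit 0) (nat_lit 0) (nat_lit 0) (RL.cons (nat_lit 1) (nat_lit 5) (nat_lit 1) (nat_lit 1) (nat_lit 1) (nat_lit 0x1b150f0b) RL.nil)))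

theorem f3o_0_good0_0 : GoodSet 9 f3o_E1 f3o_G0 (⟨0, by decide⟩ : Fin 9) f3o_0_ts (nat_lit 1) (RL.pts f3o_0_rl0_0) :=
  goodSet_of_ok f3_hn (det_lab f3_hk ⊤) f3o_E1_ok f3o_G0_ok le_top le_top (by decide : 0 < 9) (sepAt_lab f3_hk _) (by decide +kernel)

theorem f3o_0_step0 : Step 9 f3o_E1 f3o_G0 f3o_0_ts (2 * 0 + 1) :=
  step_of_cover f3o_E1_ok f3o_0_dist (by decide +kernel) f3o_0_scs (by decide +kernel) f3o_0_good0_0 (kw := [nat_lit 7, nat_lit 9, nat_lit 11, nat_lit 13, nat_lit 15, nat_lit 17, nat_lit 19, nat_lit 21, nat_lit 23, nat_lit 25, nat_lit 27, nat_lit 29, nat_lit 31])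
    (conj_mem_of_scs f3o_E1_ok f3o_G0_ok (by decide : 0 < 9) f3o_0_scs (c := 0) (d := 1) (by decide +kernel)) (by decide +kernel)

theorem f3o_0_lev : grp 9 f3o_G0 ⊓ MulAction.stabilizer (Equiv.Perm (Fin 9)) (⟨0, by decide⟩ : Fin 9) = grp 9 f3o_E1 :=
  sims_level (gs := f3_V3) rfl (by decide) f3o_0_fix f3o_0_dist (forall_lt_one f3o_0_step0)

theorem f3o_0_cardG : Nat.card (grp 9 f3o_G0) = 181440 :=
  card_of_level f3_hn f3o_G0_ok (by decide : 0 < 9) f3o_0_lev f3o_card1 (m := 9) (by decide +kernel)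

theorem f3_le55 : grp 9 f3o_E0 ≤ grp 9 f3o_G0 :=
  grp_le_of_memB f3_hn f3_hk f3o_G0_ok f3o_E0_ok (ws := [nat_lit 1, nat_lit 3, nat_lit 5, nat_lit 7, nat_lit 9, nat_lit 11, nat_lit 13, nat_lit 15, nat_lit 17, nat_lit 19, nat_lit 21, nat_lit 23, nat_lit 25, nat_lit 27, nat_lit 29, nat_lit 31, nat_lit 31]) (by decide +kernel)

theorem f3_le56 : grp 9 f3o_G0 ≤ grp 9 f3o_E0 :=
  grp_le_of_memB f3_hn f3_hk f3o_E0_ok f3o_G0_ok (ws := [nat_lit 1, nat_lit 3, nat_lit 5, nat_lit 7, nat_lit 9, nat_lit 11, nat_lit 13, nat_lit 15, nat_lit 17, nat_lit 19, nat_lit 21, nat_lit 23, nat_lit 25, nat_lit 27, nat_lit 29, nat_lit 31, nat_lit 31]) (by decide +kernel)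

theorem f3o_0_eq : grp 9 f3o_E0 = grp 9 f3o_G0 :=
  le_antisymm f3_le55 f3_le56

theorem f3o_card0 : Nat.card (grp 9 f3o_E0) = 181440 :=
  by rw [f3o_0_eq]; exact f3o_0_cardG

theorem f3o_stab0 : grp 9 f3o_E0 ⊓ MulAction.stabilizer (Equiv.Perm (Fin 9)) (⟨0, by decide⟩ : Fin 9) = grp 9 f3o_E1 :=
  by rw [f3o_0_eq]; exact f3o_0_lev

theorem f3o_leO0 : grp 9 f3o_E0 ≤ grp 9 f3_O :=
  f3o_0_eq.le.trans (grp_cons_le ((le_refl (grp 9 f3_O)) (f3_le4 (toPerm_mem_grp (E := f3_V3) (by simp [f3_V3])))) f3o_leO1)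

theorem f3_le57 : grp 9 f3_O ≤ grp 9 f3o_E0 :=
  grp_le_of_memB f3_hn f3_hk f3o_E0_ok f3_O_ok (ws := [nat_lit 1, nat_lit 9]) (by decide +kernel)

theorem f3o_eq : grp 9 f3_O = grp 9 f3o_E0 :=
  le_antisymm f3_le57 f3o_leO0

theorem f3o_card : Nat.card (grp 9 f3_O) = 181440 :=
  by rw [f3o_eq]; exact f3o_card0

noncomputable def f3o_ch : Ch := (Ch.cons (nat_lit 0) [nat_lit 1] (Ch.cons (nat_lit 1) [nat_lit 3, nat_lit 5, nat_lit 7] (Ch.cons (nat_lit 5) [nat_lit 9, nat_lit 11] (Ch.cons (nat_lit 6) [nat_lit 13, nat_lit 15] (Ch.cons (nat_lit 2) [nat_lit 17, nat_lit 19, nat_lit 21] (Ch.cons (nat_lit 4) [nat_lit 23, nat_lit 25, nat_lit 27] (Ch.cons (nat_lit 8) [nat_lit 29, nat_lit 31, nat_lit 33] Ch.nil)))))))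

theorem f3o_exact : Ch.Exact 9 f3o_E0 f3o_ch (grp 9 f3o_E0) :=
  Ch.exact (k := 4) (L := (lab 9 4)) f3_hn f3o_E0_ok (by decide +kernel) (wgrp_le_grp _ _ _) f3o_card0.le

/-- the element -/
noncomputable abbrev f3x : Co0 := permEl (toM (nthN m24reps 4))

/-- its matrix -/
def f3X : List (List ℤ) :=
  [[0, 0, 0, 0, 0, 0, 0, 0, 0, 8, 0, 0, 0, 0, 0, 0, 0, 0, 0, 0, 0, 0, 0, 0],
   [0, 0, 0, 0, 0, 0, 0, 0, 0, 0, 0, 0, 0, 0, 0, 0, 0, 0, 0, 0, 0, 0, 0, 8],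
   [0, 0, 0, 0, 0, 0, 0, 0, 0, 0, 0, 0, 0, 0, 0, 0, 0, 0, 0, 0, 0, 0, 8, 0],
   [0, 0, 0, 0, 0, 0, 0, 0, 0, 0, 8, 0, 0, 0, 0, 0, 0, 0, 0, 0, 0, 0, 0, 0],
   [0, 0, 0, 0, 0, 0, 0, 0, 0, 0, 0, 8, 0, 0, 0, 0, 0, 0, 0, 0, 0, 0, 0, 0],
   [0, 0, 0, 0, 0, 0, 8, 0, 0, 0, 0, 0, 0, 0, 0, 0, 0, 0, 0, 0, 0, 0, 0, 0],
   [0, 0, 0, 0, 0, 0, 0, 0, 0, 0, 0, 0, 0, 0, 0, 0, 0, 0, 0, 8, 0, 0, 0, 0],
   [0, 0, 0, 0, 0, 0, 0, 0, 0, 0, 0, 0, 0, 8, 0, 0, 0, 0, 0, 0, 0, 0, 0, 0],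
   [0, 0, 0, 8, 0, 0, 0, 0, 0, 0, 0, 0, 0, 0, 0, 0, 0, 0, 0, 0, 0, 0, 0, 0],
   [0, 0, 0, 0, 0, 0, 0, 0, 0, 0, 0, 0, 0, 0, 0, 0, 0, 8, 0, 0, 0, 0, 0, 0],
   [0, 0, 0, 0, 0, 0, 0, 0, 8, 0, 0, 0, 0, 0, 0, 0, 0, 0, 0, 0, 0, 0, 0, 0],
   [0, 0, 0, 0, 0, 0, 0, 0, 0, 0, 0, 0, 0, 0, 0, 8, 0, 0, 0, 0, 0, 0, 0, 0],
   [0, 0, 8, 0, 0, 0, 0, 0, 0, 0, 0, 0, 0, 0, 0, 0, 0, 0, 0, 0, 0, 0, 0, 0],
   [0, 0, 0, 0, 0, 0, 0, 0, 0, 0, 0, 0, 0, 0, 0, 0, 0, 0, 0, 0, 8, 0, 0, 0],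
   [0, 0, 0, 0, 0, 0, 0, 0, 0, 0, 0, 0, 0, 0, 0, 0, 0, 0, 0, 0, 0, 8, 0, 0],
   [0, 0, 0, 0, 8, 0, 0, 0, 0, 0, 0, 0, 0, 0, 0, 0, 0, 0, 0, 0, 0, 0, 0, 0],
   [0, 8, 0, 0, 0, 0, 0, 0, 0, 0, 0, 0, 0, 0, 0, 0, 0, 0, 0, 0, 0, 0, 0, 0],
   [8, 0, 0, 0, 0, 0, 0, 0, 0, 0, 0, 0, 0, 0, 0, 0, 0, 0, 0, 0, 0, 0, 0, 0],
   [0, 0, 0, 0, 0, 0, 0, 0, 0, 0, 0, 0, 0, 0, 8, 0, 0, 0, 0, 0, 0, 0, 0, 0],
   [0, 0, 0, 0, 0, 8, 0, 0, 0, 0, 0, 0, 0, 0, 0, 0, 0, 0, 0, 0, 0, 0, 0, 0],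
   [0, 0, 0, 0, 0, 0, 0, 8, 0, 0, 0, 0, 0, 0, 0, 0, 0, 0, 0, 0, 0, 0, 0, 0],
   [0, 0, 0, 0, 0, 0, 0, 0, 0, 0, 0, 0, 0, 0, 0, 0, 0, 0, 8, 0, 0, 0, 0, 0],
   [0, 0, 0, 0, 0, 0, 0, 0, 0, 0, 0, 0, 8, 0, 0, 0, 0, 0, 0, 0, 0, 0, 0, 0],
   [0, 0, 0, 0, 0, 0, 0, 0, 0, 0, 0, 0, 0, 0, 0, 0, 8, 0, 0, 0, 0, 0, 0, 0]]

/-- its action on the classes -/
def f3TX : ℕ := 0x8000000110000500001fd000b76000014000465000c8f0009a3000210000910000d5b000a78fec3b5196c46f5cfd20ba81bf4a1d1030344f3ea61758953bda071094e1e036010001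

/-- a basis of the fixed classes -/
def f3FT : ℕ := 0x94a001822d9dcd88f1f4cd9dee9d9de0fd7b05e817800000

/-- the projection onto the fixed classes -/
def f3PT : ℕ := 0x137492f184951007e492e37b2ee5c9d75e4f75aaccbc6b7

/-- short representatives -/
noncomputable def f3reps : List (List ℤ) :=
  unpL [nat_lit 0x421084210842108421084210842108, nat_lit 0x821084210842108421084210842108, nat_lit 0x3ace949d2739d2b3a5294a52748ce9, nat_lit 0x3ace949d2739d2b3a5294a5274ace9, nat_lit 0x3a5293a5275a52959d2749ce33a4e9, nat_lit 0x3a5293a5275a52959d2749ceb3a4e9, nat_lit 0x4194851908419064190a418c831888, nat_lit 0x4194851908419064190a418c831988, nat_lit 0x3a4e939ce729d296a4e949ce54a4e7, nat_lit 0x49d274a5295a4e759d273a52b39d29, nat_lit 0x42908521485210a521484294a4290a, nat_lit 0x5214a4290a429484290a5210852148, nat_lit 0x3290a321064214a42108518c8428c8, nat_lit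 0x42148429483290831946421063210a, nat_lit 0x39d292a4e74a52749ce74b4a939ce7, nat_lit 0x4a4e759d2939ce93a5293ad674a529, nat_lit 0x3a4e939ce749d29494ed49ce92a4e7, nat_lit 0x49d274a5293a4e73ad2b3a52759d29, nat_lit 0x41888320c852106321484294a41906, nat_lit 0x42888521483210a520c8418c64290a, nat_lit 0x4214842948529085294a4210a5210a, nat_lit 0x5290a5210a4214a421085294842948, nat_lit 0x59d294a4eb4a52749ce74a52939d67, nat_lit 0x59d294a4eb4a52749ce74a52939c67, nat_lit 0x411084208842108421084218862108, nat_lit 0x411084218842108421084218862108, nat_lit 0x4a52b3a4e94a56949ce759ce93a527, nat_lit 0x39ce549d2739da73a5292a52749ce9, nat_lit 0x3a5293a5273a5293ad2b49ce71a4e9, nat_lit 0x3a5293a5273a5293ad2b49ce75a4e9, nat_lit 0x4194832908429064290a418c851908, nat_lit 0x3210642146520c8521483210a420ca, nat_lit 0x3ad294a4e74a52b49ce74a52938ce7, nat_lit 0x3ad294a4e74a52b49ce74a5293ace7,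 nat_lit 0x42148428c852908518c64210a32106, nat_lit 0x3190a52106421464210852948418c8, nat_lit 0x41908321485210652148418ca4190a, nat_lit 0x3214642906428c84290a32108520c8, nat_lit 0x3a4e939d6749d294a56949ce94a4e3, nat_lit 0x3a4e939d6749d294a56949ce94a4eb, nat_lit 0x42948319084190a4190a4294832988, nat_lit 0x42948319084190a4190a4294832888, nat_lit 0x3a5293a4a73a52939da749ce73a4e5, nat_lit 0x49ce749d6949ce74a5693a52949d2b, nat_lit 0x39ce929d2739d273a5294b4a749ce9, nat_lit 0x4a5275a4e94a4e949ce73ad693a527, nat_lit 0x420884210842108421884210843188, nat_lit 0x420884210842108420884210843188, nat_lit 0x42948529084290a4290a4294852908, nat_lit 0x5210a4214a52148521485210a4214a, nat_lit 0x3a4a93b5273952939d2749ce73a4e9, nat_lit 0x49d674ace94ace74a4e93a52949d27, nat_lit 0x59ce949d2b39d273a5294a52749d69, nat_lit 0x59ce949d2b39d273a5294a52749c69, nat_lit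 0x42108421084208c421084210c4210c, nat_lit 0x421084210842084421084210c4210c, nat_lit 0x4a4eb39d2939d693a52959ce74a529, nat_lit 0x39d254a4e74a5a749ce72a52939ce7, nat_lit 0x42148428c832908328ca4210652106, nat_lit 0x5190a3210a4214642108518c841948, nat_lit 0x4290c521485210a320c84294a4190a, nat_lit 0x4190c320c83210652148418c642906, nat_lit 0x3a5693ace748d294a4e949ce94a4e7, nat_lit 0x3a5693ace74ad294a4e949ce94a4e7, nat_lit 0x394e939ce749d2d4a4e949ce9494e7, nat_lit 0x4ad274a5293a4eb39d273a5273ad29, nat_lit 0x521464290a428c8419063210832148, nat_lit 0x41908521483210632148429464190a, nat_lit 0x42148428c851904528c64210632106, nat_lit 0x420c8228c8329085294a4210652106, nat_lit 0x39d294a5674a52749d674a52939ceb, nat_lit 0x39d294a5674a52749d674a52939ce3, nat_lit 0x421084210442108411084210c4210c, nat_lit 0x421084210442108431084210c4210c, nat_lit 0x39ce949d2759d275a5294a52349ce9,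 nat_lit 0x39ce949d2759d275a5294a52b49ce9, nat_lit 0x4ace749ce949ceb4a4e93a5294ad27, nat_lit 0x395293a5273a52d39d2749ce7394e9, nat_lit 0x42948329084290a41906418c832908, nat_lit 0x3210a42146321483214852106420ca, nat_lit 0x421082210842108221084210843188, nat_lit 0x421082210842108621084210843188, nat_lit 0x4a5273a4e94a4e94aceb39ce95a527, nat_lit 0x39ce949d2739d273952d4a52729ce9, nat_lit 0x49ceb49ce949d674a4e95a52949d27, nat_lit 0x3a5253a5273a5a939d2729ce73a4e9, nat_lit 0x42948519084190a42906418c852888, nat_lit 0x42948519084190a42906418c852988, nat_lit 0x3a4e539ce749da94a4e929ce94a4e7, nat_lit 0x49d2b4a5293a56739d275a52739d29, nat_lit 0x4190c520c852106321484294a42906, nat_lit 0x4290c321483210a520c8418c64190a, nat_lit 0x420c8228c852908319464210a32106, nat_lit 0x42148428c83190c318ca4210a52106, nat_lit 0x39ca94b4e74952749ce74a52939ce7, nat_lit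 0x4a5673ad293ace93a52939ce74a529, nat_lit 0x521064214a320c832148321064214a, nat_lit 0x419485290842906419064294831908, nat_lit 0x3a5295a5273a52939d274ad673a4e9, nat_lit 0x3a5295a5273a52939d274ac673a4e9, nat_lit 0x39ce949ca739d273a5a94a52749ce5, nat_lit 0x4a5273a5694a4e949d6739ce93a52b, nat_lit 0x42108421044218842108431084210c, nat_lit 0x42108421044208842108431084210c, nat_lit 0x4a4e739d2959ce95a52939ceb4a529, nat_lit 0x39d294a4e72a52769ce74a52539ce7, nat_lit 0x421484294831904329464210a3210a, nat_lit 0x420c82294852908328ca4210a5210a, nat_lit 0x42908321483210a32148418c64290a, nat_lit 0x3214a42906429484190652108320c8, nat_lit 0x3a4e959ce749d294a4e94ac694a4e7, nat_lit 0x3a4e959ce749d294a4e94ad694a4e7, nat_lit 0x39d294a4e74a5274aceb4a52919ce7, nat_lit 0x39d294a4e74a5274aceb4a52959ce7, nat_lit 0x42148429485190c5194a421065210a, nat_lit 0x420c82294832908518c6421063210a,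 nat_lit 0x41888520c83210652148418c641906, nat_lit 0x42888321485210a320c84294a4290a, nat_lit 0x5a4e939ceb49d294a4e949ce94a467, nat_lit 0x5a4e939ceb49d294a4e949ce94a567, nat_lit 0x419483190841906429064294851888, nat_lit 0x419483190841906429064294851988, nat_lit 0x5a5293a52b3a52939d2749ce73a569, nat_lit 0x5a5293a52b3a52939d2749ce73a469, nat_lit 0x39d694ad273ad273a5294a52749ce9, nat_lit 0x39d694ad2738d273a5294a52749ce9, nat_lit 0x4210442108421084210c4210843188, nat_lit 0x421044210842108421044210843188, nat_lit 0x3ace739ce739ceb39ce739ce738ce7, nat_lit 0x3ace739ce739ceb39ce739ce73ace7, nat_lit 0x4210a52148421484294a529485210a, nat_lit 0x529484290a5290a521084210a42948, nat_lit 0x4194a419484294a42148320884290a, nat_lit 0x4194a419484294a42148321884290a, nat_lit 0x5a5274a4eb3a4e93a4e93a5274a567, nat_lit 0x5a5274a4eb3a4e93a4e93a5274a467, nat_lit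 0x4190a42108321463290a5210651908, nat_lit 0x320c851946419084214842948420ca, nat_lit 0x4ad293a4e93a52b3a4e949ce74ad27, nat_lit 0x394e749d2749ced49d273a529394e9, nat_lit 0x39d2b3a5274a5674a52919ce949ce9, nat_lit 0x39d2b3a5274a5674a52959ce949ce9, nat_lit 0x420ca319085294852108528c642104, nat_lit 0x420ca319085294852108528c64210c, nat_lit 0x4190a4210852146519065210a31908, nat_lit 0x520c83194a4190842148418c84214a, nat_lit 0x3a4eb49d2749d6949d271a5293a4e9, nat_lit 0x3a4eb49d2749d6949d275a5293a4e9, nat_lit 0x3ad273a5274a4eb4a52939ce948ce9, nat_lit 0x3ad273a5274a4eb4a52939ce94ace9, nat_lit 0x420ca5190831948321085294642108, nat_lit 0x3190842146421064294a42108518ca, nat_lit 0x39ceb39ce739d6739ce719ce739ce7, nat_lit 0x39ceb39ce739d6739ce759ce739ce7, nat_lit 0x4210a3214842148428c6529485110a, nat_lit 0x4210a3214842148428c6529485310a, nat_lit 0x428ca418c8428c6420c85110842906,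 nat_lit 0x428ca418c8428c6420c85310842906, nat_lit 0x3a5272a4e73a4e93a4e93b4a74a4e7, nat_lit 0x49ce959d2949d2749d274ad6939d29, nat_lit 0x4214a5290852948521085294a42108, nat_lit 0x529084214a4210a4294a421085294a, nat_lit 0x59d273a52b4a4e74a52939ce949d69, nat_lit 0x59d273a52b4a4e74a52939ce949c69, nat_lit 0x3a4e729d2749ce949d273b4a93a4e9, nat_lit 0x49d295a4e93a5273a4e94ad6749d27, nat_lit 0x321485194641908420c8429484114a, nat_lit 0x520c8328ca4290842148418c8410c6, nat_lit 0x3a52b4a4e73a5693a4e91a5274a4e7, nat_lit 0x3a52b4a4e73a5693a4e95a5274a4e7, nat_lit 0x4194a428c842946420c85210841906, nat_lit 0x521083210a321083290a418c652148, nat_lit 0x4210a320c8421484194a5294831106, nat_lit 0x4210a320c8421484194a5294833106, nat_lit 0x39ce759ce739ce739ce73ad6739ce7, nat_lit 0x39ce759ce739ce739ce73ac6739ce7, nat_lit 0x4ace939d2949d2b49d2749ce93ad29, nat_lit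 0x395274a4e73a4ed3a4e93a527494e7, nat_lit 0x418ca419484194642148521084190a, nat_lit 0x3210852106321083290a42946520c8, nat_lit 0x4210a520c842148418c65294832106, nat_lit 0x319484290652906521084210a418c8, nat_lit 0x59ce739ceb39ce739ce739ce739d67, nat_lit 0x59ce739ceb39ce739ce739ce739c67, nat_lit 0x430ca3290851948521083194a42108, nat_lit 0x410ca3290851948521083194a42108, nat_lit 0x39d275a5274a4e74a5293ad6949ce9, nat_lit 0x39d275a5274a4e74a5293ac6949ce9, nat_lit 0x5a4e749d2b49ce949d273a5293a569, nat_lit 0x5a4e749d2b49ce949d273a5293a469, nat_lit 0x320c8528c642908421484294841146, nat_lit 0x521483194a41908420c8418c8410ca, nat_lit 0x521485294a4290842148429484214a, nat_lit 0x4290a421085214a5290a5210a52908, nat_lit 0x49d293a4e95a5275a4e949ceb49d27, nat_lit 0x3a4e749d2729ce969d273a5253a4e9, nat_lit 0x4a4e949ce939d293aceb4a5275a527, nat_lit 0x39d273a5274a4e74952d39ce929ce9,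 nat_lit 0x4214a329083294832108518c642108, nat_lit 0x32908421464210a4194642108328ca, nat_lit 0x39ce739ce759ce759ce739ce339ce7, nat_lit 0x39ce739ce759ce759ce739ceb39ce7, nat_lit 0x519484290a32906321084210641948, nat_lit 0x4210a320c842148428ca518c852106, nat_lit 0x4294a429484294a42148521084290a, nat_lit 0x521085210a521085290a4294a52148, nat_lit 0x3a4a74b4e7394e93a4e93a5274a4e7, nat_lit 0x49d693ad294ad2749d2749ce939d29, nat_lit 0x39ce739ce739ce73aceb39ce719ce7, nat_lit 0x39ce739ce739ce73aceb39ce759ce7, nat_lit 0x4218a320c8420c84194a318c832106, nat_lit 0x4208a320c8420c84194a318c832106, nat_lit 0x3210832106521085290a418ca520c8, nat_lit 0x428ca418c84194a420c85210842906, nat_lit 0x3a5274a5673a4e93a5693a5274a4eb, nat_lit 0x3a5274a5673a4e93a5693a5274a4e3, nat_lit 0x4290a421083214a319065210632908, nat_lit 0x32148329464290842148418c8420ca, nat_lit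 0x3a4e749d2749ce94ad2b3a5291a4e9, nat_lit 0x3a4e749d2749ce94ad2b3a5295a4e9, nat_lit 0x4a4e949ce959d2959ce74a52b3a527, nat_lit 0x39d273a5272a4e76a52939ce549ce9, nat_lit 0x430ca529083194832108328c642108, nat_lit 0x410ca529083194832108328c642108, nat_lit 0x49ce939d2949d274ad2b49ce959d29, nat_lit 0x3a5274a4e73a4e9394ed3a5272a4e7, nat_lit 0x4294a418c842946420c83218841906, nat_lit 0x4294a418c842946420c83208841906, nat_lit 0x4218a32148420c8428c6318c85210a, nat_lit 0x4208a32148420c8428c6318c85210a, nat_lit 0x39ce739d6739ce739d6739ce739ceb, nat_lit 0x39ce739d6739ce739d6739ce739ce3, nat_lit 0x420ca5190832948321085194a4210c, nat_lit 0x420ca5190832948321085194a42104, nat_lit 0x39ca73b527494e74a52939ce949ce9, nat_lit 0x4a5694ace93ad2939ce74a5273a527, nat_lit 0x3a4e749ca749ce949da73a5293a4e5, nat_lit 0x49d293a5693a5273a56949ce749d2b, nat_lit 0x520c85294a42908420c842948430ca,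 nat_lit 0x32148318c64190842148418c843146, nat_lit 0x519084214a4210641946421083194a, nat_lit 0x420ca319085194852108518ca42108, nat_lit 0x39d273a4a74a4e74a5a939ce949ce5, nat_lit 0x4a4e949d6939d2939d674a5273a52b, nat_lit 0x3a5674ad274ace949d273a5293a4e9, nat_lit 0x3a5674ad2748ce949d273a5293a4e9, nat_lit 0x320c83294642908420c8418c84314a, nat_lit 0x52148518ca419084214842948430c6, nat_lit 0x3a5274a4e75a4e95a4e93a5234a4e7, nat_lit 0x3a5274a4e75a4e95a4e93a52b4a4e7, nat_lit 0x418ca41948428ca42148511084190a, nat_lit 0x418ca41948428ca42148531084190a, nat_lit 0x4210a321484214841946518c83210a, nat_lit 0x32948429063290a3210842106428c8, nat_lit 0x39d673ace73ace739ce739ce739ce7, nat_lit 0x39d673ace738ce739ce739ce739ce7]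

/-- the invariant family -/
def f3Ms : List ℕ := [0xc00000c00003030000c0c00003000002, 0xaa000000000000050050000000a000000000000a05000000000000004, 0x8800000000880000000000880000880000110000110000000000110000000010, 0x141400000000828200000000000000000000282800000000000000004140, 0x80008040004000200020000010001000080008040004000200020000010000, 0x400010004000100400010004000100000400010004000100004000100040000, 0x100800000040020010080000004002020000400008000012000040000800000, 0x24420000000000000000001800008100244200000000000000000018000080, 0x40002000010008080001002000400001000800400020000020004000080000]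

theorem f3X_ok : IsMat f3x f3X := isMat_perm (inM_m24reps (by norm_num)) (by decide +kernel)

theorem f3_fs : FS f3x 8 f3FT f3PT f3reps :=
  FS.of_fsB f3X_ok (k := 1) (TX := f3TX) (by decide +kernel) (by decide +kernel)

/-- a generator of the centralizer -/
def f3R1 : List (List ℤ) :=
  [[0, 0, 0, 0, 0, 0, 0, 8, 0, 0, 0, 0, 0, 0, 0, 0, 0, 0, 0, 0, 0, 0, 0, 0],
   [0, 0, 0, 0, 0, 0, 0, 0, 0, 0, 0, 0, 8, 0, 0, 0, 0, 0, 0, 0, 0, 0, 0, 0],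
   [0, 0, 0, 0, 0, 0, 8, 0, 0, 0, 0, 0, 0, 0, 0, 0, 0, 0, 0, 0, 0, 0, 0, 0],
   [0, 8, 0, 0, 0, 0, 0, 0, 0, 0, 0, 0, 0, 0, 0, 0, 0, 0, 0, 0, 0, 0, 0, 0],
   [0, 0, 0, -8, 0, 0, 0, 0, 0, 0, 0, 0, 0, 0, 0, 0, 0, 0, 0, 0, 0, 0, 0, 0],
   [0, 0, 0, 0, 0, 0, 0, 0, 0, -8, 0, 0, 0, 0, 0, 0, 0, 0, 0, 0, 0, 0, 0, 0],
   [0, 0, 0, 0, 0, 0, 0, 0, 0, 0, 0, 0, 0, 0, 0, 0, 0, -8, 0, 0, 0, 0, 0, 0],
   [0, 0, 0, 0, 0, 0, 0, 0, 0, 0, 0, -8, 0, 0, 0, 0, 0, 0, 0, 0, 0, 0, 0, 0],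
   [0, 0, 0, 0, 0, 0, 0, 0, 0, 0, 0, 0, 0, 0, 0, 0, 8, 0, 0, 0, 0, 0, 0, 0],
   [0, 0, 0, 0, 0, 0, 0, 0, 0, 0, 0, 0, 0, 8, 0, 0, 0, 0, 0, 0, 0, 0, 0, 0],
   [0, 0, 0, 0, 0, 0, 0, 0, 0, 0, 0, 0, 0, 0, 0, 0, 0, 0, 0, 0, 0, 0, 0, 8],
   [0, 0, 0, 0, 0, 0, 0, 0, 0, 0, -8, 0, 0, 0, 0, 0, 0, 0, 0, 0, 0, 0, 0, 0],
   [0, 0, 0, 0, 0, 8, 0, 0, 0, 0, 0, 0, 0, 0, 0, 0, 0, 0, 0, 0, 0, 0, 0, 0],
   [0, 0, 0, 0, 0, 0, 0, 0, 0, 0, 0, 0, 0, 0, 0, -8, 0, 0, 0, 0, 0, 0, 0, 0],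
   [0, 0, 0, 0, 0, 0, 0, 0, 0, 0, 0, 0, 0, 0, 0, 0, 0, 0, -8, 0, 0, 0, 0, 0],
   [0, 0, 0, 0, 0, 0, 0, 0, -8, 0, 0, 0, 0, 0, 0, 0, 0, 0, 0, 0, 0, 0, 0, 0],
   [0, 0, 0, 0, 0, 0, 0, 0, 0, 0, 0, 0, 0, 0, 0, 0, 0, 0, 0, 0, 0, 0, 8, 0],
   [0, 0, 0, 0, 0, 0, 0, 0, 0, 0, 0, 0, 0, 0, 0, 0, 0, 0, 0, 0, 8, 0, 0, 0],
   [0, 0, 0, 0, 0, 0, 0, 0, 0, 0, 0, 0, 0, 0, 0, 0, 0, 0, 0, 0, 0, -8, 0, 0],
   [-8, 0, 0, 0, 0, 0, 0, 0, 0, 0, 0, 0, 0, 0, 0, 0, 0, 0, 0, 0, 0, 0, 0, 0],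
   [0, 0, 0, 0, -8, 0, 0, 0, 0, 0, 0, 0, 0, 0, 0, 0, 0, 0, 0, 0, 0, 0, 0, 0],
   [0, 0, 0, 0, 0, 0, 0, 0, 0, 0, 0, 0, 0, 0, -8, 0, 0, 0, 0, 0, 0, 0, 0, 0],
   [0, 0, 0, 0, 0, 0, 0, 0, 0, 0, 0, 0, 0, 0, 0, 0, 0, 0, 0, 8, 0, 0, 0, 0],
   [0, 0, 8, 0, 0, 0, 0, 0, 0, 0, 0, 0, 0, 0, 0, 0, 0, 0, 0, 0, 0, 0, 0, 0]]

theorem f3_act1 : ∃ g ∈ centralizer ({f3x} : Set Co0), Acts (objs f3x 8 f3PT f3Ms 9) g (f3_g2.toPerm 9) :=
  f3_fs.acts f3X_ok (R := f3R1) (by decide +kernel) (GT := 0xbb6eaf761053a401) f3_g2_ok (by decide +kernel)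

/-- a generator of the centralizer -/
def f3R0 : List (List ℤ) :=
  [[-4, 0, -2, -2, -2, 0, 0, 2, -2, 0, -2, 2, 2, -2, 0, 2, 0, 0, 0, 0, 2, 0, -2, 0],
   [0, -4, -2, -2, -2, 0, 0, 2, 2, 0, -2, -2, 2, 2, 0, -2, 0, 0, 0, 0, -2, 0, 2, 0],
   [2, 2, -4, 0, 0, 2, 2, 0, 0, -2, 0, 0, 0, 0, -2, 0, -2, 2, -2, 2, 0, 2, 0, -2],
   [2, 2, 0, -4, 0, 2, -2, 0, 0, 2, 0, 0, 0, 0, -2, 0, 2, 2, 2, -2, 0, -2, 0, -2],
   [2, 2, 0, 0, -4, 2, -2, 0, 0, -2, 0, 0, 0, 0, 2, 0, 2, -2, -2, 2, 0, -2, 0, 2],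
   [0, 0, -2, -2, -2, -4, 0, -2, 2, 0, 2, -2, -2, 2, 0, 2, 0, 0, 0, 0, 2, 0, -2, 0],
   [0, 0, -2, 2, 2, 0, -4, 2, 2, 0, -2, -2, -2, -2, 0, -2, 0, 0, 0, 0, 2, 0, -2, 0],
   [-2, -2, 0, 0, 0, 2, -2, -4, 0, -2, 0, 0, 0, 0, -2, 0, -2, 2, -2, -2, 0, -2, 0, 2],
   [2, -2, 0, 0, 0, -2, -2, 0, -4, 2, 0, 0, 0, 0, -2, 0, 2, 2, -2, 2, 0, 2, 0, 2],
   [0, 0, 2, -2, 2, 0, 0, 2, -2, -4, -2, -2, -2, 2, 0, 2, 0, 0, 0, 0, -2, 0, -2, 0],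
   [2, 2, 0, 0, 0, -2, 2, 0, 0, 2, -4, 0, 0, 0, 2, 0, -2, 2, -2, -2, 0, -2, 0, 2],
   [-2, 2, 0, 0, 0, 2, 2, 0, 0, 2, 0, -4, 0, 0, -2, 0, 2, -2, -2, -2, 0, 2, 0, 2],
   [-2, -2, 0, 0, 0, 2, 2, 0, 0, 2, 0, 0, -4, 0, 2, 0, 2, 2, -2, 2, 0, -2, 0, -2],
   [2, -2, 0, 0, 0, -2, 2, 0, 0, -2, 0, 0, 0, -4, -2, 0, 2, -2, -2, -2, 0, -2, 0, -2],
   [0, 0, 2, 2, -2, 0, 0, 2, 2, 0, -2, 2, -2, 2, -4, 2, 0, 0, 0, 0, 2, 0, 2, 0],
   [-2, 2, 0, 0, 0, -2, 2, 0, 0, -2, 0, 0, 0, 0, -2, -4, 2, 2, 2, 2, 0, -2, 0, 2],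
   [0, 0, 2, -2, -2, 0, 0, 2, -2, 0, 2, -2, -2, -2, 0, -2, -4, 0, 0, 0, 2, 0, 2, 0],
   [0, 0, -2, -2, 2, 0, 0, -2, -2, 0, -2, 2, -2, 2, 0, -2, 0, -4, 0, 0, 2, 0, 2, 0],
   [0, 0, 2, -2, 2, 0, 0, 2, 2, 0, 2, 2, 2, 2, 0, -2, 0, 0, -4, 0, 2, 0, -2, 0],
   [0, 0, -2, 2, -2, 0, 0, 2, -2, 0, 2, 2, -2, 2, 0, -2, 0, 0, 0, -4, -2, 0, -2, 0],
   [-2, 2, 0, 0, 0, -2, -2, 0, 0, 2, 0, 0, 0, 0, -2, 0, -2, -2, -2, 2, -4, -2, 0, -2],
   [0, 0, -2, 2, 2, 0, 0, 2, -2, 0, 2, -2, 2, 2, 0, 2, 0, 0, 0, 0, 2, -4, 2, 0],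
   [2, -2, 0, 0, 0, 2, 2, 0, 0, 2, 0, 0, 0, 0, -2, 0, -2, -2, 2, 2, 0, -2, -4, 2],
   [0, 0, 2, 2, -2, 0, 0, -2, -2, 0, -2, -2, 2, 2, 0, -2, 0, 0, 0, 0, 2, 0, -2, -4]]

theorem f3_act0 : ∃ g ∈ centralizer ({f3x} : Set Co0), Acts (objs f3x 8 f3PT f3Ms 9) g (f3_g1.toPerm 9) :=
  f3_fs.acts f3X_ok (R := f3R0) (by decide +kernel) (GT := 0x1c85e85ab97f2ca6) f3_g1_ok (by decide +kernel)

theorem f3_acts : ∀ o ∈ f3_O, ∃ g ∈ centralizer ({f3x} : Set Co0), Acts (objs f3x 8 f3PT f3Ms 9) g (o.toPerm 9) :=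
  (List.forall_mem_cons.2 ⟨f3_act0, (List.forall_mem_cons.2 ⟨f3_act1, (fun _ h => absurd h List.not_mem_nil)⟩)⟩)

theorem f3_inj : Function.Injective (objs f3x 8 f3PT f3Ms 9) := f3_fs.objs_injective (by decide +kernel)

theorem f3_trans : ∀ i j, ∃ g ∈ grp 9 f3_O, g i = j :=
  trans_of_words (by norm_num) f3_O_ok (ws := [0, 1, 2, 515, 131843, 33751811, 33817604, 132100, 516]) (by decide +kernel)

theorem f3_ord : orderOf f3x = 3 := (orderOf_permEl _).trans (m24_rep_spec (by norm_num)).1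

theorem f3_n4 : cnt (n64 f3reps) (2 ^ 8) = 135 := by decide +kernel

theorem f3_orb : (MulAction.orbit (centralizer ({f3x} : Set Co0)) (cls (e8 none))).ncard ≤ 135 :=
  f3_n4 ▸ f3_fs.ncard_orbit_le (permEl_mem_mono _) _ fun _ _ _ _ h _ => decide_eq_true h

theorem f3_cent : CentData f3x (grp 9 f3_O) :=
  centData (by decide) f3_ord f3_inj f3_acts ((card_cent_le (inM_m24reps (by norm_num)) f3_orb (nw := 16) (by decide +kernel) (m24_rep_spec (by norm_num)).2).trans (by rw [f3o_card]; decide)) (by decide) f3_trans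

theorem f3_centData : CentData f3x (alternatingGroup (Fin 9)) :=
  f3_cent.of_equiv (MulEquiv.subgroupCongr (grp_eq_alternatingGroup (by rw [f3o_card]; decide)).symm)

end Cfsg.Agent.H49
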