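import Mathlib
import Cfsg.Agent.H17.KnDef2

/-!
# The ninth pair (piece N9A)
-/

set_option autoImplicit false
set_option maxRecDepth 100000

namespace Cfsg.Agent.H49.KnN9a

open Equiv Subgroup Cfsg.Agent.H11.A16 Cfsg.Agent.H63 Cfsg.Agent.H8.GD
open Cfsg.Agent.H89.Rec (Syl)
open Cfsg.Agent.H17.Kn

universe u

/-- The vertices of the complete graph on nine points. -/
def vx (ε : Bool) : Option P → N2
  | none => 1
  | some p => db ε p

/-- A sign change with given signs. -/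
def sg (a0 a1 a2 a3 a4 a5 a6 a7 : ZMod 2) : N2 := ⟨1, ![a0, a1, a2, a3, a4, a5, a6, a7]⟩

theorem eq_sg {u : N2} (hu : u ∈ PP) :
    u = sg (u.f 0) (u.f 1) (u.f 2) (u.f 3) (u.f 4) (u.f 5) (u.f 6) (u.f 7) :=
  N2.ext (show u.σ = 1 from hu) (funext fun p => by fin_cases p <;> rfl)

theorem nb0 : ∀ (ε : Bool) (a0 a1 a2 a3 a4 a5 a6 a7 : ZMod 2),
    cs ε (ty (sg a0 a1 a2 a3 a4 a5 a6 a7)) = 1 →
    cs ε (ty (sg a0 a1 a2 a3 a4 a5 a6 a7 * (db ε 0 * db ε 1))) = 1 →
    ∃ κ : Bool, ∃ τ : Option P, τ ≠ some 0 ∧ τ ≠ some 1 ∧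
      sg a0 a1 a2 a3 a4 a5 a6 a7 = db ε (if κ then 1 else 0) * vx ε τ := by
  decide +kernel

theorem nb (ε : Bool) {u : N2} (hu : u ∈ PP) (h1 : cs ε (ty u) = 1)
    (h2 : cs ε (ty (u * (db ε 0 * db ε 1))) = 1) :
    ∃ κ : Bool, ∃ τ : Option P, τ ≠ some 0 ∧ τ ≠ some 1 ∧
      u = db ε (if κ then 1 else 0) * vx ε τ := by
  rw [eq_sg hu] at h1 h2 ⊢
  exact nb0 ε _ _ _ _ _ _ _ _ h1 h2

theorem adj : ∀ (ε κ κ' : Bool) (τ τ' : Option P), τ ≠ some 0 → τ ≠ some 1 → τ' ≠ some 0 →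
    τ' ≠ some 1 → cs ε (ty (db ε (if κ then 1 else 0) * vx ε τ *
      (db ε (if κ' then 1 else 0) * vx ε τ'))) = 1 → (κ = κ' ∧ τ ≠ τ') ∨ (κ ≠ κ' ∧ τ = τ') := by
  decide +kernel

theorem db_mem : ∀ ε p, db ε p ∈ PP := by decide +kernel

theorem c1a : ∀ ε p, cs ε (ty (db ε p)) = 1 := by decide +kernel

theorem c1b : ∀ ε p q, p ≠ q → cs ε (ty (db ε p * db ε q)) = 1 := by decide +kernel

theorem c10 : ∀ ε, db ε 0 * db ε 1 = db ε 1 * db ε 0 := by decide +kernel

theorem db_conj (ε : Bool) (σ : Perm P) (p : P) :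
    sec2 σ * db ε p * (sec2 σ)⁻¹ = db ε (σ p) := by
  refine N2.ext ?_ (funext fun r => ?_)
  · have h : ∀ q, (db ε q).σ = 1 := fun q => db_mem ε q
    rw [N2.mul_σ, N2.mul_σ, N2.inv_σ, h, h, mul_one, mul_inv_cancel]
  · have e : (σ⁻¹ r = p) ↔ (r = σ p) := by rw [Perm.inv_eq_iff_eq]
    have e' : (σ.symm r = p) ↔ (r = σ p) := e
    cases ε <;> simp [db, dl, H17.Kn.z2, zp, sec2, e']
    by_cases h : r = σ p <;> simp [h]

/-- The star. -/
theorem star (ε : Bool) (t : P → N2) (hm : ∀ p, t p ∈ PP) (h7 : t 7 = db ε 0 * db ε 1)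
    (h1 : ∀ p, cs ε (ty (t p)) = 1) (h2 : ∀ p q, p ≠ q → cs ε (ty (t p * t q)) = 1) :
    ∃ (μ : Perm P) (p0 : P), t p0 = db ε (μ p0) ∧
      ∀ p, p ≠ p0 → t p = db ε (μ p0) * db ε (μ p) := by
  classical
  have k : ∀ p, ∃ κ : Bool, ∃ τ : Option P, p ≠ 7 → τ ≠ some 0 ∧ τ ≠ some 1 ∧
      t p = db ε (if κ then 1 else 0) * vx ε τ := fun p => by
    by_cases hp : p = 7
    · exact ⟨true, none, fun a => absurd hp a⟩
    · obtain ⟨κ, τ, h⟩ := nb ε (hm p) (h1 p) (h7 ▸ h2 p 7 hp)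
      exact ⟨κ, τ, fun _ => h⟩
  choose κ τ hk using k
  have A : ∀ p q, p ≠ 7 → q ≠ 7 → p ≠ q → (κ p = κ q ∧ τ p ≠ τ q) ∨ (κ p ≠ κ q ∧ τ p = τ q) :=
    fun p q hp hq hpq => by
      have := h2 p q hpq
      rw [(hk p hp).2.2, (hk q hq).2.2] at this
      exact adj ε _ _ _ _ (hk p hp).1 (hk p hp).2.1 (hk q hq).1 (hk q hq).2.1 this
  have third : ∀ p : P, ∃ r : P, r ≠ 7 ∧ r ≠ 0 ∧ r ≠ p := by decide
  have K : ∀ p, p ≠ 7 → κ p = κ 0 := fun p hp => by
    by_contra hne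
    have hp0 : p ≠ 0 := fun e => hne (by rw [e])
    obtain ⟨r, r7, r0, rp⟩ := third p
    have a := A p 0 hp (by decide) hp0
    have b := A r 0 r7 (by decide) r0
    have c := A r p r7 hp rp
    have e1 : τ p = τ 0 := (a.resolve_left fun x => hne x.1).2
    rcases b with b | b <;> rcases c with c | c
    · exact hne (c.1.symm.trans b.1)
    · exact b.2 (c.2.trans e1)
    · exact c.2 (b.2.trans e1.symm)
    · apply hne
      have x := b.1; have y := c.1
      revert x y; cases κ r <;> cases κ p <;> cases κ 0 <;> simp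
  set c : P := if κ 0 then 1 else 0 with hc
  set c' : P := if κ 0 then 0 else 1 with hc'
  have c01 : (c = 0 ∧ c' = 1) ∨ (c = 1 ∧ c' = 0) := by
    rw [hc, hc']; cases κ 0 <;> simp
  let θ : P → Option P := fun p => if p = 7 then some c' else τ p
  have hθ : ∀ p, t p = db ε c * vx ε (θ p) := fun p => by
    by_cases hp : p = 7
    · rw [hp, h7]
      change _ = db ε c * db ε c'
      rcases c01 with h | h <;> rw [h.1, h.2]
      exact c10 ε
    · simp only [θ, if_neg hp]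
      rw [(hk p hp).2.2, K p hp]
  have θc : ∀ p, θ p ≠ some c := fun p => by
    by_cases hp : p = 7
    · simp only [θ, if_pos hp]
      rcases c01 with h | h <;> rw [h.1, h.2] <;> decide
    · simp only [θ, if_neg hp]
      rcases c01 with h | h <;> rw [h.1]
      exacts [(hk p hp).1, (hk p hp).2.1]
  have θ7 : ∀ p, p ≠ 7 → τ p ≠ some c' := fun p hp => by
    rcases c01 with h | h <;> rw [h.2]
    exacts [(hk p hp).2.1, (hk p hp).1]
  have θi : Function.Injective θ := fun p q e => by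
    by_contra hpq
    by_cases hp : p = 7 <;> by_cases hq : q = 7
    · exact hpq (hp.trans hq.symm)
    · simp only [θ, if_pos hp, if_neg hq] at e
      exact θ7 q hq e.symm
    · simp only [θ, if_pos hq, if_neg hp] at e
      exact θ7 p hp e
    · simp only [θ, if_neg hp, if_neg hq] at e
      rcases A p q hp hq hpq with a | a
      · exact a.2 e
      · exact a.1 ((K p hp).trans (K q hq).symm)
  let m : P → P := fun p => (θ p).getD c
  have mi : Function.Injective m := fun p q e => by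
    apply θi
    have a := θc p; have b := θc q
    simp only [m] at e
    revert a b e
    cases θ p <;> cases θ q <;> simp only [Option.getD]
    · intros; trivial
    · intro e _ b; exact absurd (congrArg some e.symm) b
    · intro e a _; exact absurd (congrArg some e) a
    · intro e _ _; rw [e]
  have mb : Function.Bijective m := Finite.injective_iff_bijective.1 mi
  obtain ⟨p0, hp0⟩ := mb.2 c
  have n0 : θ p0 = none := by
    have a := θc p0
    simp only [m] at hp0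
    revert a hp0
    cases θ p0 <;> simp only [Option.getD]
    · intros; trivial
    · intro e a; exact absurd (congrArg some e) a
  refine ⟨Equiv.ofBijective m mb, p0, ?_, fun p hp => ?_⟩
  · rw [Equiv.ofBijective_apply, hp0, hθ, n0]; exact mul_one _
  · rw [Equiv.ofBijective_apply, Equiv.ofBijective_apply, hp0, hθ]
    have : θ p ≠ none := fun e => hp (θi (e.trans n0.symm))
    simp only [m]
    revert this
    cases θ p
    · intro a; exact absurd rfl a
    · intro _; rfl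

theorem n9a (hB : Base.{u}) (_h2 : Cl2Stmt.{u}) : N9aStmt.{u} := by
  intro G _ _ J φ s H ρ ε h3 hW hC
  have le : PP ≤ S2 := hB.m2.le.2.2.2.2.2.2.2.2.2.2.1.trans hB.m2.le.2.2.2.2.2.2.2.2.2.2.2.1
  have sq : ∀ u ∈ PP, u * u = 1 := hB.m2.ab.2.2.2.1
  have em : Em J PP := h3.em2.mono le
  have cl : ∀ g, ∀ u ∈ PP, ∀ v ∈ PP, R J g u v → cs ε (ty u) = cs ε (ty v) :=
    fun g u hu v hv r => (hC u (le hu) v (le hv) (sq u hu) (sq v hv)).1 ⟨g, r⟩
  have d01 : db ε 0 * db ε 1 ∈ PP := mul_mem (db_mem ε 0) (db_mem ε 1)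
  obtain ⟨g, hg⟩ := (hC _ (le (db_mem ε 7)) _ (le d01) (sq _ (db_mem ε 7)) (sq _ d01)).2
    ((c1a ε 7).trans (c1b ε 0 1 (by decide)).symm)
  obtain ⟨h, hN, hh⟩ := hW.ctl g _ (db_mem ε 7) _ d01 hg
  obtain ⟨α, hα, ha⟩ := em.au hN
  have a7 : α (db ε 7) = db ε 0 * db ε 1 :=
    em.inj _ (hα.mem _ (db_mem ε 7)) _ d01 ((Eq.symm (ha _ (db_mem ε 7))).trans hh)
  obtain ⟨μ, p0, e0, e1⟩ := star ε (fun p => α (db ε p)) (fun p => hα.mem _ (db_mem ε p)) a7
    (fun p => (cl h _ (db_mem ε p) _ (hα.mem _ (db_mem ε p)) (ha _ (db_mem ε p))).symm.trans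
      (c1a ε p))
    (fun p q hpq => by
      have m := mul_mem (db_mem ε p) (db_mem ε q)
      rw [← hα.mul _ (db_mem ε p) _ (db_mem ε q)]
      exact (cl h _ m _ (hα.mem _ m) (ha _ m)).symm.trans (c1b ε p q hpq))
  have lf : ∀ σ : Perm P, ∃ k, Ex J k (sec2 σ) PP := fun σ => by
    obtain ⟨k, -, -, hk⟩ := h3.lift (sec2 σ) PP le fun u hu => le ((hB.m2.nrm _).1 u hu)
    exact ⟨k, hk⟩
  obtain ⟨g1, hg1⟩ := lf (swap p0 7)
  obtain ⟨g2, hg2⟩ := lf (swap p0 7 * μ⁻¹)
  have s1 : ∀ p, R J g1 (db ε p) (db ε (swap p0 7 p)) := fun p => by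
    have := hg1 _ (db_mem ε p); rwa [db_conj] at this
  have s2 : ∀ p, R J g2 (db ε (μ p)) (db ε (swap p0 7 p)) := fun p => by
    have := hg2 _ (db_mem ε (μ p)); rw [db_conj] at this; simpa using this
  have s3 : ∀ p q, R J g2 (db ε (μ p) * db ε (μ q)) (db ε (swap p0 7 p) * db ε (swap p0 7 q)) :=
    fun p q => by
      have a := s2 p; have b := s2 q
      unfold R at a b ⊢
      rw [em.mul _ (db_mem _ _) _ (db_mem _ _), em.mul _ (db_mem _ _) _ (db_mem _ _), ← a, ← b]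
      group
  refine ⟨g2 * (h * g1), ?_, fun p hp => ?_⟩
  · have a := s1 7
    rw [swap_apply_right] at a
    have b := ha _ (db_mem ε p0)
    rw [e0] at b
    have c := s2 p0
    rw [swap_apply_left] at c
    exact (a.trans b).trans c
  · have a := s1 p
    have hq : swap p0 7 p ≠ p0 := fun e => hp (by
      have := congrArg (swap p0 7) e
      rwa [swap_apply_self, swap_apply_left] at this)
    have b := ha _ (db_mem ε (swap p0 7 p))
    rw [e1 _ hq] at b
    have c := s3 p0 (swap p0 7 p)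
    rw [swap_apply_left, swap_apply_self, (hB.m2.ab.1 _ (db_mem ε 7) _ (db_mem ε p)).eq] at c
    exact (a.trans b).trans c

end Cfsg.Agent.H49.KnN9a
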