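import Cfsg.Agent.H49.Fix
import Cfsg.Agent.S0242

/-! The centralizer in `Co0` of an element of order 7 of `M24`. -/

set_option autoImplicit false
set_option maxRecDepth 200000
set_option linter.style.longLine false

namespace Cfsg.Agent.H49

open Cfsg Subgroup Cfsg.Agent.H48 Cfsg.Agent.H42 Cfsg.Agent.H43
open scoped Pointwise

theorem f7_hn : NOk 7 := by decide

theorem f7_hk : 7 ≤ 2 ^ 3 := by decide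

noncomputable def f7_g1 : Net := (Net.cons (nat_lit 1) (nat_lit 4) (Net.cons (nat_lit 4) (nat_lit 7) (Net.cons (nat_lit 2) (nat_lit 3) (Net.cons (nat_lit 1) (nat_lit 17) Net.nil))))

theorem f7_g1_ok : Net.ok 7 f7_g1 = true := by decide +kernel

noncomputable def f7_g2 : Net := (Net.cons (nat_lit 1) (nat_lit 20) (Net.cons (nat_lit 4) (nat_lit 6) (Net.cons (nat_lit 2) (nat_lit 1) (Net.cons (nat_lit 1) (nat_lit 4) Net.nil))))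

theorem f7_g2_ok : Net.ok 7 f7_g2 = true := by decide +kernel

noncomputable def f7_O : List Net := [f7_g1, f7_g2]

theorem f7_O_ok : okE 7 f7_O = true := (okE_cons.2 ⟨f7_g1_ok, (okE_cons.2 ⟨f7_g2_ok, (okE_nil 7)⟩)⟩)

noncomputable def f7_V3 : List Net := [f7_g1]

theorem f7_V3_ok : okE 7 f7_V3 = true := (okE_cons.2 ⟨f7_g1_ok, (okE_nil 7)⟩)

noncomputable def f7_g5 : Net := (Net.cons (nat_lit 1) (nat_lit 16) (Net.cons (nat_lit 4) (nat_lit 6) (Net.cons (nat_lit 2) (nat_lit 18) (Net.cons (nat_lit 1) (nat_lit 16) Net.nil))))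

theorem f7_g5_ok : Net.ok 7 f7_g5 = true := by decide +kernel

noncomputable def f7_g6 : Net := (Net.cons (nat_lit 1) (nat_lit 1) (Net.cons (nat_lit 2) (nat_lit 2) (Net.cons (nat_lit 4) (nat_lit 2) (Net.cons (nat_lit 2) (nat_lit 19) (Net.cons (nat_lit 1) (nat_lit 17) Net.nil)))))

theorem f7_g6_ok : Net.ok 7 f7_g6 = true := by decide +kernel

noncomputable def f7_V7 : List Net := [f7_g5, f7_g6]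

theorem f7_V7_ok : okE 7 f7_V7 = true := (okE_cons.2 ⟨f7_g5_ok, (okE_cons.2 ⟨f7_g6_ok, (okE_nil 7)⟩)⟩)

noncomputable def f7_V9 : List Net := [f7_g5]

theorem f7_V9_ok : okE 7 f7_V9 = true := (okE_cons.2 ⟨f7_g5_ok, (okE_nil 7)⟩)

noncomputable def f7_g11 : Net := (Net.cons (nat_lit 1) (nat_lit 1) (Net.cons (nat_lit 2) (nat_lit 16) (Net.cons (nat_lit 4) (nat_lit 1) (Net.cons (nat_lit 2) (nat_lit 16) (Net.cons (nat_lit 1) (nat_lit 5) Net.nil)))))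

theorem f7_g11_ok : Net.ok 7 f7_g11 = true := by decide +kernel

noncomputable def f7_g12 : Net := (Net.cons (nat_lit 4) (nat_lit 4) (Net.cons (nat_lit 2) (nat_lit 2) Net.nil))

theorem f7_g12_ok : Net.ok 7 f7_g12 = true := by decide +kernel

noncomputable def f7_V13 : List Net := [f7_g11, f7_g12]

theorem f7_V13_ok : okE 7 f7_V13 = true := (okE_cons.2 ⟨f7_g11_ok, (okE_cons.2 ⟨f7_g12_ok, (okE_nil 7)⟩)⟩)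

noncomputable def f7_g15 : Net := (Net.cons (nat_lit 1) (nat_lit 4) (Net.cons (nat_lit 4) (nat_lit 4) (Net.cons (nat_lit 2) (nat_lit 2) (Net.cons (nat_lit 1) (nat_lit 4) Net.nil))))

theorem f7_g15_ok : Net.ok 7 f7_g15 = true := by decide +kernel

noncomputable def f7_V16 : List Net := [f7_g11, f7_g15]

theorem f7_V16_ok : okE 7 f7_V16 = true := (okE_cons.2 ⟨f7_g11_ok, (okE_cons.2 ⟨f7_g15_ok, (okE_nil 7)⟩)⟩)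

noncomputable def f7o_E3 : List Net := []

theorem f7o_E3_ok : okE 7 f7o_E3 = true := (okE_nil 7)

noncomputable def f7o_G2 : List Net := [f7_g11, f7_g15]

theorem f7o_G2_ok : okE 7 f7o_G2 = true := (okE_cons.2 ⟨f7_g11_ok, (okE_cons.2 ⟨f7_g15_ok, (okE_nil 7)⟩)⟩)

noncomputable def f7o_E2 : List Net := [f7_g11, f7_g15, f7_g12]

theorem f7o_E2_ok : okE 7 f7o_E2 = true := (okE_cons.2 ⟨f7_g11_ok, (okE_cons.2 ⟨f7_g15_ok, (okE_cons.2 ⟨f7_g12_ok, (okE_nil 7)⟩)⟩)⟩)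

noncomputable def f7o_G1 : List Net := [f7_g5, f7_g11, f7_g15, f7_g12]

theorem f7o_G1_ok : okE 7 f7o_G1 = true := (okE_cons.2 ⟨f7_g5_ok, (okE_cons.2 ⟨f7_g11_ok, (okE_cons.2 ⟨f7_g15_ok, (okE_cons.2 ⟨f7_g12_ok, (okE_nil 7)⟩)⟩)⟩)⟩)

noncomputable def f7o_E1 : List Net := [f7_g5, f7_g6, f7_g11, f7_g15, f7_g12]

theorem f7o_E1_ok : okE 7 f7o_E1 = true := (okE_cons.2 ⟨f7_g5_ok, (okE_cons.2 ⟨f7_g6_ok, (okE_cons.2 ⟨f7_g11_ok, (okE_cons.2 ⟨f7_g15_ok, (okE_cons.2 ⟨f7_g12_ok, (okE_nil 7)⟩)⟩)⟩)⟩)⟩)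

noncomputable def f7o_G0 : List Net := [f7_g1, f7_g5, f7_g6, f7_g11, f7_g15, f7_g12]

theorem f7o_G0_ok : okE 7 f7o_G0 = true := (okE_cons.2 ⟨f7_g1_ok, (okE_cons.2 ⟨f7_g5_ok, (okE_cons.2 ⟨f7_g6_ok, (okE_cons.2 ⟨f7_g11_ok, (okE_cons.2 ⟨f7_g15_ok, (okE_cons.2 ⟨f7_g12_ok, (okE_nil 7)⟩)⟩)⟩)⟩)⟩)⟩)

noncomputable def f7o_E0 : List Net := [f7_g1, f7_g2, f7_g5, f7_g6, f7_g11, f7_g15, f7_g12]

theorem f7o_E0_ok : okE 7 f7o_E0 = true := (okE_cons.2 ⟨f7_g1_ok, (okE_cons.2 ⟨f7_g2_ok, (okE_cons.2 ⟨f7_g5_ok, (okE_cons.2 ⟨f7_g6_ok, (okE_cons.2 ⟨f7_g11_ok, (okE_cons.2 ⟨f7_g15_ok, (okE_cons.2 ⟨f7_g12_ok, (okE_nil 7)⟩)⟩)⟩)⟩)⟩)⟩)⟩)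

theorem f7_le4 : grp 7 f7_V3 ≤ grp 7 f7_O :=
  grp_le_of_memB f7_hn f7_hk f7_O_ok f7_V3_ok (ws := [nat_lit 1]) (by decide +kernel)

theorem f7_le8 : grp 7 f7_V7 ≤ grp 7 f7_O :=
  grp_le_of_memB f7_hn f7_hk f7_O_ok f7_V7_ok (ws := [nat_lit 0x4010104010303, nat_lit 0x1010303]) (by decide +kernel)

theorem f7_le10 : grp 7 f7_V9 ≤ grp 7 f7_V7 :=
  grp_le_of_memB f7_hn f7_hk f7_V7_ok f7_V9_ok (ws := [nat_lit 1]) (by decide +kernel)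

theorem f7_le14 : grp 7 f7_V13 ≤ grp 7 f7_V7 :=
  grp_le_of_memB f7_hn f7_hk f7_V7_ok f7_V13_ok (ws := [nat_lit 0x2040203020401, nat_lit 0x2040101030104]) (by decide +kernel)

theorem f7_le17 : grp 7 f7_V16 ≤ grp 7 f7_V13 :=
  grp_le_of_memB f7_hn f7_hk f7_V13_ok f7_V16_ok (ws := [nat_lit 1, nat_lit 259]) (by decide +kernel)

theorem f7o_card3 : Nat.card (grp 7 f7o_E3) = 1 :=
  card_grp_nil 7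

theorem f7o_leO3 : grp 7 f7o_E3 ≤ grp 7 f7_O :=
  grp_nil_le _

theorem f7o_2_fix : grp 7 f7o_E3 ≤ MulAction.stabilizer (Equiv.Perm (Fin 7)) (⟨6, by decide⟩ : Fin 7) :=
  grp_le_stab f7o_E3_ok (by decide : 6 < 7) (by decide +kernel)

noncomputable def f7o_2_ts : List ℕ := [nat_lit 0, nat_lit 1, nat_lit 3, nat_lit 259]

noncomputable def f7o_2_ds : List ℕ := [nat_lit 6, nat_lit 1, nat_lit 3, nat_lit 2]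

theorem f7o_2_dist : Dist 7 f7o_E3 f7o_G2 (⟨6, by decide⟩ : Fin 7) f7o_2_ts f7o_2_ds :=
  dist_of_distB (k := 2) f7_hn f7o_E3_ok f7o_G2_ok (by decide : 6 < 7) (by decide +kernel)

noncomputable def f7o_2_sl0 : SL := (SL.cons (nat_lit 1) (nat_lit 1) Ch.nil [] (SL.cons (nat_lit 3) (nat_lit 3) Ch.nil [] (SL.cons (nat_lit 259) (nat_lit 2) Ch.nil [] SL.nil)))

theorem f7o_2_sc0 : SCs 7 f7o_E3 f7o_G2 (⟨6, by decide⟩ : Fin 7) (SL.words f7o_2_sl0) :=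
  scs_of_ok f7_hn (det_lab f7_hk ⊤) f7o_E3_ok f7o_G2_ok le_top le_top (by decide : 6 < 7) f7o_2_fix f7o_card3.le (by decide +kernel)

noncomputable def f7o_2_l : List ℕ := (appL (SL.words f7o_2_sl0) [])

theorem f7o_2_scs : SCs 7 f7o_E3 f7o_G2 (⟨6, by decide⟩ : Fin 7) f7o_2_l :=
  (SCs.append f7o_2_sc0 SCs.nil)

noncomputable def f7o_2_rl0_0 : RL := (RL.cons (nat_lit 0) (nat_lit 6) (nat_lit 0) (nat_lit 0) (nat_lit 1) (nat_lit 0) (RL.cons (nat_lit 1) (nat_lit 1) (nat_lit 0) (nat_lit 0) (nat_lit 0) (nat_lit 0) (RL.cons (nat_lit 2) (nat_lit 3) (nat_lit 0) (nat_lit 0) (nat_lit 3) (nat_lit 0) (RL.cons (nat_lit 3) (nat_lit 2) (nat_lit 0) (nat_lit 0) (nat_lit 2) (nat_lit 0) RL.nil))))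

theorem f7o_2_good0_0 : GoodSet 7 f7o_E3 f7o_G2 (⟨6, by decide⟩ : Fin 7) f7o_2_ts (nat_lit 1) (RL.pts f7o_2_rl0_0) :=
  goodSet_of_ok f7_hn (det_lab f7_hk ⊤) f7o_E3_ok f7o_G2_ok le_top le_top (by decide : 6 < 7) (sepAt_lab f7_hk _) (by decide +kernel)

theorem f7o_2_step0 : Step 7 f7o_E3 f7o_G2 f7o_2_ts (2 * 0 + 1) :=
  step_of_cover f7o_E3_ok f7o_2_dist (by decide +kernel) f7o_2_scs (by decide +kernel) f7o_2_good0_0 (kw := [])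
    (conj_mem_of_scs f7o_E3_ok f7o_G2_ok (by decide : 6 < 7) f7o_2_scs (c := 0) (d := 1) (by decide +kernel)) (by decide +kernel)

noncomputable def f7o_2_rl1_0 : RL := (RL.cons (nat_lit 0) (nat_lit 6) (nat_lit 0) (nat_lit 0) (nat_lit 2) (nat_lit 0) (RL.cons (nat_lit 1) (nat_lit 1) (nat_lit 0) (nat_lit 0) (nat_lit 3) (nat_lit 0) (RL.cons (nat_lit 2) (nat_lit 3) (nat_lit 0) (nat_lit 0) (nat_lit 0) (nat_lit 0) (RL.cons (nat_lit 3) (nat_lit 2) (nat_lit 0) (nat_lit 0) (nat_lit 1) (nat_lit 0) RL.nil))))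

theorem f7o_2_good1_0 : GoodSet 7 f7o_E3 f7o_G2 (⟨6, by decide⟩ : Fin 7) f7o_2_ts (nat_lit 3) (RL.pts f7o_2_rl1_0) :=
  goodSet_of_ok f7_hn (det_lab f7_hk ⊤) f7o_E3_ok f7o_G2_ok le_top le_top (by decide : 6 < 7) (sepAt_lab f7_hk _) (by decide +kernel)

theorem f7o_2_step1 : Step 7 f7o_E3 f7o_G2 f7o_2_ts (2 * 1 + 1) :=
  step_of_cover f7o_E3_ok f7o_2_dist (by decide +kernel) f7o_2_scs (by decide +kernel) f7o_2_good1_0 (kw := [])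
    (conj_mem_of_scs f7o_E3_ok f7o_G2_ok (by decide : 6 < 7) f7o_2_scs (c := 1) (d := 3) (by decide +kernel)) (by decide +kernel)

theorem f7o_2_lev : grp 7 f7o_G2 ⊓ MulAction.stabilizer (Equiv.Perm (Fin 7)) (⟨6, by decide⟩ : Fin 7) = grp 7 f7o_E3 :=
  sims_level (gs := f7_V16) rfl (by decide) f7o_2_fix f7o_2_dist (forall_lt_succ' (forall_lt_one f7o_2_step0) f7o_2_step1)

theorem f7o_2_cardG : Nat.card (grp 7 f7o_G2) = 4 :=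
  card_of_level f7_hn f7o_G2_ok (by decide : 6 < 7) f7o_2_lev f7o_card3 (m := 4) (by decide +kernel)

theorem f7_le18 : grp 7 f7o_E2 ≤ grp 7 f7o_G2 :=
  grp_le_of_memB f7_hn f7_hk f7o_G2_ok f7o_E2_ok (ws := [nat_lit 1, nat_lit 3, nat_lit 259]) (by decide +kernel)

theorem f7_le19 : grp 7 f7o_G2 ≤ grp 7 f7o_E2 :=
  grp_le_of_memB f7_hn f7_hk f7o_E2_ok f7o_G2_ok (ws := [nat_lit 1, nat_lit 3]) (by decide +kernel)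

theorem f7o_2_eq : grp 7 f7o_E2 = grp 7 f7o_G2 :=
  le_antisymm f7_le18 f7_le19

theorem f7o_card2 : Nat.card (grp 7 f7o_E2) = 4 :=
  by rw [f7o_2_eq]; exact f7o_2_cardG

theorem f7o_stab2 : grp 7 f7o_E2 ⊓ MulAction.stabilizer (Equiv.Perm (Fin 7)) (⟨6, by decide⟩ : Fin 7) = grp 7 f7o_E3 :=
  by rw [f7o_2_eq]; exact f7o_2_lev

theorem f7o_leO2 : grp 7 f7o_E2 ≤ grp 7 f7_O :=
  f7o_2_eq.le.trans (grp_cons_le ((f7_le14.trans (f7_le8.trans (le_refl (grp 7 f7_O)))) (f7_le17 (toPerm_mem_grp (E := f7_V16) (by simp [f7_V16])))) (grp_cons_le ((f7_le14.trans (f7_le8.trans (le_refl (grp 7 f7_O)))) (f7_le17 (toPerm_mem_grp (E := f7_V16) (by simp [f7_V16])))) f7o_leO3))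

theorem f7o_1_fix : grp 7 f7o_E2 ≤ MulAction.stabilizer (Equiv.Perm (Fin 7)) (⟨5, by decide⟩ : Fin 7) :=
  grp_le_stab f7o_E2_ok (by decide : 5 < 7) (by decide +kernel)

noncomputable def f7o_1_ts : List ℕ := [nat_lit 0, nat_lit 1, nat_lit 66305]

noncomputable def f7o_1_ds : List ℕ := [nat_lit 5, nat_lit 6, nat_lit 4]

theorem f7o_1_dist : Dist 7 f7o_E2 f7o_G1 (⟨5, by decide⟩ : Fin 7) f7o_1_ts f7o_1_ds :=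
  dist_of_distB (k := 2) f7_hn f7o_E2_ok f7o_G1_ok (by decide : 5 < 7) (by decide +kernel)

noncomputable def f7o_1_sl0 : SL := (SL.cons (nat_lit 1) (nat_lit 6) Ch.nil [] (SL.cons (nat_lit 66305) (nat_lit 4) (Ch.cons (nat_lit 1) [nat_lit 3, nat_lit 1] Ch.nil) [nat_lit 3, nat_lit 5] SL.nil))

theorem f7o_1_sc0 : SCs 7 f7o_E2 f7o_G1 (⟨5, by decide⟩ : Fin 7) (SL.words f7o_1_sl0) :=
  scs_of_ok f7_hn (det_lab f7_hk ⊤) f7o_E2_ok f7o_G1_ok le_top le_top (by decide : 5 < 7) f7o_1_fix f7o_card2.le (by decide +kernel)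

noncomputable def f7o_1_l : List ℕ := (appL (SL.words f7o_1_sl0) [])

theorem f7o_1_scs : SCs 7 f7o_E2 f7o_G1 (⟨5, by decide⟩ : Fin 7) f7o_1_l :=
  (SCs.append f7o_1_sc0 SCs.nil)

noncomputable def f7o_1_rl0_0 : RL := (RL.cons (nat_lit 0) (nat_lit 5) (nat_lit 0) (nat_lit 5) (nat_lit 1) (nat_lit 5) (RL.cons (nat_lit 1) (nat_lit 6) (nat_lit 0) (nat_lit 0) (nat_lit 0) (nat_lit 0) (RL.cons (nat_lit 1) (nat_lit 1) (nat_lit 1) (nat_lit 3) (nat_lit 1) (nat_lit 1) (RL.cons (nat_lit 1) (nat_lit 3) (nat_lit 3) (nat_lit 0) (nat_lit 2) (nat_lit 1) (RL.cons (nat_lit 1) (nat_lit 2) (nat_lit 5) (nat_lit 0) (nat_lit 1) (nat_lit 5) (RL.cons (nat_lit 2) (nat_lit 4) (nat_lit 0) (nat_lit 1) (nat_lit 1) (nat_lit 0) RL.nil))))))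

theorem f7o_1_good0_0 : GoodSet 7 f7o_E2 f7o_G1 (⟨5, by decide⟩ : Fin 7) f7o_1_ts (nat_lit 1) (RL.pts f7o_1_rl0_0) :=
  goodSet_of_ok f7_hn (det_lab f7_hk ⊤) f7o_E2_ok f7o_G1_ok le_top le_top (by decide : 5 < 7) (sepAt_lab f7_hk _) (by decide +kernel)

theorem f7o_1_step0 : Step 7 f7o_E2 f7o_G1 f7o_1_ts (2 * 0 + 1) :=
  step_of_cover f7o_E2_ok f7o_1_dist (by decide +kernel) f7o_1_scs (by decide +kernel) f7o_1_good0_0 (kw := [])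
    (conj_mem_of_scs f7o_E2_ok f7o_G1_ok (by decide : 5 < 7) f7o_1_scs (c := 0) (d := 6) (by decide +kernel)) (by decide +kernel)

theorem f7o_1_lev : grp 7 f7o_G1 ⊓ MulAction.stabilizer (Equiv.Perm (Fin 7)) (⟨5, by decide⟩ : Fin 7) = grp 7 f7o_E2 :=
  sims_level (gs := f7_V9) rfl (by decide) f7o_1_fix f7o_1_dist (forall_lt_one f7o_1_step0)

theorem f7o_1_cardG : Nat.card (grp 7 f7o_G1) = 24 :=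
  card_of_level f7_hn f7o_G1_ok (by decide : 5 < 7) f7o_1_lev f7o_card2 (m := 6) (by decide +kernel)

theorem f7_le20 : grp 7 f7o_E1 ≤ grp 7 f7o_G1 :=
  grp_le_of_memB f7_hn f7_hk f7o_G1_ok f7o_E1_ok (ws := [nat_lit 1, nat_lit 459013, nat_lit 3, nat_lit 5, nat_lit 7]) (by decide +kernel)

theorem f7_le21 : grp 7 f7o_G1 ≤ grp 7 f7o_E1 :=
  grp_le_of_memB f7_hn f7_hk f7o_E1_ok f7o_G1_ok (ws := [nat_lit 1, nat_lit 5, nat_lit 7, nat_lit 9]) (by decide +kernel)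

theorem f7o_1_eq : grp 7 f7o_E1 = grp 7 f7o_G1 :=
  le_antisymm f7_le20 f7_le21

theorem f7o_card1 : Nat.card (grp 7 f7o_E1) = 24 :=
  by rw [f7o_1_eq]; exact f7o_1_cardG

theorem f7o_stab1 : grp 7 f7o_E1 ⊓ MulAction.stabilizer (Equiv.Perm (Fin 7)) (⟨5, by decide⟩ : Fin 7) = grp 7 f7o_E2 :=
  by rw [f7o_1_eq]; exact f7o_1_lev

theorem f7o_leO1 : grp 7 f7o_E1 ≤ grp 7 f7_O :=
  f7o_1_eq.le.trans (grp_cons_le ((f7_le8.trans (le_refl (grp 7 f7_O))) (f7_le10 (toPerm_mem_grp (E := f7_V9) (by simp [f7_V9])))) f7o_leO2)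

theorem f7o_0_fix : grp 7 f7o_E1 ≤ MulAction.stabilizer (Equiv.Perm (Fin 7)) (⟨0, by decide⟩ : Fin 7) :=
  grp_le_stab f7o_E1_ok (by decide : 0 < 7) (by decide +kernel)

noncomputable def f7o_0_ts : List ℕ := [nat_lit 0, nat_lit 1]

noncomputable def f7o_0_ds : List ℕ := [nat_lit 0, nat_lit 5]

theorem f7o_0_dist : Dist 7 f7o_E1 f7o_G0 (⟨0, by decide⟩ : Fin 7) f7o_0_ts f7o_0_ds :=
  dist_of_distB (k := 1) f7_hn f7o_E1_ok f7o_G0_ok (by decide : 0 < 7) (by decide +kernel)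

noncomputable def f7o_0_sl0 : SL := (SL.cons (nat_lit 1) (nat_lit 5) (Ch.cons (nat_lit 6) [nat_lit 5, nat_lit 7, nat_lit 9] Ch.nil) [nat_lit 327940, nat_lit 1795, nat_lit 2305] SL.nil)

theorem f7o_0_sc0 : SCs 7 f7o_E1 f7o_G0 (⟨0, by decide⟩ : Fin 7) (SL.words f7o_0_sl0) :=
  scs_of_ok f7_hn (det_lab f7_hk ⊤) f7o_E1_ok f7o_G0_ok le_top le_top (by decide : 0 < 7) f7o_0_fix f7o_card1.le (by decide +kernel)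

noncomputable def f7o_0_l : List ℕ := (appL (SL.words f7o_0_sl0) [])

theorem f7o_0_scs : SCs 7 f7o_E1 f7o_G0 (⟨0, by decide⟩ : Fin 7) f7o_0_l :=
  (SCs.append f7o_0_sc0 SCs.nil)

noncomputable def f7o_0_rl0_0 : RL := (RL.cons (nat_lit 0) (nat_lit 0) (nat_lit 0) (nat_lit 2) (nat_lit 1) (nat_lit 2306) (RL.cons (nat_lit 1) (nat_lit 5) (nat_lit 0) (nat_lit 0) (nat_lit 0) (nat_lit 0) (RL.cons (nat_lit 1) (nat_lit 6) (nat_lit 1) (nat_lit 3) (nat_lit 1) (nat_lit 327941) (RL.cons (nat_lit 1) (nat_lit 4) (nat_lit 260) (nat_lit 261) (nat_lit 1) (nat_lit 1281) RL.nil))))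

theorem f7o_0_good0_0 : GoodSet 7 f7o_E1 f7o_G0 (⟨0, by decide⟩ : Fin 7) f7o_0_ts (nat_lit 1) (RL.pts f7o_0_rl0_0) :=
  goodSet_of_ok f7_hn (det_lab f7_hk ⊤) f7o_E1_ok f7o_G0_ok le_top le_top (by decide : 0 < 7) (sepAt_lab f7_hk _) (by decide +kernel)

theorem f7o_0_step0 : Step 7 f7o_E1 f7o_G0 f7o_0_ts (2 * 0 + 1) :=
  step_of_cover f7o_E1_ok f7o_0_dist (by decide +kernel) f7o_0_scs (by decide +kernel) f7o_0_good0_0 (kw := [nat_lit 5, nat_lit 7, nat_lit 9])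
    (conj_mem_of_scs f7o_E1_ok f7o_G0_ok (by decide : 0 < 7) f7o_0_scs (c := 0) (d := 5) (by decide +kernel)) (by decide +kernel)

theorem f7o_0_lev : grp 7 f7o_G0 ⊓ MulAction.stabilizer (Equiv.Perm (Fin 7)) (⟨0, by decide⟩ : Fin 7) = grp 7 f7o_E1 :=
  sims_level (gs := f7_V3) rfl (by decide) f7o_0_fix f7o_0_dist (forall_lt_one f7o_0_step0)

theorem f7o_0_cardG : Nat.card (grp 7 f7o_G0) = 168 :=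
  card_of_level f7_hn f7o_G0_ok (by decide : 0 < 7) f7o_0_lev f7o_card1 (m := 7) (by decide +kernel)

theorem f7_le22 : grp 7 f7o_E0 ≤ grp 7 f7o_G0 :=
  grp_le_of_memB f7_hn f7_hk f7o_G0_ok f7o_E0_ok (ws := [nat_lit 1, nat_lit 0x7030101, nat_lit 3, nat_lit 5, nat_lit 7, nat_lit 9, nat_lit 11]) (by decide +kernel)

theorem f7_le23 : grp 7 f7o_G0 ≤ grp 7 f7o_E0 :=
  grp_le_of_memB f7_hn f7_hk f7o_E0_ok f7o_G0_ok (ws := [nat_lit 1, nat_lit 5, nat_lit 7, nat_lit 9, nat_lit 11, nat_lit 13]) (by decide +kernel)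

theorem f7o_0_eq : grp 7 f7o_E0 = grp 7 f7o_G0 :=
  le_antisymm f7_le22 f7_le23

theorem f7o_card0 : Nat.card (grp 7 f7o_E0) = 168 :=
  by rw [f7o_0_eq]; exact f7o_0_cardG

theorem f7o_stab0 : grp 7 f7o_E0 ⊓ MulAction.stabilizer (Equiv.Perm (Fin 7)) (⟨0, by decide⟩ : Fin 7) = grp 7 f7o_E1 :=
  by rw [f7o_0_eq]; exact f7o_0_lev

theorem f7o_leO0 : grp 7 f7o_E0 ≤ grp 7 f7_O :=
  f7o_0_eq.le.trans (grp_cons_le ((le_refl (grp 7 f7_O)) (f7_le4 (toPerm_mem_grp (E := f7_V3) (by simp [f7_V3])))) f7o_leO1)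

theorem f7_le24 : grp 7 f7_O ≤ grp 7 f7o_E0 :=
  grp_le_of_memB f7_hn f7_hk f7o_E0_ok f7_O_ok (ws := [nat_lit 1, nat_lit 3]) (by decide +kernel)

theorem f7o_eq : grp 7 f7_O = grp 7 f7o_E0 :=
  le_antisymm f7_le24 f7o_leO0

theorem f7o_card : Nat.card (grp 7 f7_O) = 168 :=
  by rw [f7o_eq]; exact f7o_card0

noncomputable def f7o_ch : Ch := (Ch.cons (nat_lit 0) [nat_lit 1, nat_lit 3] (Ch.cons (nat_lit 5) [nat_lit 5, nat_lit 7] (Ch.cons (nat_lit 6) [nat_lit 9, nat_lit 11, nat_lit 13] Ch.nil)))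

theorem f7o_exact : Ch.Exact 7 f7o_E0 f7o_ch (grp 7 f7o_E0) :=
  Ch.exact (k := 3) (L := (lab 7 3)) f7_hn f7o_E0_ok (by decide +kernel) (wgrp_le_grp _ _ _) f7o_card0.le

/-- the element -/
noncomputable abbrev f7x : Co0 := permEl (toM (nthN m24reps 11))

/-- its matrix -/
def f7X : List (List ℤ) :=
  [[0, 0, 0, 0, 0, 0, 0, 0, 0, 0, 0, 0, 0, 8, 0, 0, 0, 0, 0, 0, 0, 0, 0, 0],
   [0, 0, 0, 0, 0, 0, 0, 0, 0, 0, 0, 0, 0, 0, 0, 0, 0, 0, 0, 0, 0, 8, 0, 0],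
   [0, 0, 0, 0, 0, 0, 0, 0, 8, 0, 0, 0, 0, 0, 0, 0, 0, 0, 0, 0, 0, 0, 0, 0],
   [0, 0, 0, 0, 0, 0, 0, 0, 0, 0, 0, 0, 0, 0, 0, 0, 0, 0, 0, 0, 0, 0, 0, 8],
   [0, 0, 0, 0, 8, 0, 0, 0, 0, 0, 0, 0, 0, 0, 0, 0, 0, 0, 0, 0, 0, 0, 0, 0],
   [0, 0, 0, 0, 0, 0, 0, 0, 0, 0, 0, 0, 0, 0, 0, 0, 0, 0, 0, 0, 0, 0, 8, 0],
   [0, 0, 0, 0, 0, 0, 0, 0, 0, 0, 0, 0, 8, 0, 0, 0, 0, 0, 0, 0, 0, 0, 0, 0],
   [0, 0, 0, 0, 0, 8, 0, 0, 0, 0, 0, 0, 0, 0, 0, 0, 0, 0, 0, 0, 0, 0, 0, 0],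
   [0, 8, 0, 0, 0, 0, 0, 0, 0, 0, 0, 0, 0, 0, 0, 0, 0, 0, 0, 0, 0, 0, 0, 0],
   [0, 0, 0, 0, 0, 0, 0, 0, 0, 0, 0, 0, 0, 0, 0, 0, 0, 0, 0, 0, 8, 0, 0, 0],
   [0, 0, 0, 0, 0, 0, 0, 0, 0, 0, 0, 0, 0, 0, 0, 0, 8, 0, 0, 0, 0, 0, 0, 0],
   [0, 0, 0, 0, 0, 0, 0, 0, 0, 0, 0, 8, 0, 0, 0, 0, 0, 0, 0, 0, 0, 0, 0, 0],
   [0, 0, 0, 0, 0, 0, 0, 0, 0, 0, 8, 0, 0, 0, 0, 0, 0, 0, 0, 0, 0, 0, 0, 0],
   [0, 0, 0, 0, 0, 0, 8, 0, 0, 0, 0, 0, 0, 0, 0, 0, 0, 0, 0, 0, 0, 0, 0, 0],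
   [8, 0, 0, 0, 0, 0, 0, 0, 0, 0, 0, 0, 0, 0, 0, 0, 0, 0, 0, 0, 0, 0, 0, 0],
   [0, 0, 0, 0, 0, 0, 0, 0, 0, 0, 0, 0, 0, 0, 0, 8, 0, 0, 0, 0, 0, 0, 0, 0],
   [0, 0, 0, 0, 0, 0, 0, 0, 0, 0, 0, 0, 0, 0, 8, 0, 0, 0, 0, 0, 0, 0, 0, 0],
   [0, 0, 0, 0, 0, 0, 0, 8, 0, 0, 0, 0, 0, 0, 0, 0, 0, 0, 0, 0, 0, 0, 0, 0],
   [0, 0, 0, 0, 0, 0, 0, 0, 0, 0, 0, 0, 0, 0, 0, 0, 0, 8, 0, 0, 0, 0, 0, 0],
   [0, 0, 8, 0, 0, 0, 0, 0, 0, 0, 0, 0, 0, 0, 0, 0, 0, 0, 0, 0, 0, 0, 0, 0],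
   [0, 0, 0, 0, 0, 0, 0, 0, 0, 0, 0, 0, 0, 0, 0, 0, 0, 0, 0, 8, 0, 0, 0, 0],
   [0, 0, 0, 0, 0, 0, 0, 0, 0, 8, 0, 0, 0, 0, 0, 0, 0, 0, 0, 0, 0, 0, 0, 0],
   [0, 0, 0, 8, 0, 0, 0, 0, 0, 0, 0, 0, 0, 0, 0, 0, 0, 0, 0, 0, 0, 0, 0, 0],
   [0, 0, 0, 0, 0, 0, 0, 0, 0, 0, 0, 0, 0, 0, 0, 0, 0, 0, 8, 0, 0, 0, 0, 0]]

/-- its action on the classes -/
def f7TX : ℕ := 0x800000ea3000ff40008c000050b0008600001ad000044000848000c3500068c00035d000383ac87bc9fe2ffd72d87246ca2b5ae39df2bf9d3e1f64d43756ccf525488d5bb2840001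

/-- a basis of the fixed classes -/
def f7FT : ℕ := 0x9fab064bfbae2c40a9acc0a8041b06800000

/-- the projection onto the fixed classes -/
def f7PT : ℕ := 0x405d65810620638e2912012c265e4026c4c

/-- short representatives -/
noncomputable def f7reps : List (List ℤ) :=
  unpL [nat_lit 0x421084210842108421084210842108, nat_lit 0x821084210842108421084210842108, nat_lit 0x421465210842108320ca43188428c8, nat_lit 0x421465210842108320ca43088428c8, nat_lit 0x31908419483210842188521485210c, nat_lit 0x319084194832108421885214852104, nat_lit 0x4210842106418ca4190c4290a6210a, nat_lit 0x4210842106418ca4190c4290a2210a, nat_lit 0x39d2949ce95a5296a5293a4e53a529, nat_lit 0x4a4e73a52729ce759ce749d2b49ce7, nat_lit 0x4a5294a52749ce769d2949d274a527, nat_lit 0x4a5294a52749ce729d2949d274a527, nat_lit 0x4a5294a5292a5294a5294a5294a529,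 nat_lit 0x4a5294a5296a5294a5294a5294a529, nat_lit 0x4a4e73a5294a5293a4e74a52d49ce9, nat_lit 0x4a4e73a5294a5293a4e74a52549ce9, nat_lit 0x4210842106418c6419084190e42106, nat_lit 0x421084210a4294a429084290a4210a, nat_lit 0x31908418c85210842108320cc32108, nat_lit 0x529084294832108421085214c52108, nat_lit 0x420c63210842108520c64210c418c8, nat_lit 0x4214a52108421083214a4210c42948, nat_lit 0x421084210862108221084210842108, nat_lit 0x421084210862108621084210842108, nat_lit 0x39d2949ce759ce769d2939ceb3a527, nat_lit 0x4a4e73a5292a5295a4e74a52549ce9, nat_lit 0x4a5294a5294a5292a5294a5294a529, nat_lit 0x4a5294a5294a5296a5294a5294a529, nat_lit 0x4a5294a52769ce749d2949d274a527, nat_lit 0x4a5294a52729ce749d2949d274a527, nat_lit 0x39d2949ce93a5294a5293a4ed3a529, nat_lit 0x4a4e73a52749ce739ce749d2b49ce7,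 nat_lit 0x420c63210842108320c642108438c8, nat_lit 0x4214a52108421085214a4210842948, nat_lit 0x421084210862108421084210442108, nat_lit 0x421084210862108421084210c42108, nat_lit 0x4210842106418c6619084190a42106, nat_lit 0x421084210a4294a62908429064210a, nat_lit 0x31908418c85210862108320c832108, nat_lit 0x529084294832108621085214852108, nat_lit 0x39ce739ce95a5295a4e73a4ed39ce9, nat_lit 0x39ce739ce95a5295a4e73a4e539ce9, nat_lit 0x39d2949ce93a5296a5293a4e93a529, nat_lit 0x4a4e73a52749ce759ce749d2749ce7, nat_lit 0x4a4e73a5296a5293a4e74a52949ce9, nat_lit 0x4a4e73a5292a5293a4e74a52949ce9, nat_lit 0x4a5294a5294a5294a5294a5254a529, nat_lit 0x4a5294a5294a5294a5294a52d4a529, nat_lit 0x31908418c83210842108321c832108, nat_lit 0x529084294852108421085214852108, nat_lit 0x4210842106618c6419084190a42106,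 nat_lit 0x421084210a6294a42908429064210a, nat_lit 0x421084210842108621084210442108, nat_lit 0x421084210842108621084210c42108, nat_lit 0x420c63210862108520c642108418c8, nat_lit 0x4214a52108621083214a4210842948, nat_lit 0x39ce739ce759ce759ce739ce339ce7, nat_lit 0x39ce739ce759ce759ce739ceb39ce7, nat_lit 0x4a4e73a5294a5295a4e74a52949ce9, nat_lit 0x39d2949ce739ce769d2939ce73a527, nat_lit 0x4a4e73a52729ce739ce749d2749ce7, nat_lit 0x4a4e73a52769ce739ce749d2749ce7, nat_lit 0x4a5294a52749ce749d2949d2b4a527, nat_lit 0x39ce739ce93a5293a4e73a4ed39ce9]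

/-- the invariant family -/
def f7Ms : List ℕ := [0x2, 0x4, 0x8, 0x10, 0x40, 0x80, 0x20]

theorem f7X_ok : IsMat f7x f7X := isMat_perm (inM_m24reps (by norm_num)) (by decide +kernel)

theorem f7_fs : FS f7x 6 f7FT f7PT f7reps :=
  FS.of_fsB f7X_ok (k := 3) (TX := f7TX) (by decide +kernel) (by decide +kernel)

/-- a generator of the centralizer -/
def f7R1 : List (List ℤ) :=
  [[0, 0, 0, -2, 0, 2, 0, 2, 0, 0, 0, 0, 0, -4, 0, -2, 0, -2, -2, 0, -4, 0, 2, 2],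
   [0, 0, 0, -2, 0, -2, 0, 2, 0, 0, 0, 0, 0, 0, 4, -2, 0, 2, 2, 0, 0, 4, 2, -2],
   [0, 0, 0, 2, 0, -2, 0, 2, 4, 0, 4, 0, 0, 0, 0, -2, 0, -2, 2, 0, 0, 0, -2, 2],
   [-2, -2, -2, 0, 2, 0, -2, 0, -2, 2, 2, -2, 2, 2, -2, 0, 2, 0, 0, 2, -2, 2, 0, 0],
   [0, 0, 0, 2, -4, 2, 0, 2, 0, 0, 0, -4, 0, 0, 0, 2, 0, 2, 2, 0, 0, 0, 2, 2],
   [-2, 2, -2, 0, 2, 0, 2, 0, 2, 2, -2, -2, 2, 2, 2, 0, -2, 0, 0, -2, -2, -2, 0, 0],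
   [0, 0, -4, 2, 0, -2, 0, -2, 0, 0, 0, 0, -4, 0, 0, -2, 0, 2, -2, 0, 0, 0, 2, 2],
   [2, -2, 2, 0, 2, 0, 2, 0, 2, -2, -2, -2, -2, 2, -2, 0, 2, 0, 0, -2, -2, 2, 0, 0],
   [0, 4, 0, -2, 0, 2, 0, -2, 0, 0, 0, 0, 0, 0, 0, -2, 4, 2, 2, 0, 0, 0, -2, 2],
   [0, 0, 0, -2, 0, 2, 0, 2, 0, 0, 0, 0, 0, 4, 0, -2, 0, -2, -2, 0, 4, 0, 2, 2],
   [0, -4, 0, -2, 0, 2, 0, -2, 0, 0, 0, 0, 0, 0, 0, -2, -4, 2, 2, 0, 0, 0, -2, 2],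
   [0, 0, 0, 2, 4, 2, 0, 2, 0, 0, 0, 4, 0, 0, 0, 2, 0, 2, 2, 0, 0, 0, 2, 2],
   [0, 0, 0, 2, 0, -2, 0, 2, -4, 0, -4, 0, 0, 0, 0, -2, 0, -2, 2, 0, 0, 0, -2, 2],
   [0, 0, 0, 2, 0, 2, -4, -2, 0, 0, 0, 0, 0, 0, 0, -2, 0, -2, 2, -4, 0, 0, 2, -2],
   [-4, 0, 0, 2, 0, 2, 0, 2, 0, -4, 0, 0, 0, 0, 0, -2, 0, 2, -2, 0, 0, 0, -2, -2],
   [-2, 2, 2, 0, 2, 0, -2, 0, 2, 2, -2, -2, -2, -2, -2, 0, -2, 0, 0, 2, 2, 2, 0, 0],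
   [0, 0, 0, -2, 0, -2, 0, 2, 0, 0, 0, 0, 0, 0, -4, -2, 0, 2, 2, 0, 0, -4, 2, -2],
   [2, 2, 2, 0, 2, 0, -2, 0, -2, -2, 2, -2, -2, 2, 2, 0, -2, 0, 0, 2, -2, -2, 0, 0],
   [2, -2, -2, 0, 2, 0, -2, 0, 2, -2, -2, -2, 2, -2, 2, 0, 2, 0, 0, 2, 2, -2, 0, 0],
   [0, 0, 4, 2, 0, -2, 0, -2, 0, 0, 0, 0, 4, 0, 0, -2, 0, 2, -2, 0, 0, 0, 2, 2],
   [0, 0, 0, 2, 0, 2, 4, -2, 0, 0, 0, 0, 0, 0, 0, -2, 0, -2, 2, 4, 0, 0, 2, -2],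
   [4, 0, 0, 2, 0, 2, 0, 2, 0, 4, 0, 0, 0, 0, 0, -2, 0, 2, -2, 0, 0, 0, -2, -2],
   [2, 2, -2, 0, 2, 0, 2, 0, -2, -2, 2, -2, 2, -2, -2, 0, -2, 0, 0, -2, 2, 2, 0, 0],
   [-2, -2, 2, 0, 2, 0, 2, 0, -2, 2, 2, -2, -2, -2, 2, 0, 2, 0, 0, -2, 2, -2, 0, 0]]

theorem f7_act1 : ∃ g ∈ centralizer ({f7x} : Set Co0), Acts (objs f7x 6 f7PT f7Ms 7) g (f7_g2.toPerm 7) :=
  f7_fs.acts f7X_ok (R := f7R1) (by decide +kernel) (GT := 0x238a051c4) f7_g2_ok (by decide +kernel)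

/-- a generator of the centralizer -/
def f7R0 : List (List ℤ) :=
  [[2, 0, 0, 0, -2, 0, 2, 0, 0, -4, 2, 0, -2, 2, -2, 0, -2, 4, 0, 0, 0, 0, 0, 0],
   [0, -2, -2, -2, 0, 2, 0, -2, -2, 2, 0, -2, 0, 0, 0, -2, 0, 2, 2, 2, -2, 2, -2, -2],
   [0, 2, -2, 2, 0, -2, 0, -2, 2, 2, 0, -2, 0, 0, 0, -2, 0, 2, -2, -2, -2, -2, -2, 2],
   [-2, 0, 0, -4, -2, 0, -2, 0, 4, 0, 2, 0, -2, 2, 2, 0, 2, 0, 0, 0, 0, 0, 0, 0],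
   [2, 0, 0, 0, 2, 0, 2, 0, 0, 0, 2, -4, 2, 2, 2, 4, 2, 0, 0, 0, 0, 0, 0, 0],
   [-2, 0, 0, 0, -2, -4, 2, 0, 0, 0, 2, 0, 2, -2, 2, 0, -2, 0, 0, 4, 0, 0, 0, 0],
   [-2, 0, 0, 0, -2, 4, 2, 0, 0, 0, 2, 0, 2, -2, 2, 0, -2, 0, 0, -4, 0, 0, 0, 0],
   [-2, 0, 0, 0, -2, 0, 2, -4, 0, 0, -2, 0, 2, 2, -2, 0, 2, 0, 0, 0, 4, 0, 0, 0],
   [0, 2, -2, -2, 0, -2, 0, 2, -2, -2, 0, -2, 0, 0, 0, -2, 0, -2, 2, -2, 2, 2, -2, 2],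
   [0, -2, -2, 2, 0, 2, 0, 2, 2, -2, 0, -2, 0, 0, 0, -2, 0, -2, -2, 2, 2, -2, -2, -2],
   [-2, 0, 0, 4, -2, 0, -2, 0, -4, 0, 2, 0, -2, 2, 2, 0, 2, 0, 0, 0, 0, 0, 0, 0],
   [0, 2, 2, 2, 0, 2, 0, 2, 2, 2, 0, -2, 0, 0, 0, -2, 0, 2, 2, 2, 2, 2, 2, 2],
   [2, 0, -4, 0, -2, 0, -2, 0, 0, 0, 2, 0, 2, -2, -2, 0, 2, 0, 0, 0, 0, 0, 4, 0],
   [-2, 0, 0, 0, -2, 0, 2, 4, 0, 0, -2, 0, 2, 2, -2, 0, 2, 0, 0, 0, -4, 0, 0, 0],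
   [2, 0, 0, 0, -2, 0, -2, 0, 0, 0, -2, 0, 2, 2, 2, 0, -2, 0, 4, 0, 0, -4, 0, 0],
   [2, 0, 0, 0, 2, 0, 2, 0, 0, 0, 2, 4, 2, 2, 2, -4, 2, 0, 0, 0, 0, 0, 0, 0],
   [2, -4, 0, 0, -2, 0, 2, 0, 0, 0, -2, 0, -2, -2, 2, 0, 2, 0, 0, 0, 0, 0, 0, 4],
   [2, 0, 0, 0, -2, 0, 2, 0, 0, 4, 2, 0, -2, 2, -2, 0, -2, -4, 0, 0, 0, 0, 0, 0],
   [2, 0, 0, 0, -2, 0, -2, 0, 0, 0, -2, 0, 2, 2, 2, 0, -2, 0, -4, 0, 0, 4, 0, 0],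
   [0, -2, 2, 2, 0, -2, 0, -2, 2, -2, 0, -2, 0, 0, 0, -2, 0, -2, 2, -2, -2, 2, 2, -2],
   [0, 2, 2, -2, 0, 2, 0, -2, -2, -2, 0, -2, 0, 0, 0, -2, 0, -2, -2, 2, -2, -2, 2, 2],
   [0, -2, 2, -2, 0, -2, 0, 2, -2, 2, 0, -2, 0, 0, 0, -2, 0, 2, -2, -2, 2, -2, 2, -2],
   [2, 0, 4, 0, -2, 0, -2, 0, 0, 0, 2, 0, 2, -2, -2, 0, 2, 0, 0, 0, 0, 0, -4, 0],
   [2, 4, 0, 0, -2, 0, 2, 0, 0, 0, -2, 0, -2, -2, 2, 0, 2, 0, 0, 0, 0, 0, 0, -4]]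

theorem f7_act0 : ∃ g ∈ centralizer ({f7x} : Set Co0), Acts (objs f7x 6 f7PT f7Ms 7) g (f7_g1.toPerm 7) :=
  f7_fs.acts f7X_ok (R := f7R0) (by decide +kernel) (GT := 0x408c05187) f7_g1_ok (by decide +kernel)

theorem f7_acts : ∀ o ∈ f7_O, ∃ g ∈ centralizer ({f7x} : Set Co0), Acts (objs f7x 6 f7PT f7Ms 7) g (o.toPerm 7) :=
  (List.forall_mem_cons.2 ⟨f7_act0, (List.forall_mem_cons.2 ⟨f7_act1, (fun _ h => absurd h List.not_mem_nil)⟩)⟩)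

theorem f7_inj : Function.Injective (objs f7x 6 f7PT f7Ms 7) := f7_fs.objs_injective (by decide +kernel)

theorem f7_trans : ∀ i j, ∃ g ∈ grp 7 f7_O, g i = j :=
  trans_of_words (by norm_num) f7_O_ok (ws := [0, 260, 2, 3, 259, 1, 4]) (by decide +kernel)

theorem f7_ord : orderOf f7x = 7 := (orderOf_permEl _).trans (m24_rep_spec (by norm_num)).1

theorem f7_n4 : cnt (n64 f7reps) (2 ^ 6) = 14 := by decide +kernel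

/-- the cube of the element -/
def f7X3 : List (List ℤ) :=
  [[0, 0, 0, 0, 0, 0, 0, 0, 0, 0, 0, 0, 8, 0, 0, 0, 0, 0, 0, 0, 0, 0, 0, 0],
   [0, 0, 0, 0, 0, 0, 0, 0, 0, 0, 0, 0, 0, 0, 0, 0, 0, 0, 0, 0, 8, 0, 0, 0],
   [0, 0, 0, 0, 0, 0, 0, 0, 0, 0, 0, 0, 0, 0, 0, 0, 0, 0, 0, 0, 0, 8, 0, 0],
   [0, 0, 0, 0, 0, 0, 0, 0, 0, 0, 0, 0, 0, 0, 0, 0, 0, 8, 0, 0, 0, 0, 0, 0],
   [0, 0, 0, 0, 8, 0, 0, 0, 0, 0, 0, 0, 0, 0, 0, 0, 0, 0, 0, 0, 0, 0, 0, 0],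
   [0, 0, 0, 0, 0, 0, 0, 0, 0, 0, 0, 0, 0, 0, 0, 0, 0, 0, 0, 0, 0, 0, 0, 8],
   [0, 0, 0, 0, 0, 0, 0, 0, 0, 0, 0, 0, 0, 0, 0, 0, 8, 0, 0, 0, 0, 0, 0, 0],
   [0, 0, 0, 8, 0, 0, 0, 0, 0, 0, 0, 0, 0, 0, 0, 0, 0, 0, 0, 0, 0, 0, 0, 0],
   [0, 0, 0, 0, 0, 0, 0, 0, 0, 8, 0, 0, 0, 0, 0, 0, 0, 0, 0, 0, 0, 0, 0, 0],
   [0, 0, 8, 0, 0, 0, 0, 0, 0, 0, 0, 0, 0, 0, 0, 0, 0, 0, 0, 0, 0, 0, 0, 0],
   [8, 0, 0, 0, 0, 0, 0, 0, 0, 0, 0, 0, 0, 0, 0, 0, 0, 0, 0, 0, 0, 0, 0, 0],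
   [0, 0, 0, 0, 0, 0, 0, 0, 0, 0, 0, 8, 0, 0, 0, 0, 0, 0, 0, 0, 0, 0, 0, 0],
   [0, 0, 0, 0, 0, 0, 0, 0, 0, 0, 0, 0, 0, 0, 8, 0, 0, 0, 0, 0, 0, 0, 0, 0],
   [0, 0, 0, 0, 0, 0, 0, 0, 0, 0, 8, 0, 0, 0, 0, 0, 0, 0, 0, 0, 0, 0, 0, 0],
   [0, 0, 0, 0, 0, 0, 8, 0, 0, 0, 0, 0, 0, 0, 0, 0, 0, 0, 0, 0, 0, 0, 0, 0],
   [0, 0, 0, 0, 0, 0, 0, 0, 0, 0, 0, 0, 0, 0, 0, 8, 0, 0, 0, 0, 0, 0, 0, 0],
   [0, 0, 0, 0, 0, 0, 0, 0, 0, 0, 0, 0, 0, 8, 0, 0, 0, 0, 0, 0, 0, 0, 0, 0],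
   [0, 0, 0, 0, 0, 0, 0, 0, 0, 0, 0, 0, 0, 0, 0, 0, 0, 0, 0, 0, 0, 0, 8, 0],
   [0, 0, 0, 0, 0, 8, 0, 0, 0, 0, 0, 0, 0, 0, 0, 0, 0, 0, 0, 0, 0, 0, 0, 0],
   [0, 8, 0, 0, 0, 0, 0, 0, 0, 0, 0, 0, 0, 0, 0, 0, 0, 0, 0, 0, 0, 0, 0, 0],
   [0, 0, 0, 0, 0, 0, 0, 0, 8, 0, 0, 0, 0, 0, 0, 0, 0, 0, 0, 0, 0, 0, 0, 0],
   [0, 0, 0, 0, 0, 0, 0, 0, 0, 0, 0, 0, 0, 0, 0, 0, 0, 0, 0, 8, 0, 0, 0, 0],
   [0, 0, 0, 0, 0, 0, 0, 0, 0, 0, 0, 0, 0, 0, 0, 0, 0, 0, 8, 0, 0, 0, 0, 0],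
   [0, 0, 0, 0, 0, 0, 0, 8, 0, 0, 0, 0, 0, 0, 0, 0, 0, 0, 0, 0, 0, 0, 0, 0]]

/-- an element conjugating the element to its cube -/
def f7N : List (List ℤ) :=
  [[-3, 1, 1, -1, 1, 3, 1, -1, 1, 1, 1, 1, 1, -3, 1, -1, -3, -1, -1, -3, 1, 1, -1, -1],
   [1, 1, 1, -1, 1, -1, 1, -1, 1, 1, 1, 1, -3, 1, 1, -1, 1, -1, -1, -3, -3, -3, 3, -1],
   [1, 1, -3, 3, 1, -1, 1, -1, 1, -3, -3, 1, 1, 1, 1, -1, 1, -1, -1, -3, 1, 1, -1, -1],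
   [3, -1, -1, 1, -1, 1, -1, 1, -1, 3, -1, -1, -1, -1, -1, 1, -1, 1, -3, -1, -1, -1, -3, -3],
   [1, 1, 1, -1, 5, -1, 1, -1, 1, 1, 1, -3, 1, 1, 1, 3, 1, -1, -1, 1, 1, 1, -1, -1],
   [-1, -1, -1, -3, -1, 1, -1, 1, -1, -1, -1, -1, -1, 3, -1, 1, -1, -3, -3, -1, 3, -1, 1, 1],
   [-3, 1, 1, -1, 1, -1, 1, 3, 1, 1, -3, 1, 1, 1, -3, -1, 1, -1, -1, 1, -3, 1, -1, -1],
   [-1, 3, -1, -3, -1, 1, -1, -3, -1, -1, -1, -1, -1, -1, -1, 1, 3, 1, 1, -1, -1, -1, -3, 1],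
   [-3, -3, -3, -1, 1, -1, 1, -1, 1, 1, 1, 1, 1, 1, 1, -1, 1, 3, -1, 1, 1, -3, -1, -1],
   [1, -3, 1, -1, 1, 3, -3, -1, 1, -3, 1, 1, 1, 1, 1, -1, 1, -1, -1, 1, -3, 1, -1, -1],
   [1, 1, 1, -1, 1, -1, 1, -1, 1, -3, 1, 1, -3, 1, -3, -1, -3, 3, -1, 1, 1, 1, -1, -1],
   [1, 1, 1, -1, -3, -1, 1, -1, 1, 1, 1, 5, 1, 1, 1, 3, 1, -1, -1, 1, 1, 1, -1, -1],
   [-3, 1, 1, 3, 1, -1, -3, -1, -3, 1, 1, 1, -3, 1, 1, -1, 1, -1, -1, 1, 1, 1, -1, -1],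
   [1, -3, 1, -1, 1, -1, 1, -1, 1, 1, -3, 1, -3, -3, 1, -1, 1, -1, -1, 1, 1, 1, -1, 3],
   [1, 1, 1, -1, 1, -1, -3, -1, 1, 1, -3, 1, 1, 1, 1, -1, -3, -1, 3, 1, 1, -3, -1, -1],
   [-1, -1, -1, 1, 3, 1, -1, 1, -1, -1, -1, 3, -1, -1, -1, 5, -1, 1, 1, -1, -1, -1, 1, 1],
   [1, 1, -3, -1, 1, -1, -3, -1, 1, 1, 1, 1, 1, -3, -3, -1, 1, -1, -1, 1, 1, 1, 3, -1],
   [-1, -1, -1, 1, -1, 1, 3, -3, -1, -1, -1, -1, -1, -1, -1, 1, -1, -3, 1, 3, -1, -1, 1, -3],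
   [-1, -1, -1, -3, -1, -3, -1, 1, -1, -1, -1, -1, -1, -1, 3, 1, -1, 1, 1, -1, -1, 3, 1, -3],
   [1, 1, 1, -1, 1, -1, 1, 3, -3, -3, 1, 1, 1, -3, 1, -1, 1, -1, -1, 1, 1, -3, -1, -1],
   [1, 1, -3, -1, 1, -1, 1, -1, -3, 1, 1, 1, 1, 1, 1, -1, -3, -1, -1, 1, -3, 1, -1, 3],
   [1, -3, 1, -1, 1, -1, 1, -1, -3, 1, 1, 1, 1, 1, -3, -1, 1, -1, 3, -3, 1, 1, -1, -1],
   [-1, -1, -1, 1, -1, -3, -1, 1, 3, -1, 3, -1, -1, -1, -1, 1, -1, -3, 1, -1, -1, -1, -3, 1],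
   [-1, -1, 3, 1, -1, -3, -1, -3, -1, -1, -1, -1, 3, -1, -1, 1, -1, 1, -3, -1, -1, -1, 1, 1]]

theorem f7X3_ok : IsMat (f7x ^ 3) f7X3 := by
  rw [f7x, ← permHom_apply, ← map_pow, ← toM_ppow (inM_m24reps (by norm_num))]
  exact isMat_perm (inM_ppow (inM_m24reps (by norm_num)) 3) (by decide +kernel)

theorem f7N_ok : matB f7N = true := by decide +kernel

theorem f7N_conj : colEl f7N f7N_ok * f7x = f7x ^ 3 * colEl f7N f7N_ok :=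
  mul_eq_of_mulB (isMat_colEl _) f7X_ok f7X3_ok (isMat_colEl _) (by decide +kernel)

theorem f7_not_conj {k : ℕ} (hk : k = 3 ∨ k = 6) {u : Co0} (hu : u ∈ Mono) :
    u * f7x ≠ f7x ^ k * u := by
  intro e
  obtain ⟨τ, c, hc, rfl⟩ := mono_structure hu
  rw [show f7x ^ k = permEl (toM (nthN m24reps 11) ^ k) from (map_pow permHom _ k).symm] at e
  have h1 : IsConj (toM (nthN m24reps 11)) (toM (nthN m24reps 11) ^ k) :=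
    isConj_iff.2 ⟨τ, mul_inv_eq_iff_eq_mul.2 (comm_decomp e).1⟩
  have h2 : IsConj (toM (nthN m24reps 12)) (toM (nthN m24reps 11) ^ k) := by
    have i11 := inM_m24reps (i := 11) (by norm_num)
    have i12 := inM_m24reps (i := 12) (by norm_num)
    rcases hk with rfl | rfl
    · have hh : inM 109461639298929699690379337975575959 = true := by decide +kernel
      refine isConj_iff.2 ⟨toM 109461639298929699690379337975575959, mul_inv_eq_iff_eq_mul.2 ?_⟩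
      rw [← toM_ppow i11, ← toM_pmul hh i12, ← toM_pmul (inM_ppow i11 3) hh]
      exact congrArg toM (by decide +kernel)
    · have hh : inM 590138630584549469852520356980805302 = true := by decide +kernel
      refine isConj_iff.2 ⟨toM 590138630584549469852520356980805302, mul_inv_eq_iff_eq_mul.2 ?_⟩
      rw [← toM_ppow i11, ← toM_pmul hh i12, ← toM_pmul (inM_ppow i11 6) hh]
      exact congrArg toM (by decide +kernel)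
  exact absurd (m24_nc (by norm_num) (by norm_num) (h1.trans h2.symm)) (by norm_num)

theorem f7_obj (y : Fin 7) : objs f7x 6 f7PT f7Ms 7 y = cls (rep f7reps (nthN [1, 2, 3, 4, 6, 7, 5] y)) := by
  have h1 : ∀ y : Fin 7, nthN [1, 2, 3, 4, 6, 7, 5] y < 2 ^ 6 ∧ nthN f7Ms y = 2 ^ nthN [1, 2, 3, 4, 6, 7, 5] y := by
    decide +kernel
  ext w
  simp only [objs, obj, cls, Set.mem_ofPred_eq, (h1 y).2, Nat.testBit_two_pow, decide_eq_true_iff]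
  constructor
  · rintro ⟨e1, e2⟩
    rw [e2]; exact f7_fs.cong_rep e1
  · intro c
    exact ⟨(f7_fs.fix_rep (h1 y).1).of_cong c, by rw [← cong_iff_kap.1 c, f7_fs.code_rep (h1 y).1]⟩

theorem f7_rep_one : rep f7reps 1 = e8 none :=
  Subtype.ext ((lamD_val (f7_fs.mem 1 (by norm_num))).trans (by decide +kernel))

theorem f7_reach {a : ℕ} (h1 : 0 < a) (h2 : a < 8) :
    ∃ h ∈ centralizer ({f7x} : Set Co0), cong (h • e8 none) (rep f7reps a) := by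
  obtain ⟨y, rfl⟩ : ∃ y : Fin 7, nthN [1, 2, 3, 4, 6, 7, 5] y = a := by
    interval_cases a <;> decide +kernel
  obtain ⟨σ, hσ, e⟩ := f7_trans 0 y
  have key : grp 7 f7_O ≤ (⟨⟨⟨{σ | ∃ g ∈ centralizer ({f7x} : Set Co0),
      Acts (objs f7x 6 f7PT f7Ms 7) g σ}, fun ⟨_, a, b⟩ ⟨_, c, d⟩ => ⟨_, mul_mem a c, b.mul d⟩⟩,
      ⟨1, one_mem _, Acts.one _⟩⟩, fun ⟨_, a, b⟩ => ⟨_, inv_mem a, b.inv⟩⟩ : Subgroup _) :=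
    grp_le_iff.2 f7_acts
  obtain ⟨g, hg, a⟩ := key hσ
  have := a 0
  rw [e, f7_obj, f7_obj, smul_cls, cls_eq_iff] at this
  exact ⟨g, hg, f7_rep_one ▸ this⟩

theorem f7_orb : (MulAction.orbit (centralizer ({f7x} : Set Co0)) (cls (e8 none))).ncard ≤ 7 := by
  have hc : cnt (fun a => decide (0 < a ∧ a < 8)) (2 ^ 6) = 7 := by decide +kernel
  rw [← hc]
  refine f7_fs.ncard_orbit_le (permEl_mem_mono _) _ fun g hg a ha h64 c => ?_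
  have h1 : allB (fun a => Bool.not (n64 f7reps a) || decide (0 < a ∧ a < 8) ||
      decide (0 < xorC (fld 6 0xc7070a08) a 6 ∧ xorC (fld 6 0xc7070a08) a 6 < 8)) (2 ^ 6) = true := by
    decide +kernel
  have h2 := of_allB h1 ha
  rw [show n64 f7reps a = true from decide_eq_true h64, Bool.not_true, Bool.false_or,
    Bool.or_eq_true] at h2
  refine h2.resolve_right fun h3 => ?_
  rw [decide_eq_true_iff] at h3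
  obtain ⟨h, hh, c'⟩ := f7_reach h3.1 h3.2
  have h4 := f7_fs.kap_smul (isMat_colEl f7N_ok) (GT := 0xc7070a08) (by decide +kernel)
    (f7_fs.kap_rep a ha)
  rw [← f7_fs.kap_rep _ (xorC_fld_lt _ _ _ _), ← cong_iff_kap] at h4
  have h5 : h⁻¹ * colEl f7N f7N_ok * g ∈ Mono := by
    apply mem_mono_of_cong (a := none)
    rw [← cong_smul_iff h, mul_smul, mul_smul, smul_inv_smul]
    exact c'.trans (h4.symm.trans (c.smul _))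
  apply f7_not_conj (Or.inl rfl) h5
  have e1 := mem_centralizer_singleton_iff.1 hg
  have e2 : Commute h⁻¹ f7x := mem_centralizer_singleton_iff.1 (inv_mem hh)
  rw [mul_assoc, e1, ← mul_assoc, mul_assoc h⁻¹, f7N_conj, ← mul_assoc, (e2.pow_right 3).eq]
  simp only [mul_assoc]

theorem f7_cent : CentData f7x (grp 7 f7_O) :=
  centData (by decide) f7_ord f7_inj f7_acts ((card_cent_le (inM_m24reps (by norm_num)) f7_orb (nw := 8) (by decide +kernel) (m24_rep_spec (by norm_num)).2).trans (by rw [f7o_card]; decide)) (by decide) f7_trans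

/-- the non-zero vectors -/
def f7pts : Fin 7 → Fin 3 → ZMod 2 :=
  ![![1, 0, 0], ![0, 1, 0], ![1, 1, 0], ![0, 0, 1], ![0, 1, 1], ![1, 1, 1], ![1, 0, 1]]

theorem f7_equiv : Nonempty (Matrix.SpecialLinearGroup (Fin 3) (ZMod 2) ≃* grp 7 f7_O) := by
  obtain ⟨e, -⟩ := exists_equiv_of_card_le (Γ := Matrix.SpecialLinearGroup (Fin 3) (ZMod 2))
    (pts := f7pts) (by decide +kernel) (K := ⊤) (E := f7_O)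
    (List.forall_mem_cons.2 ⟨⟨⟨!![1, 0, 1; 1, 1, 0; 1, 1, 1], by decide +kernel⟩, trivial,
      acts_of_table f7_g1_ok ![5, 4, 0, 6, 2, 3, 1] (by decide +kernel) (by decide +kernel)⟩,
      List.forall_mem_cons.2 ⟨⟨⟨!![0, 1, 1; 0, 1, 0; 1, 1, 1], by decide +kernel⟩, trivial,
      acts_of_table f7_g2_ok ![3, 5, 2, 6, 1, 4, 0] (by decide +kernel) (by decide +kernel)⟩,
      fun _ h => absurd h List.not_mem_nil⟩⟩) (by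
      have := S0242.result (F := ZMod 2) (q := 2) rfl 3 (by norm_num)
      rw [f7o_card, card_top]
      simp only [Fin.prod_univ_three] at this
      norm_num at this
      exact (Nat.card_eq_fintype_card.trans this).le)
  exact ⟨topEquiv.symm.trans e⟩

theorem f7_centData : CentData f7x (Matrix.SpecialLinearGroup (Fin 3) (ZMod 2)) :=
  f7_equiv.elim f7_cent.of_equiv

theorem f7_basis : ∀ j < 6, nrm f7reps (2 ^ j) = 64 := by decide +kernel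

/-- a change of frame -/
def f7G : List (List ℤ) :=
  [[-1, -1, -1, -1, 5, 1, -1, -3, -1, -1, -1, -3, -1, 1, -1, -1, -1, -1, -1, -1, 1, -1, 1, 1],
   [1, 1, 1, 1, 3, -1, 1, -5, 1, 1, 1, 3, 1, -1, 1, 1, 1, 1, 1, 1, -1, 1, -1, -1],
   [1, 1, 1, 1, 3, -1, 1, 3, 1, 1, 1, -5, 1, -1, 1, 1, 1, 1, 1, 1, -1, 1, -1, -1],
   [3, -1, 3, -1, 1, 1, -1, 1, 3, -1, -1, 1, -1, 1, -1, -1, -1, -1, -1, 3, 1, -1, -3, 1],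
   [-1, -1, -1, -1, 1, -3, 3, 1, 3, -1, -1, 1, -1, 1, 3, -1, 3, -1, -1, -1, 1, -1, 1, 1],
   [1, 1, 1, -3, -1, -1, 1, -1, 1, 1, 1, -1, -3, 3, -3, 1, 1, 1, 1, -3, -1, 1, -1, -1],
   [1, 1, -3, -3, -1, -1, -3, -1, 1, 1, 1, -1, 1, -1, 1, 1, 1, 1, 1, 1, 3, -3, -1, -1],
   [-1, -1, -1, -1, 1, 1, -1, 1, 3, 3, -1, 1, -1, -3, -1, 3, -1, -1, -1, -1, 1, 3, 1, 1],
   [-1, -1, -1, -1, 1, 1, 3, 1, -1, 3, 3, 1, 3, 1, -1, -1, -1, -1, -1, -1, 1, -1, -3, 1],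
   [1, -3, -3, 1, -1, -1, 1, -1, 1, -3, 1, -1, 1, -1, -3, 1, 1, 1, 1, 1, -1, 1, -1, 3],
   [1, -3, 1, 1, -1, -1, 1, -1, -3, 1, 1, -1, -3, -1, 1, 1, 1, -3, 1, 1, 3, 1, -1, -1],
   [-1, -1, 3, -1, 1, 1, -1, 1, -1, -1, 3, 1, -1, -3, -1, -1, 3, 3, -1, -1, 1, -1, 1, 1],
   [1, 1, 1, -3, -1, -1, 1, -1, -3, 1, -3, -1, 1, -1, 1, 1, 1, 1, -3, 1, -1, 1, -1, 3],
   [-3, 1, 1, -3, -1, 3, 1, -1, 1, -3, 1, -1, 1, -1, 1, 1, 1, -3, 1, 1, -1, 1, -1, -1],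
   [1, 1, 1, 1, -1, -1, -3, -1, 1, 1, 1, -1, 1, -1, 1, -3, 1, -3, 1, -3, -1, 1, -1, 3],
   [-1, 3, -1, 3, 1, 1, -1, 1, -1, -1, -1, 1, -1, 1, -1, 3, 3, -1, -1, -1, 1, -1, -3, 1],
   [1, 1, 1, 1, -1, 3, 1, -1, 1, 1, 1, -1, 1, 3, 1, 1, 1, 1, 1, 1, 3, 1, 3, 3],
   [-1, -1, -1, -1, 1, 1, -1, 1, -1, 3, -1, 1, -1, 1, -1, -1, 3, -1, 3, 3, -3, -1, 1, 1],
   [-3, 1, 1, 1, -1, -1, 1, -1, 1, 1, -3, -1, 1, -1, -3, -3, 1, 1, 1, 1, 3, 1, -1, -1],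
   [1, 1, 1, 1, -1, -1, 1, -1, 1, 1, 1, -1, 1, -1, -3, 1, 1, -3, -3, 1, -1, -3, 3, -1],
   [3, 3, -1, -1, 1, 1, 3, 1, -1, -1, -1, 1, -1, -3, -1, -1, -1, -1, 3, -1, 1, -1, 1, 1],
   [3, -1, -1, -1, 1, 1, -1, 1, -1, -1, -1, 1, 3, 1, -1, -1, 3, -1, -1, -1, 1, 3, 1, -3],
   [-1, -1, 3, -1, 1, -3, -1, 1, -1, -1, -1, 1, 3, 1, -1, 3, -1, -1, 3, -1, 1, -1, 1, 1],
   [-1, 3, -1, -1, 1, -3, -1, 1, -1, -1, 3, 1, -1, 1, -1, -1, -1, -1, -1, 3, 1, 3, 1, 1]]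

/-- the element in the new frame -/
def f7Y : List (List ℤ) :=
  [[5, 1, 3, -1, 1, -1, -1, -1, -1, 1, 1, -1, -1, -1, -1, -1, -3, 1, 1, 1, 1, -1, 1, 1],
   [-1, 3, 1, 1, 3, 1, 1, 1, 1, -1, -1, 1, 1, -3, 1, 1, -1, -1, -1, -1, -1, 1, 3, 3],
   [3, -1, 5, 1, -1, 1, 1, 1, 1, -1, -1, 1, 1, 1, 1, 1, 3, -1, -1, -1, -1, 1, -1, -1],
   [1, 1, -1, 3, 1, 3, -1, -1, -1, -3, -3, -1, -1, 3, -1, -1, 1, 1, 1, 1, 1, -1, 1, 1],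
   [-1, 3, 1, 1, -1, -3, 1, -3, 1, -1, -1, -3, 1, 1, 1, 1, -1, -1, -1, -1, 3, 1, -1, -1],
   [-1, -1, 1, -3, 3, 1, 1, 1, 1, -1, -1, -3, 1, 1, -3, 1, -1, -1, 3, -1, -1, 1, -1, -1],
   [-1, -1, 1, 1, -1, 1, 1, -3, -3, -1, 3, 1, 1, 1, -3, 1, -1, -1, -1, -1, -1, 1, -1, 3],
   [1, 1, -1, -1, -3, -1, 3, 3, -1, -3, 1, -1, -1, -1, -1, 3, 1, 1, 1, 1, 1, -1, 1, 1],
   [1, 1, -1, -1, 1, -1, 3, -1, 3, 1, 1, 3, -1, 3, -1, -1, 1, 1, 1, 1, 1, 3, 1, 1],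
   [-1, -1, 1, -3, -1, 1, 1, -3, 1, -1, -1, 1, 1, 1, 1, 1, -1, 3, -1, -1, -1, -3, 3, -1],
   [1, 1, -1, 3, 1, -1, 3, -1, -1, 1, 1, -1, 3, -1, -1, -1, 1, 1, 1, 1, -3, -1, 1, -3],
   [-1, -1, 1, 1, 3, -3, 1, 1, -3, -1, -1, 1, -3, 1, 1, 1, -1, 3, -1, -1, -1, 1, -1, -1],
   [-1, -1, 1, 1, -1, 1, 1, 1, 1, -1, 3, -3, -3, 1, 1, -3, -1, -1, -1, -1, -1, 1, 3, -1],
   [-1, 3, 1, -3, -1, 1, 1, 1, -3, -1, -1, 1, 1, 1, 1, -3, -1, -1, -1, 3, -1, 1, -1, -1],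
   [1, 1, -1, -1, 1, 3, 3, -1, -1, 1, 1, -1, -1, -1, 3, -1, 1, 1, 1, -3, 1, -1, -3, 1],
   [1, 1, -1, -1, 1, -1, -1, 3, -1, 1, 1, -1, 3, 3, -1, -1, 1, 1, -3, -3, 1, -1, 1, 1],
   [-3, 1, 3, -1, 1, -1, -1, -1, -1, 1, 1, -1, -1, -1, -1, -1, 5, 1, 1, 1, 1, -1, 1, 1],
   [1, 1, -1, -1, 1, -1, -1, -1, -1, -3, 1, 3, -1, -1, -1, -1, 1, -3, 1, -3, 1, -1, 1, -3],
   [-1, -1, 1, 1, -1, -3, 1, 1, 1, -1, -1, 1, 1, 1, 1, -3, -1, -1, 3, -1, -1, -3, -1, 3],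
   [1, 1, -1, -1, 1, -1, -1, -1, -1, 1, 1, -1, -1, 3, 3, 3, 1, -3, 1, 1, -3, -1, 1, 1],
   [1, 1, -1, -1, -3, -1, -1, -1, -1, 1, -3, -1, -1, -1, -1, -1, 1, 1, 1, -3, -3, 3, 1, 1],
   [1, 1, -1, -1, 1, -1, -1, -1, 3, -3, 1, -1, -1, -1, -1, -1, 1, 1, -3, 1, -3, -1, -3, 1],
   [-1, 3, 1, 1, -1, 1, 1, 1, 1, 3, -1, 1, -3, 1, -3, 1, -1, -1, -1, -1, -1, -3, -1, -1],
   [-1, 3, 1, 1, -1, 1, -3, 1, 1, -1, 3, 1, 1, 1, 1, 1, -1, 3, 3, -1, -1, 1, -1, -1]]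

/-- its inverse -/
def f7Yi : List (List ℤ) :=
  [[5, -1, 3, 1, -1, -1, -1, 1, 1, -1, 1, -1, -1, -1, 1, 1, -3, 1, -1, 1, 1, 1, -1, -1],
   [1, 3, -1, 1, 3, -1, -1, 1, 1, -1, 1, -1, -1, 3, 1, 1, 1, 1, -1, 1, 1, 1, 3, 3],
   [3, 1, 5, -1, 1, 1, 1, -1, -1, 1, -1, 1, 1, 1, -1, -1, 3, -1, 1, -1, -1, -1, 1, 1],
   [-1, 1, 1, 3, 1, -3, 1, -1, -1, -3, 3, 1, 1, -3, -1, -1, -1, -1, 1, -1, -1, -1, 1, 1],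
   [1, 3, -1, 1, -1, 3, -1, -3, 1, -1, 1, 3, -1, -1, 1, 1, 1, 1, -1, 1, -3, 1, -1, -1],
   [-1, 1, 1, 3, -3, 1, 1, -1, -1, 1, -1, -3, 1, 1, 3, -1, -1, -1, -3, -1, -1, -1, 1, 1],
   [-1, 1, 1, -1, 1, 1, 1, 3, 3, 1, 3, 1, 1, 1, 3, -1, -1, -1, 1, -1, -1, -1, 1, -3],
   [-1, 1, 1, -1, -3, 1, -3, 3, -1, -3, -1, 1, 1, 1, -1, 3, -1, -1, 1, -1, -1, -1, 1, 1],
   [-1, 1, 1, -1, 1, 1, -3, -1, 3, 1, -1, -3, 1, -3, -1, -1, -1, -1, 1, -1, -1, 3, 1, 1],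
   [1, -1, -1, -3, -1, -1, -1, -3, 1, -1, 1, -1, -1, -1, 1, 1, 1, -3, -1, 1, 1, -3, 3, -1],
   [1, -1, -1, -3, -1, -1, 3, 1, 1, -1, 1, -1, 3, -1, 1, 1, 1, 1, -1, 1, -3, 1, -1, 3],
   [-1, 1, 1, -1, -3, -3, 1, -1, 3, 1, -1, 1, -3, 1, -1, -1, -1, 3, 1, -1, -1, -1, 1, 1],
   [-1, 1, 1, -1, 1, 1, 1, -1, -1, 1, 3, -3, -3, 1, -1, 3, -1, -1, 1, -1, -1, -1, -3, 1],
   [-1, -3, 1, 3, 1, 1, 1, -1, 3, 1, -1, 1, 1, 1, -1, 3, -1, -1, 1, 3, -1, -1, 1, 1],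
   [-1, 1, 1, -1, 1, -3, -3, -1, -1, 1, -1, 1, 1, 1, 3, -1, -1, -1, 1, 3, -1, -1, -3, 1],
   [-1, 1, 1, -1, 1, 1, 1, 3, -1, 1, -1, 1, -3, -3, -1, -1, -1, -1, -3, 3, -1, -1, 1, 1],
   [-3, -1, 3, 1, -1, -1, -1, 1, 1, -1, 1, -1, -1, -1, 1, 1, 5, 1, -1, 1, 1, 1, -1, -1],
   [1, -1, -1, 1, -1, -1, -1, 1, 1, 3, 1, 3, -1, -1, 1, 1, 1, -3, -1, -3, 1, 1, -1, 3],
   [1, -1, -1, 1, -1, 3, -1, 1, 1, -1, 1, -1, -1, -1, 1, -3, 1, 1, 3, 1, 1, -3, -1, 3],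
   [1, -1, -1, 1, -1, -1, -1, 1, 1, -1, 1, -1, -1, 3, -3, -3, 1, -3, -1, 1, -3, 1, -1, -1],
   [1, -1, -1, 1, 3, -1, -1, 1, 1, -1, -3, -1, -1, -1, 1, 1, 1, 1, -1, -3, -3, -3, -1, -1],
   [-1, 1, 1, -1, 1, 1, 1, -1, 3, -3, -1, 1, 1, 1, -1, -1, -1, -1, -3, -1, 3, -1, -3, 1],
   [1, 3, -1, 1, -1, -1, -1, 1, 1, 3, 1, -1, 3, -1, -3, 1, 1, 1, -1, 1, 1, -3, -1, -1],
   [1, 3, -1, 1, -1, -1, 3, 1, 1, -1, -3, -1, -1, -1, 1, 1, 1, -3, 3, 1, 1, 1, -1, -1]]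

/-- a sign change inverting it -/
def f7S : List (List ℤ) :=
  [[-8, 0, 0, 0, 0, 0, 0, 0, 0, 0, 0, 0, 0, 0, 0, 0, 0, 0, 0, 0, 0, 0, 0, 0],
   [0, 8, 0, 0, 0, 0, 0, 0, 0, 0, 0, 0, 0, 0, 0, 0, 0, 0, 0, 0, 0, 0, 0, 0],
   [0, 0, -8, 0, 0, 0, 0, 0, 0, 0, 0, 0, 0, 0, 0, 0, 0, 0, 0, 0, 0, 0, 0, 0],
   [0, 0, 0, 8, 0, 0, 0, 0, 0, 0, 0, 0, 0, 0, 0, 0, 0, 0, 0, 0, 0, 0, 0, 0],
   [0, 0, 0, 0, 8, 0, 0, 0, 0, 0, 0, 0, 0, 0, 0, 0, 0, 0, 0, 0, 0, 0, 0, 0],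
   [0, 0, 0, 0, 0, -8, 0, 0, 0, 0, 0, 0, 0, 0, 0, 0, 0, 0, 0, 0, 0, 0, 0, 0],
   [0, 0, 0, 0, 0, 0, -8, 0, 0, 0, 0, 0, 0, 0, 0, 0, 0, 0, 0, 0, 0, 0, 0, 0],
   [0, 0, 0, 0, 0, 0, 0, 8, 0, 0, 0, 0, 0, 0, 0, 0, 0, 0, 0, 0, 0, 0, 0, 0],
   [0, 0, 0, 0, 0, 0, 0, 0, 8, 0, 0, 0, 0, 0, 0, 0, 0, 0, 0, 0, 0, 0, 0, 0],
   [0, 0, 0, 0, 0, 0, 0, 0, 0, 8, 0, 0, 0, 0, 0, 0, 0, 0, 0, 0, 0, 0, 0, 0],
   [0, 0, 0, 0, 0, 0, 0, 0, 0, 0, -8, 0, 0, 0, 0, 0, 0, 0, 0, 0, 0, 0, 0, 0],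
   [0, 0, 0, 0, 0, 0, 0, 0, 0, 0, 0, -8, 0, 0, 0, 0, 0, 0, 0, 0, 0, 0, 0, 0],
   [0, 0, 0, 0, 0, 0, 0, 0, 0, 0, 0, 0, -8, 0, 0, 0, 0, 0, 0, 0, 0, 0, 0, 0],
   [0, 0, 0, 0, 0, 0, 0, 0, 0, 0, 0, 0, 0, -8, 0, 0, 0, 0, 0, 0, 0, 0, 0, 0],
   [0, 0, 0, 0, 0, 0, 0, 0, 0, 0, 0, 0, 0, 0, 8, 0, 0, 0, 0, 0, 0, 0, 0, 0],
   [0, 0, 0, 0, 0, 0, 0, 0, 0, 0, 0, 0, 0, 0, 0, 8, 0, 0, 0, 0, 0, 0, 0, 0],
   [0, 0, 0, 0, 0, 0, 0, 0, 0, 0, 0, 0, 0, 0, 0, 0, -8, 0, 0, 0, 0, 0, 0, 0],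
   [0, 0, 0, 0, 0, 0, 0, 0, 0, 0, 0, 0, 0, 0, 0, 0, 0, -8, 0, 0, 0, 0, 0, 0],
   [0, 0, 0, 0, 0, 0, 0, 0, 0, 0, 0, 0, 0, 0, 0, 0, 0, 0, 8, 0, 0, 0, 0, 0],
   [0, 0, 0, 0, 0, 0, 0, 0, 0, 0, 0, 0, 0, 0, 0, 0, 0, 0, 0, -8, 0, 0, 0, 0],
   [0, 0, 0, 0, 0, 0, 0, 0, 0, 0, 0, 0, 0, 0, 0, 0, 0, 0, 0, 0, -8, 0, 0, 0],
   [0, 0, 0, 0, 0, 0, 0, 0, 0, 0, 0, 0, 0, 0, 0, 0, 0, 0, 0, 0, 0, 8, 0, 0],
   [0, 0, 0, 0, 0, 0, 0, 0, 0, 0, 0, 0, 0, 0, 0, 0, 0, 0, 0, 0, 0, 0, 8, 0],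
   [0, 0, 0, 0, 0, 0, 0, 0, 0, 0, 0, 0, 0, 0, 0, 0, 0, 0, 0, 0, 0, 0, 0, 8]]

/-- the identity -/
def f7I : List (List ℤ) :=
  [[8, 0, 0, 0, 0, 0, 0, 0, 0, 0, 0, 0, 0, 0, 0, 0, 0, 0, 0, 0, 0, 0, 0, 0],
   [0, 8, 0, 0, 0, 0, 0, 0, 0, 0, 0, 0, 0, 0, 0, 0, 0, 0, 0, 0, 0, 0, 0, 0],
   [0, 0, 8, 0, 0, 0, 0, 0, 0, 0, 0, 0, 0, 0, 0, 0, 0, 0, 0, 0, 0, 0, 0, 0],
   [0, 0, 0, 8, 0, 0, 0, 0, 0, 0, 0, 0, 0, 0, 0, 0, 0, 0, 0, 0, 0, 0, 0, 0],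
   [0, 0, 0, 0, 8, 0, 0, 0, 0, 0, 0, 0, 0, 0, 0, 0, 0, 0, 0, 0, 0, 0, 0, 0],
   [0, 0, 0, 0, 0, 8, 0, 0, 0, 0, 0, 0, 0, 0, 0, 0, 0, 0, 0, 0, 0, 0, 0, 0],
   [0, 0, 0, 0, 0, 0, 8, 0, 0, 0, 0, 0, 0, 0, 0, 0, 0, 0, 0, 0, 0, 0, 0, 0],
   [0, 0, 0, 0, 0, 0, 0, 8, 0, 0, 0, 0, 0, 0, 0, 0, 0, 0, 0, 0, 0, 0, 0, 0],
   [0, 0, 0, 0, 0, 0, 0, 0, 8, 0, 0, 0, 0, 0, 0, 0, 0, 0, 0, 0, 0, 0, 0, 0],
   [0, 0, 0, 0, 0, 0, 0, 0, 0, 8, 0, 0, 0, 0, 0, 0, 0, 0, 0, 0, 0, 0, 0, 0],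
   [0, 0, 0, 0, 0, 0, 0, 0, 0, 0, 8, 0, 0, 0, 0, 0, 0, 0, 0, 0, 0, 0, 0, 0],
   [0, 0, 0, 0, 0, 0, 0, 0, 0, 0, 0, 8, 0, 0, 0, 0, 0, 0, 0, 0, 0, 0, 0, 0],
   [0, 0, 0, 0, 0, 0, 0, 0, 0, 0, 0, 0, 8, 0, 0, 0, 0, 0, 0, 0, 0, 0, 0, 0],
   [0, 0, 0, 0, 0, 0, 0, 0, 0, 0, 0, 0, 0, 8, 0, 0, 0, 0, 0, 0, 0, 0, 0, 0],
   [0, 0, 0, 0, 0, 0, 0, 0, 0, 0, 0, 0, 0, 0, 8, 0, 0, 0, 0, 0, 0, 0, 0, 0],
   [0, 0, 0, 0, 0, 0, 0, 0, 0, 0, 0, 0, 0, 0, 0, 8, 0, 0, 0, 0, 0, 0, 0, 0],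
   [0, 0, 0, 0, 0, 0, 0, 0, 0, 0, 0, 0, 0, 0, 0, 0, 8, 0, 0, 0, 0, 0, 0, 0],
   [0, 0, 0, 0, 0, 0, 0, 0, 0, 0, 0, 0, 0, 0, 0, 0, 0, 8, 0, 0, 0, 0, 0, 0],
   [0, 0, 0, 0, 0, 0, 0, 0, 0, 0, 0, 0, 0, 0, 0, 0, 0, 0, 8, 0, 0, 0, 0, 0],
   [0, 0, 0, 0, 0, 0, 0, 0, 0, 0, 0, 0, 0, 0, 0, 0, 0, 0, 0, 8, 0, 0, 0, 0],
   [0, 0, 0, 0, 0, 0, 0, 0, 0, 0, 0, 0, 0, 0, 0, 0, 0, 0, 0, 0, 8, 0, 0, 0],
   [0, 0, 0, 0, 0, 0, 0, 0, 0, 0, 0, 0, 0, 0, 0, 0, 0, 0, 0, 0, 0, 8, 0, 0],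
   [0, 0, 0, 0, 0, 0, 0, 0, 0, 0, 0, 0, 0, 0, 0, 0, 0, 0, 0, 0, 0, 0, 8, 0],
   [0, 0, 0, 0, 0, 0, 0, 0, 0, 0, 0, 0, 0, 0, 0, 0, 0, 0, 0, 0, 0, 0, 0, 8]]

theorem f7_invert : ∃ (g : Co0) (c : Finset GolayPt) (hc : IsWord c), c ≠ ∅ ∧ c ≠ Finset.univ ∧
    g * signEl c hc * g⁻¹ * f7x = f7x⁻¹ * (g * signEl c hc * g⁻¹) := by
  obtain ⟨g, hg⟩ := exists_isMat (R := f7G) (by decide +kernel)
  obtain ⟨y, hy⟩ := exists_isMat (R := f7Y) (by decide +kernel)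
  obtain ⟨y', hy'⟩ := exists_isMat (R := f7Yi) (by decide +kernel)
  have hc : IsWord (toSet 1784933) := toSet_mem_codeSets (by decide +kernel)
  have hs : IsMat _ f7S := isMat_sign hc (by decide +kernel)
  have hi : IsMat _ f7I := isMat_perm inM_pid (by decide +kernel)
  have e1 := mul_eq_of_mulB hg hy f7X_ok hg (by decide +kernel)
  have e2 := mul_eq_of_mulB hy hy' hi hi (by decide +kernel)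
  have e3 := mul_eq_of_mulB hs hy hy' hs (by decide +kernel)
  rw [toM_pid, permEl_one, one_mul] at e2
  refine ⟨g, _, hc, by decide +kernel, by decide +kernel, ?_⟩
  have e4 : f7x = g * y * g⁻¹ := by rw [e1]; group
  rw [e4, ← inv_eq_of_mul_eq_one_right e2] at *
  calc g * signEl (toSet 1784933) hc * g⁻¹ * (g * y * g⁻¹)
      = g * (signEl (toSet 1784933) hc * y) * g⁻¹ := by group
    _ = _ := by rw [e3]; group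

end Cfsg.Agent.H49
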