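import Cfsg.Agent.H40.L3Defs
import Cfsg.Agent.H40.L3K0

/-! A 2-component with semidihedral Sylow 2-subgroups of order 16: the reduction to
`C(L / O(L))` having a Sylow 2-subgroup of order 2. -/

set_option autoImplicit false
set_option linter.unusedSectionVars false

namespace Cfsg.Agent.H49.L3R

open Subgroup Cfsg.Agent.H83 Cfsg.Agent.H40.L3

universe u

variable {G : Type u} [Group G]

theorem comm_mem {N : Subgroup G} {x1 x2 u1 u2 : G} (h1 : x1 * u1⁻¹ ∈ N) (h2 : x2 * u2⁻¹ ∈ N)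
    (n1 : ∀ n ∈ N, u1 * n * u1⁻¹ ∈ N) (n2 : ∀ n ∈ N, u2 * n * u2⁻¹ ∈ N) (hu : u1 * u2 = u2 * u1) :
    x1 * x2 * x1⁻¹ * x2⁻¹ ∈ N := by
  have := mul_mem (mul_mem (mul_mem h1 (n1 _ h2)) (n2 _ (inv_mem h1))) (inv_mem h2)
  convert this using 1
  calc _ = x1 * x2 * u2⁻¹ * u1⁻¹ * (u1 * u2) * x1⁻¹ * x2⁻¹ := by group
    _ = x1 * x2 * u2⁻¹ * u1⁻¹ * (u2 * u1) * x1⁻¹ * x2⁻¹ := by rw [hu]
    _ = _ := by group

theorem cyc_uniq {r c t : G} (hc : c ∈ zpowers r) (ht : t ∈ zpowers r) (c2 : c * c = 1)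
    (t2 : t * t = 1) (c1 : c ≠ 1) (t1 : t ≠ 1) : c = t := by
  obtain ⟨n, rfl⟩ := mem_zpowers_iff.1 hc
  obtain ⟨m, rfl⟩ := mem_zpowers_iff.1 ht
  rw [← zpow_add, ← orderOf_dvd_iff_zpow_eq_one] at c2 t2
  rw [Ne, ← orderOf_dvd_iff_zpow_eq_one] at c1 t1
  rw [zpow_eq_zpow_iff_modEq, Int.modEq_iff_dvd]
  obtain ⟨a, ha⟩ := c2
  obtain ⟨b, hb⟩ := t2
  obtain ⟨a', rfl | rfl⟩ := Int.even_or_odd' a
  · exact absurd ⟨a', by linarith⟩ c1
  obtain ⟨b', rfl | rfl⟩ := Int.even_or_odd' b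
  · exact absurd ⟨b', by linarith⟩ t1
  exact ⟨b' - a', by linarith⟩

theorem exists_inv (k : ℕ) : ∀ c : G, c ≠ 1 → c ^ 2 ^ k = 1 → ∃ n : ℕ, c ^ n ≠ 1 ∧ c ^ n * c ^ n = 1 := by
  induction k with
  | zero => exact fun c c1 e => absurd (by simpa using e) c1
  | succ k ih =>
    intro c c1 e
    by_cases q : c ^ 2 = 1
    · exact ⟨1, by rwa [pow_one], by rwa [pow_one, ← sq]⟩
    · obtain ⟨n, hn⟩ := ih _ q (by rw [← pow_mul, ← pow_succ', e])
      exact ⟨2 * n, by rwa [pow_mul]⟩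

theorem mul_cancel_comm {x m g : G} (h1 : Commute x m) (h2 : Commute x (m * g)) : Commute x g := by
  have := h1.inv_right.mul_right h2
  rwa [inv_mul_cancel_left] at this

variable [Finite G] {t : G} (h : H0 G t)

theorem peq {i j : ℕ} : h.y ^ i = h.y ^ j ↔ i % 8 = j % 8 := by
  rw [pow_eq_pow_iff_modEq, h.y8]; rfl

theorem pone {i : ℕ} : h.y ^ i = 1 ↔ i % 8 = 0 := by rw [← pow_zero h.y, peq]

theorem apow (i : ℕ) : h.a * h.y ^ i = h.y ^ (3 * i) * h.a := by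
  have e : h.a⁻¹ = h.a := inv_eq_of_mul_eq_one_right h.a2
  rw [pow_mul, ← h.ay, ← mul_inv_eq_iff_eq_mul, ← conj_pow, e]

theorem apow' (i j : ℕ) : h.y ^ i * h.a * h.y ^ j = h.y ^ (i + 3 * j) * h.a := by
  rw [mul_assoc, apow, ← mul_assoc, ← pow_add]

theorem apow'' (i j : ℕ) : h.y ^ i * h.a * (h.y ^ j * h.a) = h.y ^ (i + 3 * j) := by
  rw [← mul_assoc, apow', mul_assoc, h.a2, mul_one]

theorem memD {x : G} (hx : x ∈ closure ({h.y, h.a} : Set G)) :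
    ∃ i : ℕ, x = h.y ^ i ∨ x = h.y ^ i * h.a := by
  induction hx using closure_induction with
  | mem x hx =>
    rcases hx with rfl | rfl
    exacts [⟨1, .inl (pow_one _).symm⟩, ⟨0, .inr (by simp)⟩]
  | one => exact ⟨0, .inl (pow_zero _).symm⟩
  | mul x z _ _ h1 h2 =>
    obtain ⟨i, rfl | rfl⟩ := h1 <;> obtain ⟨j, rfl | rfl⟩ := h2
    exacts [⟨i + j, .inl (pow_add _ _ _).symm⟩, ⟨i + j, .inr (by rw [pow_add, mul_assoc])⟩,
      ⟨_, .inr (apow' h i j)⟩, ⟨_, .inl (apow'' h i j)⟩]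
  | inv x _ h1 =>
    obtain ⟨i, rfl | rfl⟩ := h1
    · exact ⟨7 * i, .inl (inv_eq_of_mul_eq_one_right (by rw [← pow_add, pone]; omega))⟩
    · exact ⟨5 * i, .inr (inv_eq_of_mul_eq_one_right (by rw [apow'', pone]; omega))⟩

theorem yD (i : ℕ) : h.y ^ i ∈ closure ({h.y, h.a} : Set G) := pow_mem (subset_closure (by simp)) i

theorem aD : h.a ∈ closure ({h.y, h.a} : Set G) := subset_closure (by simp)

theorem DS {x : G} (hx : x ∈ closure ({h.y, h.a} : Set G)) : x ∈ h.S := (h.SL.ge hx).1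

theorem RS {x : G} (hx : x ∈ zpowers h.r) : x ∈ h.S := (h.SK.ge hx).1

theorem St {x : G} (hx : x ∈ h.S) : x * t = t * x := mem_centralizer_singleton_iff.1 (h.syl.le hx)

theorem nD {s x : G} (hs : s ∈ h.S) (hx : x ∈ closure ({h.y, h.a} : Set G)) :
    s * x * s⁻¹ ∈ closure ({h.y, h.a} : Set G) :=
  h.SL.le ⟨h.S.mul_mem (h.S.mul_mem hs (DS h hx)) (h.S.inv_mem hs), h.Ln s (St h hs) x (h.SL.ge hx).2⟩

theorem nR {s x : G} (hs : s ∈ h.S) (hx : x ∈ zpowers h.r) : s * x * s⁻¹ ∈ zpowers h.r :=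
  h.SK.le ⟨h.S.mul_mem (h.S.mul_mem hs (RS h hx)) (h.S.inv_mem hs), h.Kn s (St h hs) x (h.SK.ge hx).2⟩

theorem RD {c d : G} (hc : c ∈ zpowers h.r) (hd : d ∈ closure ({h.y, h.a} : Set G)) :
    Commute c d := by
  obtain ⟨n, rfl⟩ := mem_zpowers_iff.1 hc
  have h1 : Commute h.r h.y := h.ry
  have h2 : Commute h.r h.a := h.ra
  obtain ⟨i, rfl | rfl⟩ := memD h hd
  exacts [(h1.pow_right i).zpow_left n, ((h1.pow_right i).mul_right h2).zpow_left n]

theorem RR {c c' : G} (hc : c ∈ zpowers h.r) (hc' : c' ∈ zpowers h.r) : Commute c c' := by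
  obtain ⟨n, rfl⟩ := mem_zpowers_iff.1 hc
  obtain ⟨m, rfl⟩ := mem_zpowers_iff.1 hc'
  exact (Commute.refl _).zpow_zpow n m

theorem dis {x : G} (hc : x ∈ zpowers h.r) (hd : x ∈ closure ({h.y, h.a} : Set G)) : x = 1 :=
  mem_bot.1 (h.dis.le ⟨hc, hd⟩)

theorem uniq {c c' d d' : G} (hc : c ∈ zpowers h.r) (hc' : c' ∈ zpowers h.r)
    (hd : d ∈ closure ({h.y, h.a} : Set G)) (hd' : d' ∈ closure ({h.y, h.a} : Set G))
    (e : c * d = c' * d') : c = c' ∧ d = d' := by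
  have h1 : c'⁻¹ * c = 1 := dis h (mul_mem (inv_mem hc') hc) (by
    rw [show c'⁻¹ * c = d' * d⁻¹ by rw [inv_mul_eq_iff_eq_mul, ← mul_assoc, ← e]; group]
    exact mul_mem hd' (inv_mem hd))
  obtain rfl := inv_mul_eq_one.1 h1
  exact ⟨rfl, mul_left_cancel e⟩

theorem memRD {x : G} (hx : x ∈ zpowers h.r ⊔ closure ({h.y, h.a} : Set G)) :
    ∃ c ∈ zpowers h.r, ∃ d ∈ closure ({h.y, h.a} : Set G), x = c * d := by
  rw [sup_eq_closure] at hx
  induction hx using closure_induction with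
  | mem x hx =>
    rcases hx with hx | hx
    exacts [⟨x, hx, 1, one_mem _, (mul_one _).symm⟩, ⟨1, one_mem _, x, hx, (one_mul _).symm⟩]
  | one => exact ⟨1, one_mem _, 1, one_mem _, (one_mul _).symm⟩
  | mul x z _ _ h1 h2 =>
    obtain ⟨c, hc, d, hd, rfl⟩ := h1
    obtain ⟨c', hc', d', hd', rfl⟩ := h2
    exact ⟨_, mul_mem hc hc', _, mul_mem hd hd', (RD h hc' hd).symm.mul_mul_mul_comm _ _⟩
  | inv x _ h1 =>
    obtain ⟨c, hc, d, hd, rfl⟩ := h1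
    exact ⟨_, inv_mem hc, _, inv_mem hd, (RD h hc hd).mul_inv⟩

theorem dec {x : G} (hx : x ∈ h.S) : ∃ c ∈ zpowers h.r, ∃ d ∈ closure ({h.y, h.a} : Set G),
    x = c * d ∨ (h.g * h.y * h.g⁻¹ = h.y ^ 5 ∧ x = c * d * h.g) := by
  rcases h.cov x hx with e | e <;> obtain ⟨c, hc, d, hd, e⟩ := memRD h e
  · exact ⟨c, hc, d, hd, .inl e⟩
  · rcases h.out with q | q
    · exact ⟨c, hc, d, hd, .inl (by rw [← e, q, inv_one, mul_one])⟩
    · exact ⟨c, hc, d, hd, .inr ⟨q.2.1, mul_inv_eq_iff_eq_mul.1 e⟩⟩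

theorem gpow (e : h.g * h.y * h.g⁻¹ = h.y ^ 5) (i : ℕ) : h.g * h.y ^ i = h.y ^ (5 * i) * h.g := by
  rw [pow_mul, ← e, conj_pow, inv_mul_cancel_right]

theorem gw (i : ℕ) : Commute h.g (h.y ^ (2 * i)) := by
  rcases h.out with q | q
  · rw [q]; exact Commute.one_left _
  · exact (gpow h q.2.1 _).trans (by rw [(peq h).2 (show 5 * (2 * i) % 8 = 2 * i % 8 by omega)])

theorem ga : Commute h.g h.a := by
  rcases h.out with q | q
  · rw [q]; exact Commute.one_left _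
  · exact q.2.2.1

theorem gg : h.g * h.g ∈ zpowers h.r := by
  rcases h.out with q | q
  · rw [q, mul_one]; exact one_mem _
  · exact q.2.2.2.1

theorem z1 : h.y ^ 4 ≠ 1 := by rw [Ne, pone]; decide

theorem z2 : h.y ^ 4 * h.y ^ 4 = 1 := by rw [← pow_add, pone]

theorem wa : h.y ^ 2 * h.a * (h.y ^ 2)⁻¹ * h.a⁻¹ = h.y ^ 4 := by
  rw [mul_inv_eq_iff_eq_mul, mul_inv_eq_iff_eq_mul, apow', mul_left_inj, peq]

theorem zS {x : G} (hx : x ∈ h.S) : Commute x (h.y ^ 4) := by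
  have h1 : ∀ d ∈ closure ({h.y, h.a} : Set G), Commute d (h.y ^ 4) := fun d hd => by
    have : Commute h.a (h.y ^ 4) := (apow h 4).trans (by rw [(peq h).2 (show 3 * 4 % 8 = 4 % 8 by omega)])
    obtain ⟨i, rfl | rfl⟩ := memD h hd
    exacts [Commute.pow_pow_self _ _ _, (Commute.pow_pow_self _ _ _).mul_left this]
  obtain ⟨c, hc, d, hd, rfl | ⟨-, rfl⟩⟩ := dec h hx
  exacts [(RD h hc (yD h 4)).mul_left (h1 d hd),
    ((RD h hc (yD h 4)).mul_left (h1 d hd)).mul_left (gw h 2)]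

theorem invR {c : G} (hc : c ∈ zpowers h.r) (c2 : c * c = 1) : c = 1 ∨ c = t :=
  or_iff_not_imp_left.2 fun c1 => cyc_uniq hc h.tr c2 h.t2 c1 h.t1

theorem powR {c : G} (hc : c ∈ zpowers h.r) (c1 : c ≠ 1) : ∃ n : ℕ, c ^ n = t := by
  obtain ⟨k, hk⟩ := h.syl.isPGroup ⟨c, RS h hc⟩
  obtain ⟨n, h1, h2⟩ := exists_inv k c c1 (congrArg Subtype.val hk)
  exact ⟨n, (invR h (pow_mem hc n) h2).resolve_left h1⟩

theorem invD {d : G} (hd : d ∈ closure ({h.y, h.a} : Set G)) (d2 : d * d = 1) :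
    d = 1 ∨ ∃ k, k * t = t * k ∧ k * h.y ^ 4 * k⁻¹ = d := by
  obtain ⟨i, rfl | rfl⟩ := memD h hd
  · rw [← pow_add, pone] at d2
    rcases (by omega : i % 8 = 0 ∨ i % 8 = 4 % 8) with q | q
    exacts [.inl ((pone h).2 q), .inr ⟨1, by simp, by rw [(peq h).2 q]; simp⟩]
  · rw [apow'', pone] at d2
    obtain ⟨k, rfl⟩ : ∃ k, i = 2 * k := ⟨i / 2, by omega⟩
    refine .inr ⟨h.y ^ (3 * k) * h.ρ, (Commute.mul_left (St h (DS h (yD h _))) h.ρt).eq, ?_⟩
    rw [show h.y ^ (3 * k) * h.ρ * h.y ^ 4 * (h.y ^ (3 * k) * h.ρ)⁻¹ =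
      h.y ^ (3 * k) * (h.ρ * h.y ^ 4 * h.ρ⁻¹) * (h.y ^ (3 * k))⁻¹ by group, h.ρ1,
      mul_inv_eq_iff_eq_mul, apow', mul_left_inj, peq]
    omega

theorem cwD {d : G} (hd : d ∈ closure ({h.y, h.a} : Set G)) (e : Commute d (h.y ^ 2)) :
    ∃ i : ℕ, d = h.y ^ i := by
  obtain ⟨i, rfl | rfl⟩ := memD h hd
  · exact ⟨i, rfl⟩
  · have := e.eq
    rw [apow', ← mul_assoc, ← pow_add, mul_left_inj, peq] at this
    omega

theorem inner {x : G} (hx : x ∈ zpowers h.r ⊔ closure ({h.y, h.a} : Set G)) (h1 : IsConj t x)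
    (h2 : x ≠ t) : IsConj t (h.y ^ 4) ∨ IsConj t (t * h.y ^ 4) := by
  obtain ⟨c, hc, d, hd, rfl⟩ := memRD h hx
  obtain ⟨k, hk⟩ := isConj_iff.1 h1
  have x2 : c * c * (d * d) = 1 * 1 := by
    rw [← (RD h hc hd).symm.mul_mul_mul_comm, ← hk, conj_mul, h.t2]; group
  obtain ⟨c2, d2⟩ := uniq h (mul_mem hc hc) (one_mem _) (mul_mem hd hd) (one_mem _) x2
  rcases invD h hd d2 with rfl | ⟨l, l1, rfl⟩ <;> rcases invR h hc c2 with rfl | q
  · exact absurd (isConj_one_left.1 (by simpa using h1)) h.t1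
  · exact absurd (by rw [q, mul_one]) h2
  · exact .inl (h1.trans (isConj_iff.2 ⟨l⁻¹, by group⟩))
  · refine .inr (h1.trans (isConj_iff.2 ⟨l⁻¹, ?_⟩))
    rw [q, ← mul_assoc t, ← mul_assoc t, ← l1]; group

theorem nRD {s : G} (hs : s ∈ h.S) : ∀ x ∈ zpowers h.r ⊔ closure ({h.y, h.a} : Set G),
    s * x * s⁻¹ ∈ zpowers h.r ⊔ closure ({h.y, h.a} : Set G) := fun x hx => by
  obtain ⟨c, hc, d, hd, rfl⟩ := memRD h hx
  rw [← conj_mul]
  exact mul_mem (mem_sup_left (nR h hs hc)) (mem_sup_right (nD h hs hd))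

theorem commRD {x1 x2 : G} (h1 : x1 ∈ h.S) (h2 : x2 ∈ h.S) :
    x1 * x2 * x1⁻¹ * x2⁻¹ ∈ zpowers h.r ⊔ closure ({h.y, h.a} : Set G) := by
  have o := nRD h (one_mem h.S)
  have g := nRD h h.gS
  rcases h.cov x1 h1 with e1 | e1 <;> rcases h.cov x2 h2 with e2 | e2
  · exact comm_mem (by simpa using e1) (by simpa using e2) o o rfl
  · exact comm_mem (by simpa using e1) e2 o g (by simp)
  · exact comm_mem e1 (by simpa using e2) g o (by simp)
  · exact comm_mem e1 e2 g g rfl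

theorem step1 {v : G} (h1 : IsConj t v) (h2 : v ≠ t) (h3 : v * t = t * v) :
    IsConj t (h.y ^ 4) ∨ IsConj t (t * h.y ^ 4) := by
  haveI : Fact (Nat.Prime 2) := ⟨Nat.prime_two⟩
  have sq : ∀ {x}, IsConj t x → x * x = 1 := fun hx => by
    obtain ⟨k, rfl⟩ := isConj_iff.1 hx
    rw [conj_mul, h.t2]; group
  obtain ⟨k, k1, k2⟩ := h.syl.exists_conj_le (zpowers_le.2 (mem_centralizer_singleton_iff.2 h3))
    (isPGroup_zpowers (k := 1) (by rw [pow_one, pow_two, sq h1]))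
  have h4 := k2 (conj_mem_cj (mem_zpowers v))
  have h5 : IsConj t (k * v * k⁻¹) := h1.trans (isConj_iff.2 ⟨k, rfl⟩)
  have h6 : k * v * k⁻¹ ≠ t := fun e => h2 (by
    rw [mul_inv_eq_iff_eq_mul, ← mem_centralizer_singleton_iff.1 k1] at e
    exact mul_left_cancel e)
  generalize k * v * k⁻¹ = x at h4 h5 h6
  by_cases hx : x ∈ zpowers h.r ⊔ closure ({h.y, h.a} : Set G)
  · exact inner h hx h5 h6
  rcases h.out with q | ⟨-, q1, -, -, q⟩
  · exact absurd ((h.cov x h4).elim id fun e => by simpa [q] using e) hx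
  obtain ⟨l, -, c, hc, hl⟩ := q x h4 (sq h5) hx
  have h7 : IsConj t (l * x * l⁻¹) := h5.trans (isConj_iff.2 ⟨l, rfl⟩)
  have e1 : h.y * (c * h.g) * h.y⁻¹ = c * h.g * h.y ^ 4 := by
    have a1 := (RD h hc (yD h 1)).eq
    have a2 := gpow h q1 5
    rw [pow_one] at a1
    rw [(peq h).2 (show 5 * 5 % 8 = 1 % 8 by decide), pow_one] at a2
    rw [← mul_assoc, ← a1, mul_assoc c, ← a2]; group
  have h8 : IsConj t (c * h.g) := by
    rcases hl with hl | hl <;> rw [hl] at h7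
    exacts [h7, h7.trans (isConj_iff.2 ⟨_, e1⟩).symm]
  have m : ∀ d ∈ closure ({h.y, h.a} : Set G), Commute h.g d →
      d ∈ h.S ⊓ centralizer {c * h.g} := fun d hd e =>
    ⟨DS h hd, mem_centralizer_singleton_iff.2 ((RD h hc hd).mul_left e).symm.eq⟩
  obtain ⟨n, n1, n2⟩ := extr_gen h.syl h8.symm (h.syl.isPGroup.to_le inf_le_left)
    fun x hx => mem_centralizer_singleton_iff.1 hx.2
  have h9 := commRD h (n2 _ (m _ (yD h 2) (gw h 1))) (n2 _ (m _ (aD h) (ga h)))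
  rw [show n * h.y ^ 2 * n⁻¹ * (n * h.a * n⁻¹) * (n * h.y ^ 2 * n⁻¹)⁻¹ * (n * h.a * n⁻¹)⁻¹ =
    n * (h.y ^ 2 * h.a * (h.y ^ 2)⁻¹ * h.a⁻¹) * n⁻¹ by group, wa] at h9
  refine inner h (mul_mem (mem_sup_left h.tr) h9) ?_ fun e => z1 h (conj_eq_one_iff.1 (mul_eq_left.1 e))
  refine (h8.trans (isConj_iff.2 ⟨_, e1⟩)).trans (isConj_iff.2 ⟨n, ?_⟩)
  rw [← conj_mul, n1]

theorem burn {u : G} (h1 : IsConj t u) (h2 : ∀ x ∈ h.S, Commute x u) :
    ∃ α ∈ normalizer (h.S : Set G), α * t * α⁻¹ = u := by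
  obtain ⟨β, b1, b2⟩ := extr_gen h.syl h1.symm h.syl.isPGroup h2
  refine ⟨β⁻¹, inv_mem (cj_eq_self_iff.1 (eq_of_le_of_card_ge ?_ (card_cj _ _).ge)), ?_⟩
  · rintro _ ⟨x, hx, rfl⟩; exact b2 x hx
  · rw [← b1]; group

theorem cwS {x : G} (hx : x ∈ h.S) (e : Commute x (h.y ^ 2)) : ∃ c ∈ zpowers h.r, ∃ i : ℕ,
    x = c * h.y ^ i ∨ (h.g * h.y * h.g⁻¹ = h.y ^ 5 ∧ x = c * h.y ^ i * h.g) := by
  obtain ⟨c, hc, d, hd, q⟩ := dec h hx
  have h1 := RD h hc (yD h 2)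
  obtain ⟨i, rfl⟩ := cwD h hd (by
    rcases q with rfl | ⟨-, rfl⟩
    · exact (mul_cancel_comm h1.symm e.symm).symm
    · simpa [mul_assoc] using (h1.inv_left.mul_left e).mul_left (gw h 1).inv_left)
  exact ⟨c, hc, i, q⟩

theorem step2 {α : G} (hα : α ∈ normalizer (h.S : Set G)) (ht : α * t * α⁻¹ ≠ t) : h.r = t := by
  have nS : ∀ x ∈ h.S, α * x * α⁻¹ ∈ h.S := fun x => (mem_normalizer_iff.1 hα x).1
  have nS' : ∀ x ∈ h.S, α⁻¹ * x * α ∈ h.S := fun x hx => by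
    simpa using (mem_normalizer_iff.1 (inv_mem hα) x).1 hx
  have rR := mem_zpowers h.r
  have yS : h.y ∈ h.S := pow_one h.y ▸ DS h (yD h 1)
  have disj : ∀ c ∈ zpowers h.r, α * c * α⁻¹ ∈ zpowers h.r → c = 1 := fun c hc e => by
    by_contra c1
    obtain ⟨n, hn⟩ := powR h hc c1
    rcases invR h (pow_mem e n) (by rw [conj_pow, hn, conj_mul, h.t2]; group) with q | q <;>
      rw [conj_pow, hn] at q
    exacts [h.t1 (conj_eq_one_iff.1 q), ht q]
  have cm : ∀ x ∈ h.S, ∃ c ∈ zpowers h.r,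
      x * (α * h.r * α⁻¹) * x⁻¹ * (α * h.r * α⁻¹)⁻¹ = α * c * α⁻¹ := fun x hx =>
    ⟨_, mul_mem (nR h (nS' x hx) rR) (inv_mem rR), by group⟩
  have rr : Commute h.r (α * h.r * α⁻¹) := by
    obtain ⟨c, hc, e⟩ := cm h.r (RS h rR)
    rw [disj c hc (by
      rw [← e, mul_assoc, mul_assoc, ← mul_assoc (α * h.r * α⁻¹)]
      exact mul_mem rR (nR h (nS _ (RS h rR)) (inv_mem rR))), mul_one, mul_inv_cancel,
      mul_inv_eq_one, mul_inv_eq_iff_eq_mul] at e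
    exact e
  refine ((invR h rR ?_).resolve_left fun e => h.t1 (by simpa [e] using h.tr))
  by_contra r2
  obtain ⟨c, hc, d, hd, e | ⟨gy, e⟩⟩ := dec h (nS _ (RS h rR))
  swap
  · have g1 : Commute h.r h.g := by
      have := ((RR h rR hc).mul_right (RD h rR hd)).inv_right.mul_right (e ▸ rr)
      rwa [inv_mul_cancel_left] at this
    have cen : ∀ x ∈ h.S, Commute h.r x := fun x hx => by
      obtain ⟨c, hc, d, hd, rfl | ⟨-, rfl⟩⟩ := dec h hx
      exacts [(RR h rR hc).mul_right (RD h rR hd), ((RR h rR hc).mul_right (RD h rR hd)).mul_right g1]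
    have q : Commute (α * h.r * α⁻¹) (h.y ^ 1) := by
      simpa [mul_assoc] using (cen _ (nS' _ yS)).conj α
    have q2 := ((RD h hc (yD h 1)).inv_left.mul_left (e ▸ q)).eq
    rw [mul_assoc c, inv_mul_cancel_left, mul_assoc, gpow h gy, ← mul_assoc, ← mul_assoc,
      mul_left_inj] at q2
    obtain ⟨i, rfl | rfl⟩ := memD h hd
    · rw [← pow_add, ← pow_add, peq] at q2; omega
    · rw [apow', ← mul_assoc (h.y ^ 1), ← pow_add, mul_left_inj, peq] at q2; omega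
  have ord : ∀ n : ℕ, d ^ n = 1 → h.r ^ n = 1 := fun n hn => disj _ (pow_mem rR n) (by
    rw [← conj_pow, e, (RD h hc hd).mul_pow, hn, mul_one]; exact pow_mem hc n)
  obtain ⟨i, rfl⟩ := cwD h hd (by
    obtain ⟨i, rfl | rfl⟩ := memD h hd
    · exact Commute.pow_pow_self _ _ _
    obtain ⟨c', hc', e'⟩ := cm h.y yS
    have q := ((RR h hc' rR).conj α).inv_left
    rw [← e', e, show h.y * (c * (h.y ^ i * h.a)) * h.y⁻¹ * (c * (h.y ^ i * h.a))⁻¹ = (h.y ^ 2)⁻¹ by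
      have a1 := (RD h hc (yD h 1)).eq
      have a2 := (RD h hc (yD h 2)).eq
      have a3 := apow' h (2 + 1 + i) 0
      have a4 := apow' h i 1
      rw [(peq h).2 (show (i + 3 * 1) % 8 = (2 + 1 + i) % 8 by omega), pow_add, pow_add, pow_one] at a4
      rw [pow_one] at a1
      rw [mul_inv_eq_iff_eq_mul, mul_inv_eq_iff_eq_mul, mul_assoc, mul_assoc c, a4,
        eq_inv_mul_iff_mul_eq, ← mul_assoc h.y, ← a1, ← mul_assoc, ← mul_assoc, ← mul_assoc, ← a2]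
      group, inv_inv] at q
    simpa using ((RD h hc (yD h 2)).symm.inv_right.mul_right q).symm)
  have i4 : (i * 2) % 8 ≠ 0 := fun q => r2 (pow_two h.r ▸ ord 2 (by rwa [← pow_mul, pone]))
  have cd : ∀ d' ∈ closure ({h.y, h.a} : Set G), Commute (α * d' * α⁻¹) (h.y ^ i) := fun d' hd' => by
    have hx := nS _ (DS h hd')
    have q := ((RD h rR hd').conj α).symm.eq
    generalize α * d' * α⁻¹ = x at hx q
    rw [e, ← mul_inv_eq_iff_eq_mul, ← conj_mul] at q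
    exact mul_inv_eq_iff_eq_mul.1 (uniq h (nR h hx hc) hc (nD h hx hd) hd q).2
  have cw : ∀ d' ∈ closure ({h.y, h.a} : Set G), Commute (α * d' * α⁻¹) (h.y ^ 2) := fun d' hd' => by
    obtain ⟨k, hk⟩ : ∃ k, i * k % 8 = 2 % 8 := by
      rcases (by omega : i % 8 = 1 ∨ i % 8 = 2 ∨ i % 8 = 3 ∨ i % 8 = 5 ∨ i % 8 = 6 ∨ i % 8 = 7) with
        q | q | q | q | q | q
      exacts [⟨2, by omega⟩, ⟨1, by omega⟩, ⟨6, by omega⟩, ⟨2, by omega⟩, ⟨3, by omega⟩,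
        ⟨6, by omega⟩]
    rw [← (peq h).2 hk, pow_mul]
    exact (cd d' hd').pow_right k
  have AA : ∀ {c c' : G} (j k : ℕ), c ∈ zpowers h.r → c' ∈ zpowers h.r →
      Commute (c * h.y ^ j) (c' * h.y ^ k) := fun j k hc hc' =>
    ((RR h hc hc').mul_right (RD h hc (yD h k))).mul_left
      ((RD h hc' (yD h j)).symm.mul_right (Commute.pow_pow_self _ _ _))
  have r4 : ∀ d' ∈ closure ({h.y, h.a} : Set G), ∀ c' ∈ zpowers h.r, ∀ j : ℕ,
      h.g * h.y * h.g⁻¹ = h.y ^ 5 → α * d' * α⁻¹ = c' * h.y ^ j * h.g →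
      ∀ c ∈ zpowers h.r, Commute h.g (c * c) := fun d' hd' c' hc' j gy q c hc => by
    have q0 := AA j i hc' (one_mem _)
    rw [one_mul] at q0
    have q1 := (mul_cancel_comm q0.symm (q ▸ (cd d' hd').symm)).symm.eq
    rw [gpow h gy, mul_left_inj, peq] at q1
    have q2 := ord 4 (by rw [← pow_mul, pone]; omega)
    obtain ⟨n, rfl⟩ := mem_zpowers_iff.1 hc
    rcases invR h (mul_mem hc hc) (by
      rw [← zpow_add, ← zpow_add, show n + n + (n + n) = (4 : ℕ) * n by push_cast; ring, zpow_mul,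
        zpow_natCast, q2, one_zpow]) with q3 | q3 <;> rw [q3]
    exacts [Commute.one_right _, St h h.gS]
  have fin : ¬ Commute (α * h.y ^ 1 * α⁻¹ * (α * h.y ^ 1 * α⁻¹)) (α * h.a * α⁻¹) := fun q => by
    rw [conj_mul, ← pow_add] at q
    have q1 := wa h
    rw [(show Commute (h.y ^ 2) h.a by simpa [mul_assoc] using q.conj α⁻¹).eq] at q1
    exact z1 h (by rw [← q1]; group)
  obtain ⟨c1, hc1, j, e1 | ⟨gy, e1⟩⟩ := cwS h (nS _ (DS h (yD h 1))) (cw _ (yD h 1)) <;>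
    obtain ⟨c2, hc2, k, e2 | ⟨gy, e2⟩⟩ := cwS h (nS _ (DS h (aD h))) (cw _ (aD h))
  · exact fin (by rw [e1, e2]; exact (AA j k hc1 hc2).mul_left (AA j k hc1 hc2))
  · refine fin ?_
    rw [e1, e2]
    refine ((AA j k hc1 hc2).mul_left (AA j k hc1 hc2)).mul_right ?_
    rw [(RD h hc1 (yD h j)).symm.mul_mul_mul_comm, ← pow_add, ← two_mul]
    exact ((r4 _ (aD h) c2 hc2 k gy e2 c1 hc1).mul_right (gw h j)).symm
  all_goals
    have q : c1 * h.y ^ j * h.g * (c1 * h.y ^ j * h.g) =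
        c1 * (h.g * c1 * h.g⁻¹) * (h.g * h.g) * h.y ^ (j + 5 * j) := by
      have a1 := (RD h (mul_mem (nR h h.gS hc1) (gg h)) (yD h j)).eq
      have a2 := (RD h (gg h) (yD h (5 * j))).eq
      calc _ = c1 * h.y ^ j * (h.g * c1 * h.g⁻¹) * (h.g * h.y ^ j) * h.g := by group
        _ = c1 * h.y ^ j * (h.g * c1 * h.g⁻¹) * (h.y ^ (5 * j) * (h.g * h.g)) := by
          rw [gpow h gy]; group
        _ = c1 * (h.y ^ j * (h.g * c1 * h.g⁻¹ * (h.g * h.g))) * h.y ^ (5 * j) := by rw [← a2]; group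
        _ = _ := by rw [← a1, pow_add]; group
    have hc3 := mul_mem (mul_mem hc1 (nR h h.gS hc1)) (gg h)
    refine fin ?_
    rw [e1, e2]
  · rw [q]; exact AA _ _ hc3 hc2
  · refine Commute.mul_right (by rw [q]; exact AA _ _ hc3 hc2) ?_
    have q1 : Commute (c1 * h.y ^ j * h.g * (c1 * h.y ^ j * h.g)) (c1 * h.y ^ j) := by
      rw [q]; exact AA _ _ hc3 hc1
    exact mul_cancel_comm q1 ((Commute.refl _).mul_left (Commute.refl _))

theorem tR (rt : h.r = t) {c : G} (hc : c ∈ zpowers h.r) : c = 1 ∨ c = t := by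
  refine invR h hc ?_
  obtain ⟨n, rfl⟩ := mem_zpowers_iff.1 hc
  rw [← (Commute.refl h.r).mul_zpow, rt, h.t2, one_zpow]

theorem step3 (rt : h.r = t) {α : G} (hα : α ∈ normalizer (h.S : Set G)) :
    α * h.y ^ 4 * α⁻¹ = h.y ^ 4 := by
  have nS : ∀ x ∈ h.S, α * x * α⁻¹ ∈ h.S := fun x => (mem_normalizer_iff.1 hα x).1
  have nS' : ∀ x ∈ h.S, α⁻¹ * x * α ∈ h.S := fun x hx => by
    simpa using (mem_normalizer_iff.1 (inv_mem hα) x).1 hx
  have rep : ∀ x ∈ h.S, ∃ c ∈ zpowers h.r, ∃ n : ℕ,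
      x * (c * h.g ^ n)⁻¹ ∈ closure ({h.y, h.a} : Set G) := fun x hx => by
    obtain ⟨c, hc, d, hd, rfl | ⟨-, rfl⟩⟩ := dec h hx
    · exact ⟨c, hc, 0, by rw [(RD h hc hd).eq]; simpa using hd⟩
    · exact ⟨c, hc, 1, by rw [(RD h hc hd).eq]; simpa [mul_assoc] using hd⟩
  have cg : ∀ c ∈ zpowers h.r, Commute h.g c := fun c hc => by
    rcases tR h rt hc with rfl | q
    exacts [Commute.one_right _, q ▸ St h h.gS]
  obtain ⟨c, hc, n, e⟩ := rep _ (nS _ (DS h (yD h 2)))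
  obtain ⟨c', hc', n', e'⟩ := rep _ (nS _ (DS h (aD h)))
  have h9 := comm_mem e e' (fun _ => nD h (mul_mem (RS h hc) (pow_mem h.gS n)))
    (fun _ => nD h (mul_mem (RS h hc') (pow_mem h.gS n')))
    (((RR h hc hc').mul_right ((cg c hc).symm.pow_right n')).mul_left
      (((cg c' hc').pow_left n).mul_right (Commute.pow_pow_self _ _ _))).eq
  rw [show α * h.y ^ 2 * α⁻¹ * (α * h.a * α⁻¹) * (α * h.y ^ 2 * α⁻¹)⁻¹ * (α * h.a * α⁻¹)⁻¹ =
    α * (h.y ^ 2 * h.a * (h.y ^ 2)⁻¹ * h.a⁻¹) * α⁻¹ by group, wa] at h9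
  have cen : ∀ x ∈ h.S, Commute x (α * h.y ^ 4 * α⁻¹) := fun x hx => by
    simpa [mul_assoc] using (zS h (nS' x hx)).conj α
  obtain ⟨i, hi⟩ := cwD h h9 (cen _ (DS h (yD h 2))).symm
  have q := (cen _ (DS h (aD h))).eq
  have q1 : h.y ^ i ≠ 1 := fun e => z1 h (conj_eq_one_iff.1 (hi.trans e))
  rw [hi, apow, mul_left_inj, peq] at q
  rw [Ne, pone] at q1
  rw [hi, peq]
  omega

theorem step4 (rt : h.r = t) {α : G} (hα : α ∈ normalizer (h.S : Set G))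
    (e : α * t * α⁻¹ = t * h.y ^ 4) : h.g * h.g = 1 := by
  have nS : ∀ x ∈ h.S, α * x * α⁻¹ ∈ h.S := fun x => (mem_normalizer_iff.1 hα x).1
  refine (tR h rt (gg h)).resolve_right fun g2 => ?_
  have gy : h.g * h.y * h.g⁻¹ = h.y ^ 5 :=
    (h.out.resolve_left fun q => h.t1 (by rw [← g2, q, mul_one])).2.1
  have cen : ∀ c ∈ zpowers h.r, ∀ x ∈ h.S, Commute x c := fun c hc x hx => by
    rcases tR h rt hc with rfl | q
    exacts [Commute.one_right _, q ▸ St h hx]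
  have root : ∀ x ∈ h.S, x * x = t * h.y ^ 4 →
      ∃ c ∈ zpowers h.r, ∃ i : ℕ, x = c * h.y ^ (2 * i) * h.g := fun x hx q => by
    obtain ⟨c, hc, d, hd, rfl | ⟨-, rfl⟩⟩ := dec h hx
    · rw [(RD h hc hd).symm.mul_mul_mul_comm] at q
      have q1 := (uniq h (mul_mem hc hc) h.tr (mul_mem hd hd) (yD h 4) q).1
      rcases tR h rt hc with rfl | q2
      · exact absurd (by rw [← q1, mul_one]) h.t1
      · exact absurd (by rw [← q1, q2, h.t2]) h.t1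
    have q1 : d * h.g * (d * h.g) = t * h.y ^ 4 := by
      rw [← q, mul_assoc c, (cen c hc _ (mul_mem (DS h hd) h.gS)).mul_mul_mul_comm]
      rcases tR h rt hc with rfl | q2
      · rw [one_mul, one_mul]
      · rw [q2, h.t2, one_mul]
    replace q1 := q1.trans ((St h (DS h (yD h 4))).symm.trans (congrArg _ g2.symm))
    obtain ⟨i, rfl | rfl⟩ := memD h hd
    · rw [mul_assoc, ← mul_assoc h.g, gpow h gy, mul_assoc, ← mul_assoc, ← pow_add, mul_left_inj,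
        peq] at q1
      exact ⟨c, hc, i / 2, by rw [show 2 * (i / 2) = i by omega]⟩
    · rw [mul_assoc, ← mul_assoc h.g, ← mul_assoc h.g, gpow h gy, mul_assoc _ h.g, (ga h).eq,
        ← mul_assoc (h.y ^ (5 * i)), mul_assoc _ h.g, ← mul_assoc, apow'', mul_left_inj, peq] at q1
      omega
  have hq := mul_mem (yD h 7) (aD h)
  have s2 : h.y ^ 7 * h.a * h.g * (h.y ^ 7 * h.a * h.g) = t := by
    rw [mul_assoc, ← mul_assoc h.g, ← mul_assoc h.g, gpow h gy, mul_assoc _ h.g, (ga h).eq,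
      ← mul_assoc (h.y ^ (5 * 7)), mul_assoc _ h.g, ← mul_assoc, apow'', g2, (pone h).2 (by decide),
      one_mul]
  have xS := mul_mem (DS h hq) h.gS
  obtain ⟨c1, hc1, i, e1⟩ := root _ (nS _ h.gS) (by rw [conj_mul, g2, e])
  obtain ⟨c2, hc2, j, e2⟩ := root _ (nS _ xS) (by rw [conj_mul, s2, e])
  have q : Commute (α * h.g * α⁻¹) (α * (h.y ^ 7 * h.a * h.g) * α⁻¹) := by
    refine Commute.symm (e1 ▸ ((cen c1 hc1 _ (nS _ xS)).mul_right ?_).mul_right ?_) <;> rw [e2]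
    · exact ((RD h hc2 (yD h _)).mul_left (Commute.pow_pow_self _ _ _)).mul_left (gw h i)
    · exact ((cen c2 hc2 _ h.gS).symm.mul_left (gw h j).symm).mul_left (Commute.refl _)
  have q1 : Commute h.g (h.y ^ 7 * h.a * h.g) := by simpa [mul_assoc] using q.conj α⁻¹
  have q2 := ((q1.mul_right (Commute.refl _).inv_right).mul_right (ga h).inv_right).eq
  rw [mul_inv_cancel_right, mul_inv_cancel_right, gpow h gy, mul_left_inj, peq] at q2
  omega

theorem red : RedS.{u} := by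
  rintro G _ _ t h ⟨v, h1, h2, h3⟩
  have tz : t ≠ h.y ^ 4 := fun e => h.t1 (dis h h.tr (by have := yD h 4; rwa [← e] at this))
  have key : ¬ IsConj t (h.y ^ 4) := fun q => by
    obtain ⟨α, hα, e⟩ := burn h q fun x hx => zS h hx
    have := step3 h (step2 h hα (e.trans_ne tz.symm)) hα
    exact tz (mul_left_cancel (mul_right_cancel (e.trans this.symm)))
  obtain ⟨α, hα, e⟩ := burn h ((step1 h h1 h2 h3).resolve_left key)
    fun x hx => Commute.mul_right (St h hx) (zS h hx)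
  have rt := step2 h hα (e.trans_ne fun q => z1 h (mul_eq_left.1 q))
  have hz := step3 h rt hα
  have a2 : Commute (α ^ 2) t := by
    rw [commute_iff_eq, ← mul_inv_eq_iff_eq_mul]
    calc _ = α * (α * t * α⁻¹) * α⁻¹ := by rw [sq]; group
      _ = t := by rw [e, ← conj_mul, e, hz, mul_assoc, z2, mul_one]
  obtain ⟨k, m, ⟨j, rfl⟩, hm⟩ := Nat.exists_eq_two_pow_mul_odd (orderOf_pos α).ne'
  refine ⟨⟨h, rt, fun q => key q.symm, step4 h rt hα e, α ^ (2 * j + 1), pow_mem hα _, ?_, ?_⟩⟩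
  · rw [← e, pow_succ', pow_mul, mul_assoc α, (a2.pow_left j).eq]; group
  · refine h.syl.mem_of_norm (k := k) (mem_centralizer_singleton_iff.2 ?_) ?_
      (mul_mem (pow_mem hα _) (pow_mem hα _))
    · rw [← pow_add, ← two_mul, pow_mul]; exact (a2.pow_left _).eq
    · rw [← pow_add, ← two_mul, ← pow_mul, mul_assoc, mul_comm (2 * j + 1), ← hm, pow_mul',
        pow_orderOf_eq_one, one_pow]

end Cfsg.Agent.H49.L3R
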