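import Cfsg.Agent.H53.MWDefs2

/-!
Project MW2, piece LP34: the primitive case of `Lin` for `e = 3, 4`.
-/

set_option autoImplicit false

namespace Cfsg.Agent.H49.MwL

open MulAction Cfsg.Agent.H12.RO Cfsg.Agent.H53.MW

universe u

theorem fin (C : CpKit.{u}) {G V : Type u} [Group G] [Finite G] [AddCommGroup V] [Finite V]
    [DistribMulAction G V] {p : ℕ} (hp : 11 ≤ p)
    (h : 2401 * (p : ℚ) ^ 2 ≤ 14400 * (cp G V * ((Nat.card V : ℚ) - 1))) : Lin p G V := by
  obtain ⟨h1, h2, -⟩ := C.am G V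
  have hc : 0 ≤ cp G V := by
    unfold cp
    exact (commProb_pos (img G V)).le
  have hp' : (11 : ℚ) ≤ p := by exact_mod_cast hp
  refine ⟨by nlinarith, fun _ => ?_⟩
  have h2' : (2 : ℚ) ≤ ko G V := by exact_mod_cast h2
  have h3 : (49 * (p : ℚ)) ^ 2 ≤ (60 * ((ko G V : ℚ) - 1)) ^ 2 := by nlinarith
  have h4 : 49 * (p : ℚ) ≤ 60 * ((ko G V : ℚ) - 1) :=
    (pow_le_pow_iff_left₀ (by positivity) (by linarith) two_ne_zero).1 h3
  have h5 : ((49 * p + 60 : ℕ) : ℚ) ≤ ((60 * ko G V : ℕ) : ℚ) := by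
    push_cast
    linarith
  exact_mod_cast h5

theorem num2 {p F n D : ℕ} (hp : 11 ≤ p) (hF : 2 ≤ F) (hn : 3 ≤ n) (hD : D ≤ 1152) :
    2401 * p ^ 2 * (D * F ^ 2) + 14400 ≤ 14400 * p ^ (F * n) := by
  obtain ⟨g, rfl⟩ := Nat.exists_eq_add_of_le hF
  have h1 : p ^ ((2 + g) * 3) ≤ p ^ ((2 + g) * n) :=
    Nat.pow_le_pow_right (by omega) (Nat.mul_le_mul_left _ hn)
  have h2 : g < 2 ^ g := Nat.lt_two_pow_self
  have h3 : (2 + g) ^ 2 ≤ 4 * (2 ^ g) ^ 2 := by nlinarith
  have h4 : (2 ^ g) ^ 2 ≤ p ^ (3 * g) := by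
    rw [← pow_mul, mul_comm g 2, pow_mul, pow_mul]
    exact Nat.pow_le_pow_left (le_trans (by norm_num) (Nat.pow_le_pow_left hp 3)) g
  have h5 : p ^ ((2 + g) * 3) = p ^ 2 * p ^ 4 * p ^ (3 * g) := by ring
  have h6 : 11 ^ 4 ≤ p ^ 4 := Nat.pow_le_pow_left hp 4
  have h7 : 11 ^ 2 ≤ p ^ 2 := Nat.pow_le_pow_left hp 2
  have h8 : 0 < p ^ (3 * g) := by positivity
  have h9 : D * (2 + g) ^ 2 ≤ 1152 * (4 * p ^ (3 * g)) := Nat.mul_le_mul hD (by omega)
  have h10 : p ^ 2 * 11 ^ 4 * p ^ (3 * g) ≤ p ^ 2 * p ^ 4 * p ^ (3 * g) := by gcongr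
  have h11 : 2401 * p ^ 2 * (D * (2 + g) ^ 2) ≤ 2401 * p ^ 2 * (1152 * (4 * p ^ (3 * g))) :=
    Nat.mul_le_mul_left _ h9
  have h12 : 1 ≤ p ^ 2 * p ^ (3 * g) := Nat.mul_pos (by omega) h8
  nlinarith

theorem num1 {p n D : ℕ} (hp : 11 ≤ p)
    (h : (5 ≤ n ∧ D ≤ 1152) ∨ (4 ≤ n ∧ D ≤ 720) ∨ (3 ≤ n ∧ D ≤ 72 ∧ 13 ≤ p)) :
    2401 * p ^ 2 * (D * 1 ^ 2) + 14400 ≤ 14400 * p ^ (1 * n) := by
  have h7 : 11 ^ 2 ≤ p ^ 2 := Nat.pow_le_pow_left hp 2
  rw [one_mul, one_pow, mul_one]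
  rcases h with ⟨h1, h2⟩ | ⟨h1, h2⟩ | ⟨h1, h2, h3⟩
  · have h4 : p ^ 5 ≤ p ^ n := Nat.pow_le_pow_right (by omega) h1
    have h5 : 11 ^ 3 ≤ p ^ 3 := Nat.pow_le_pow_left hp 3
    have h6 : p ^ 5 = p ^ 2 * p ^ 3 := by ring
    have h8 : p ^ 2 * 11 ^ 3 ≤ p ^ 2 * p ^ 3 := Nat.mul_le_mul_left _ h5
    have h9 : 2401 * p ^ 2 * D ≤ 2401 * p ^ 2 * 1152 := Nat.mul_le_mul_left _ h2
    omega
  · have h4 : p ^ 4 ≤ p ^ n := Nat.pow_le_pow_right (by omega) h1
    have h6 : p ^ 4 = p ^ 2 * p ^ 2 := by ring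
    have h8 : p ^ 2 * 11 ^ 2 ≤ p ^ 2 * p ^ 2 := Nat.mul_le_mul_left _ h7
    have h9 : 2401 * p ^ 2 * D ≤ 2401 * p ^ 2 * 720 := Nat.mul_le_mul_left _ h2
    omega
  · have h4 : p ^ 3 ≤ p ^ n := Nat.pow_le_pow_right (by omega) h1
    have h6 : p ^ 3 = p ^ 2 * p := by ring
    have h8 : p ^ 2 * 13 ≤ p ^ 2 * p := Nat.mul_le_mul_left _ h3
    have h9 : 2401 * p ^ 2 * D ≤ 2401 * p ^ 2 * 72 := Nat.mul_le_mul_left _ h2
    omega

/-- an element of order prime to `r` with an image of the same order -/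
theorem lift {H X : Type*} [Group H] [Finite H] [Group X] (φ : H →* X) {r : ℕ} (hr : r.Prime)
    (y : H) (hy : (orderOf (φ y)).Coprime r) :
    ∃ (x : H) (B : ℕ), B.Coprime r ∧ x ^ B = 1 ∧ orderOf (φ x) = orderOf (φ y) := by
  obtain ⟨a, B, hB, he⟩ := Nat.exists_eq_pow_mul_and_not_dvd (orderOf_pos y).ne' r hr.ne_one
  refine ⟨y ^ r ^ a, B, ((Nat.Prime.coprime_iff_not_dvd hr).2 hB).symm, ?_, ?_⟩
  · rw [← pow_mul, ← he, pow_orderOf_eq_one]
  · rw [map_pow]
    exact (hy.pow_right a).orderOf_pow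

/-- classes of elements of order prime to `n` -/
theorem cnt (C : CpKit.{u}) {H : Type u} {X : Type*} [Group H] [Finite H] [Group X] (φ : H →* X)
    (U : Subgroup H) (hU : U ≤ Subgroup.center H) (hc : IsCyclic U) (hφ : ∀ a ∈ U, φ a = 1)
    {n : ℕ} (hn : ∀ x g : H, ∀ a ∈ U, g * x * g⁻¹ = a * x → a ^ n = 1) {k : ℕ} (x : Fin k → H)
    (hx : ∀ i, ∃ B : ℕ, B.Coprime n ∧ x i ^ B = 1)
    (hi : ∀ i j, orderOf (φ (x i)) = orderOf (φ (x j)) → i = j) :
    k * Nat.card U ≤ Nat.card (ConjClasses H) := by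
  have h := C.cls H U hU hc k x (fun _ => 1) (fun _ => one_pos) (fun i j g a ha he => ?_)
    (fun i g a ha he => ?_)
  · simp only [Nat.cast_one, div_one, Finset.sum_const, Finset.card_univ, Fintype.card_fin,
      nsmul_eq_mul] at h
    exact_mod_cast h
  · refine hi i j ?_
    have h1 : φ g * φ (x i) * (φ g)⁻¹ = φ (x j) := by
      rw [← map_inv, ← map_mul, ← map_mul, he, map_mul, hφ a ha, one_mul]
    rw [← h1]
    exact (orderOf_injective (MulAut.conj (φ g)).toMonoidHom (MulAut.conj (φ g)).injective _).symm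
  · obtain ⟨B, hB, hb⟩ := hx i
    have h1 : a ^ B = 1 := by
      have h2 : (g * x i * g⁻¹) ^ B = 1 := by rw [conj_pow, hb, mul_one, mul_inv_cancel]
      have h3 : Commute a (x i) := ((Subgroup.mem_center_iff.1 (hU ha)) (x i)).symm
      rw [he, h3.mul_pow, hb, mul_one] at h2
      exact h2
    have h4 := pow_gcd_eq_one.2 ⟨h1, hn _ _ a ha he⟩
    rwa [hB] at h4

/-- the induced group acts additively -/
@[reducible] def imgAct (H W : Type*) [Group H] [AddCommGroup W] [DistribMulAction H W] :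
    DistribMulAction (img H W) W :=
  { (inferInstance : MulAction (img H W) W) with
    smul_zero := by
      rintro ⟨_, g, rfl⟩
      exact smul_zero g
    smul_add := by
      rintro ⟨_, g, rfl⟩ x y
      exact smul_add g x y }

theorem odd_el {H W : Type*} [Group H] [Finite H] [AddCommGroup W] [Finite W]
    [DistribMulAction H W] (hcr : CR H W) (hW : Nat.card W = 16) (h1 : 1 < Nat.card (img H W)) :
    ∃ y : H, (orderOf (toPermHom H W y)).Prime ∧ orderOf (toPermHom H W y) ≠ 2 := by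
  by_contra hcon
  push Not at hcon
  have : Fact (Nat.Prime 2) := ⟨Nat.prime_two⟩
  have h2 : IsPGroup 2 (img H W) := by
    refine IsPGroup.of_card (Nat.eq_prime_pow_of_unique_prime_dvd (by omega) fun {s} hs hd => ?_)
    have := Fact.mk hs
    obtain ⟨x, hx⟩ := exists_prime_orderOf_dvd_card' s hd
    obtain ⟨y, hy⟩ := x.2
    rw [← Subgroup.orderOf_coe, ← hy] at hx
    rw [← hx]
    exact hcon y (hx ▸ hs)
  let F : AddSubgroup W :=
    { carrier := {w | ∀ g : H, g • w = w}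
      zero_mem' := fun g => smul_zero g
      add_mem' := fun {a b} ha hb g => by rw [smul_add, ha g, hb g]
      neg_mem' := fun {a} ha g => by rw [smul_neg, ha g] }
  obtain ⟨W', hW', h3, h4⟩ := hcr F fun g v hv => by rw [hv g]; exact hv
  by_cases h5 : W' = ⊥
  · rw [h5, sup_bot_eq] at h4
    have h6 : img H W = ⊥ := by
      rw [eq_bot_iff]
      rintro _ ⟨g, rfl⟩
      exact Equiv.ext fun w => (h4 ▸ AddSubgroup.mem_top w : w ∈ F) g
    rw [h6, Subgroup.card_bot] at h1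
    omega
  let S : SubMulAction (img H W) W :=
    { carrier := W'
      smul_mem' := by
        rintro ⟨_, g, rfl⟩ x hx
        exact hW' g x hx }
  have h6 : 2 ∣ Nat.card S := by
    have h7 : Nat.card W' ∣ 2 ^ 4 := (AddSubgroup.card_addSubgroup_dvd_card W').trans (by rw [hW]; rfl)
    obtain ⟨k, -, hk⟩ := (Nat.dvd_prime_pow Nat.prime_two).1 h7
    have h8 : Nat.card W' ≠ 1 := fun h => h5 (AddSubgroup.eq_bot_of_card_eq _ h)
    change 2 ∣ Nat.card W'
    rw [hk] at h8 ⊢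
    refine dvd_pow_self 2 ?_
    rintro rfl
    exact h8 rfl
  obtain ⟨v, hv, hne⟩ := h2.exists_fixed_point_of_prime_dvd_card_of_fixed_point S h6
    (a := ⟨0, W'.zero_mem⟩) (by
      rintro ⟨_, g, rfl⟩
      exact Subtype.ext (smul_zero g))
  have h7 : v.1 ∈ F ⊓ W' :=
    ⟨fun g => congrArg Subtype.val (hv ⟨_, g, rfl⟩), v.2⟩
  rw [h3] at h7
  exact hne (Subtype.ext h7.symm)

section Nine

variable {X W A : Type*} [Group X] [Finite X] [AddCommGroup W] [Finite W] [DistribMulAction X W]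
  [CommGroup A] (b : W → W → A)

omit [Finite X] in
theorem stab_dvd (hf : ∀ g : X, (∀ w : W, g • w = w) → g = 1) (hW : Nat.card W = 9)
    (hadd : ∀ x y z, b x (y + z) = b x y * b x z) (hself : ∀ x, b x x = 1)
    (hnd : ∀ x, (∀ y, b x y = 1) → x = 0) (hinv : ∀ (g : X) x y, b (g • x) (g • y) = b x y)
    (P : Subgroup X) {w : W} (hw : w ≠ 0) (hP : ∀ g ∈ P, g • w = w) : Nat.card P ∣ 3 := by
  obtain ⟨y, hy⟩ : ∃ y, b w y ≠ 1 := by
    by_contra h
    push Not at h
    exact hw (hnd w h)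
  let β : W →+ Additive A := AddMonoidHom.mk' (fun v => Additive.ofMul (b w v)) fun x y => by
    rw [hadd]; rfl
  have hcard : ∀ T : AddSubgroup W, w ∈ T → T = ⊤ ∨ Nat.card T = 3 := by
    intro T hT
    have h7 : Nat.card T ∣ 3 ^ 2 := (AddSubgroup.card_addSubgroup_dvd_card T).trans (by rw [hW]; rfl)
    obtain ⟨k, hk2, hk⟩ := (Nat.dvd_prime_pow Nat.prime_three).1 h7
    interval_cases k
    · rw [AddSubgroup.eq_bot_of_card_eq T hk] at hT
      exact (hw hT).elim
    · exact Or.inr hk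
    · exact Or.inl (AddSubgroup.eq_top_of_card_eq T (by rw [hk, hW]; rfl))
  have hwK : w ∈ β.ker := hself w
  have hyK : y ∉ β.ker := hy
  have hK : Nat.card β.ker = 3 := (hcard _ hwK).resolve_left fun h => hyK (h ▸ trivial)
  have hT : ∀ T : AddSubgroup W, w ∈ T → β.ker ≤ T := by
    intro T hT
    rcases hcard (β.ker ⊓ T) ⟨hwK, hT⟩ with h | h
    · exact le_top.trans (h.ge.trans inf_le_right)
    · have := AddSubgroup.eq_of_le_of_card_ge (inf_le_left (a := β.ker) (b := T)) (by rw [h, hK])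
      exact this.ge.trans inf_le_right
  let Fx : X → AddSubgroup W := fun g =>
    { carrier := {v | g • v = v}
      zero_mem' := smul_zero g
      add_mem' := fun {a b} ha hb => by
        change g • (a + b) = a + b
        rw [smul_add, ha, hb]
      neg_mem' := fun {a} ha => by
        change g • (-a) = -a
        rw [smul_neg, ha] }
  have hm : ∀ g : P, g.1 • y - y ∈ β.ker := by
    intro g
    rw [AddMonoidHom.mem_ker, map_sub, sub_eq_zero]
    change Additive.ofMul (b w (g.1 • y)) = Additive.ofMul (b w y)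
    rw [← hinv g.1 w y, hP g.1 g.2]
  let ψ : P →* Multiplicative β.ker := MonoidHom.mk' (fun g => Multiplicative.ofAdd ⟨_, hm g⟩)
    fun g h => by
      rw [← ofAdd_add]
      congr 1
      refine Subtype.ext ?_
      have h1 : g.1 • (h.1 • y - y) = h.1 • y - y := hT (Fx g) (hP g.1 g.2) (hm h)
      change (g.1 * h.1) • y - y = (g.1 • y - y) + (h.1 • y - y)
      rw [smul_sub] at h1
      rw [mul_smul, ← h1]
      abel
  have hi : Function.Injective ψ := by
    rw [injective_iff_map_eq_one]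
    intro g hg
    have h1 : g.1 • y - y = 0 := congrArg (fun t => (Multiplicative.toAdd t).1) hg
    have h2 : y ∈ Fx g := sub_eq_zero.1 h1
    rcases hcard (Fx g) (hP g.1 g.2) with h | h
    · exact Subtype.ext (hf g fun v => (h ▸ AddSubgroup.mem_top v : v ∈ Fx g))
    · have := AddSubgroup.eq_of_le_of_card_ge (hT (Fx g) (hP g.1 g.2)) (by rw [h, hK])
      exact (hyK (this ▸ h2)).elim
  have h3 := Subgroup.card_dvd_of_injective ψ hi
  rwa [Nat.card_congr Multiplicative.toAdd, hK] at h3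

theorem four_el (hf : ∀ g : X, (∀ w : W, g • w = w) → g = 1) (hW : Nat.card W = 9)
    (hadd : ∀ x y z, b x (y + z) = b x y * b x z) (hself : ∀ x, b x x = 1)
    (hnd : ∀ x, (∀ y, b x y = 1) → x = 0) (hinv : ∀ (g : X) x y, b (g • x) (g • y) = b x y)
    (h9 : 9 ≤ Nat.card X) (h24 : Nat.card X ≤ 24) : ∃ x : X, orderOf x = 4 := by
  have key : ∀ r k : ℕ, r.Prime → r ^ k ∣ Nat.card X → r ^ k ∣ 3 ∨ 9 % r = 1 % r := by
    intro r k hr hd
    have := Fact.mk hr
    obtain ⟨P, hP⟩ := Sylow.exists_subgroup_card_pow_prime r hd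
    by_cases h : ∃ w : W, w ≠ 0 ∧ ∀ g ∈ P, g • w = w
    · obtain ⟨w, hw, h⟩ := h
      exact Or.inl (hP ▸ stab_dvd b hf hW hadd hself hnd hinv P hw h)
    push Not at h
    have h1 := (IsPGroup.of_card hP).card_modEq_card_fixedPoints W
    have h2 : fixedPoints P W = {0} := by
      refine Set.eq_singleton_iff_unique_mem.2 ⟨fun g => smul_zero g, fun w hw => ?_⟩
      by_contra h0
      obtain ⟨g, hg, hne⟩ := h w h0
      exact hne (hw ⟨g, hg⟩)
    rw [h2, hW, Nat.card_unique] at h1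
    exact Or.inr h1
  have h4 : 2 ^ 2 ∣ Nat.card X := by
    have a1 := key 3 2 (by norm_num)
    have a2 := key 5 1 (by norm_num)
    have a3 := key 7 1 (by norm_num)
    have a4 := key 11 1 (by norm_num)
    have a5 := key 13 1 (by norm_num)
    have a6 := key 17 1 (by norm_num)
    have a7 := key 19 1 (by norm_num)
    have a8 := key 23 1 (by norm_num)
    norm_num at a1 a2 a3 a4 a5 a6 a7 a8 ⊢
    generalize Nat.card X = m at *
    interval_cases m <;> omega
  have hinvo : ∀ s : X, orderOf s = 2 → ∀ w : W, s • w = -w := by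
    intro s hs w
    by_contra h0
    have h1 : s • w + w ≠ 0 := fun h => h0 (eq_neg_of_add_eq_zero_left h)
    have h2 : s • (s • w + w) = s • w + w := by
      rw [smul_add, ← mul_smul, ← pow_two, ← hs, pow_orderOf_eq_one, one_smul, add_comm]
    have h3 := stab_dvd b hf hW hadd hself hnd hinv (Subgroup.zpowers s) h1
      (show Subgroup.zpowers s ≤ stabilizer X _ from Subgroup.zpowers_le.2 h2)
    rw [Nat.card_zpowers, hs] at h3
    omega
  have : Fact (Nat.Prime 2) := ⟨Nat.prime_two⟩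
  obtain ⟨P, hP⟩ := Sylow.exists_subgroup_card_pow_prime 2 h4
  by_contra hcon
  push Not at hcon
  have h5 : ∀ g : P, g ≠ 1 → orderOf (g : X) = 2 := by
    intro g hg
    have h6 : orderOf g ∣ 2 ^ 2 := hP ▸ orderOf_dvd_natCard g
    obtain ⟨k, hk2, hk⟩ := (Nat.dvd_prime_pow Nat.prime_two).1 h6
    rw [Subgroup.orderOf_coe]
    interval_cases k
    · exact (hg (orderOf_eq_one_iff.1 hk)).elim
    · exact hk
    · exact (hcon g (by rw [Subgroup.orderOf_coe, hk]; rfl)).elim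
  have h6 : ∀ g h : P, g ≠ 1 → h ≠ 1 → g = h := by
    intro g h hg hh
    refine Subtype.ext (inv_mul_eq_one.1 (hf _ fun w => ?_))
    rw [mul_smul, inv_smul_eq_iff, hinvo _ (h5 g hg), hinvo _ (h5 h hh)]
  classical
  have h7 : Nat.card P ≤ Nat.card Bool :=
    Nat.card_le_card_of_injective (fun g : P => decide (g = 1)) fun g h hgh => by
      by_cases hg : g = 1
      · simp only [hg, decide_true, Bool.true_eq, decide_eq_true_eq] at hgh
        rw [hg, hgh]
      · simp only [hg, decide_false, Bool.false_eq, decide_eq_false_iff_not] at hgh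
        exact h6 g h hg hgh
  rw [hP] at h7
  simp at h7

end Nine

theorem rat_fin {p N D F f : ℕ} {c c0 : ℚ} (hc : 0 ≤ c) (h0 : c0 ≤ c * (f : ℚ) ^ 2) (hf : f ≤ F)
    (hD : 1 ≤ c0 * D) (hn : 2401 * p ^ 2 * (D * F ^ 2) + 14400 ≤ 14400 * N) :
    2401 * (p : ℚ) ^ 2 ≤ 14400 * (c * ((N : ℚ) - 1)) := by
  have h1 : (2401 : ℚ) * p ^ 2 * (D * F ^ 2) + 14400 ≤ 14400 * N := by exact_mod_cast hn
  have h2 : (f : ℚ) ^ 2 ≤ (F : ℚ) ^ 2 := by exact_mod_cast Nat.pow_le_pow_left hf 2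
  have h3 : c0 ≤ c * (F : ℚ) ^ 2 := h0.trans (mul_le_mul_of_nonneg_left h2 hc)
  have h4 : 1 ≤ c * (D * F ^ 2) := by
    have : c0 * D ≤ c * (F : ℚ) ^ 2 * D := mul_le_mul_of_nonneg_right h3 (Nat.cast_nonneg D)
    linarith
  have h5 : c * (2401 * p ^ 2 * (D * F ^ 2)) ≤ c * (14400 * (N - 1)) :=
    mul_le_mul_of_nonneg_left (by linarith) hc
  have h6 : 2401 * (p : ℚ) ^ 2 * 1 ≤ 2401 * p ^ 2 * (c * (D * F ^ 2)) :=
    mul_le_mul_of_nonneg_left h4 (by positivity)
  linarith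

theorem cp_ge {H : Type*} [Group H] [Finite H] {k u m D : ℕ} (hk : k * u ≤ Nat.card (ConjClasses H))
    (hH : Nat.card H = u * m) (hD : m ≤ k * D) : 1 ≤ commProb H * D := by
  have h0 : (0 : ℚ) < Nat.card H := by exact_mod_cast Nat.card_pos
  rw [commProb_def', div_mul_eq_mul_div, le_div_iff₀ h0, one_mul, hH]
  have : u * m ≤ Nat.card (ConjClasses H) * D := by
    calc u * m ≤ u * (k * D) := Nat.mul_le_mul_left _ hD
      _ = k * u * D := by ring
      _ ≤ _ := Nat.mul_le_mul_right _ hk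
  exact_mod_cast this

/-- **LP34** -/
theorem linP34 (C : CpKit.{u}) (O : OrdKit.{u}) (sq : SqfStmt'.{u}) (o16 : OrdStmt.{u}) :
    LinP.{u} fun e => e = 3 ∨ e = 4 := by
  intro G V K W _ _ _ _ _ _ _ _ _ _ _ _ _ σ U To E M π b e h he p hp h11 hpV
  obtain ⟨hV, -, hG0, hF, hr, hcen, hdet⟩ := O.pk G V K W σ U To E M π b e h
  obtain ⟨F, hq, hf, hF0⟩ := hF p hp hpV
  have hle := h.le
  set n := Module.finrank K V with hn
  have hUM : U ≤ M := h.M_eq ▸ le_sup_left
  have hU0 : U ≤ σ.ker := fun a ha => h.σM a (hUM ha)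
  let U0 : Subgroup σ.ker := U.subgroupOf σ.ker
  have hcU : Nat.card U0 = Nat.card U :=
    Nat.card_congr (Subgroup.subgroupOfEquivOfLe hU0).toEquiv
  have hcyc : IsCyclic U0 := by
    have := h.cyc
    exact isCyclic_of_surjective (Subgroup.subgroupOfEquivOfLe hU0).symm (MulEquiv.surjective _)
  have hZ : U0 ≤ Subgroup.center σ.ker := fun a ha =>
    Subgroup.mem_center_iff.2 fun g => Subtype.ext (hcen g.1 g.2 a.1 ha).symm
  let φ := toPermHom σ.ker W
  have hφ : ∀ a ∈ U0, φ a = 1 := by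
    intro a ha
    refine Equiv.ext fun w => ?_
    obtain ⟨t, ht, rfl⟩ := h.sec.surj w
    change a.1 • π t = π t
    rw [← h.sec.conj a.1 t ht, (hcen t (h.σM t ht) a.1 ha).eq, mul_inv_cancel_right]
  have hdet' : ∀ x g : σ.ker, ∀ a ∈ U0, g * x * g⁻¹ = a * x → a ^ n = 1 := fun x g a ha hx =>
    Subtype.ext (hdet x.1 x.2 g.1 g.2 a.1 ha (congrArg Subtype.val hx))
  have hcr : CR σ.ker W := O.clifford G W h.cr σ.ker
  have k1 : 1 * Nat.card U0 ≤ Nat.card (ConjClasses σ.ker) :=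
    cnt C φ U0 hZ hcyc hφ hdet' (fun _ : Fin 1 => 1)
      (fun _ => ⟨1, Nat.coprime_one_left _, one_pow _⟩) fun i j _ => Subsingleton.elim i j
  rw [← hcU, mul_assoc] at hG0
  have fin' : ∀ D : ℕ, 1 ≤ commProb σ.ker * D →
      2401 * p ^ 2 * (D * F ^ 2) + 14400 ≤ 14400 * p ^ (F * n) → Lin p G V := by
    intro D h1 h2
    refine fin C h11 (rat_fin (c0 := commProb σ.ker) (f := σ.ker.index) (F := F) ?_ ?_
      (Nat.le_of_dvd hF0 hf) h1 (by rwa [hV, hq, ← pow_mul]))
    · exact (commProb_pos (img G V)).le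
    · rw [(C.faith G V h.faith).2.1]
      exact Subgroup.commProb_subgroup_le _
  rcases he with rfl | rfl
  · have h24 : Nat.card (img σ.ker W) ≤ 24 :=
      sq σ.ker W Kˣ b 3 (by norm_num) Nat.prime_three.prime.squarefree h.card h.b_add_left
        h.b_add_right h.b_self h.b_nd fun g x y => Units.ext (by
          have := h.b_smul g.1 x y
          rw [show σ g.1 = 1 from g.2] at this
          exact this)
    have d1 := cp_ge k1 hG0 (D := 216) (by omega)
    by_cases hF2 : 2 ≤ F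
    · exact fin' 216 d1 (num2 h11 hF2 hle (by norm_num))
    obtain rfl : F = 1 := by omega
    by_cases hn4 : 4 ≤ n
    · exact fin' 216 d1 (num1 h11 (Or.inr (Or.inl ⟨hn4, by norm_num⟩)))
    have hn3 : n = 3 := by omega
    have h13 : 13 ≤ p := by
      have h1 := hr 3 Nat.prime_three dvd_rfl
      rw [hq, pow_one] at h1
      omega
    refine fin' 72 ?_ (num1 h11 (Or.inr (Or.inr ⟨hle, le_rfl, h13⟩)))
    by_cases h8 : Nat.card (img σ.ker W) ≤ 8
    · exact cp_ge k1 hG0 (by omega)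
    letI := imgAct σ.ker W
    obtain ⟨x, hx⟩ := four_el (X := img σ.ker W) b (fun g hg => Subtype.ext (Equiv.ext hg)) h.card
      h.b_add_right h.b_self h.b_nd (by
        rintro ⟨_, g, rfl⟩ x y
        refine Units.ext ?_
        have := h.b_smul g.1 x y
        rw [show σ g.1 = 1 from g.2] at this
        exact this) (by omega) h24
    obtain ⟨y, hy⟩ := x.2
    rw [← Subgroup.orderOf_coe, ← hy] at hx
    obtain ⟨z, B, hB, hz, ho⟩ := lift φ Nat.prime_three y (by rw [hx]; norm_num)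
    rw [hx] at ho
    have ho2 : orderOf (φ (z ^ 2)) = 2 := by
      rw [map_pow, orderOf_pow_of_dvd two_ne_zero (by rw [ho]; norm_num), ho]
    have k3 := cnt C φ U0 hZ hcyc hφ hdet' ![1, z ^ 2, z] (fun i => ⟨B, hn3 ▸ hB, by
      fin_cases i
      · exact one_pow _
      · change (z ^ 2) ^ B = 1
        rw [← pow_mul, mul_comm, pow_mul, hz, one_pow]
      · exact hz⟩) (by
      have h1 : ∀ i : Fin 3, orderOf (φ (![1, z ^ 2, z] i)) = ![1, 2, 4] i := by
        intro i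
        fin_cases i
        · change orderOf (φ 1) = 1
          rw [map_one, orderOf_one]
        · exact ho2
        · exact ho
      intro i j hij
      rw [h1, h1] at hij
      revert i j
      decide)
    exact cp_ge k3 hG0 (by omega)
  · have h72 : Nat.card (img σ.ker W) ≤ 72 := o16 σ.ker W hcr h.card
    have d1 := cp_ge k1 hG0 (D := 1152) (by omega)
    by_cases hF2 : 2 ≤ F
    · exact fin' 1152 d1 (num2 h11 hF2 (by omega) le_rfl)
    obtain rfl : F = 1 := by omega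
    by_cases hn5 : 5 ≤ n
    · exact fin' 1152 d1 (num1 h11 (Or.inl ⟨hn5, le_rfl⟩))
    have hn4 : n = 4 := by omega
    refine fin' 720 ?_ (num1 h11 (Or.inr (Or.inl ⟨hle, le_rfl⟩)))
    by_cases h8 : Nat.card (img σ.ker W) ≤ 45
    · exact cp_ge k1 hG0 (by omega)
    obtain ⟨y, hy, hy2⟩ := odd_el hcr h.card (by omega)
    obtain ⟨z, B, hB, hz, ho⟩ := lift φ Nat.prime_two y
      ((Nat.coprime_primes hy Nat.prime_two).2 hy2)
    have k2 := cnt C φ U0 hZ hcyc hφ hdet' ![1, z]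
      (fun i => ⟨B, hn4 ▸ hB.pow_right 2, by
        fin_cases i
        · exact one_pow _
        · exact hz⟩) (by
      have h1 : orderOf (φ z) ≠ 1 := ho ▸ hy.ne_one
      have h2 : orderOf (φ 1) = 1 := by rw [map_one, orderOf_one]
      intro i j hij
      fin_cases i <;> fin_cases j
      · rfl
      · exact (h1 (hij.symm.trans h2)).elim
      · exact (h1 (hij.trans h2)).elim
      · rfl)
    exact cp_ge k2 hG0 (by omega)

end Cfsg.Agent.H49.MwL
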