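import Cfsg.Agent.H29.LpA

/-!
Project MW2, piece LINZ: a central element of large prime order acting without fixed points.
-/

set_option autoImplicit false

namespace Cfsg.Agent.H49.MwZ

open MulAction Polynomial Cfsg.Agent.H12.RO Cfsg.Agent.H53.MW

universe u

theorem poly_field {L : Type*} [Field L] [Finite L] (ζ : L) :
    ∃ m : ℤ[X], m.Monic ∧ aeval ζ m = 0 ∧ 2 ^ m.natDegree ≤ Nat.card L := by
  obtain ⟨r, hr⟩ := CharP.exists L
  have hp : r.Prime := CharP.char_is_prime L r
  have := Fact.mk hp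
  letI := ZMod.algebra L r
  have hi : IsIntegral (ZMod r) ζ := Algebra.IsIntegral.isIntegral ζ
  obtain ⟨m, h1, h2, h3⟩ := lifts_and_natDegree_eq_and_monic
    (mem_lifts_of_surjective (f := algebraMap ℤ (ZMod r)) (ZMod.ringHom_surjective _)
      (minpoly (ZMod r) ζ)) (minpoly.monic hi)
  refine ⟨m, h3, ?_, ?_⟩
  · rw [← aeval_map_algebraMap (ZMod r), h1, minpoly.aeval]
  · rw [Module.natCard_eq_pow_finrank (K := ZMod r) (V := L), Nat.card_zmod, h2]
    exact (Nat.pow_le_pow_left hp.two_le _).trans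
      (Nat.pow_le_pow_right hp.pos (minpoly.natDegree_le ζ))

theorem card_ge {L : Type*} [Field L] [Finite L] {p : ℕ} (hp : p.Prime) {ζ : L} (h1 : ζ ^ p = 1)
    (h2 : ζ ≠ 1) : p + 1 ≤ Nat.card L := by
  have := Fact.mk hp
  have h0 : ζ ≠ 0 := by
    rintro rfl
    rw [zero_pow hp.ne_zero] at h1
    exact zero_ne_one h1
  have h3 : orderOf (Units.mk0 ζ h0) = p :=
    orderOf_eq_prime (Units.ext (by simpa using h1)) fun h => h2 (congrArg Units.val h)
  have h4 := orderOf_le_card (x := Units.mk0 ζ h0)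
  rw [h3, Nat.card_units] at h4
  have := hp.pos
  omega

theorem aeval_comm {A B : Type*} [AddCommGroup A] [AddCommGroup B] (φ : A →+ B)
    (S : Module.End ℤ A) (T : Module.End ℤ B) (h : ∀ x, φ (S x) = T (φ x)) (m : ℤ[X]) (x : A) :
    φ (aeval S m x) = aeval T m (φ x) := by
  have hk : ∀ (k : ℕ) x, φ ((S ^ k) x) = (T ^ k) (φ x) := by
    intro k
    induction k with
    | zero => exact fun _ => rfl
    | succ k ih => intro x; rw [pow_succ, pow_succ, Module.End.mul_apply, ih, h]; rfl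
  induction m using Polynomial.induction_on' with
  | add p q hp hq => rw [map_add, map_add, LinearMap.add_apply, LinearMap.add_apply, map_add, hp, hq]
  | monomial n a =>
    rw [aeval_monomial, aeval_monomial, Module.End.mul_apply, Module.End.mul_apply,
      Module.algebraMap_end_apply, Module.algebraMap_end_apply, map_zsmul, hk]

theorem pow8 {t : ℕ} (ht : 2 ≤ t) : t ^ 8 ≤ 5 * 54 ^ (t - 1) := by
  induction t, ht using Nat.le_induction with
  | base => norm_num
  | succ t ht ih =>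
    have h1 : (2 * (t + 1)) ^ 8 ≤ (3 * t) ^ 8 := Nat.pow_le_pow_left (by omega) 8
    rw [mul_pow, mul_pow] at h1
    have h2 : 54 ^ (t + 1 - 1) = 54 * 54 ^ (t - 1) := by
      rw [← pow_succ']
      congr 1
      omega
    rw [h2]
    omega

theorem pow2 {t : ℕ} (ht : 1 ≤ t) : t ^ 2 ≤ 54 ^ (t - 1) := by
  induction t, ht using Nat.le_induction with
  | base => norm_num
  | succ t ht ih =>
    have h1 : (t + 1) ^ 2 ≤ (2 * t) ^ 2 := Nat.pow_le_pow_left (by omega) 2
    rw [mul_pow] at h1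
    have h2 : 54 ^ (t + 1 - 1) = 54 * 54 ^ (t - 1) := by
      rw [← pow_succ']
      congr 1
      omega
    rw [h2]
    omega

/-- the invariant of the induction -/
def Z (p : ℕ) (G V : Type*) [Group G] [AddCommGroup V] [DistribMulAction G V] : Prop :=
  Nontrivial V → ∀ z : G, z ∈ Subgroup.center G → z ^ p = 1 → (∀ v : V, z • v = v → v = 0) →
    54 ≤ cp G V * Nat.card V ∧ ∃ m : ℤ[X], m.Monic ∧
      aeval (DistribMulAction.toModuleEnd ℤ V z) m = 0 ∧ 2 ^ m.natDegree ≤ cp G V * Nat.card V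

theorem z_prim (pk : PkStmt.{u}) (O : OrdKit.{u}) {p : ℕ} (hp : p.Prime) (h53 : 53 ≤ p)
    {G V : Type u} [Group G] [Finite G] [Group.IsSolvable G] [AddCommGroup V] [Finite V]
    [Nontrivial V] [DistribMulAction G V] (hf : ∀ g : G, (∀ x : V, g • x = x) → g = 1)
    (hP : Prim G V) : Z p G V := by
  intro _ z hz hzp hfp
  obtain ⟨K, _, _, _, W, _, _, _, σ, U, To, E, M, π, b, e, P⟩ := pk G V hf hP
  have hz' := Subgroup.mem_center_iff.1 hz
  have hzU : z ∈ U := by
    have := P.Un
    have hN : (Subgroup.center G ⊔ U).Normal := inferInstance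
    refine P.maxU _ hN le_sup_right ?_ (Subgroup.mem_sup_left hz)
    have hc : ∀ a ∈ Subgroup.center G ⊔ U, ∃ c ∈ Subgroup.center G, ∃ d ∈ U, c * d = a :=
      fun a ha => Subgroup.mem_sup_of_normal_left.1 ha
    intro a ha a' ha'
    obtain ⟨c, hc1, d, hd, rfl⟩ := hc a ha
    obtain ⟨c', hc1', d', hd', rfl⟩ := hc a' ha'
    have h1 : Commute d d' := by
      obtain ⟨g, hg⟩ := P.cyc.exists_generator
      obtain ⟨i, hi⟩ := hg ⟨d, hd⟩
      obtain ⟨j, hj⟩ := hg ⟨d', hd'⟩
      have h2 : g.1 ^ i = d := congrArg Subtype.val hi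
      have h3 : g.1 ^ j = d' := congrArg Subtype.val hj
      rw [← h2, ← h3]
      exact Commute.zpow_zpow_self _ _ _
    have h2 : ∀ x, Commute c x := fun x => (Subgroup.mem_center_iff.1 hc1 x).symm
    have h3 : ∀ x, Commute c' x := fun x => (Subgroup.mem_center_iff.1 hc1' x).symm
    exact (h2 _).mul_left ((h3 _).symm.mul_right h1)
  obtain ⟨ζ, hζ⟩ := P.Usc z hzU
  obtain ⟨v, hv⟩ := exists_ne (0 : V)
  have hσ : ∀ g : G, σ g ζ = ζ := by
    intro g
    have h1 : σ g ζ • g • v = ζ • g • v := by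
      rw [← P.semi, ← hζ, ← hζ, ← mul_smul, ← mul_smul, hz' g]
    exact smul_left_injective K ((smul_ne_zero_iff_ne g).2 hv) h1
  have hζp : ζ ^ p = 1 := by
    have h1 : ∀ k : ℕ, z ^ k • v = ζ ^ k • v := by
      intro k
      induction k with
      | zero => rw [pow_zero, pow_zero, one_smul, one_smul]
      | succ k ih => rw [pow_succ', mul_smul, ih, hζ, pow_succ', mul_smul]
    have h2 := h1 p
    rw [hzp, one_smul] at h2
    exact smul_left_injective K hv (h2.symm.trans (one_smul K v).symm)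
  have hζ1 : ζ ≠ 1 := by
    rintro rfl
    exact hv (hfp v (by rw [hζ, one_smul]))
  have hfin : Finite σ.range := Finite.of_surjective _ σ.rangeRestrict_surjective
  have := Fintype.ofFinite σ.range
  let L := FixedPoints.subfield σ.range K
  have hL : ζ ∈ L := by
    rintro ⟨_, g, rfl⟩
    exact hσ g
  have hQ : Nat.card K = Nat.card L ^ σ.ker.index := by
    rw [Subgroup.index_ker, Nat.card_eq_fintype_card (α := σ.range),
      ← FixedPoints.finrank_eq_card σ.range K, ← Module.natCard_eq_pow_finrank]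
  have hQ54 : p + 1 ≤ Nat.card L := card_ge hp (ζ := ⟨ζ, hL⟩) (Subtype.ext hζp)
    fun h => hζ1 (congrArg Subtype.val h)
  obtain ⟨m, hm, hm0, hm2⟩ := poly_field (⟨ζ, hL⟩ : L)
  obtain ⟨hV, -⟩ := O.pk G V K W σ U To E M π b e P
  have hcp := H29.Lp.cp_ge O P (H29.Lp.cls_one O P)
  have hf0 : 0 < σ.ker.index := Nat.pos_of_ne_zero σ.ker.index_ne_zero_of_finite
  have he := P.pos
  have hD : σ.ker.index ^ 2 * e ^ 2 * Nat.card (img σ.ker W) * Nat.card L ≤ Nat.card V := by
    have h1 : 1 ≤ σ.ker.index * e := Nat.mul_pos hf0 he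
    have h2 : σ.ker.index ^ 2 * e ^ 2 * Nat.card (img σ.ker W) ≤ 54 ^ (σ.ker.index * e - 1) := by
      by_cases he1 : e = 1
      · have h3 : Subsingleton W := by
          rw [← Finite.card_le_one_iff_subsingleton, P.card, he1]
          rfl
        have h4 : Nat.card (img σ.ker W) ≤ 1 := Finite.card_le_one_iff_subsingleton.2 inferInstance
        have h5 := pow2 hf0
        subst he1
        rw [one_pow, mul_one, mul_one]
        exact (Nat.mul_le_mul_left _ h4).trans (by omega)
      · have h3 := H29.Lp.h_le_base O P (by omega)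
        have h4 : 2 ≤ σ.ker.index * e := le_trans (by omega) (Nat.le_mul_of_pos_left e hf0)
        have h5 := pow8 h4
        have h6 : σ.ker.index ^ 2 ≤ σ.ker.index ^ 8 := Nat.pow_le_pow_right hf0 (by norm_num)
        have h7 : 5 * (σ.ker.index ^ 2 * e ^ 2 * Nat.card (img σ.ker W)) ≤
            (σ.ker.index * e) ^ 8 :=
          calc 5 * (σ.ker.index ^ 2 * e ^ 2 * Nat.card (img σ.ker W))
              = σ.ker.index ^ 2 * e ^ 2 * (5 * Nat.card (img σ.ker W)) := by ring
            _ ≤ σ.ker.index ^ 8 * e ^ 2 * e ^ 6 := by gcongr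
            _ = _ := by ring
        omega
    have h3 : 54 ^ (σ.ker.index * e - 1) ≤ Nat.card L ^ (σ.ker.index * e - 1) :=
      Nat.pow_le_pow_left (by omega) _
    calc _ ≤ Nat.card L ^ (σ.ker.index * e - 1) * Nat.card L := Nat.mul_le_mul_right _ (h2.trans h3)
      _ = Nat.card L ^ (σ.ker.index * e) := by rw [← pow_succ, Nat.sub_add_cancel h1]
      _ ≤ Nat.card L ^ (σ.ker.index * Module.finrank K V) :=
        Nat.pow_le_pow_right (by omega) (Nat.mul_le_mul_left _ P.le)
      _ = _ := by rw [hV, hQ, ← pow_mul]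
  have hmain : (Nat.card L : ℚ) ≤ cp G V * Nat.card V := by
    generalize σ.ker.index ^ 2 * e ^ 2 * Nat.card (img σ.ker W) = D at hD hcp
    have h1 : (D : ℚ) * Nat.card L ≤ Nat.card V := by exact_mod_cast hD
    have h2 := mul_le_mul_of_nonneg_left h1 (H29.Lp.cp_pos (G := G) (V := V)).le
    have h3 := mul_le_mul_of_nonneg_right hcp (Nat.cast_nonneg (α := ℚ) (Nat.card L))
    linarith
  refine ⟨le_trans (by exact_mod_cast (by omega : 54 ≤ Nat.card L)) hmain, m, hm, ?_,
    le_trans (by exact_mod_cast hm2) hmain⟩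
  have h1 : DistribMulAction.toModuleEnd ℤ V z = Algebra.lsmul ℤ ℤ V ζ := LinearMap.ext hζ
  have h2 : aeval ζ m = 0 := by
    have h3 := aeval_algHom_apply L.subtype.toIntAlgHom ⟨ζ, hL⟩ m
    rw [hm0, map_zero] at h3
    exact h3
  rw [h1, aeval_algHom_apply, h2, map_zero]

theorem z_sum (C : CpKit.{u}) {p : ℕ} {G V : Type u} [Group G] [Finite G] [AddCommGroup V]
    [Finite V] [DistribMulAction G V] (U W : AddSubgroup V) (hU : Inv G U) (hW : Inv G W)
    (h1 : U ≠ ⊥) (h2 : W ≠ ⊥) (h3 : U ⊓ W = ⊥) (h4 : U ⊔ W = ⊤)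
    (hU' : letI := subAct hU; Z p G U) (hW' : letI := subAct hW; Z p G W) : Z p G V := by
  intro _ z hz hzp hfp
  letI := subAct hU
  letI := subAct hW
  obtain ⟨a1, m1, a2, a3, a4⟩ := hU' ((AddSubgroup.nontrivial_iff_ne_bot U).2 h1) z hz hzp
    fun v hv => Subtype.ext (hfp v.1 (congrArg Subtype.val hv))
  obtain ⟨b1, m2, b2, b3, b4⟩ := hW' ((AddSubgroup.nontrivial_iff_ne_bot W).2 h2) z hz hzp
    fun v hv => Subtype.ext (hfp v.1 (congrArg Subtype.val hv))
  have hc : Nat.card U * Nat.card W ≤ Nat.card V := by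
    rw [← Nat.card_prod]
    refine Nat.card_le_card_of_injective (fun x : U × W => x.1.1 + x.2.1) ?_
    rintro ⟨a, c⟩ ⟨a', c'⟩ h
    have h5 : a.1 - a'.1 = c'.1 - c.1 := by
      rw [sub_eq_sub_iff_add_eq_add, add_comm c'.1]
      exact h
    have h6 : a.1 - a'.1 ∈ U ⊓ W := ⟨U.sub_mem a.2 a'.2, h5 ▸ W.sub_mem c'.2 c.2⟩
    rw [h3, AddSubgroup.mem_bot] at h6
    rw [h6] at h5
    exact Prod.ext (Subtype.ext (sub_eq_zero.1 h6)) (Subtype.ext (sub_eq_zero.1 h5.symm).symm)
  have hs := C.sum G V U W hU hW h4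
  have key : (cp G U * Nat.card U) * (cp G W * Nat.card W) ≤ cp G V * Nat.card V := by
    have h5 : ((Nat.card U : ℚ) * Nat.card W) ≤ Nat.card V := by exact_mod_cast hc
    calc _ = (cp G U * cp G W) * ((Nat.card U : ℚ) * Nat.card W) := by ring
      _ ≤ _ := mul_le_mul hs h5 (by positivity) (H29.Lp.cp_pos (G := G) (V := V)).le
  refine ⟨by nlinarith, m1 * m2, a2.mul b2, ?_, ?_⟩
  · refine LinearMap.ext fun v => ?_
    obtain ⟨x, hx, y, hy, rfl⟩ := AddSubgroup.mem_sup.1 (h4 ▸ AddSubgroup.mem_top v : v ∈ U ⊔ W)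
    have c1 := aeval_comm U.subtype (DistribMulAction.toModuleEnd ℤ U z)
      (DistribMulAction.toModuleEnd ℤ V z) (fun _ => rfl) m1 ⟨x, hx⟩
    have c2 := aeval_comm W.subtype (DistribMulAction.toModuleEnd ℤ W z)
      (DistribMulAction.toModuleEnd ℤ V z) (fun _ => rfl) m2 ⟨y, hy⟩
    rw [a3, LinearMap.zero_apply, map_zero] at c1
    rw [b3, LinearMap.zero_apply, map_zero] at c2
    have c3 : aeval (DistribMulAction.toModuleEnd ℤ V z) (m1 * m2) x = 0 := by
      rw [mul_comm, map_mul, Module.End.mul_apply]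
      exact (congrArg _ c1.symm).trans (map_zero _)
    have c4 : aeval (DistribMulAction.toModuleEnd ℤ V z) (m1 * m2) y = 0 := by
      rw [map_mul, Module.End.mul_apply]
      exact (congrArg _ c2.symm).trans (map_zero _)
    rw [map_add, c3, c4, add_zero, LinearMap.zero_apply]
  · rw [a2.natDegree_mul b2, pow_add]
    exact (mul_le_mul a4 b4 (by positivity) (by linarith)).trans key

theorem z_quot (C : CpKit.{u}) {p : ℕ} {G G' V : Type u} [Group G] [Group G'] [AddCommGroup V]
    [DistribMulAction G V] [DistribMulAction G' V] (f : G →* G') (hf : Function.Surjective f)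
    (h : ∀ (g : G) (v : V), f g • v = g • v) (h' : Z p G' V) : Z p G V := by
  intro hV z hz hzp hfp
  obtain ⟨a1, m, a2, a3, a4⟩ := h' hV (f z) (Subgroup.mem_center_iff.2 fun g => by
    obtain ⟨g, rfl⟩ := hf g
    rw [← map_mul, ← map_mul, Subgroup.mem_center_iff.1 hz g])
    (by rw [← map_pow, hzp, map_one]) fun v hv => hfp v (h z v ▸ hv)
  rw [← (C.quot G G' V f hf h).2.1] at a1 a4
  refine ⟨a1, m, a2, ?_, a4⟩
  rw [← a3]
  congr 2
  exact LinearMap.ext fun v => (h z v).symm

theorem z_imp (C : CpKit.{u}) (O : OrdKit.{u}) {p : ℕ} (hp : p.Prime) {G V Ω N : Type u} [Group G]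
    [Finite G] [Group.IsSolvable G] [AddCommGroup V] [Finite V] [DistribMulAction G V]
    [MulAction G Ω] [Fintype Ω] [Nontrivial Ω] [AddCommGroup N] [DistribMulAction G N]
    (hirr : Irr G V) (S : Sys G V Ω) (A : Aff G Ω N)
    (IH : ∀ (G' V' : Type u) [Group G'] [Finite G'] [Group.IsSolvable G'] [AddCommGroup V']
      [Finite V'] [DistribMulAction G' V'], Nat.card V' < Nat.card V → CR G' V' → Z p G' V') :
    Z p G V := by
  intro _ z hz hzp hfp
  have := Fact.mk hp
  have hz' := Subgroup.mem_center_iff.1 hz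
  have hfix : ∀ ω : Ω, z • ω = ω := by
    intro ω
    by_contra hne
    obtain ⟨x, hx⟩ := S.ne ω
    have h1 : z • ∑ i ∈ Finset.range p, z ^ i • S.e ω x = ∑ i ∈ Finset.range p, z ^ i • S.e ω x := by
      have h2 := Finset.sum_range_succ (fun i => z ^ i • S.e ω x) p
      rw [Finset.sum_range_succ', hzp, pow_zero] at h2
      refine Eq.trans ?_ (add_right_cancel h2)
      rw [Finset.smul_sum]
      exact Finset.sum_congr rfl fun i _ => by rw [pow_succ', mul_smul]
    have h2 := congrArg (S.e ω) (hfp _ h1)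
    rw [map_zero, map_sum, Finset.sum_eq_single 0] at h2
    · rw [pow_zero, one_smul, S.idem] at h2
      exact hx h2
    · intro i hi hi0
      rw [← S.equiv]
      refine S.orth _ _ (fun h => hne ?_) _
      have h3 : orderOf z = p := orderOf_eq_prime hzp fun h => hne (by rw [h, one_smul])
      have h4 : i.Coprime (orderOf z) := by
        rw [h3]
        exact (Nat.coprime_of_lt_prime hi0 (Finset.mem_range.1 hi) hp).symm
      obtain ⟨k, hk⟩ := exists_pow_eq_self_of_coprime h4
      rw [← hk]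
      exact (stabilizer G ω).pow_mem h.symm k
    · intro h
      exact (h (Finset.mem_range.2 hp.pos)).elim
  have hb : ∀ ω : Ω, letI := subAct (S.inv_range ω)
      54 ≤ cp (stabilizer G ω) (S.e ω).range * Nat.card (S.e ω).range ∧ ∃ m : ℤ[X], m.Monic ∧
      aeval (DistribMulAction.toModuleEnd ℤ V z) m = 0 ∧
      2 ^ m.natDegree ≤ cp (stabilizer G ω) (S.e ω).range * Nat.card (S.e ω).range := by
    intro ω
    letI := subAct (S.inv_range ω)
    obtain ⟨x, hx⟩ := S.ne ω
    obtain ⟨a1, m, a2, a3, a4⟩ := IH (stabilizer G ω) (S.e ω).range (S.card_range_lt ω)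
      (S.irr_range hirr ω).cr ⟨⟨_, x, rfl⟩, 0, fun h => hx (congrArg Subtype.val h)⟩ ⟨z, hfix ω⟩
      (Subgroup.mem_center_iff.2 fun g => Subtype.ext (hz' g)) (Subtype.ext hzp)
      fun v hv => Subtype.ext (hfp v.1 (congrArg Subtype.val hv))
    refine ⟨a1, m, a2, ?_, a4⟩
    have c1 := aeval_comm (S.e ω).range.subtype
      (DistribMulAction.toModuleEnd ℤ (S.e ω).range (⟨z, hfix ω⟩ : stabilizer G ω))
      (DistribMulAction.toModuleEnd ℤ V z) (fun _ => rfl) m ⟨_, x, rfl⟩
    rw [a3, LinearMap.zero_apply, map_zero] at c1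
    let T := (LinearMap.ker (aeval (DistribMulAction.toModuleEnd ℤ V z) m)).toAddSubgroup
    have hT : Inv G T := by
      intro g v hv
      have c2 := aeval_comm (DistribSMul.toAddMonoidHom V g) (DistribMulAction.toModuleEnd ℤ V z)
        (DistribMulAction.toModuleEnd ℤ V z) (fun v => by
          change g • z • v = z • g • v
          rw [← mul_smul, ← mul_smul, hz' g]) m v
      rw [show aeval (DistribMulAction.toModuleEnd ℤ V z) m v = 0 from hv, map_zero] at c2
      exact c2.symm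
    rcases hirr T hT with h | h
    · have c3 : S.e ω x ∈ T := c1.symm
      rw [h] at c3
      exact (hx c3).elim
    · exact LinearMap.ext fun v => (h ▸ AddSubgroup.mem_top v : v ∈ T)
  obtain ⟨ω₀, h0⟩ := Finite.exists_min fun ω : Ω => (letI := subAct (S.inv_range ω)
    cp (stabilizer G ω) (S.e ω).range) * (Nat.card (S.e ω).range : ℚ)
  obtain ⟨a1, m, a2, a3, a4⟩ := hb ω₀
  have hs := C.sys G V Ω S _ (by linarith) h0
  have hN : Finite N := Finite.of_equiv _ A.e
  have hN' : Nontrivial N := A.e.symm.nontrivial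
  have h1 := O.aff G Ω N A
  have h2 := O.base G N A.irr.cr
  rw [← Nat.card_congr A.e, Nat.card_eq_fintype_card (α := Ω)] at h2
  have h3 : 2 ≤ Fintype.card Ω := Fintype.one_lt_card
  have h4 := pow8 h3
  have h5 : Nat.card (img G Ω) ^ 2 ≤ 54 ^ (Fintype.card Ω - 1) := by
    have h6 : 5 * Nat.card (img G Ω) ≤ Fintype.card Ω ^ 4 := by
      calc _ ≤ 5 * (Fintype.card Ω * Nat.card (img G N)) := Nat.mul_le_mul_left _ h1
        _ = Fintype.card Ω * (5 * Nat.card (img G N)) := by ring
        _ ≤ Fintype.card Ω * Fintype.card Ω ^ 3 := Nat.mul_le_mul_left _ h2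
        _ = _ := by ring
    have h7 := Nat.pow_le_pow_left h6 2
    rw [mul_pow, ← pow_mul, show 4 * 2 = 8 from rfl] at h7
    omega
  generalize (letI := subAct (S.inv_range ω₀)
    cp (stabilizer G ω₀) (S.e ω₀).range) * (Nat.card (S.e ω₀).range : ℚ) = c at a1 a4 hs
  have key : c ≤ cp G V * Nat.card V := by
    have h6 : (Nat.card (img G Ω) : ℚ) ^ 2 ≤ c ^ (Fintype.card Ω - 1) :=
      le_trans (by exact_mod_cast h5) (pow_le_pow_left₀ (by norm_num) a1 _)
    have h7 : c ^ Fintype.card Ω = c * c ^ (Fintype.card Ω - 1) := by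
      rw [← pow_succ', Nat.sub_add_cancel (by omega)]
    have h8 := mul_le_mul_of_nonneg_left h6 (show 0 ≤ cp G V * Nat.card V from
      mul_nonneg (H29.Lp.cp_pos (G := G) (V := V)).le (Nat.cast_nonneg _))
    rw [h7] at hs
    exact le_of_mul_le_mul_right (hs.trans h8) (pow_pos (by linarith) _)
  exact ⟨a1.trans key, m, a2, a3, a4.trans key⟩

/-- **LINZ** -/
theorem linZ (pk : PkStmt.{u}) (C : CpKit.{u}) (O : OrdKit.{u}) : LinZStmt'.{u} := by
  intro p hp h53 r _ G V _ _ _ _ _ hV _ hcr _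
  refine ind (fun G V _ _ _ => Z p G V) ?_ ?_ ?_ ?_ ?_ G V hcr hV
  · intro G V _ _ _ _ h
    exact (not_nontrivial V h).elim
  · intro G V _ _ _ _ _ _ U W hU hW _ h1 h2 h3 h4 a b
    exact z_sum C U W hU hW h1 h2 h3 h4 a b
  · intro G G' V _ _ _ _ _ _ _ f hf h h'
    exact z_quot C f hf h h'
  · intro G V _ _ _ _ _ _ _ hf hP _
    exact z_prim pk O hp h53 hf hP
  · intro G V Ω N _ _ _ _ _ _ _ _ _ _ _ _ _ hirr S A IH
    exact z_imp C O hp hirr S A IH

end Cfsg.Agent.H49.MwZ
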