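import Cfsg.Agent.H75.T3Good
import Cfsg.Agent.H75.LieModel
import Cfsg.Agent.S1070

/-! Project T3: the model of type `²E₆`. -/

set_option autoImplicit false

namespace Cfsg.Agent.H49.T3Mt

open Cfsg.Lie Cfsg.Agent.H34 Cfsg.Agent.H75 Cfsg.Agent.H75.T3G Cfsg.Agent.Lead.T3

theorem pow_iff {n : ℕ} {Φ : Type*} [Finite Φ] {R : H40.RS (Fin n) Φ} {Cm : List (List ℤ)}
    {T : (sgn R).Sym} {pl : List ℕ} {gw : List (List ℕ)} (hT : IsOrbWords T pl gw)
    (hC : IsCartan R Cm) (i k : Fin n) (m : ℕ) :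
    ((sgn R).wJ (T.orb i) * (sgn R).wJ (T.orb k)) ^ m = 1 ↔
      (actE Cm (List.replicate m (gw.getD i [] ++ gw.getD k [])).flatten
        (List.replicate n 1, 0)).1 = List.replicate n 1 := by
  obtain ⟨a, ha, -, ea⟩ := hT.word i
  obtain ⟨b, hb, -, eb⟩ := hT.word k
  have hp : ∀ k, (sgn R).word (List.replicate k (a ++ b)).flatten = (sgn R).word (a ++ b) ^ k := by
    intro k
    induction k with
    | zero => rfl
    | succ k ih => rw [List.replicate_succ, List.flatten_cons, SignedSys.word_append, ih, pow_succ']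
  rw [← ea, ← eb, ← SignedSys.word_append, ← hp, hC.word_eq_one_iff, List.map_flatten,
    List.map_replicate, List.map_append, ha, hb]

/-- The numbering of the orbits of nodes. -/
def nb : Fin 4 → Fin 6 := ![0, 2, 3, 1]

theorem md {K : Type} [Field K] [Fintype K] (p : ℕ) [Fact p.Prime] [CharP K p] {r : ℕ}
    (φ : K →+* K) (h2 : ∀ t, φ (φ t) = t) (h1 : ∀ t, φ t = t ^ r) (hr : 1 ≤ r)
    (hK : Fintype.card K = r ^ 2) :
    MD (model2E6 p φ h2 h1) (tm 4 parA 2) ![r ^ 2, r ^ 2, r, r] nb where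
  sur := fun i : Fin 6 => by
    obtain ⟨a, ha⟩ : ∃ a, (i : ℕ) = nb a ∨ (i : ℕ) = symE6.getD (nb a) 0 := by
      revert i; decide +kernel
    exact ⟨a, ((sE6 φ).mem_orb_iff twDataE6 (nb a) i).2 (ha.imp_right .inl)⟩
  ord a b := by
    have hW := isOrbWords_E6 (isCartan_E6 cE6) _ (E6_π φ h2)
    have k : ∀ a b, 0 < tm 4 parA 2 a b ∧ ∀ m ≤ tm 4 parA 2 a b, 0 < m →
        ((actE cartE6 (List.replicate m (orbwE6.getD (nb a) [] ++ orbwE6.getD (nb b) [])).flatten
          (List.replicate 6 1, 0)).1 = List.replicate 6 1 ↔ m = tm 4 parA 2 a b) := by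
      decide +kernel
    exact (orderOf_eq_iff (k a b).1).2
      ⟨(pow_iff hW (isCartan_E6 cE6) (nb a) (nb b) _).2 (((k a b).2 _ le_rfl (k a b).1).2 rfl),
        fun m hm h0 e => hm.ne (((k a b).2 m hm.le h0).1
          ((pow_iff hW (isCartan_E6 cE6) (nb a) (nb b) _).1 e))⟩
  card a := by
    refine (E6_card_UJ φ h2 h1 hr hK (nb a)).trans ?_
    have k : ∀ L, OrbList chevE6 symE6 (nb a) L →
        cE6.S.len (cE6.S.wJ ((tE6 φ h2).T.orb (nb a))) = L.length := fun L h =>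
      (sE6 φ).len_wJ twDataE6 h
    fin_cases a
    · rw [k [56, 36] (by decide +kernel)]; rfl
    · rw [k [42, 37] (by decide +kernel)]; rfl
    · rw [k [39] (by decide +kernel)]; exact pow_one r
    · rw [k [46] (by decide +kernel)]; exact pow_one r

theorem mtStmt : MtStmt := fun F _ _ r hK => by
  obtain ⟨p, _, n, hp, e⟩ := FiniteField.card' F
  have : Fact p.Prime := ⟨hp⟩
  have hq : IsPrimePow r := (isPrimePow_pow_iff two_ne_zero).1
    (hK ▸ e ▸ hp.isPrimePow.pow n.ne_zero)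
  obtain ⟨φ, h1, h2, -⟩ := exists_frob2 hq hK
  have := (S1070.result hq hK).1
  exact ⟨twistedE6 F r, inferInstance, (md p φ h2 h1 hq.pos hK).isMod (fun _ _ => tm_eq_one)
    (by unfold Concl IsExceptionalLieType; simp only [show Iso2E6 (twistedE6 F r) from
      ⟨F, _, _, r, hq, hK, ⟨.refl _⟩⟩, true_or, or_true])⟩

end Cfsg.Agent.H49.T3Mt
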