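import Cfsg.Agent.H35.L3Defs
import Cfsg.Agent.H31.WrWx

/-!
Standard subgroups of type `L₃(q)`: the facts on one factor for the wreath case (piece WR).
-/

set_option autoImplicit false
set_option linter.unusedSectionVars false

namespace Cfsg.Agent.H49.L3W

open Cfsg H63 H63.SL H63.WR H35.L3 Subgroup
open H27.End
open H31.WrX (cc_conj card_le_cc inf_syl)
open H8 (IsSylowIn)
open scoped commutatorElement

universe u v

variable {F : Type v} [Field F] [Finite F] {G : Type u} [Group G] [Finite G] {L : Subgroup G}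
  {x : Fin 3 → Fin 3 → F → G}

theorem conjK {g k : G} (hg : g ∈ N[L]) (hk : k ∈ C[L]) : g * k * g⁻¹ ∈ C[L] :=
  mem_C fun y hy => by
    have := (comm_of_C hk (conj_mem (inv_mem hg) hy)).map (MulAut.conj g)
    simpa [mul_assoc] using this

section Pin

variable (s : St3 x) (p : Pin3 x)
include s

theorem x0 {i j : Fin 3} (h : i ≠ j) : x i j 0 = 1 := by
  have := s.add i j h 0 0
  rw [add_zero] at this
  exact left_eq_mul.1 this

theorem add_self (a : F) : a + a = 0 := by rw [← two_mul, s.two, zero_mul]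

theorem x_sq {i j : Fin 3} (h : i ≠ j) (a : F) : x i j a * x i j a = 1 := by
  rw [← s.add i j h, add_self s, x0 s h]

omit s in
include p in
theorem memU {g : G} : g ∈ U3 x ↔ ∃ a b c, g = x 0 1 a * x 1 2 b * x 0 2 c :=
  p.memY 0 1 2 (by decide) (by decide) (by decide) g

omit s in
include p in
theorem memZ {g : G} : g ∈ X3 x 0 2 ↔ ∃ c, g = x 0 2 c := p.memX 0 2 (by decide) g

include p

theorem aU (a : F) : x 0 1 a ∈ U3 x :=
  (memU p).2 ⟨a, 0, 0, by rw [x0 s (by decide), x0 s (by decide), mul_one, mul_one]⟩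

theorem bU (a : F) : x 1 2 a ∈ U3 x :=
  (memU p).2 ⟨0, a, 0, by rw [x0 s (by decide), x0 s (by decide), mul_one, one_mul]⟩

theorem cU (a : F) : x 0 2 a ∈ U3 x :=
  (memU p).2 ⟨0, 0, a, by rw [x0 s (by decide), x0 s (by decide), mul_one, one_mul]⟩

theorem comm_el (a b c a' b' c' : F) :
    ⁅x 0 1 a * x 1 2 b * x 0 2 c, x 0 1 a' * x 1 2 b' * x 0 2 c'⁆ = x 0 2 (a' * b + a * b') := by
  have m := p.mul 0 1 2 (by decide) (by decide) (by decide)
  have h1 := m 0 0 (a' * b + a * b') (a' + a) (b' + b) (c' + c + a * b')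
  rw [x0 s (by decide), x0 s (by decide), one_mul, one_mul, ← m a' b' c' a b c, zero_add, zero_add,
    mul_zero, add_zero, show a' * b + a * b' + (c' + c + a * b') = c + c' + a' * b by
      linear_combination add_self s (a * b'), add_comm a' a, add_comm b' b, ← m] at h1
  rw [commutatorElement_def, ← h1]
  group

theorem comm_a (a b c a' : F) : ⁅x 0 1 a * x 1 2 b * x 0 2 c, x 0 1 a'⁆ = x 0 2 (a' * b) := by
  have := comm_el s p a b c a' 0 0
  rwa [x0 s (by decide), x0 s (by decide), mul_one, mul_one, mul_zero, add_zero] at this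

theorem comm_b (a b c b' : F) : ⁅x 0 1 a * x 1 2 b * x 0 2 c, x 1 2 b'⁆ = x 0 2 (a * b') := by
  have := comm_el s p a b c 0 b' 0
  rwa [x0 s (by decide), x0 s (by decide), mul_one, one_mul, zero_mul, zero_add] at this

theorem c_comm (e : F) {w : G} (hw : w ∈ U3 x) : Commute (x 0 2 e) w := by
  obtain ⟨a, b, c, rfl⟩ := (memU p).1 hw
  have := comm_el s p 0 0 e a b c
  rwa [x0 s (by decide), x0 s (by decide), mul_one, one_mul, mul_zero, zero_mul, add_zero,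
    x0 s (by decide), commutatorElement_eq_one_iff_commute] at this

theorem comm_surj {w : G} (hw : w ∈ U3 x) (h : w ∉ X3 x 0 2) (d : F) :
    ∃ w' ∈ U3 x, ⁅w, w'⁆ = x 0 2 d := by
  obtain ⟨a, b, c, rfl⟩ := (memU p).1 hw
  by_cases ha : a = 0
  · by_cases hb : b = 0
    · refine (h ((memZ p).2 ⟨c, ?_⟩)).elim
      rw [ha, hb, x0 s (by decide), x0 s (by decide), mul_one, one_mul]
    · exact ⟨_, aU s p (d / b), by rw [comm_a s p, div_mul_cancel₀ _ hb]⟩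
  · exact ⟨_, bU s p (d / a), by rw [comm_b s p, mul_div_cancel₀ _ ha]⟩

theorem c_ne : x 0 2 1 ≠ 1 := fun h => one_ne_zero (s.inj 0 2 (by decide) 1 h)

theorem c_der (e : F) : x 0 2 e ∈ ⁅U3 x, U3 x⁆ := by
  rw [← mul_one e, ← s.rel 0 1 2 (by decide) (by decide) (by decide)]
  exact commutator_mem_commutator (aU s p e) (bU s p 1)

theorem ZU {z : G} (hz : z ∈ Z[U3 x]) : z ∈ X3 x 0 2 := by
  by_contra h
  obtain ⟨w, hw, e⟩ := comm_surj s p hz.1 h 1
  rw [commutatorElement_eq_one_iff_commute.2 (comm_of_C hz.2 hw)] at e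
  exact c_ne s p e.symm

theorem Z_le {A : Subgroup G} (hA : U3 x ≤ N[A]) {w : G} (h1 : w ∈ A) (h2 : w ∈ U3 x)
    (h3 : w ∉ X3 x 0 2) (d : F) : x 0 2 d ∈ A := by
  obtain ⟨w', hw', e⟩ := comm_surj s p h2 h3 d
  exact e ▸ comm_mem_left (hA hw') h1

theorem indec : H45.Spl.Indec (U3 x) := by
  intro A B h
  have h' : IsInternalDirectProduct B A (U3 x) :=
    ⟨h.2.1, h.1, fun a ha b hb => (h.2.2.1 b hb a ha).symm, by rw [inf_comm, h.2.2.2.1],
      by rw [sup_comm, h.2.2.2.2]⟩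
  have key : ∀ {A B : Subgroup G}, IsInternalDirectProduct A B (U3 x) → ¬ A ≤ X3 x 0 2 → B = ⊥ := by
    intro A B h hA
    obtain ⟨w, hw, hw'⟩ := SetLike.not_le_iff_exists.1 hA
    have h1 := Z_le s p (H45.Spl.idp_norm h) hw (h.1 hw) hw'
    have h2 : IsInternalDirectProduct B A (U3 x) :=
      ⟨h.2.1, h.1, fun a ha b hb => (h.2.2.1 b hb a ha).symm, by rw [inf_comm, h.2.2.2.1],
        by rw [sup_comm, h.2.2.2.2]⟩
    rw [eq_bot_iff, ← h.2.2.2.1]
    intro y hy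
    refine ⟨?_, hy⟩
    by_contra h3
    have h4 := Z_le s p (H45.Spl.idp_norm h2) hy (h2.1 hy) (fun h5 => by
      obtain ⟨c, rfl⟩ := (memZ p).1 h5
      exact h3 (h1 c)) 1
    have h5 : x 0 2 1 ∈ A ⊓ B := ⟨h1 1, h4⟩
    rw [h.2.2.2.1] at h5
    exact c_ne s p h5
  by_cases hA : A ≤ X3 x 0 2
  · by_cases hB : B ≤ X3 x 0 2
    · have h1 : x 0 1 1 ∈ X3 x 0 2 := (h.2.2.2.2.ge.trans (sup_le hA hB)) (aU s p 1)
      obtain ⟨c, hc⟩ := (memZ p).1 h1
      have h2 := s.rel 0 1 2 (by decide) (by decide) (by decide) 1 1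
      rw [hc, commutatorElement_eq_one_iff_commute.2 (c_comm s p c (bU s p 1)), mul_one] at h2
      exact (c_ne s p h2.symm).elim
    · exact Or.inl (key h' hB)
  · exact Or.inr (key h hA)

end Pin

variable (m : M3 L x) (p : Pin3 x) (ka : KA L x) (kb : KB L x)
include m p ka

theorem dich {A : Subgroup G} (h : A ≤ N[L] ⊓ N[U3 x]) (hA : U3 x ≤ N[A]) :
    x 0 2 1 ∈ A ∨ ⁅A, A⁆ ≤ C[L] := by
  by_contra hc
  push Not at hc
  have key : ∀ g ∈ A, ∃ e, ∃ k ∈ C[L], g = x 0 2 e * k := by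
    intro g hg
    obtain ⟨w, hw, k, hk, rfl⟩ := ka.c2 g (h hg).1 fun w hw => by
      by_contra h1
      exact hc.1 (Z_le m.st p hA (comm_mem_left (hA hw) hg) (comm_mem_right (h hg).2 hw) h1 1)
    by_cases h1 : w ∈ X3 x 0 2
    · obtain ⟨e, rfl⟩ := (memZ p).1 h1
      exact ⟨e, k, hk, rfl⟩
    obtain ⟨w', hw', e⟩ := comm_surj m.st p hw h1 1
    refine (hc.1 ?_).elim
    have h2 := comm_mem_left (hA hw') hg
    rw [commutatorElement_def, mul_assoc w, (comm_of_C hk (m.syl.le hw')).eq] at h2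
    rw [← e, commutatorElement_def]
    convert h2 using 1
    group
  refine hc.2 (commutator_le.2 fun a ha b hb => ?_)
  obtain ⟨e, k, hk, rfl⟩ := key a ha
  obtain ⟨e', k', hk', rfl⟩ := key b hb
  have c1 := c_comm m.st p e (cU m.st p e')
  have c2 := comm_of_C hk (m.syl.le (cU m.st p e'))
  have c3 := comm_of_C hk' (m.syl.le (cU m.st p e))
  have c4 := comm_of_C hk (m.syl.le (cU m.st p e))
  have h1 : ⁅x 0 2 e * k, x 0 2 e' * k'⁆ = x 0 2 e * ⁅k, k'⁆ * (x 0 2 e)⁻¹ := by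
    have h2 : x 0 2 e * k * (x 0 2 e' * k') = x 0 2 e * ⁅k, k'⁆ * (x 0 2 e)⁻¹ *
        (x 0 2 e' * k' * (x 0 2 e * k)) := by
      have h3 := comm_of_C (commutator_mem_commutator hk hk' |> commutator_le_self C[L])
        (m.syl.le (cU m.st p e'))
      calc _ = x 0 2 e * (k * x 0 2 e') * k' := by group
        _ = x 0 2 e * (x 0 2 e' * ⁅k, k'⁆) * k' * k := by
          rw [c2.eq, commutatorElement_def]; group
        _ = x 0 2 e * ⁅k, k'⁆ * (x 0 2 e)⁻¹ * ((x 0 2 e * x 0 2 e') * k' * k) := by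
          rw [← h3.eq]; group
        _ = x 0 2 e * ⁅k, k'⁆ * (x 0 2 e)⁻¹ * (x 0 2 e' * (x 0 2 e * k') * k) := by
          rw [c1.eq]; group
        _ = _ := by rw [← c3.eq]; group
    rw [commutatorElement_def, h2]
    group
  rw [h1]
  exact conjK (le_normalizer (m.syl.le (cU m.st p e)))
    (commutator_le_self C[L] (commutator_mem_commutator hk hk'))

theorem wl : WL L (U3 x) := by
  have s := m.st
  have h3 : 2 < Nat.card F := by have := m.four; omega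
  have ex : ∀ a b : F, ∃ k, k ≠ a ∧ k ≠ b := by
    intro a b
    have := Fintype.ofFinite F
    rw [Nat.card_eq_fintype_card] at h3
    obtain ⟨k1, k2, k3, h1, h2, h4⟩ := Fintype.two_lt_card_iff.1 h3
    by_contra hc
    push Not at hc
    have h5 : ∀ k, k = a ∨ k = b := fun k => (em _).imp_right (hc k)
    rcases h5 k1 with e1 | e1 <;> rcases h5 k2 with e2 | e2 <;> rcases h5 k3 with e3 | e3 <;>
      first
      | exact h1 (e1.trans e2.symm)
      | exact h2 (e1.trans e3.symm)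
      | exact h4 (e2.trans e3.symm)
  refine ⟨m.qs, m.zodd, m.syl, fun h => c_ne s p (mem_bot.1 (h ▸ cU s p 1)), fun z hz => ?_,
    indec s p, ?_, fun P hP h2 g hg => ?_, fun A B hA hB _ _ h1 h2 _ h4 => ?_,
    fun z hz h1 h2 => ?_⟩
  · obtain ⟨c, rfl⟩ := (memZ p).1 (ZU s p hz)
    exact c_der s p c
  · obtain ⟨k, k0, k1⟩ := ex 0 1
    obtain ⟨h, hh, ht⟩ := p.tor ![Units.mk0 k k0, 1, (Units.mk0 k k0)⁻¹] (by simp)
    rw [m.gen] at hh
    have ta : ∀ a, h * x 0 1 a * h⁻¹ = x 0 1 (k * a) := fun a => by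
      simpa using ht 0 1 (by decide) a
    have tb : ∀ a, h * x 1 2 a * h⁻¹ = x 1 2 (k * a) := fun a => by
      simpa using ht 1 2 (by decide) a
    have hN : h ∈ N[U3 x] := mem_N_of_conj fun w hw => by
      obtain ⟨a, b, c, rfl⟩ := (memU p).1 hw
      rw [← conj_mul, ← conj_mul, ta, tb, ht 0 2 (by decide)]
      exact (memU p).2 ⟨_, _, _, rfl⟩
    have k2 : 1 + k ≠ 0 := fun e => k1 (by linear_combination e - s.two)
    have key : ∀ {i j : Fin 3}, i ≠ j → (∀ a, x i j a ∈ U3 x) →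
        (∀ a, h * x i j a * h⁻¹ = x i j (k * a)) → ∀ a, x i j a ∈ ⁅U3 x, U3 x ⊔ zpowers h⁆ := by
      intro i j hij h1 h2 a
      have h4 := commutator_mem_commutator (h1 (a / (1 + k)))
        (mem_sup_right (S := U3 x) (mem_zpowers h))
      rwa [commutatorElement_def, inv_eq_of_mul_eq_one_right (x_sq s hij _), mul_assoc, mul_assoc,
        ← mul_assoc h, h2, ← s.add i j hij,
        show a / (1 + k) + k * (a / (1 + k)) = a by field_simp] at h4
    refine ⟨U3 x ⊔ zpowers h, sup_le (le_inf m.syl.le le_normalizer) (zpowers_le.2 ⟨hh, hN⟩),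
      le_sup_left, fun w hw => ?_⟩
    obtain ⟨a, b, c, rfl⟩ := (memU p).1 hw.1
    exact mul_mem (mul_mem (key (by decide) (aU s p) ta a) (key (by decide) (bU s p) tb b))
      (commutator_mono le_rfl le_sup_left (c_der s p c))
  · exact ka.typ_one g (ka.ab g (commutator_mono hP hP hg))
      (is2_of_mem h2 (commutator_le_self P hg))
  · rcases dich m p ka hA h1 with h5 | h5
    · rcases dich m p ka hB h2 with h6 | h6
      · have h7 : x 0 2 1 ∈ A ⊓ B := ⟨h5, h6⟩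
        rw [h4] at h7
        exact (c_ne s p h7).elim
      · exact Or.inr h6
    · exact Or.inl h5
  · obtain ⟨c, hc⟩ := (memZ p).1 (ZU s p hz)
    obtain ⟨k, k0, k1⟩ := ex 0 c
    obtain ⟨l, hl, e⟩ := ka.cls z (m.syl.le hz.1) h2 h1 k k0
    obtain ⟨l', hl', e'⟩ := ka.cls z (m.syl.le hz.1) h2 h1 (k + c)
      fun e => k1 (by linear_combination e - add_self s c)
    exact ⟨x 0 2 k, c_der s p k, ⟨l, hl, e.symm⟩, l', hl',
      by rw [e', s.add 0 2 (by decide), hc]⟩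

omit p in
theorem sq_one {w k : G} (hw : w ∈ U3 x) (hk : k ∈ C[L]) (h : w * k * (w * k) ∈ C[L]) :
    w * w = 1 := by
  have h1 : w * k * (w * k) = w * w * (k * k) := by
    rw [mul_assoc, ← mul_assoc k, (comm_of_C hk (m.syl.le hw)).eq]
    group
  rw [h1, mul_mem_cancel_right (mul_mem hk hk)] at h
  have h2 : w * w ∈ U3 x ⊓ C[L] := ⟨mul_mem hw hw, h⟩
  rwa [ka.UK] at h2

include kb

omit p in
theorem clsI : ClsI L := by
  have core : ∀ P : Subgroup G, P ≤ N[L] ⊓ N[U3 x] → IsPGroup 2 P → ∀ r ∈ P, r * r ∈ C[L] →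
      ∀ g ∈ P, FixC L r g := by
    intro P h hP r hr h2 g hg
    by_cases hi : r ∈ L ⊔ C[L]
    · obtain ⟨w, hw, k, hk, rfl⟩ := ka.inn r hi (h hr).2 (is2_of_mem hP hr)
      have h3 := sq_one m ka hw hk h2
      have h4 := conjK (h hg).1 hk
      obtain ⟨l, hl, e⟩ : ∃ l ∈ L, l * (g * w * g⁻¹) * l⁻¹ = w := by
        by_cases h5 : w = 1
        · exact ⟨1, one_mem _, by simp [h5]⟩
        obtain ⟨l1, a1, e1⟩ := ka.cls w (m.syl.le hw) h3 h5 1 one_ne_zero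
        obtain ⟨l2, a2, e2⟩ := ka.cls _ (conj_mem (h hg).1 (m.syl.le hw)) (H31.WrX.conj_sq g h3)
          (fun e => h5 (by simpa using e)) 1 one_ne_zero
        refine ⟨l1⁻¹ * l2, mul_mem (inv_mem a1) a2, ?_⟩
        calc _ = l1⁻¹ * (l2 * (g * w * g⁻¹) * l2⁻¹) * l1 := by group
          _ = _ := by rw [e2, ← e1]; group
      refine ⟨l, hl, ?_⟩
      have h5 : l * g * (w * k) * (l * g)⁻¹ * (w * k)⁻¹ =
          w * (l * (g * k * g⁻¹) * l⁻¹ * k⁻¹) * w⁻¹ := by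
        conv_rhs => enter [1, 1]; rw [← e]
        group
      rw [h5]
      exact conjK (le_normalizer (m.syl.le hw)) (mul_mem (conjK (le_normalizer hl) h4) (inv_mem hk))
    · have h3 : ⁅g, r⁆ ∈ P := commutator_le_self P (commutator_mem_commutator hg hr)
      obtain ⟨w, hw, k, hk, e⟩ := ka.inn _ (ka.typ_one _ (ka.ab _
        (commutator_mem_commutator (h hg).1 (h hr).1)) (is2_of_mem hP h3)) (h h3).2
        (is2_of_mem hP h3)
      have h4 : g * r * g⁻¹ = k * (w * r) := by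
        rw [← mul_assoc, (comm_of_C hk (m.syl.le hw)).eq, ← e, commutatorElement_def]
        group
      have hwr : w * r ∈ N[L] := mul_mem (le_normalizer (m.syl.le hw)) (h hr).1
      have h5 : w * r * (w * r) ∈ C[L] := by
        have h6 := conjK (h hg).1 h2
        rw [← conj_mul, h4, show k * (w * r) * (k * (w * r)) =
          k * (w * r * k * (w * r)⁻¹) * (w * r * (w * r)) by group] at h6
        exact (mul_mem_cancel_left (mul_mem hk (conjK hwr hk))).1 h6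
      obtain ⟨y, hy, e'⟩ := kb.j3' r (h hr) h2 hi w hw h5
      refine ⟨y⁻¹, inv_mem (m.syl.le hy), ?_⟩
      have h6 : y⁻¹ * g * r * (y⁻¹ * g)⁻¹ * r⁻¹ = y⁻¹ * k * y⁻¹⁻¹ := by
        calc _ = y⁻¹ * (g * r * g⁻¹) * y * r⁻¹ := by group
          _ = _ := by rw [h4, e']; group
      rw [h6]
      exact conjK (le_normalizer (inv_mem (m.syl.le hy))) hk
  intro P h hP r hr h2 g hg
  obtain ⟨l, hl, h3⟩ := ka.two P h hP
  have hl' : l ∈ N[L] := le_normalizer hl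
  obtain ⟨l', a1, a2⟩ := core (cj l P) (le_inf (by
      rintro _ ⟨y, hy, rfl⟩
      exact mul_mem (mul_mem hl' (h hy)) (inv_mem hl')) h3) (H8.isPGroup_conj_smul hP l)
    (l * r * l⁻¹) (H8.conj_mem_conj_smul.2 hr) (by rw [conj_mul]; exact conjK hl' h2)
    (l * g * l⁻¹) (H8.conj_mem_conj_smul.2 hg)
  refine ⟨l⁻¹ * l' * l, mul_mem (mul_mem (inv_mem hl) a1) hl, ?_⟩
  have h4 := conjK (inv_mem hl') a2
  convert h4 using 1
  group

omit m p kb in
theorem typ_conj {l j : G} (hl : l ∈ L) {ε : Bool} {φ : F ≃+* F} (t : Typ3 x L j ε φ) :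
    Typ3 x L (l * j * l⁻¹) ε φ := by
  simpa using ka.typ_mul _ _ _ _ _ _ (ka.typ_mul _ _ _ _ _ _ (ka.typ_inn l (mem_sup_left hl)) t)
    (ka.typ_inn l⁻¹ (mem_sup_left (inv_mem hl)))

omit p in
theorem frame {j : G} (h1 : Is2 j) (h2 : j * j ∈ C[L]) (h3 : j ∉ L ⊔ C[L]) {ε : Bool}
    {φ : F ≃+* F} (t : Typ3 x L j ε φ) :
    ∃ f, Fr3 x f ε φ ∧ f * f ∈ C[L] ∧ 2 ^ cc L j = Nat.card ↥(U3 x ⊓ C1[f]) := by
  have hj := ka.typ_N j ε φ t
  obtain ⟨Q, hQ⟩ := H8.exists_isSylowIn 2 (L ⊓ C1[j])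
  have hP : IsPGroup 2 ↥(Q ⊔ zpowers j) :=
    IsPGroup.to_sup_of_normal_left' hQ.isPGroup (isPGroup_zpowers h1) (zpowers_le.2
      (centralizer_le_normalizer _ (mem_C fun y hy => (mem_C1.1 (hQ.le hy).2).symm)))
  obtain ⟨l, hl, h4⟩ := ka.two _ (sup_le (fun y hy => le_normalizer (hQ.le hy).1)
    (zpowers_le.2 hj)) hP
  have hl' : l ∈ N[L] := le_normalizer hl
  have a0 := mul_mem (mul_mem hl' hj) (inv_mem hl')
  have a1 : l * j * l⁻¹ ∈ N[L] ⊓ N[U3 x] := ⟨a0,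
    h4 (H8.conj_mem_conj_smul.2 (mem_sup_right (mem_zpowers j)))⟩
  have a2 : l * j * l⁻¹ * (l * j * l⁻¹) ∈ C[L] := by rw [conj_mul]; exact conjK hl' h2
  have a3 : l * j * l⁻¹ ∉ L ⊔ C[L] := fun h => h3 (by
    rwa [mul_mem_cancel_right (inv_mem (mem_sup_left hl)),
      mul_mem_cancel_left (mem_sup_left hl)] at h)
  obtain ⟨w, hw, ε', φ', b1, b2⟩ := kb.lift _ a1 (mem_sup_right a2)
  obtain ⟨y, hy, e⟩ := kb.j3' _ a1 a2 a3 w hw b2
  obtain ⟨rfl, rfl⟩ := ka.typ_uniq _ _ _ _ _ (typ_conj ka hl t) ⟨w, m.syl.le hw, b1⟩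
  refine ⟨_, b1, b2, le_antisymm ?_ ?_⟩
  · rw [cc, ← hQ.card_eq, ← H8.card_conj_smul Q (y * l)]
    refine card_le_of_le ?_
    rintro _ ⟨z, hz, rfl⟩
    change y * l * z * (y * l)⁻¹ ∈ _
    have c1 : l * z * l⁻¹ ∈ U3 x := ka.memU _ (conj_mem hl' (hQ.le hz).1)
      (h4 (H8.conj_mem_conj_smul.2 (mem_sup_left hz))) (Is2.conj (is2_of_mem hQ.isPGroup hz) l)
    have c2 := mul_mem (mul_mem hy c1) (inv_mem hy)
    refine ⟨by simpa [mul_assoc] using c2, mem_C1.2 ?_⟩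
    rw [e]
    simpa [mul_assoc] using (mem_C1.1 (hQ.le hz).2).map (MulAut.conj (y * l))
  · rw [← cc_conj hl', ← cc_conj (le_normalizer (m.syl.le hy)), ← e]
    exact card_le_cc (m.syl.isPGroup.to_le inf_le_left) (inf_le_inf_right _ m.syl.le)

omit kb in
theorem cc_inn {j : G} (h1 : Is2 j) (h2 : j * j ∈ C[L]) (h3 : j ∈ L ⊔ C[L]) :
    2 ^ cc L j = Nat.card F ^ 3 := by
  have hj := ka.typ_N j _ _ (ka.typ_inn j h3)
  obtain ⟨l, hl, h4⟩ := ka.two _ (zpowers_le.2 hj) (isPGroup_zpowers h1)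
  have hl' : l ∈ N[L] := le_normalizer hl
  obtain ⟨w, hw, k, hk, e⟩ := ka.inn (l * j * l⁻¹) (mul_mem (mul_mem (mem_sup_left hl) h3)
    (inv_mem (mem_sup_left hl))) (h4 (H8.conj_mem_conj_smul.2 (mem_zpowers j))) (Is2.conj h1 l)
  have h5 := sq_one m ka hw hk (by rw [← e, conj_mul]; exact conjK hl' h2)
  have h6 : cc L (w * k) = cc L w := by
    have : L ⊓ C1[w * k] = L ⊓ C1[w] := by
      ext y
      refine and_congr_right fun hy => ?_
      change y ∈ C1[w * k] ↔ y ∈ C1[w]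
      rw [mem_C1, mem_C1]
      have c := (comm_of_C hk hy).symm
      exact ⟨fun h => by simpa using h.mul_right c.inv_right, fun h => h.mul_right c⟩
    rw [cc, this, cc]
  have h7 : ∀ z, U3 x ≤ C1[z] → 2 ^ cc L z = Nat.card F ^ 3 := fun z hz => by
    rw [cc, ← (m.syl.mono (le_inf m.syl.le hz) inf_le_left).card_eq]
    exact p.cardY 0 2 (by decide)
  rw [← cc_conj hl', e, h6]
  by_cases h8 : w = 1
  · exact h7 _ fun y _ => mem_C1.2 (h8 ▸ Commute.one_right y)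
  obtain ⟨l1, a1, e1⟩ := ka.cls w (m.syl.le hw) h5 h8 1 one_ne_zero
  rw [← cc_conj (le_normalizer a1), e1]
  exact h7 _ fun y hy => mem_C1.2 (c_comm m.st p 1 hy).symm

theorem ccT {n : ℕ} (hn : Nat.card F = 2 ^ n) {j : G} (h1 : Is2 j) (h2 : j * j ∈ C[L]) {ε : Bool}
    {φ : F ≃+* F} (t : Typ3 x L j ε φ) : φ * φ = 1 ∧ (φ = 1 → ε = false → cc L j = 3 * n) ∧
      (φ = 1 → ε = true → cc L j = n) ∧ (φ ≠ 1 → 2 * cc L j = 3 * n) := by
  have inj := Nat.pow_right_injective (le_refl 2)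
  have out : ¬ (ε = false ∧ φ = 1) → j ∉ L ⊔ C[L] := fun h h' =>
    h (ka.typ_uniq _ _ _ _ _ t (ka.typ_inn j h'))
  refine ⟨(ka.typ_uniq _ _ _ _ _ (ka.typ_mul _ _ _ _ _ _ t t) (ka.typ_inn _ (mem_sup_right h2))).2,
    ?_, ?_, fun h => ?_⟩
  · rintro rfl rfl
    refine inj ?_
    change 2 ^ _ = 2 ^ _
    rw [cc_inn m p ka h1 h2 (ka.typ_one j t h1), hn, ← pow_mul, mul_comm]
  · rintro rfl rfl
    obtain ⟨f, a1, a2, a3⟩ := frame m ka kb h1 h2 (out (by simp)) t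
    refine inj ?_
    change 2 ^ _ = 2 ^ _
    rw [a3, (kb.fixG f a1 a2).1, p.cardX 0 2 (by decide), hn]
  · obtain ⟨f, a1, a2, a3⟩ := frame m ka kb h1 h2 (out fun e => h e.2) t
    refine inj ?_
    change 2 ^ _ = 2 ^ _
    rw [mul_comm, pow_mul, a3, (kb.fixF f _ _ a1 h a2).1, hn, ← pow_mul, mul_comm]

omit m p kb in
/-- The elements with trivial field part. -/
def WW : Subgroup G where
  carrier := {g | ∃ ε, Typ3 x L g ε 1}
  one_mem' := ⟨_, ka.typ_inn 1 (one_mem _)⟩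
  mul_mem' := fun ⟨_, t⟩ ⟨_, t'⟩ => ⟨_, by simpa using ka.typ_mul _ _ _ _ _ _ t t'⟩
  inv_mem' := fun {g} ⟨_, t⟩ => by
    obtain ⟨ε, φ, t'⟩ := ka.typ_ex _ (inv_mem (ka.typ_N _ _ _ t))
    have := ka.typ_mul _ _ _ _ _ _ t t'
    rw [mul_inv_cancel, one_mul] at this
    exact ⟨ε, (ka.typ_uniq _ _ _ _ _ this (ka.typ_inn 1 (one_mem _))).2 ▸ t'⟩

omit m p kb in
theorem mem_WW {g : G} {ε : Bool} {φ : F ≃+* F} (t : Typ3 x L g ε φ) : g ∈ WW ka ↔ φ = 1 :=
  ⟨fun ⟨_, t'⟩ => (ka.typ_uniq _ _ _ _ _ t t').2, fun e => ⟨ε, e ▸ t⟩⟩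

theorem wx : WX L (U3 x) (WW ka) := by
  have cl := clsI m ka kb
  obtain ⟨n, hn⟩ : ∃ n, Nat.card F = 2 ^ n := by
    obtain ⟨k, hk⟩ := IsPGroup.iff_card.1 (p.two 0 2 (by decide))
    rw [p.cardY 0 2 (by decide)] at hk
    obtain ⟨n, -, hn⟩ := (Nat.dvd_prime_pow Nat.prime_two).1 (hk ▸ dvd_pow_self _ three_ne_zero)
    exact ⟨n, hn⟩
  have n0 : n ≠ 0 := by
    rintro rfl
    have := m.four
    omega
  have gr : ∀ {a : G}, Is2 a → a ∈ WW ka → a ∉ L ⊔ C[L] → Typ3 x L a true 1 := by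
    rintro a h1 ⟨_ | _, t⟩ h3
    · exact (h3 (ka.typ_one a t h1)).elim
    · exact t
  have one : ∀ P : Subgroup G, IsPGroup 2 P → ∀ a ∈ P, ∀ b ∈ P, a ∈ WW ka → b ∈ WW ka →
      a ∉ L ⊔ C[L] → b ∉ L ⊔ C[L] → a * b ∈ L ⊔ C[L] := fun P hP a ha b hb h1 h2 h3 h4 =>
    ka.typ_one _ (by
      simpa using ka.typ_mul _ _ _ _ _ _ (gr (is2_of_mem hP ha) h1 h3) (gr (is2_of_mem hP hb) h2 h4))
      (is2_of_mem hP (mul_mem ha hb))
  have lift : ∀ P : Subgroup G, P ≤ N[L] → IsPGroup 2 P → U3 x ≤ P → ∀ a ∈ P,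
      a * a ∈ L ⊔ C[L] → ∃ u ∈ U3 x, ∃ ε φ, Typ3 x L a ε φ ∧ Typ3 x L (u * a) ε φ ∧
        u * a * (u * a) ∈ C[L] := by
    intro P h hP hU a ha h2
    have e := inf_syl m.syl hP hU
    have h3 : a ∈ N[U3 x] := mem_N_of_conj fun y hy => by
      rw [← e] at hy ⊢
      exact ⟨P.mul_mem (P.mul_mem ha hy.1) (P.inv_mem ha), conj_mem (h ha) hy.2⟩
    obtain ⟨w, hw, k, hk, e'⟩ := ka.inn _ h2 (mul_mem h3 h3) (is2_of_mem hP (mul_mem ha ha))
    obtain ⟨y, hy, ε, φ, b1, b2⟩ := kb.lift a ⟨h ha, h3⟩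
      (e' ▸ mul_mem (mem_sup_left hw) (mem_sup_right hk))
    exact ⟨y, hy, ε, φ, ⟨y, m.syl.le hy, b1⟩, ⟨1, one_mem _, by rwa [one_mul]⟩, b2⟩
  have vac : ∀ P : Subgroup G, P ≤ N[L] → IsPGroup 2 P → ∀ e, ∀ j ∈ P, ∀ j' ∈ P, j * j ∈ C[L] →
      j' * j' ∈ C[L] → cc L j + cc L j' ≠ 2 * cc L e → Ne2 L P e j j' :=
    fun P h hP e j hj j' hj' k k' h1 => ⟨h1, fun ⟨g, hg, h2⟩ =>
      h2.elim (absurd (cl P h hP j hj k g hg)) (absurd (cl P h hP j' hj' k' g hg))⟩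
  refine ⟨fun g hg => ⟨_, ka.typ_inn g hg⟩, fun g ⟨_, t⟩ => ka.typ_N _ _ _ t,
    fun g hg => ⟨_, ka.ab g hg⟩, fun P h hP a ha b hb => one P hP a ha b hb (h ha) (h hb),
    fun P h hP r hr h2 _ => cl P h hP r hr h2, fun P h hP r hr h2 g hg _ _ =>
      Or.inl (cl P h hP r hr h2 g hg), fun P h hP hU a ha h2 h3 => ?_,
    fun P h hP hU a ha h2 h3 => ?_⟩
  · obtain ⟨y, hy, ε, φ, t0, t1, b⟩ := lift P h hP hU a ha h2
    refine ⟨y, hy, b, fun j hj j' hj' k k' h4 => vac P h hP _ j hj j' hj' k k' ?_⟩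
    have c0 := (ccT m p ka kb hn (is2_of_mem hP (mul_mem (hU hy) ha)) b t1).2.2.2
      (mt (mem_WW ka t0).2 h3)
    obtain ⟨δ, ψ, s⟩ := ka.typ_ex j (h hj)
    obtain ⟨δ', ψ', s'⟩ := ka.typ_ex j' (h hj')
    obtain ⟨c1, c2, c3, c4⟩ := ccT m p ka kb hn (is2_of_mem hP hj) k s
    obtain ⟨d1, d2, d3, d4⟩ := ccT m p ka kb hn (is2_of_mem hP hj') k' s'
    have h5 : ψ * ψ' ≠ 1 := mt (mem_WW ka (ka.typ_mul _ _ _ _ _ _ s s')).2 h4
    by_cases e' : ψ' = 1
    · have c5 := c4 fun e => h5 (by rw [e, e', one_mul])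
      cases δ'
      · have := d2 e' rfl
        omega
      · have := d3 e' rfl
        omega
    · have d5 := d4 e'
      have e : ψ = 1 := (H37.Kit.inv_uniq c1 d1 e').resolve_right fun e => h5 (e ▸ d1)
      cases δ
      · have := c2 e rfl
        omega
      · have := c3 e rfl
        omega
  · obtain ⟨y, hy, ε, φ, t0, t1, b⟩ := lift P h hP hU a ha (one P hP a ha a ha h2 h2 h3 h3)
    refine ⟨y, hy, b, fun j hj j' hj' k k' h4 h5 => vac P h hP _ j hj j' hj' k k' ?_⟩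
    obtain ⟨rfl, rfl⟩ := ka.typ_uniq _ _ _ _ _ t0 (gr (is2_of_mem hP ha) h2 h3)
    have c0 := (ccT m p ka kb hn (is2_of_mem hP (mul_mem (hU hy) ha)) b t1).2.2.1 rfl rfl
    obtain ⟨δ, ψ, s⟩ := ka.typ_ex j (h hj)
    obtain ⟨δ', ψ', s'⟩ := ka.typ_ex j' (h hj')
    obtain ⟨c1, c2, c3, c4⟩ := ccT m p ka kb hn (is2_of_mem hP hj) k s
    obtain ⟨d1, d2, d3, d4⟩ := ccT m p ka kb hn (is2_of_mem hP hj') k' s'
    obtain ⟨e1, e2⟩ := ka.typ_uniq _ _ _ _ _ (ka.typ_mul _ _ _ _ _ _ s s')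
      (gr (is2_of_mem hP (mul_mem hj hj')) h4 h5)
    by_cases e : ψ = 1
    · have e' : ψ' = 1 := by rwa [e, one_mul] at e2
      cases δ <;> cases δ'
      · simp at e1
      · have := c2 e rfl
        have := d3 e' rfl
        omega
      · have := c3 e rfl
        have := d2 e' rfl
        omega
      · simp at e1
    · have := c4 e
      have := d4 fun e' => e (by rwa [e', mul_one] at e2)
      omega

omit m p ka kb in
/-- **WR** -/
theorem wrL3 (hp : PinStmt3.{u, v}) (ha : KAStmt.{u, v}) (hb : KBStmt.{u, v}) :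
    WrL3Stmt.{u, v} := fun L x m =>
  ⟨wl m (hp x m.st) (ha L x m), clsI m (ha L x m) (hb L x m),
    _, wx m (hp x m.st) (ha L x m) (hb L x m)⟩

end Cfsg.Agent.H49.L3W
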