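import Cfsg.Agent.H42.HtDefs
import Cfsg.Agent.H48.HsK
import Cfsg.Agent.H7.AABase

/-! Project HT, piece I2. -/

set_option autoImplicit false

namespace Cfsg.Agent.H49.HtI2

open Cfsg Cfsg.Agent.H63 Cfsg.Agent.H63.SL Cfsg.Agent.H63.AN Subgroup Cfsg.Agent.H42.HT
open Cfsg.Agent.H7.AA
open Cfsg.Agent.H68.HN (K K1 eU cU f_uu eU_K1)
open Cfsg.Agent.H48.HS (U2 inn_class root_class1)
open Equiv (swap Perm)
open Equiv.Perm (sign)

universe u

theorem two_class {a b y : K} (ha : ∃ m ∈ K1, m * a * m⁻¹ = y ∨ m * a * m⁻¹ = eU * y)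
    (hb : ∃ m ∈ K1, m * b * m⁻¹ = y ∨ m * b * m⁻¹ = eU * y) :
    ∃ m ∈ K1, m * a * m⁻¹ = b ∨ m * a * m⁻¹ = eU * b := by
  obtain ⟨m, hm, h⟩ := ha
  obtain ⟨l, hl, k⟩ := hb
  refine ⟨l⁻¹ * m, mul_mem (inv_mem hl) hm, ?_⟩
  have e : l⁻¹ * m * a * (l⁻¹ * m)⁻¹ = l⁻¹ * (m * a * m⁻¹) * l := by group
  have e1 : ∀ c, l⁻¹ * (l * c * l⁻¹) * l = c := fun c => by group
  have e2 : ∀ c, l⁻¹ * (eU * c) * l = eU * (l⁻¹ * c * l) := fun c => by
    rw [← mul_assoc, ← cU]; simp only [mul_assoc]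
  have e3 : ∀ c, eU * (eU * c) = c := fun c => by rw [← mul_assoc, f_uu, one_mul]
  rw [e]
  rcases h with h | h <;> rcases k with k | k <;> rw [h]
  · exact Or.inl (by rw [← k, e1])
  · exact Or.inr (by rw [← e3 y, ← k, e2, e1])
  · exact Or.inr (by rw [← k, e2, e1])
  · exact Or.inl (by rw [← k, e1])

theorem i2 : I2Stmt.{u} := by
  intro ff G _ _ ψ t fr _ τ h J k co ns iz n hn a ha e
  have sw : sign w = 1 := by decide
  have sv : sign v = 1 := by decide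
  have s2 : sign w2 = 1 := by decide
  have sx : sign x3 = 1 := by decide
  have sq : ∀ {σ}, sign σ = 1 → σ * σ = 1 → ev ψ σ * ev ψ σ = 1 := fun h1 h2 => by
    rw [← ev_mul h1 h1, h2, ev_one]
  have WW := sq sw (by decide)
  have VV := sq sv (by decide)
  have ct : ∀ σ, Commute t (ev ψ σ) := KA_ev fr.tK
  have ττ : τ * τ = 1 := by rw [← co.ht, conj_mul, fr.t2, mul_one, mul_inv_cancel]
  have τW : Commute τ (ev ψ w) := co.d1.ac.comm sw (by decide)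
  have VW : Commute (ev ψ v) (ev ψ w) := ev_comm sv sw (by decide)
  have Vτ : ev ψ v * τ = ev ψ w * τ * ev ψ v := by
    have := fr.cls τ _ co.d1.cm co.d1.ac v sv
    rwa [show v * swap 0 1 * v⁻¹ * (swap 0 1)⁻¹ = w by decide, mul_inv_eq_iff_eq_mul] at this
  have act : Acts ψ (τ * ev ψ v) (swap 0 1 * v) := co.d1.ac.mul (acts_ev sv)
  have tρ : Commute t (τ * ev ψ v) := co.d1.cm.symm.mul_right (ct v)
  have ρW : Commute (τ * ev ψ v) (ev ψ w) := τW.mul_left VW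
  have τρ : τ * (τ * ev ψ v) * τ⁻¹ = τ * ev ψ v * ev ψ w := by
    rw [← mul_assoc, ττ, one_mul, inv_eq_of_mul_eq_one_right ττ, Vτ, mul_assoc, ρW.eq]
  have ρρ : τ * ev ψ v * (τ * ev ψ v) = ev ψ w := by
    rw [mul_assoc, ← mul_assoc (ev ψ v), Vτ, mul_assoc, VV, mul_one, ← τW.eq, ← mul_assoc, ττ,
      one_mul]
  obtain ⟨a2, ha2, e2⟩ := ns.hA w2'
  have e2' : J a2 = ev ψ w2 := by
    rw [e2, bt_apply, ev_cj]
    exact mul_inv_eq_iff_eq_mul.2 (co.hB w2 (H78.mem_altOn.2 (by decide))).eq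
  generalize τ * ev ψ v = ρ at *
  have cr : ∀ {b}, b ∈ K1 → Commute ρ (J b) := fun hb => ns.cr _ hb
  have sqJ : ∀ {b}, b ∈ K1 → ρ * J b * (ρ * J b) = ev ψ w * J (b * b) := fun hb => by
    rw [(cr hb).symm.mul_mul_mul_comm, ρρ, ns.mul _ hb _ hb]
  have cj : ∀ {m b}, m ∈ K1 → b ∈ K1 → J m * (ρ * J b) * (J m)⁻¹ = ρ * J (m * b * m⁻¹) :=
    fun hm hb => by rw [← ns.conj hm hb, ← mul_assoc, ← (cr hm).eq]; simp only [mul_assoc]
  have aa : a * a = 1 := ns.inj _ (mul_mem ha ha) _ (one_mem _) (by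
    have := sqJ ha
    rw [← e, conj_mul, ρρ, hn.eq, mul_inv_cancel_right] at this
    rw [ns.one, left_eq_mul.1 this])
  by_contra hu
  obtain ⟨n, hn, e⟩ : ∃ n, Commute n (ev ψ w) ∧ n * ρ * n⁻¹ = ρ * ev ψ w2 := by
    obtain ⟨m, hm, h1⟩ := two_class (inn_class ha aa hu) (inn_class ha2
      (ns.inj _ (mul_mem ha2 ha2) _ (one_mem _) (by
        rw [ns.mul _ ha2 _ ha2, e2', sq s2 (by decide), ns.one])) (by
      rintro (h1 | h1)
      · rw [h1, ns.one] at e2'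
        exact absurd (ev_eq_one fr.inj s2 e2'.symm) (by decide)
      · rw [h1, ns.ju] at e2'
        exact absurd (ev_inj fr.inj sw s2 e2') (by decide)))
    have h2 : J m * n * ρ * (J m * n)⁻¹ = ρ * J (m * a * m⁻¹) := by
      rw [← cj hm ha, ← e]; group
    have h3 := (ns.cw hm).mul_left hn
    rcases h1 with h1 | h1
    · exact ⟨_, h3, by rw [h2, h1, e2']⟩
    · refine ⟨J m * n * τ, h3.mul_left τW, ?_⟩
      calc _ = J m * n * (τ * ρ * τ⁻¹) * (J m * n)⁻¹ := by group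
        _ = J m * n * ρ * (J m * n)⁻¹ * ev ψ w := by
          rw [τρ, mul_assoc _ _ (ev ψ w), h3.inv_left.eq]; simp only [mul_assoc]
        _ = _ := by
          rw [h2, h1, ns.uj ha2, ← e2', ← (ns.cw ha2).eq]
          simp only [mul_assoc, WW, mul_one]
  have back : ∀ {x : G}, Commute t (n * x * n⁻¹) → Commute (n⁻¹ * t * n) x := fun {x} hc => by
    have := hc.conj n⁻¹
    simpa [mul_assoc] using this
  have tt : n⁻¹ * t * n * (n⁻¹ * t * n) = 1 := by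
    calc _ = n⁻¹ * (t * t) * n := by group
      _ = 1 := by rw [fr.t2]; group
  obtain ⟨b, hb, h1 | h1⟩ := ns.dec (n⁻¹ * t * n)
    (back (by rw [hn.eq, mul_inv_cancel_right]; exact ct w))
    (back (by rw [e]; exact tρ.mul_right (ct w2))) ⟨1, by rw [pow_one, pow_two, tt]⟩
  · exact iz.nlk b hb (isConj_iff.2 ⟨n⁻¹, by rw [inv_inv, h1]⟩)
  have bb : b * b = eU := ns.inj _ (mul_mem hb hb) _ eU_K1 (by
    have := sqJ hb
    rw [← h1, tt, ← WW] at this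
    rw [ns.ju, mul_left_cancel this])
  obtain ⟨m, hm, h2⟩ := two_class (root_class1 bb) (root_class1 iz.kk)
  have h3 : ∀ σ ∈ B6, Commute (ρ * J (m * b * m⁻¹)) (ev ψ σ) := fun σ hσ => by
    rcases h2 with h2 | h2 <;> rw [h2]
    · rw [← iz.tk]; exact ct σ
    · rw [ns.uj iz.k1, ← (ns.cw iz.k1).eq, ← mul_assoc, ← iz.tk]
      obtain ⟨f, hs⟩ := H78.mem_altOn.1 hσ
      refine (ct σ).mul_left (ev_comm sw hs (mul_inv_eq_iff_eq_mul.1 ?_).symm)
      rw [w, d2_conj, f 0 (by decide), f 1 (by decide), f 2 (by decide), f 3 (by decide)]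
  obtain ⟨φ, hφ, h4⟩ := fr.perf {0, 1, 2, 3}ᶜ (n * (J m)⁻¹) (by decide) fun σ hσ => by
    have := (h3 σ hσ).symm.conj (n * (J m)⁻¹)
    rw [← cj hm hb, ← h1] at this
    simpa [mul_assoc] using this
  have hx : x3 ∈ B6 := H78.mem_altOn.2 (by decide)
  obtain ⟨h5, h6⟩ := h4 ⟨x3, hx⟩
  have h7 : Commute ρ (ev ψ x3) := act.comm sx (by decide)
  have h8 := h7.conj (n * (J m)⁻¹)
  rw [h6, mul_assoc n, ← (cr hm).inv_right.eq, mul_inv_rev, inv_inv, ← mul_assoc, ← mul_assoc,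
    inv_mul_cancel_right, e] at h8
  have h9 := ff.r3 _ (by
    rw [← map_pow, show (⟨x3, hx⟩ : B6) ^ 3 = 1 from Subtype.ext (by decide : x3 ^ 3 = 1), map_one])
    ((act.mul (acts_ev s2)).comm_perm fr.inj h5 h8.eq).symm
  exact absurd (congrArg Subtype.val (hφ (h9.trans (map_one φ).symm))) (by decide : x3 ≠ 1)

end Cfsg.Agent.H49.HtI2
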