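import Cfsg.Agent.H49.Fix
import Cfsg.Prelude.Def_MonsterType

/-! The centralizer in `Co0` of an element of order 5 of `M24`. -/

set_option autoImplicit false
set_option maxRecDepth 200000
set_option linter.style.longLine false

namespace Cfsg.Agent.H49

open Cfsg Subgroup Cfsg.Agent.H48 Cfsg.Agent.H42 Cfsg.Agent.H43
open scoped Pointwise

theorem f5_hn : NOk 25 := by decide

theorem f5_hk : 25 ≤ 2 ^ 5 := by decide

noncomputable def f5_g1 : Net := (Net.cons (nat_lit 1) (nat_lit 349525) (Net.cons (nat_lit 2) (nat_lit 69905) (Net.cons (nat_lit 8) (nat_lit 240) (Net.cons (nat_lit 16) (nat_lit 496) (Net.cons (nat_lit 8) (nat_lit 65537) (Net.cons (nat_lit 4) (nat_lit 921103) Net.nil))))))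

theorem f5_g1_ok : Net.ok 25 f5_g1 = true := by decide +kernel

noncomputable def f5_g2 : Net := (Net.cons (nat_lit 1) (nat_lit 16384) (Net.cons (nat_lit 4) (nat_lit 1024) (Net.cons (nat_lit 8) (nat_lit 248) (Net.cons (nat_lit 4) (nat_lit 1799) (Net.cons (nat_lit 2) (nat_lit 8739) (Net.cons (nat_lit 1) (nat_lit 21840) Net.nil))))))

theorem f5_g2_ok : Net.ok 25 f5_g2 = true := by decide +kernel

noncomputable def f5_g3 : Net := (Net.cons (nat_lit 8) (nat_lit 65634) (Net.cons (nat_lit 16) (nat_lit 370) (Net.cons (nat_lit 8) (nat_lit 65774) (Net.cons (nat_lit 4) (nat_lit 657930) Net.nil))))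

theorem f5_g3_ok : Net.ok 25 f5_g3 = true := by decide +kernel

noncomputable def f5_O : List Net := [f5_g1, f5_g2, f5_g3]

theorem f5_O_ok : okE 25 f5_O = true := (okE_cons.2 ⟨f5_g1_ok, (okE_cons.2 ⟨f5_g2_ok, (okE_cons.2 ⟨f5_g3_ok, (okE_nil 25)⟩)⟩)⟩)

noncomputable def f5_V4 : List Net := [f5_g1]

theorem f5_V4_ok : okE 25 f5_V4 = true := (okE_cons.2 ⟨f5_g1_ok, (okE_nil 25)⟩)

noncomputable def f5_g6 : Net := (Net.cons (nat_lit 2) (nat_lit 0x100000) (Net.cons (nat_lit 4) (nat_lit 66304) (Net.cons (nat_lit 8) (nat_lit 8) (Net.cons (nat_lit 16) (nat_lit 460) (Net.cons (nat_lit 8) (nat_lit 65694) (Net.cons (nat_lit 4) (nat_lit 461578) (Net.cons (nat_lit 2) (nat_lit 0x333330) Net.nil)))))))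

theorem f5_g6_ok : Net.ok 25 f5_g6 = true := by decide +kernel

noncomputable def f5_g7 : Net := (Net.cons (nat_lit 1) (nat_lit 0x544110) (Net.cons (nat_lit 2) (nat_lit 0x100120) (Net.cons (nat_lit 4) (nat_lit 66560) (Net.cons (nat_lit 8) (nat_lit 65600) (Net.cons (nat_lit 4) (nat_lit 68616) (Net.cons (nat_lit 2) (nat_lit 74018) (Net.cons (nat_lit 1) (nat_lit 0x504010) Net.nil)))))))

theorem f5_g7_ok : Net.ok 25 f5_g7 = true := by decide +kernel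

noncomputable def f5_g8 : Net := (Net.cons (nat_lit 1) (nat_lit 0x145051) (Net.cons (nat_lit 2) (nat_lit 0x230131) (Net.cons (nat_lit 4) (nat_lit 200193) (Net.cons (nat_lit 8) (nat_lit 65666) (Net.cons (nat_lit 16) (nat_lit 179) (Net.cons (nat_lit 8) (nat_lit 65559) (Net.cons (nat_lit 4) (nat_lit 658696) (Net.cons (nat_lit 2) (nat_lit 0x232131) (Net.cons (nat_lit 1) (nat_lit 0x405541) Net.nil)))))))))

theorem f5_g8_ok : Net.ok 25 f5_g8 = true := by decide +kernel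

noncomputable def f5_V9 : List Net := [f5_g6, f5_g7, f5_g8]

theorem f5_V9_ok : okE 25 f5_V9 = true := (okE_cons.2 ⟨f5_g6_ok, (okE_cons.2 ⟨f5_g7_ok, (okE_cons.2 ⟨f5_g8_ok, (okE_nil 25)⟩)⟩)⟩)

noncomputable def f5_V11 : List Net := [f5_g8]

theorem f5_V11_ok : okE 25 f5_V11 = true := (okE_cons.2 ⟨f5_g8_ok, (okE_nil 25)⟩)

noncomputable def f5_g13 : Net := (Net.cons (nat_lit 1) (nat_lit 0x444404) (Net.cons (nat_lit 2) (nat_lit 69888) (Net.cons (nat_lit 4) (nat_lit 263168) (Net.cons (nat_lit 8) (nat_lit 180) (Net.cons (nat_lit 16) (nat_lit 436) (Net.cons (nat_lit 8) (nat_lit 65780) (Net.cons (nat_lit 4) (nat_lit 658688) (Net.cons (nat_lit 2) (nat_lit 69890) (Net.cons (nat_lit 1) (nat_lit 0x400040) Net.nil)))))))))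

theorem f5_g13_ok : Net.ok 25 f5_g13 = true := by decide +kernel

noncomputable def f5_g14 : Net := (Net.cons (nat_lit 1) (nat_lit 83200) (Net.cons (nat_lit 2) (nat_lit 4880) (Net.cons (nat_lit 4) (nat_lit 526336) (Net.cons (nat_lit 8) (nat_lit 120) (Net.cons (nat_lit 16) (nat_lit 376) (Net.cons (nat_lit 8) (nat_lit 65784) (Net.cons (nat_lit 4) (nat_lit 396036) (Net.cons (nat_lit 2) (nat_lit 8976) (Net.cons (nat_lit 1) (nat_lit 266244) Net.nil)))))))))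

theorem f5_g14_ok : Net.ok 25 f5_g14 = true := by decide +kernel

noncomputable def f5_V15 : List Net := [f5_g13, f5_g14]

theorem f5_V15_ok : okE 25 f5_V15 = true := (okE_cons.2 ⟨f5_g13_ok, (okE_cons.2 ⟨f5_g14_ok, (okE_nil 25)⟩)⟩)

noncomputable def f5_g17 : Net := (Net.cons (nat_lit 1) (nat_lit 266256) (Net.cons (nat_lit 2) (nat_lit 288) (Net.cons (nat_lit 4) (nat_lit 262912) (Net.cons (nat_lit 8) (nat_lit 65626) (Net.cons (nat_lit 16) (nat_lit 346) (Net.cons (nat_lit 8) (nat_lit 122) (Net.cons (nat_lit 4) (nat_lit 657928) (Net.cons (nat_lit 2) (nat_lit 0x201120) (Net.cons (nat_lit 1) (nat_lit 83220) Net.nil)))))))))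

theorem f5_g17_ok : Net.ok 25 f5_g17 = true := by decide +kernel

noncomputable def f5_V18 : List Net := [f5_g17]

theorem f5_V18_ok : okE 25 f5_V18 = true := (okE_cons.2 ⟨f5_g17_ok, (okE_nil 25)⟩)

noncomputable def f5_g20 : Net := (Net.cons (nat_lit 1) (nat_lit 0x401004) (Net.cons (nat_lit 2) (nat_lit 8448) (Net.cons (nat_lit 4) (nat_lit 1024) (Net.cons (nat_lit 8) (nat_lit 64) (Net.cons (nat_lit 4) (nat_lit 3072) (Net.cons (nat_lit 2) (nat_lit 0x212102) (Net.cons (nat_lit 1) (nat_lit 65600) Net.nil)))))))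

theorem f5_g20_ok : Net.ok 25 f5_g20 = true := by decide +kernel

noncomputable def f5_V21 : List Net := [f5_g20, f5_g13]

theorem f5_V21_ok : okE 25 f5_V21 = true := (okE_cons.2 ⟨f5_g20_ok, (okE_cons.2 ⟨f5_g13_ok, (okE_nil 25)⟩)⟩)

noncomputable def f5_V23 : List Net := [f5_g20]

theorem f5_V23_ok : okE 25 f5_V23 = true := (okE_cons.2 ⟨f5_g20_ok, (okE_nil 25)⟩)

noncomputable def f5_g25 : Net := (Net.cons (nat_lit 2) (nat_lit 4352) (Net.cons (nat_lit 4) (nat_lit 393472) (Net.cons (nat_lit 8) (nat_lit 65656) (Net.cons (nat_lit 16) (nat_lit 376) (Net.cons (nat_lit 8) (nat_lit 120) (Net.cons (nat_lit 4) (nat_lit 526336) (Net.cons (nat_lit 2) (nat_lit 0x211100) (Net.cons (nat_lit 1) (nat_lit 349184) Net.nil))))))))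

theorem f5_g25_ok : Net.ok 25 f5_g25 = true := by decide +kernel

noncomputable def f5_g26 : Net := (Net.cons (nat_lit 1) (nat_lit 349184) (Net.cons (nat_lit 2) (nat_lit 0x211100) (Net.cons (nat_lit 8) (nat_lit 240) (Net.cons (nat_lit 16) (nat_lit 496) (Net.cons (nat_lit 8) (nat_lit 65776) (Net.cons (nat_lit 4) (nat_lit 919808) (Net.cons (nat_lit 2) (nat_lit 4352) Net.nil)))))))

theorem f5_g26_ok : Net.ok 25 f5_g26 = true := by decide +kernel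

noncomputable def f5_V27 : List Net := [f5_g25, f5_g26]

theorem f5_V27_ok : okE 25 f5_V27 = true := (okE_cons.2 ⟨f5_g25_ok, (okE_cons.2 ⟨f5_g26_ok, (okE_nil 25)⟩)⟩)

noncomputable def f5_V29 : List Net := [f5_g25]

theorem f5_V29_ok : okE 25 f5_V29 = true := (okE_cons.2 ⟨f5_g25_ok, (okE_nil 25)⟩)

noncomputable def f5o_E5 : List Net := []

theorem f5o_E5_ok : okE 25 f5o_E5 = true := (okE_nil 25)

noncomputable def f5o_G4 : List Net := [f5_g25]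

theorem f5o_G4_ok : okE 25 f5o_G4 = true := (okE_cons.2 ⟨f5_g25_ok, (okE_nil 25)⟩)

noncomputable def f5o_E4 : List Net := [f5_g25, f5_g26]

theorem f5o_E4_ok : okE 25 f5o_E4 = true := (okE_cons.2 ⟨f5_g25_ok, (okE_cons.2 ⟨f5_g26_ok, (okE_nil 25)⟩)⟩)

noncomputable def f5o_G3 : List Net := [f5_g20, f5_g25, f5_g26]

theorem f5o_G3_ok : okE 25 f5o_G3 = true := (okE_cons.2 ⟨f5_g20_ok, (okE_cons.2 ⟨f5_g25_ok, (okE_cons.2 ⟨f5_g26_ok, (okE_nil 25)⟩)⟩)⟩)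

noncomputable def f5o_E3 : List Net := [f5_g20, f5_g13, f5_g25, f5_g26]

theorem f5o_E3_ok : okE 25 f5o_E3 = true := (okE_cons.2 ⟨f5_g20_ok, (okE_cons.2 ⟨f5_g13_ok, (okE_cons.2 ⟨f5_g25_ok, (okE_cons.2 ⟨f5_g26_ok, (okE_nil 25)⟩)⟩)⟩)⟩)

noncomputable def f5o_G2 : List Net := [f5_g17, f5_g20, f5_g13, f5_g25, f5_g26]

theorem f5o_G2_ok : okE 25 f5o_G2 = true := (okE_cons.2 ⟨f5_g17_ok, (okE_cons.2 ⟨f5_g20_ok, (okE_cons.2 ⟨f5_g13_ok, (okE_cons.2 ⟨f5_g25_ok, (okE_cons.2 ⟨f5_g26_ok, (okE_nil 25)⟩)⟩)⟩)⟩)⟩)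

noncomputable def f5o_E2 : List Net := [f5_g17, f5_g14, f5_g20, f5_g13, f5_g25, f5_g26]

theorem f5o_E2_ok : okE 25 f5o_E2 = true := (okE_cons.2 ⟨f5_g17_ok, (okE_cons.2 ⟨f5_g14_ok, (okE_cons.2 ⟨f5_g20_ok, (okE_cons.2 ⟨f5_g13_ok, (okE_cons.2 ⟨f5_g25_ok, (okE_cons.2 ⟨f5_g26_ok, (okE_nil 25)⟩)⟩)⟩)⟩)⟩)⟩)

noncomputable def f5o_G1 : List Net := [f5_g8, f5_g17, f5_g14, f5_g20, f5_g13, f5_g25, f5_g26]

theorem f5o_G1_ok : okE 25 f5o_G1 = true := (okE_cons.2 ⟨f5_g8_ok, (okE_cons.2 ⟨f5_g17_ok, (okE_cons.2 ⟨f5_g14_ok, (okE_cons.2 ⟨f5_g20_ok, (okE_cons.2 ⟨f5_g13_ok, (okE_cons.2 ⟨f5_g25_ok, (okE_cons.2 ⟨f5_g26_ok, (okE_nil 25)⟩)⟩)⟩)⟩)⟩)⟩)⟩)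

noncomputable def f5o_E1 : List Net := [f5_g8, f5_g6, f5_g7, f5_g17, f5_g14, f5_g20, f5_g13, f5_g25, f5_g26]

theorem f5o_E1_ok : okE 25 f5o_E1 = true := (okE_cons.2 ⟨f5_g8_ok, (okE_cons.2 ⟨f5_g6_ok, (okE_cons.2 ⟨f5_g7_ok, (okE_cons.2 ⟨f5_g17_ok, (okE_cons.2 ⟨f5_g14_ok, (okE_cons.2 ⟨f5_g20_ok, (okE_cons.2 ⟨f5_g13_ok, (okE_cons.2 ⟨f5_g25_ok, (okE_cons.2 ⟨f5_g26_ok, (okE_nil 25)⟩)⟩)⟩)⟩)⟩)⟩)⟩)⟩)⟩)

noncomputable def f5o_G0 : List Net := [f5_g1, f5_g8, f5_g6, f5_g7, f5_g17, f5_g14, f5_g20, f5_g13, f5_g25, f5_g26]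

theorem f5o_G0_ok : okE 25 f5o_G0 = true := (okE_cons.2 ⟨f5_g1_ok, (okE_cons.2 ⟨f5_g8_ok, (okE_cons.2 ⟨f5_g6_ok, (okE_cons.2 ⟨f5_g7_ok, (okE_cons.2 ⟨f5_g17_ok, (okE_cons.2 ⟨f5_g14_ok, (okE_cons.2 ⟨f5_g20_ok, (okE_cons.2 ⟨f5_g13_ok, (okE_cons.2 ⟨f5_g25_ok, (okE_cons.2 ⟨f5_g26_ok, (okE_nil 25)⟩)⟩)⟩)⟩)⟩)⟩)⟩)⟩)⟩)⟩)

noncomputable def f5o_E0 : List Net := [f5_g1, f5_g2, f5_g3, f5_g8, f5_g6, f5_g7, f5_g17, f5_g14, f5_g20, f5_g13, f5_g25, f5_g26]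

theorem f5o_E0_ok : okE 25 f5o_E0 = true := (okE_cons.2 ⟨f5_g1_ok, (okE_cons.2 ⟨f5_g2_ok, (okE_cons.2 ⟨f5_g3_ok, (okE_cons.2 ⟨f5_g8_ok, (okE_cons.2 ⟨f5_g6_ok, (okE_cons.2 ⟨f5_g7_ok, (okE_cons.2 ⟨f5_g17_ok, (okE_cons.2 ⟨f5_g14_ok, (okE_cons.2 ⟨f5_g20_ok, (okE_cons.2 ⟨f5_g13_ok, (okE_cons.2 ⟨f5_g25_ok, (okE_cons.2 ⟨f5_g26_ok, (okE_nil 25)⟩)⟩)⟩)⟩)⟩)⟩)⟩)⟩)⟩)⟩)⟩)⟩)

theorem f5_le5 : grp 25 f5_V4 ≤ grp 25 f5_O :=
  grp_le_of_memB f5_hn f5_hk f5_O_ok f5_V4_ok (ws := [nat_lit 1]) (by decide +kernel)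

theorem f5_le10 : grp 25 f5_V9 ≤ grp 25 f5_O :=
  grp_le_of_memB f5_hn f5_hk f5_O_ok f5_V9_ok (ws := [nat_lit 0x406040206030602, nat_lit 0x503010305, nat_lit 0x40205010106040603]) (by decide +kernel)

theorem f5_le12 : grp 25 f5_V11 ≤ grp 25 f5_V9 :=
  grp_le_of_memB f5_hn f5_hk f5_V9_ok f5_V11_ok (ws := [nat_lit 5]) (by decide +kernel)

theorem f5_le16 : grp 25 f5_V15 ≤ grp 25 f5_V9 :=
  grp_le_of_memB f5_hn f5_hk f5_V9_ok f5_V15_ok (ws := [nat_lit 0x602050203, nat_lit 0x3030203050206]) (by decide +kernel)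

theorem f5_le19 : grp 25 f5_V18 ≤ grp 25 f5_V15 :=
  grp_le_of_memB f5_hn f5_hk f5_V15_ok f5_V18_ok (ws := [nat_lit 4]) (by decide +kernel)

theorem f5_le22 : grp 25 f5_V21 ≤ grp 25 f5_V15 :=
  grp_le_of_memB f5_hn f5_hk f5_V15_ok f5_V21_ok (ws := [nat_lit 0x2030301030203, nat_lit 0x2030301040104]) (by decide +kernel)

theorem f5_le24 : grp 25 f5_V23 ≤ grp 25 f5_V21 :=
  grp_le_of_memB f5_hn f5_hk f5_V21_ok f5_V23_ok (ws := [nat_lit 1]) (by decide +kernel)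

theorem f5_le28 : grp 25 f5_V27 ≤ grp 25 f5_V21 :=
  grp_le_of_memB f5_hn f5_hk f5_V21_ok f5_V27_ok (ws := [nat_lit 0x2020303020202, nat_lit 0x4020404020301]) (by decide +kernel)

theorem f5_le30 : grp 25 f5_V29 ≤ grp 25 f5_V27 :=
  grp_le_of_memB f5_hn f5_hk f5_V27_ok f5_V29_ok (ws := [nat_lit 1]) (by decide +kernel)

theorem f5o_card5 : Nat.card (grp 25 f5o_E5) = 1 :=
  card_grp_nil 25

theorem f5o_leO5 : grp 25 f5o_E5 ≤ grp 25 f5_O :=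
  grp_nil_le _

theorem f5o_4_fix : grp 25 f5o_E5 ≤ MulAction.stabilizer (Equiv.Perm (Fin 25)) (⟨10, by decide⟩ : Fin 25) :=
  grp_le_stab f5o_E5_ok (by decide : 10 < 25) (by decide +kernel)

noncomputable def f5o_4_ts : List ℕ := [nat_lit 0, nat_lit 1, nat_lit 2]

noncomputable def f5o_4_ds : List ℕ := [nat_lit 10, nat_lit 20, nat_lit 15]

theorem f5o_4_dist : Dist 25 f5o_E5 f5o_G4 (⟨10, by decide⟩ : Fin 25) f5o_4_ts f5o_4_ds :=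
  dist_of_distB (k := 2) f5_hn f5o_E5_ok f5o_G4_ok (by decide : 10 < 25) (by decide +kernel)

noncomputable def f5o_4_sl0 : SL := (SL.cons (nat_lit 1) (nat_lit 20) Ch.nil [] (SL.cons (nat_lit 2) (nat_lit 15) Ch.nil [] SL.nil))

theorem f5o_4_sc0 : SCs 25 f5o_E5 f5o_G4 (⟨10, by decide⟩ : Fin 25) (SL.words f5o_4_sl0) :=
  scs_of_ok f5_hn (det_lab f5_hk ⊤) f5o_E5_ok f5o_G4_ok le_top le_top (by decide : 10 < 25) f5o_4_fix f5o_card5.le (by decide +kernel)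

noncomputable def f5o_4_l : List ℕ := (appL (SL.words f5o_4_sl0) [])

theorem f5o_4_scs : SCs 25 f5o_E5 f5o_G4 (⟨10, by decide⟩ : Fin 25) f5o_4_l :=
  (SCs.append f5o_4_sc0 SCs.nil)

noncomputable def f5o_4_rl0_0 : RL := (RL.cons (nat_lit 0) (nat_lit 10) (nat_lit 0) (nat_lit 0) (nat_lit 2) (nat_lit 0) (RL.cons (nat_lit 1) (nat_lit 20) (nat_lit 0) (nat_lit 0) (nat_lit 0) (nat_lit 0) (RL.cons (nat_lit 2) (nat_lit 15) (nat_lit 0) (nat_lit 0) (nat_lit 1) (nat_lit 0) RL.nil)))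

theorem f5o_4_good0_0 : GoodSet 25 f5o_E5 f5o_G4 (⟨10, by decide⟩ : Fin 25) f5o_4_ts (nat_lit 1) (RL.pts f5o_4_rl0_0) :=
  goodSet_of_ok f5_hn (det_lab f5_hk ⊤) f5o_E5_ok f5o_G4_ok le_top le_top (by decide : 10 < 25) (sepAt_lab f5_hk _) (by decide +kernel)

theorem f5o_4_step0 : Step 25 f5o_E5 f5o_G4 f5o_4_ts (2 * 0 + 1) :=
  step_of_cover f5o_E5_ok f5o_4_dist (by decide +kernel) f5o_4_scs (by decide +kernel) f5o_4_good0_0 (kw := [])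
    (conj_mem_of_scs f5o_E5_ok f5o_G4_ok (by decide : 10 < 25) f5o_4_scs (c := 0) (d := 20) (by decide +kernel)) (by decide +kernel)

theorem f5o_4_lev : grp 25 f5o_G4 ⊓ MulAction.stabilizer (Equiv.Perm (Fin 25)) (⟨10, by decide⟩ : Fin 25) = grp 25 f5o_E5 :=
  sims_level (gs := f5_V29) rfl (by decide) f5o_4_fix f5o_4_dist (forall_lt_one f5o_4_step0)

theorem f5o_4_cardG : Nat.card (grp 25 f5o_G4) = 3 :=
  card_of_level f5_hn f5o_G4_ok (by decide : 10 < 25) f5o_4_lev f5o_card5 (m := 3) (by decide +kernel)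

theorem f5_le31 : grp 25 f5o_E4 ≤ grp 25 f5o_G4 :=
  grp_le_of_memB f5_hn f5_hk f5o_G4_ok f5o_E4_ok (ws := [nat_lit 1, nat_lit 2]) (by decide +kernel)

theorem f5_le32 : grp 25 f5o_G4 ≤ grp 25 f5o_E4 :=
  grp_le_of_memB f5_hn f5_hk f5o_E4_ok f5o_G4_ok (ws := [nat_lit 1]) (by decide +kernel)

theorem f5o_4_eq : grp 25 f5o_E4 = grp 25 f5o_G4 :=
  le_antisymm f5_le31 f5_le32

theorem f5o_card4 : Nat.card (grp 25 f5o_E4) = 3 :=
  by rw [f5o_4_eq]; exact f5o_4_cardG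

theorem f5o_stab4 : grp 25 f5o_E4 ⊓ MulAction.stabilizer (Equiv.Perm (Fin 25)) (⟨10, by decide⟩ : Fin 25) = grp 25 f5o_E5 :=
  by rw [f5o_4_eq]; exact f5o_4_lev

theorem f5o_leO4 : grp 25 f5o_E4 ≤ grp 25 f5_O :=
  f5o_4_eq.le.trans (grp_cons_le ((f5_le28.trans (f5_le22.trans (f5_le16.trans (f5_le10.trans (le_refl (grp 25 f5_O)))))) (f5_le30 (toPerm_mem_grp (E := f5_V29) (by simp [f5_V29])))) f5o_leO5)

theorem f5o_3_fix : grp 25 f5o_E4 ≤ MulAction.stabilizer (Equiv.Perm (Fin 25)) (⟨2, by decide⟩ : Fin 25) :=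
  grp_le_stab f5o_E4_ok (by decide : 2 < 25) (by decide +kernel)

noncomputable def f5o_3_ts : List ℕ := [nat_lit 0, nat_lit 1, nat_lit 2]

noncomputable def f5o_3_ds : List ℕ := [nat_lit 2, nat_lit 1, nat_lit 3]

theorem f5o_3_dist : Dist 25 f5o_E4 f5o_G3 (⟨2, by decide⟩ : Fin 25) f5o_3_ts f5o_3_ds :=
  dist_of_distB (k := 2) f5_hn f5o_E4_ok f5o_G3_ok (by decide : 2 < 25) (by decide +kernel)

noncomputable def f5o_3_sl0 : SL := (SL.cons (nat_lit 1) (nat_lit 1) (Ch.cons (nat_lit 10) [nat_lit 2] Ch.nil) [nat_lit 2] (SL.cons (nat_lit 2) (nat_lit 3) (Ch.cons (nat_lit 10) [nat_lit 2] Ch.nil) [nat_lit 2] SL.nil))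

theorem f5o_3_sc0 : SCs 25 f5o_E4 f5o_G3 (⟨2, by decide⟩ : Fin 25) (SL.words f5o_3_sl0) :=
  scs_of_ok f5_hn (det_lab f5_hk ⊤) f5o_E4_ok f5o_G3_ok le_top le_top (by decide : 2 < 25) f5o_3_fix f5o_card4.le (by decide +kernel)

noncomputable def f5o_3_l : List ℕ := (appL (SL.words f5o_3_sl0) [])

theorem f5o_3_scs : SCs 25 f5o_E4 f5o_G3 (⟨2, by decide⟩ : Fin 25) f5o_3_l :=
  (SCs.append f5o_3_sc0 SCs.nil)

noncomputable def f5o_3_rl0_0 : RL := (RL.cons (nat_lit 0) (nat_lit 2) (nat_lit 0) (nat_lit 0) (nat_lit 2) (nat_lit 0) (RL.cons (nat_lit 1) (nat_lit 1) (nat_lit 0) (nat_lit 0) (nat_lit 0) (nat_lit 0) (RL.cons (nat_lit 2) (nat_lit 3) (nat_lit 0) (nat_lit 0) (nat_lit 1) (nat_lit 0) RL.nil)))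

theorem f5o_3_good0_0 : GoodSet 25 f5o_E4 f5o_G3 (⟨2, by decide⟩ : Fin 25) f5o_3_ts (nat_lit 1) (RL.pts f5o_3_rl0_0) :=
  goodSet_of_ok f5_hn (det_lab f5_hk ⊤) f5o_E4_ok f5o_G3_ok le_top le_top (by decide : 2 < 25) (sepAt_lab f5_hk _) (by decide +kernel)

theorem f5o_3_step0 : Step 25 f5o_E4 f5o_G3 f5o_3_ts (2 * 0 + 1) :=
  step_of_cover f5o_E4_ok f5o_3_dist (by decide +kernel) f5o_3_scs (by decide +kernel) f5o_3_good0_0 (kw := [nat_lit 2])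
    (conj_mem_of_scs f5o_E4_ok f5o_G3_ok (by decide : 2 < 25) f5o_3_scs (c := 0) (d := 1) (by decide +kernel)) (by decide +kernel)

theorem f5o_3_lev : grp 25 f5o_G3 ⊓ MulAction.stabilizer (Equiv.Perm (Fin 25)) (⟨2, by decide⟩ : Fin 25) = grp 25 f5o_E4 :=
  sims_level (gs := f5_V23) rfl (by decide) f5o_3_fix f5o_3_dist (forall_lt_one f5o_3_step0)

theorem f5o_3_cardG : Nat.card (grp 25 f5o_G3) = 9 :=
  card_of_level f5_hn f5o_G3_ok (by decide : 2 < 25) f5o_3_lev f5o_card4 (m := 3) (by decide +kernel)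

theorem f5_le33 : grp 25 f5o_E3 ≤ grp 25 f5o_G3 :=
  grp_le_of_memB f5_hn f5_hk f5o_G3_ok f5o_E3_ok (ws := [nat_lit 1, nat_lit 1025, nat_lit 3, nat_lit 5]) (by decide +kernel)

theorem f5_le34 : grp 25 f5o_G3 ≤ grp 25 f5o_E3 :=
  grp_le_of_memB f5_hn f5_hk f5o_E3_ok f5o_G3_ok (ws := [nat_lit 1, nat_lit 5, nat_lit 7]) (by decide +kernel)

theorem f5o_3_eq : grp 25 f5o_E3 = grp 25 f5o_G3 :=
  le_antisymm f5_le33 f5_le34

theorem f5o_card3 : Nat.card (grp 25 f5o_E3) = 9 :=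
  by rw [f5o_3_eq]; exact f5o_3_cardG

theorem f5o_stab3 : grp 25 f5o_E3 ⊓ MulAction.stabilizer (Equiv.Perm (Fin 25)) (⟨2, by decide⟩ : Fin 25) = grp 25 f5o_E4 :=
  by rw [f5o_3_eq]; exact f5o_3_lev

theorem f5o_leO3 : grp 25 f5o_E3 ≤ grp 25 f5_O :=
  f5o_3_eq.le.trans (grp_cons_le ((f5_le22.trans (f5_le16.trans (f5_le10.trans (le_refl (grp 25 f5_O))))) (f5_le24 (toPerm_mem_grp (E := f5_V23) (by simp [f5_V23])))) f5o_leO4)

theorem f5o_2_fix : grp 25 f5o_E3 ≤ MulAction.stabilizer (Equiv.Perm (Fin 25)) (⟨4, by decide⟩ : Fin 25) :=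
  grp_le_stab f5o_E3_ok (by decide : 4 < 25) (by decide +kernel)

noncomputable def f5o_2_ts : List ℕ := [nat_lit 0, nat_lit 1]

noncomputable def f5o_2_ds : List ℕ := [nat_lit 4, nat_lit 2]

theorem f5o_2_dist : Dist 25 f5o_E3 f5o_G2 (⟨4, by decide⟩ : Fin 25) f5o_2_ts f5o_2_ds :=
  dist_of_distB (k := 1) f5_hn f5o_E3_ok f5o_G2_ok (by decide : 4 < 25) (by decide +kernel)

noncomputable def f5o_2_sl0 : SL := (SL.cons (nat_lit 1) (nat_lit 2) (Ch.cons (nat_lit 10) [nat_lit 5, nat_lit 7] Ch.nil) [nat_lit 5, nat_lit 6] SL.nil)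

theorem f5o_2_sc0 : SCs 25 f5o_E3 f5o_G2 (⟨4, by decide⟩ : Fin 25) (SL.words f5o_2_sl0) :=
  scs_of_ok f5_hn (det_lab f5_hk ⊤) f5o_E3_ok f5o_G2_ok le_top le_top (by decide : 4 < 25) f5o_2_fix f5o_card3.le (by decide +kernel)

noncomputable def f5o_2_l : List ℕ := (appL (SL.words f5o_2_sl0) [])

theorem f5o_2_scs : SCs 25 f5o_E3 f5o_G2 (⟨4, by decide⟩ : Fin 25) f5o_2_l :=
  (SCs.append f5o_2_sc0 SCs.nil)

noncomputable def f5o_2_rl0_0 : RL := (RL.cons (nat_lit 0) (nat_lit 4) (nat_lit 0) (nat_lit 2) (nat_lit 1) (nat_lit 1282) (RL.cons (nat_lit 1) (nat_lit 2) (nat_lit 0) (nat_lit 0) (nat_lit 0) (nat_lit 0) (RL.cons (nat_lit 1) (nat_lit 1) (nat_lit 1) (nat_lit 1) (nat_lit 1) (nat_lit 1538) (RL.cons (nat_lit 1) (nat_lit 3) (nat_lit 2) (nat_lit 0) (nat_lit 1) (nat_lit 1537) RL.nil))))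

theorem f5o_2_good0_0 : GoodSet 25 f5o_E3 f5o_G2 (⟨4, by decide⟩ : Fin 25) f5o_2_ts (nat_lit 1) (RL.pts f5o_2_rl0_0) :=
  goodSet_of_ok f5_hn (det_lab f5_hk ⊤) f5o_E3_ok f5o_G2_ok le_top le_top (by decide : 4 < 25) (sepAt_lab f5_hk _) (by decide +kernel)

theorem f5o_2_step0 : Step 25 f5o_E3 f5o_G2 f5o_2_ts (2 * 0 + 1) :=
  step_of_cover f5o_E3_ok f5o_2_dist (by decide +kernel) f5o_2_scs (by decide +kernel) f5o_2_good0_0 (kw := [nat_lit 5, nat_lit 7])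
    (conj_mem_of_scs f5o_E3_ok f5o_G2_ok (by decide : 4 < 25) f5o_2_scs (c := 0) (d := 2) (by decide +kernel)) (by decide +kernel)

theorem f5o_2_lev : grp 25 f5o_G2 ⊓ MulAction.stabilizer (Equiv.Perm (Fin 25)) (⟨4, by decide⟩ : Fin 25) = grp 25 f5o_E3 :=
  sims_level (gs := f5_V18) rfl (by decide) f5o_2_fix f5o_2_dist (forall_lt_one f5o_2_step0)

theorem f5o_2_cardG : Nat.card (grp 25 f5o_G2) = 36 :=
  card_of_level f5_hn f5o_G2_ok (by decide : 4 < 25) f5o_2_lev f5o_card3 (m := 4) (by decide +kernel)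

theorem f5_le35 : grp 25 f5o_E2 ≤ grp 25 f5o_G2 :=
  grp_le_of_memB f5_hn f5_hk f5o_G2_ok f5o_E2_ok (ws := [nat_lit 1, nat_lit 2, nat_lit 3, nat_lit 5, nat_lit 7, nat_lit 9]) (by decide +kernel)

theorem f5_le36 : grp 25 f5o_G2 ≤ grp 25 f5o_E2 :=
  grp_le_of_memB f5_hn f5_hk f5o_E2_ok f5o_G2_ok (ws := [nat_lit 1, nat_lit 5, nat_lit 7, nat_lit 9, nat_lit 11]) (by decide +kernel)

theorem f5o_2_eq : grp 25 f5o_E2 = grp 25 f5o_G2 :=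
  le_antisymm f5_le35 f5_le36

theorem f5o_card2 : Nat.card (grp 25 f5o_E2) = 36 :=
  by rw [f5o_2_eq]; exact f5o_2_cardG

theorem f5o_stab2 : grp 25 f5o_E2 ⊓ MulAction.stabilizer (Equiv.Perm (Fin 25)) (⟨4, by decide⟩ : Fin 25) = grp 25 f5o_E3 :=
  by rw [f5o_2_eq]; exact f5o_2_lev

theorem f5o_leO2 : grp 25 f5o_E2 ≤ grp 25 f5_O :=
  f5o_2_eq.le.trans (grp_cons_le ((f5_le16.trans (f5_le10.trans (le_refl (grp 25 f5_O)))) (f5_le19 (toPerm_mem_grp (E := f5_V18) (by simp [f5_V18])))) f5o_leO3)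

theorem f5o_1_fix : grp 25 f5o_E2 ≤ MulAction.stabilizer (Equiv.Perm (Fin 25)) (⟨5, by decide⟩ : Fin 25) :=
  grp_le_stab f5o_E2_ok (by decide : 5 < 25) (by decide +kernel)

noncomputable def f5o_1_ts : List ℕ := [nat_lit 0, nat_lit 1, nat_lit 257]

noncomputable def f5o_1_ds : List ℕ := [nat_lit 5, nat_lit 4, nat_lit 10]

theorem f5o_1_dist : Dist 25 f5o_E2 f5o_G1 (⟨5, by decide⟩ : Fin 25) f5o_1_ts f5o_1_ds :=
  dist_of_distB (k := 2) f5_hn f5o_E2_ok f5o_G1_ok (by decide : 5 < 25) (by decide +kernel)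

noncomputable def f5o_1_sl0 : SL := (SL.cons (nat_lit 1) (nat_lit 4) (Ch.cons (nat_lit 2) [nat_lit 5, nat_lit 7] (Ch.cons (nat_lit 10) [nat_lit 9, nat_lit 11] Ch.nil)) [nat_lit 10, nat_lit 0x9060105, nat_lit 656641, nat_lit 0xa060105] (SL.cons (nat_lit 257) (nat_lit 10) (Ch.cons (nat_lit 1) [nat_lit 591362] (Ch.cons (nat_lit 2) [nat_lit 2561] Ch.nil)) [nat_lit 5, nat_lit 2561] SL.nil))

theorem f5o_1_sc0 : SCs 25 f5o_E2 f5o_G1 (⟨5, by decide⟩ : Fin 25) (SL.words f5o_1_sl0) :=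
  scs_of_ok f5_hn (det_lab f5_hk ⊤) f5o_E2_ok f5o_G1_ok le_top le_top (by decide : 5 < 25) f5o_1_fix f5o_card2.le (by decide +kernel)

noncomputable def f5o_1_l : List ℕ := (appL (SL.words f5o_1_sl0) [])

theorem f5o_1_scs : SCs 25 f5o_E2 f5o_G1 (⟨5, by decide⟩ : Fin 25) f5o_1_l :=
  (SCs.append f5o_1_sc0 SCs.nil)

noncomputable def f5o_1_rl0_0 : RL := (RL.cons (nat_lit 0) (nat_lit 5) (nat_lit 0) (nat_lit 2) (nat_lit 1) (nat_lit 591362) (RL.cons (nat_lit 1) (nat_lit 4) (nat_lit 0) (nat_lit 0) (nat_lit 0) (nat_lit 0) (RL.cons (nat_lit 1) (nat_lit 2) (nat_lit 1) (nat_lit 0) (nat_lit 2) (nat_lit 5) (RL.cons (nat_lit 2) (nat_lit 10) (nat_lit 0) (nat_lit 0) (nat_lit 1) (nat_lit 0) RL.nil))))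

theorem f5o_1_good0_0 : GoodSet 25 f5o_E2 f5o_G1 (⟨5, by decide⟩ : Fin 25) f5o_1_ts (nat_lit 1) (RL.pts f5o_1_rl0_0) :=
  goodSet_of_ok f5_hn (det_lab f5_hk ⊤) f5o_E2_ok f5o_G1_ok le_top le_top (by decide : 5 < 25) (sepAt_lab f5_hk _) (by decide +kernel)

theorem f5o_1_step0 : Step 25 f5o_E2 f5o_G1 f5o_1_ts (2 * 0 + 1) :=
  step_of_cover f5o_E2_ok f5o_1_dist (by decide +kernel) f5o_1_scs (by decide +kernel) f5o_1_good0_0 (kw := [nat_lit 5, nat_lit 7, nat_lit 9, nat_lit 11])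
    (conj_mem_of_scs f5o_E2_ok f5o_G1_ok (by decide : 5 < 25) f5o_1_scs (c := 0) (d := 4) (by decide +kernel)) (by decide +kernel)

theorem f5o_1_lev : grp 25 f5o_G1 ⊓ MulAction.stabilizer (Equiv.Perm (Fin 25)) (⟨5, by decide⟩ : Fin 25) = grp 25 f5o_E2 :=
  sims_level (gs := f5_V11) rfl (by decide) f5o_1_fix f5o_1_dist (forall_lt_one f5o_1_step0)

theorem f5o_1_cardG : Nat.card (grp 25 f5o_G1) = 288 :=
  card_of_level f5_hn f5o_G1_ok (by decide : 5 < 25) f5o_1_lev f5o_card2 (m := 8) (by decide +kernel)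

theorem f5_le37 : grp 25 f5o_E1 ≤ grp 25 f5o_G1 :=
  grp_le_of_memB f5_hn f5_hk f5o_G1_ok f5o_E1_ok (ws := [nat_lit 1, nat_lit 0xb030208, nat_lit 787207, nat_lit 3, nat_lit 5, nat_lit 7, nat_lit 9, nat_lit 11, nat_lit 13]) (by decide +kernel)

theorem f5_le38 : grp 25 f5o_G1 ≤ grp 25 f5o_E1 :=
  grp_le_of_memB f5_hn f5_hk f5o_E1_ok f5o_G1_ok (ws := [nat_lit 1, nat_lit 7, nat_lit 9, nat_lit 11, nat_lit 13, nat_lit 15, nat_lit 17]) (by decide +kernel)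

theorem f5o_1_eq : grp 25 f5o_E1 = grp 25 f5o_G1 :=
  le_antisymm f5_le37 f5_le38

theorem f5o_card1 : Nat.card (grp 25 f5o_E1) = 288 :=
  by rw [f5o_1_eq]; exact f5o_1_cardG

theorem f5o_stab1 : grp 25 f5o_E1 ⊓ MulAction.stabilizer (Equiv.Perm (Fin 25)) (⟨5, by decide⟩ : Fin 25) = grp 25 f5o_E2 :=
  by rw [f5o_1_eq]; exact f5o_1_lev

theorem f5o_leO1 : grp 25 f5o_E1 ≤ grp 25 f5_O :=
  f5o_1_eq.le.trans (grp_cons_le ((f5_le10.trans (le_refl (grp 25 f5_O))) (f5_le12 (toPerm_mem_grp (E := f5_V11) (by simp [f5_V11])))) f5o_leO2)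

theorem f5o_0_fix : grp 25 f5o_E1 ≤ MulAction.stabilizer (Equiv.Perm (Fin 25)) (⟨0, by decide⟩ : Fin 25) :=
  grp_le_stab f5o_E1_ok (by decide : 0 < 25) (by decide +kernel)

noncomputable def f5o_0_ts : List ℕ := [nat_lit 0, nat_lit 1, nat_lit 66305]

noncomputable def f5o_0_ds : List ℕ := [nat_lit 0, nat_lit 5, nat_lit 9]

theorem f5o_0_dist : Dist 25 f5o_E1 f5o_G0 (⟨0, by decide⟩ : Fin 25) f5o_0_ts f5o_0_ds :=
  dist_of_distB (k := 2) f5_hn f5o_E1_ok f5o_G0_ok (by decide : 0 < 25) (by decide +kernel)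

noncomputable def f5o_0_sl0 : SL := (SL.cons (nat_lit 1) (nat_lit 5) (Ch.cons (nat_lit 4) [nat_lit 7, nat_lit 9] (Ch.cons (nat_lit 2) [nat_lit 11, nat_lit 13] (Ch.cons (nat_lit 10) [nat_lit 15, nat_lit 17] Ch.nil))) [nat_lit 524804, nat_lit 0xf070101, nat_lit 11, nat_lit 0xb080101, nat_lit 0xf070204, nat_lit 524545] (SL.cons (nat_lit 66305) (nat_lit 9) (Ch.cons (nat_lit 11) [nat_lit 12] (Ch.cons (nat_lit 1) [nat_lit 788481] Ch.nil)) [nat_lit 0xf070204, nat_lit 0xf070b03] SL.nil))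

theorem f5o_0_sc0 : SCs 25 f5o_E1 f5o_G0 (⟨0, by decide⟩ : Fin 25) (SL.words f5o_0_sl0) :=
  scs_of_ok f5_hn (det_lab f5_hk ⊤) f5o_E1_ok f5o_G0_ok le_top le_top (by decide : 0 < 25) f5o_0_fix f5o_card1.le (by decide +kernel)

noncomputable def f5o_0_l : List ℕ := (appL (SL.words f5o_0_sl0) [])

theorem f5o_0_scs : SCs 25 f5o_E1 f5o_G0 (⟨0, by decide⟩ : Fin 25) f5o_0_l :=
  (SCs.append f5o_0_sc0 SCs.nil)

noncomputable def f5o_0_rl0_0 : RL := (RL.cons (nat_lit 0) (nat_lit 0) (nat_lit 0) (nat_lit 260) (nat_lit 1) (nat_lit 260) (RL.cons (nat_lit 1) (nat_lit 5) (nat_lit 0) (nat_lit 0) (nat_lit 0) (nat_lit 0) (RL.cons (nat_lit 1) (nat_lit 4) (nat_lit 1) (nat_lit 260) (nat_lit 2) (nat_lit 11) (RL.cons (nat_lit 1) (nat_lit 10) (nat_lit 257) (nat_lit 0) (nat_lit 1) (nat_lit 983297) (RL.cons (nat_lit 2) (nat_lit 9) (nat_lit 0) (nat_lit 1) (nat_lit 1) (nat_lit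 0) (RL.cons (nat_lit 2) (nat_lit 14) (nat_lit 1) (nat_lit 0) (nat_lit 2) (nat_lit 3841) RL.nil))))))

theorem f5o_0_good0_0 : GoodSet 25 f5o_E1 f5o_G0 (⟨0, by decide⟩ : Fin 25) f5o_0_ts (nat_lit 1) (RL.pts f5o_0_rl0_0) :=
  goodSet_of_ok f5_hn (det_lab f5_hk ⊤) f5o_E1_ok f5o_G0_ok le_top le_top (by decide : 0 < 25) (sepAt_lab f5_hk _) (by decide +kernel)

theorem f5o_0_step0 : Step 25 f5o_E1 f5o_G0 f5o_0_ts (2 * 0 + 1) :=
  step_of_cover f5o_E1_ok f5o_0_dist (by decide +kernel) f5o_0_scs (by decide +kernel) f5o_0_good0_0 (kw := [nat_lit 7, nat_lit 9, nat_lit 11, nat_lit 13, nat_lit 15, nat_lit 17])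
    (conj_mem_of_scs f5o_E1_ok f5o_G0_ok (by decide : 0 < 25) f5o_0_scs (c := 0) (d := 5) (by decide +kernel)) (by decide +kernel)

theorem f5o_0_lev : grp 25 f5o_G0 ⊓ MulAction.stabilizer (Equiv.Perm (Fin 25)) (⟨0, by decide⟩ : Fin 25) = grp 25 f5o_E1 :=
  sims_level (gs := f5_V4) rfl (by decide) f5o_0_fix f5o_0_dist (forall_lt_one f5o_0_step0)

theorem f5o_0_cardG : Nat.card (grp 25 f5o_G0) = 7200 :=
  card_of_level f5_hn f5o_G0_ok (by decide : 0 < 25) f5o_0_lev f5o_card1 (m := 25) (by decide +kernel)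

theorem f5_le39 : grp 25 f5o_E0 ≤ grp 25 f5o_G0 :=
  grp_le_of_memB f5_hn f5_hk f5o_G0_ok f5o_E0_ok (ws := [nat_lit 1, nat_lit 4353, nat_lit 0x120e0905, nat_lit 3, nat_lit 5, nat_lit 7, nat_lit 9, nat_lit 11, nat_lit 13, nat_lit 15, nat_lit 17, nat_lit 19]) (by decide +kernel)

theorem f5_le40 : grp 25 f5o_G0 ≤ grp 25 f5o_E0 :=
  grp_le_of_memB f5_hn f5_hk f5o_E0_ok f5o_G0_ok (ws := [nat_lit 1, nat_lit 7, nat_lit 9, nat_lit 11, nat_lit 13, nat_lit 15, nat_lit 17, nat_lit 19, nat_lit 21, nat_lit 23]) (by decide +kernel)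

theorem f5o_0_eq : grp 25 f5o_E0 = grp 25 f5o_G0 :=
  le_antisymm f5_le39 f5_le40

theorem f5o_card0 : Nat.card (grp 25 f5o_E0) = 7200 :=
  by rw [f5o_0_eq]; exact f5o_0_cardG

theorem f5o_stab0 : grp 25 f5o_E0 ⊓ MulAction.stabilizer (Equiv.Perm (Fin 25)) (⟨0, by decide⟩ : Fin 25) = grp 25 f5o_E1 :=
  by rw [f5o_0_eq]; exact f5o_0_lev

theorem f5o_leO0 : grp 25 f5o_E0 ≤ grp 25 f5_O :=
  f5o_0_eq.le.trans (grp_cons_le ((le_refl (grp 25 f5_O)) (f5_le5 (toPerm_mem_grp (E := f5_V4) (by simp [f5_V4])))) f5o_leO1)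

theorem f5_le41 : grp 25 f5_O ≤ grp 25 f5o_E0 :=
  grp_le_of_memB f5_hn f5_hk f5o_E0_ok f5_O_ok (ws := [nat_lit 1, nat_lit 3, nat_lit 5]) (by decide +kernel)

theorem f5o_eq : grp 25 f5_O = grp 25 f5o_E0 :=
  le_antisymm f5_le41 f5o_leO0

theorem f5o_card : Nat.card (grp 25 f5_O) = 7200 :=
  by rw [f5o_eq]; exact f5o_card0

noncomputable def f5o_ch : Ch := (Ch.cons (nat_lit 0) [nat_lit 1, nat_lit 3, nat_lit 5] (Ch.cons (nat_lit 5) [nat_lit 7, nat_lit 9, nat_lit 11] (Ch.cons (nat_lit 4) [nat_lit 13, nat_lit 15] (Ch.cons (nat_lit 2) [nat_lit 17, nat_lit 19] (Ch.cons (nat_lit 10) [nat_lit 21, nat_lit 23] Ch.nil)))))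

theorem f5o_exact : Ch.Exact 25 f5o_E0 f5o_ch (grp 25 f5o_E0) :=
  Ch.exact (k := 5) (L := (lab 25 5)) f5_hn f5o_E0_ok (by decide +kernel) (wgrp_le_grp _ _ _) f5o_card0.le

/-- the element -/
noncomputable abbrev f5x : Co0 := permEl (toM (nthN m24reps 8))

/-- its matrix -/
def f5X : List (List ℤ) :=
  [[0, 0, 0, 0, 0, 0, 0, 0, 0, 0, 0, 0, 0, 0, 0, 0, 0, 0, 0, 8, 0, 0, 0, 0],
   [0, 8, 0, 0, 0, 0, 0, 0, 0, 0, 0, 0, 0, 0, 0, 0, 0, 0, 0, 0, 0, 0, 0, 0],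
   [0, 0, 0, 8, 0, 0, 0, 0, 0, 0, 0, 0, 0, 0, 0, 0, 0, 0, 0, 0, 0, 0, 0, 0],
   [0, 0, 0, 0, 0, 0, 0, 0, 0, 0, 0, 0, 0, 8, 0, 0, 0, 0, 0, 0, 0, 0, 0, 0],
   [0, 0, 8, 0, 0, 0, 0, 0, 0, 0, 0, 0, 0, 0, 0, 0, 0, 0, 0, 0, 0, 0, 0, 0],
   [0, 0, 0, 0, 0, 0, 0, 0, 0, 0, 0, 0, 0, 0, 0, 0, 0, 8, 0, 0, 0, 0, 0, 0],
   [0, 0, 0, 0, 0, 8, 0, 0, 0, 0, 0, 0, 0, 0, 0, 0, 0, 0, 0, 0, 0, 0, 0, 0],
   [0, 0, 0, 0, 0, 0, 0, 0, 0, 0, 0, 0, 0, 0, 0, 0, 0, 0, 0, 0, 0, 0, 0, 8],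
   [0, 0, 0, 0, 0, 0, 0, 0, 0, 0, 8, 0, 0, 0, 0, 0, 0, 0, 0, 0, 0, 0, 0, 0],
   [0, 0, 0, 0, 0, 0, 0, 8, 0, 0, 0, 0, 0, 0, 0, 0, 0, 0, 0, 0, 0, 0, 0, 0],
   [0, 0, 0, 0, 0, 0, 0, 0, 0, 8, 0, 0, 0, 0, 0, 0, 0, 0, 0, 0, 0, 0, 0, 0],
   [0, 0, 0, 0, 0, 0, 0, 0, 0, 0, 0, 0, 0, 0, 0, 0, 0, 0, 0, 0, 0, 0, 8, 0],
   [0, 0, 0, 0, 0, 0, 0, 0, 0, 0, 0, 0, 8, 0, 0, 0, 0, 0, 0, 0, 0, 0, 0, 0],
   [0, 0, 0, 0, 0, 0, 0, 0, 0, 0, 0, 0, 0, 0, 0, 8, 0, 0, 0, 0, 0, 0, 0, 0],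
   [0, 0, 0, 0, 0, 0, 0, 0, 0, 0, 0, 0, 0, 0, 0, 0, 0, 0, 0, 0, 8, 0, 0, 0],
   [0, 0, 0, 0, 8, 0, 0, 0, 0, 0, 0, 0, 0, 0, 0, 0, 0, 0, 0, 0, 0, 0, 0, 0],
   [0, 0, 0, 0, 0, 0, 0, 0, 0, 0, 0, 0, 0, 0, 0, 0, 8, 0, 0, 0, 0, 0, 0, 0],
   [0, 0, 0, 0, 0, 0, 0, 0, 0, 0, 0, 0, 0, 0, 8, 0, 0, 0, 0, 0, 0, 0, 0, 0],
   [0, 0, 0, 0, 0, 0, 0, 0, 0, 0, 0, 8, 0, 0, 0, 0, 0, 0, 0, 0, 0, 0, 0, 0],
   [0, 0, 0, 0, 0, 0, 0, 0, 0, 0, 0, 0, 0, 0, 0, 0, 0, 0, 8, 0, 0, 0, 0, 0],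
   [0, 0, 0, 0, 0, 0, 8, 0, 0, 0, 0, 0, 0, 0, 0, 0, 0, 0, 0, 0, 0, 0, 0, 0],
   [0, 0, 0, 0, 0, 0, 0, 0, 0, 0, 0, 0, 0, 0, 0, 0, 0, 0, 0, 0, 0, 8, 0, 0],
   [8, 0, 0, 0, 0, 0, 0, 0, 0, 0, 0, 0, 0, 0, 0, 0, 0, 0, 0, 0, 0, 0, 0, 0],
   [0, 0, 0, 0, 0, 0, 0, 0, 8, 0, 0, 0, 0, 0, 0, 0, 0, 0, 0, 0, 0, 0, 0, 0]]

/-- its action on the classes -/
def f5TX : ℕ := 0x800000faf0001da000516000b9a000de00003de0003ca000a69000ada0003d20003db000a39eeee0c350721f3e819c508598507d66ce676940640144c567fe7b16a6f4cfec3da001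

/-- a basis of the fixed classes -/
def f5FT : ℕ := 0x56879e11b01c8fd7832d27fcb1a01cc4d7fc0c27fc800000

/-- the projection onto the fixed classes -/
def f5PT : ℕ := 0x15b5c135b5a124e0712071545090b0c5fd885c5814cdef3

/-- short representatives -/
noncomputable def f5reps : List (List ℤ) :=
  unpL [nat_lit 0x421084210842108421084210842108, nat_lit 0x821084210842108421084210842108, nat_lit 0x428c85290642108521084210842142, nat_lit 0x419483190a421083210842108420c6, nat_lit 0x428c85290a421085210842108421ca, nat_lit 0x419483190642108321084210842146, nat_lit 0x421084210c42108421084210842088, nat_lit 0x421084210c42108421084210842188, nat_lit 0x420c8421065214a421084210a50908, nat_lit 0x421484210a320c6421084210631908, nat_lit 0x4290852908320c652108421063194a, nat_lit 0x520ca42146429084294a5294842108, nat_lit 0x320ca4214642908428c6518c841108, nat_lit 0x320ca4214642908428c6518c843108,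 nat_lit 0x420c84210a5214a421084210a52988, nat_lit 0x420c84210a5214a421084210a52888, nat_lit 0x418c831906421083210842108421c6, nat_lit 0x429485290a4210852108421084214a, nat_lit 0x421884210c42108421084210842108, nat_lit 0x421884210442108421084210842108, nat_lit 0x421884210842108421084210842188, nat_lit 0x421884210842108421084210842088, nat_lit 0x4294852906421085210842108420ca, nat_lit 0x418c83190a4210832108421084214e, nat_lit 0x42908529085214a521084210a5294a, nat_lit 0x5214a4214a429084294a5294842108, nat_lit 0x420c842106320c6421084210671908, nat_lit 0x421484210a5214a421084210a52908, nat_lit 0x42148421065214a421084210a52888, nat_lit 0x42148421065214a421084210a52988, nat_lit 0x5214a4214641908418ca318c84210c, nat_lit 0x5214a4214641908418ca318c842104, nat_lit 0x3a4e94a5254a52b49ce73a5294a469, nat_lit 0x3a4e94a5254a52b49ce73a5294a569, nat_lit 0x4a4e74a4e939ce54a52949ce739ce9,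 nat_lit 0x4a4e74a4e939ced4a52949ce739ce9, nat_lit 0x39d2939d2b4a52b39ce73a5294a4a7, nat_lit 0x39d2939d2b4a52b39ce73a5294a5a7, nat_lit 0x49d2739ce739ced3a52949ce739d27, nat_lit 0x49d2739ce739ce53a52949ce739d27, nat_lit 0x49ce739ce949d273a52949ce94a4a7, nat_lit 0x49ce739ce949d273a52949ce94a5a7, nat_lit 0x4a5a74a4e749d274a52949ce94a4e9, nat_lit 0x4a4a74a4e749d274a52949ce94a4e9, nat_lit 0x4a4a74a4eb49d274a52949ce94a569, nat_lit 0x39d6939d2d3a4e939ce73a52739ca7, nat_lit 0x49ce739ce549d273a52949ce94a527, nat_lit 0x49ce739ced49d273a52949ce94a527, nat_lit 0x39ca939d2b4a52339ce73a5294a527, nat_lit 0x39ca939d2b4a52b39ce73a5294a527, nat_lit 0x3a5694a5294a52b49ce73a5294a469, nat_lit 0x3a5694a5294a52b49ce73a5294a569, nat_lit 0x49ca739ceb39ce53a52949ce739d27, nat_lit 0x3a5694a52d4a52b49ce73a5294a4e9, nat_lit 0x39ca939d274a52b39ce73a5294a4a7, nat_lit 0x39ca939d274a52b39ce73a5294a5a7,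 nat_lit 0x39ce939d2d3a4e939ce73a52739d27, nat_lit 0x4a5274a4eb49d274a52949ce94a4e9, nat_lit 0x3a4a94a52b3a4e949ce73a52739c69, nat_lit 0x3a4a94a52b3a4e949ce73a52739d69, nat_lit 0x49d6739ce949d273a52949ce94a527, nat_lit 0x3a5a94a5273a4e949ce73a52739ce9, nat_lit 0x39ce939d293a4e939ce73a52739da7, nat_lit 0x4a5274a4e749d274a52949ce94a569, nat_lit 0x421484210652146421084210a50908, nat_lit 0x420c84210a320ca421084210631908, nat_lit 0x320ca421464190842946518c842104, nat_lit 0x320ca421464190842946518c84210c, nat_lit 0x429085290852146521084210a528ca, nat_lit 0x320ca4214a42908418c63294842108, nat_lit 0x421484210a52146421084210a52988, nat_lit 0x421484210a52146421084210a52888, nat_lit 0x421884210842104421084210842108, nat_lit 0x42188421084210c421084210842108, nat_lit 0x42948529064210c52108421084214a, nat_lit 0x418c83190a4210c3210842108420c6, nat_lit 0x429485290a4210c5210842108420ca,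 nat_lit 0x418c8319064210c321084210842146, nat_lit 0x42108421084110842088421084310c, nat_lit 0x42108421084110842188421084310c, nat_lit 0x5214a42146429084194a318c841108, nat_lit 0x5214a42146429084194a318c843108, nat_lit 0x420c84210a52146421084210a52908, nat_lit 0x4214842106320ca421084210671908, nat_lit 0x420c84210652146421084210a52988, nat_lit 0x420c84210652146421084210a52888, nat_lit 0x3214a4214642908418c63294842108, nat_lit 0x4290852908320ca5210842106318ca, nat_lit 0x41948319064210c3210842108420c6, nat_lit 0x428c85290a4210c52108421084214a, nat_lit 0x421084210c4210c421084210842108, nat_lit 0x421084210c42104421084210842108, nat_lit 0x42108421084210c421084210842188, nat_lit 0x42108421084210c421084210842088, nat_lit 0x428c8529064210c5210842108420ca, nat_lit 0x419483190a4210c321084210842146, nat_lit 0x3a4a94a5273a4ed49ce73a52739d69, nat_lit 0x49d6739ce949d2b3a52949ce94a4a7,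 nat_lit 0x4a5274a4e749d2b4a52949ce94a4e9, nat_lit 0x39ce939d293a4ed39ce73a52739d27, nat_lit 0x39ce939d253a4ed39ce73a52739ca7, nat_lit 0x4a5274a4eb49d2b4a52949ce94a569, nat_lit 0x3a4a94a52b3a4ed49ce73a52739ce9, nat_lit 0x3a4a94a52b3a4e549ce73a52739ce9, nat_lit 0x3a5694a52d4a52749ce73a5294a569, nat_lit 0x49ca739ceb39ce93a52949ce739ca7, nat_lit 0x39da939d274a52739ce73a5294a527, nat_lit 0x4a5674a4e939ce94a52949ce739ce9, nat_lit 0x39ca939d2b4a52739ce73a5294a5a7, nat_lit 0x39ca939d2b4a52739ce73a5294a4a7, nat_lit 0x49da739ce739ce93a52949ce739d27, nat_lit 0x49ca739ce739ce93a52949ce739d27, nat_lit 0x39d6939d2d3a4e539ce73a52739d27, nat_lit 0x4a4a74a4eb49d2b4a52949ce94a4e9, nat_lit 0x3a5294a52b3a4ed49ce73a52739d69, nat_lit 0x49ce739ce549d2b3a52949ce94a4a7, nat_lit 0x49ce739ce949d2b3a52949ce94a527, nat_lit 0x3a5294a5273a4ed49ce73a52739ce9, nat_lit 0x39d6939d293a4ed39ce73a52739ca7,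 nat_lit 0x4a4a74a4e749d2b4a52949ce94a569, nat_lit 0x4a4e74a4ed39ce94a52949ce739ce9, nat_lit 0x4a4e74a4e539ce94a52949ce739ce9, nat_lit 0x49d2739ce739ce93a52949ce739ca7, nat_lit 0x49d2739ce739ce93a52949ce739da7, nat_lit 0x3a4e94a52d4a52749ce73a5294a4e9, nat_lit 0x49d2739ceb39ce93a52949ce739d27, nat_lit 0x4a4e74a4e939ce94a52949ce739d69, nat_lit 0x39d2939d274a52739ce73a5294a5a7, nat_lit 0x418ca329484190a52108418c841106, nat_lit 0x418ca329484190a52108418c843106, nat_lit 0x4210a421464290a4210842948420c8, nat_lit 0x42106420ca4190642108419c842148, nat_lit 0x42106420c64190642108419c8420c8, nat_lit 0x4210a4214a4290a421084294842148, nat_lit 0x4194a329484290652188418c84210a, nat_lit 0x4194a329484290652088418c84210a, nat_lit 0x520c842108421064294a5210842048, nat_lit 0x32148421084210a418c632108420c8, nat_lit 0x32908529064210a518c6321084210a, nat_lit 0x4214a42148328c84210842946318c8,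 nat_lit 0x420ca421485194842088418c631948, nat_lit 0x420ca421485194842188418c631948, nat_lit 0x321484210c4210a418c63210842148, nat_lit 0x520c84210c421064294a52108420c8, nat_lit 0x4218a4214a4290a4210842948420c8, nat_lit 0x42186420c64190642108418c842148, nat_lit 0x521084210a521484294a5210a52948, nat_lit 0x4294a529484290a52108429484210a, nat_lit 0x418ca319484290a321084294842106, nat_lit 0x5210842106521484294a5210a528c8, nat_lit 0x4218a421464290a421084294842148, nat_lit 0x42186420ca4190642108418c8420c8, nat_lit 0x4214a421485194842188418c6318c8, nat_lit 0x4214a421485194842088418c6318c8, nat_lit 0x320c84210c4210a418c632108420c8, nat_lit 0x521484210c421064294a5210842148, nat_lit 0x5214842108421064294a52108420c8, nat_lit 0x320c8421084210a418c67210842148, nat_lit 0x420ca42148328c8421084294631948, nat_lit 0x5290852906421065294a521084210a, nat_lit 0x4a4e94a5273a4e74a5294a52739ca9,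 nat_lit 0x4a4e94a5273a4e74a5294a52739da9, nat_lit 0x49d2939d293a4e73a5294a52739d67, nat_lit 0x3a4e74a4e749d2949ce739ce94a5a9, nat_lit 0x49d2939d2d3a4e73a5294a52739ce7, nat_lit 0x49d2939d253a4e73a5294a52739ce7, nat_lit 0x39d2739ced49d2939ce739ce94a4e7, nat_lit 0x4a4e94a52b3a4e74a5294a52739d29, nat_lit 0x39d6739ceb39ce739ce739ce739c67, nat_lit 0x39d6739ceb39ce739ce739ce739d67, nat_lit 0x3a5274a4e939ce749ce739ce739da9, nat_lit 0x49ce939d274a5293a5294a5294a567, nat_lit 0x3a5274a4ed39ce749ce739ce739d29, nat_lit 0x49ce939d2b4a5293a5294a5294a4e7, nat_lit 0x4a4a94a5294a5294a5294a5294a529, nat_lit 0x4a5a94a5294a5294a5294a5294a529, nat_lit 0x3a5674a4eb49d2949ce739ce94a4a9, nat_lit 0x3a5674a4eb49d2949ce739ce94a5a9, nat_lit 0x4a5694a52b3a4e74a5294a52739ca9, nat_lit 0x39ca739ced49d2939ce739ce94a567, nat_lit 0x4a5694a5273a4e74a5294a52739d29, nat_lit 0x39da739ce949d2939ce739ce94a4e7,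 nat_lit 0x49ca939d293a4e73a5294a52739ce7, nat_lit 0x49da939d293a4e73a5294a52739ce7, nat_lit 0x3a4a74a4ed39ce749ce739ce739ca9, nat_lit 0x49d6939d2b4a5293a5294a5294a567, nat_lit 0x4a5294a5294a5294a5294a5294a5a9, nat_lit 0x4a5294a5294a5294a5294a5294a4a9, nat_lit 0x4a5294a52d4a5294a5294a5294a529, nat_lit 0x4a5294a5254a5294a5294a5294a529, nat_lit 0x49d6939d274a5293a5294a5294a4e7, nat_lit 0x3a5a74a4e939ce749ce739ce739d29, nat_lit 0x52148421084210a4294a5210842148, nat_lit 0x320c84210842106418c672108420c8, nat_lit 0x420ca42148318c842088418ca528c8, nat_lit 0x420ca42148318c842188418ca528c8, nat_lit 0x4214a4214852948421084294a52948, nat_lit 0x529085290a4210a5294a521084210a, nat_lit 0x521484210c4210a4294a52108420c8, nat_lit 0x320c84210c42106418c63210842148, nat_lit 0x4194a329484190652108418c841106, nat_lit 0x4194a329484190652108418c843106, nat_lit 0x4218a42146429064210842948420c8,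 nat_lit 0x42186420ca4190a42108418c842148, nat_lit 0x42186420c64190a42108418c8420c8, nat_lit 0x4218a4214a42906421084294842148, nat_lit 0x418ca329484290a52188418c84210a, nat_lit 0x418ca329484290a52088418c84210a, nat_lit 0x420ca4214852948421084294a528c8, nat_lit 0x329085290a42106518c6321084210a, nat_lit 0x321484210c42106418c632108420c8, nat_lit 0x520c84210c4210a4294a5210842148, nat_lit 0x321484210842106418c63210842148, nat_lit 0x520c8421084210a4294a52108421c8, nat_lit 0x4214a42148318c842088418ca52948, nat_lit 0x4214a42148318c842188418ca52948, nat_lit 0x42106420c64190a42108419c842148, nat_lit 0x4210a4214a429064210842948420c8, nat_lit 0x428ca529484290652108429484210a, nat_lit 0x321084210a52148418c63210a528c8, nat_lit 0x4194a3194842906321084294842106, nat_lit 0x321084210652148418c63210a52948, nat_lit 0x42106420ca4190a42108419c8420c8, nat_lit 0x4210a4214642906421084294842148,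 nat_lit 0x39ce739ceb39ceb39ce739ce739c67, nat_lit 0x39ce739ceb39ceb39ce739ce739d67, nat_lit 0x3a4a74a4e939ceb49ce739ce739da9, nat_lit 0x3a4a74a4e939ceb49ce739ce739ca9, nat_lit 0x3a4a74a4ed39ceb49ce739ce739d29, nat_lit 0x49d6939d2b4a5253a5294a5294a4e7, nat_lit 0x4a5294a5294a5254a5294a5294a529, nat_lit 0x4a5294a5294a52d4a5294a5294a529, nat_lit 0x39ca739ce949d2d39ce739ce94a567, nat_lit 0x4a5694a5273a4eb4a5294a52739ca9, nat_lit 0x49ca939d293a4eb3a5294a52739d67, nat_lit 0x3a5674a4e749d2d49ce739ce94a4a9, nat_lit 0x3a5674a4eb49d2d49ce739ce94a529, nat_lit 0x3a5674a4eb49d2549ce739ce94a529, nat_lit 0x4a5694a52b3a4eb4a5294a52739d29, nat_lit 0x39ca739ced49d2539ce739ce94a4e7, nat_lit 0x3a5274a4e539ceb49ce739ce739ca9, nat_lit 0x3a5274a4e539ceb49ce739ce739da9, nat_lit 0x39d6739ce739ceb39ce739ce739d67, nat_lit 0x39d6739ce739ceb39ce739ce739c67, nat_lit 0x39d6739ceb39ceb39ce739ce739ce7,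 nat_lit 0x39d6739ceb39ce339ce739ce739ce7, nat_lit 0x49ce939d274a52d3a5294a5294a4e7, nat_lit 0x49ce939d274a5253a5294a5294a4e7, nat_lit 0x3a4e74a4eb49d2d49ce739ce94a4a9, nat_lit 0x49d2939d253a4eb3a5294a52739d67, nat_lit 0x4a4e94a52b3a4eb4a5294a52739ca9, nat_lit 0x39d2739ce549d2d39ce739ce94a567, nat_lit 0x4a4e94a5273a4eb4a5294a52739d29, nat_lit 0x39d2739ce949d2d39ce739ce94a4e7, nat_lit 0x3a4e74a4e749d2d49ce739ce94a529, nat_lit 0x49d2939d293a4eb3a5294a52739ce7]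

/-- the invariant family -/
def f5Ms : List ℕ := [0xc0000000000000000002, 0x100100000000000000000000000000001000, 0x4000000000000000200000000000000000080000000000000000, 0x8004000000000000000000000000000000000000000000002000, 0x8000000000000000200000000000000040000000000000000, 0x200008000000000000000000000000040000000, 0x1100000000000000000000000010, 0x80000000000000000002000000000400000000000000000000000000000, 0x20800000000000000000000000000000000000000000000000000004000000, 0x2000000000000000000000000000800040000000000000000000000000000, 0x400200000000000000000000000000000000000000000080000000, 0x101000000000000000000000000000000000000000000000000000000100, 0x800000040000000000000000000000000000000000000000000002000000000, 0x400200000800000, 0x8000000000002000000000000000000000000000000000004000000000000, 0x800000000000000000004000000000000200000000000000000000,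 0x100000000000000000000001000000010000000000000000000000000, 0x40000800000020000000000000, 0x400200000000000000000000000000000000000000080000000000000, 0xa00000000000000000000000000000000000000000004, 0x100000000000100000000000000000100000000000000000000, 0x10000000000000000000000010000000001000000000000000000000000, 0x10001000000000000000000000000000000000000010000, 0x100000001000000000000000000000000000000000000000000000100000000, 0x10000000000010001000000000000]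

theorem f5X_ok : IsMat f5x f5X := isMat_perm (inM_m24reps (by norm_num)) (by decide +kernel)

theorem f5_fs : FS f5x 8 f5FT f5PT f5reps :=
  FS.of_fsB f5X_ok (k := 2) (TX := f5TX) (by decide +kernel) (by decide +kernel)

/-- a generator of the centralizer -/
def f5R2 : List (List ℤ) :=
  [[-4, 0, -4, 0, 0, 0, 0, 0, 0, 4, 0, 0, 0, 0, -4, 0, 0, 0, 0, 0, 0, 0, 0, 0],
   [0, 4, 0, 0, 0, 0, 0, 0, 0, 0, 0, 0, 4, 0, 0, 0, 4, 0, 0, 0, 0, -4, 0, 0],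
   [-4, 0, -4, 0, 0, 0, 0, 0, 0, -4, 0, 0, 0, 0, 4, 0, 0, 0, 0, 0, 0, 0, 0, 0],
   [0, 0, 0, -4, 0, 0, 0, -4, 0, 0, 0, 0, 0, 0, 0, 0, 0, 0, 0, -4, 4, 0, 0, 0],
   [0, 0, 0, 0, -4, 0, 0, 0, 0, 0, -4, 0, 0, 0, 0, 0, 0, 4, 0, 0, 0, 0, -4, 0],
   [0, 0, 0, 0, 0, -4, 0, 0, -4, 0, 0, -4, 0, 0, 0, 4, 0, 0, 0, 0, 0, 0, 0, 0],
   [0, 0, 0, 0, 0, 0, -4, 0, 0, 0, 0, 0, 0, 4, 0, 0, 0, 0, -4, 0, 0, 0, 0, -4],
   [0, 0, 0, -4, 0, 0, 0, -4, 0, 0, 0, 0, 0, 0, 0, 0, 0, 0, 0, 4, -4, 0, 0, 0],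
   [0, 0, 0, 0, 0, -4, 0, 0, -4, 0, 0, 4, 0, 0, 0, -4, 0, 0, 0, 0, 0, 0, 0, 0],
   [4, 0, -4, 0, 0, 0, 0, 0, 0, -4, 0, 0, 0, 0, -4, 0, 0, 0, 0, 0, 0, 0, 0, 0],
   [0, 0, 0, 0, -4, 0, 0, 0, 0, 0, -4, 0, 0, 0, 0, 0, 0, -4, 0, 0, 0, 0, 4, 0],
   [0, 0, 0, 0, 0, -4, 0, 0, 4, 0, 0, -4, 0, 0, 0, -4, 0, 0, 0, 0, 0, 0, 0, 0],
   [0, 4, 0, 0, 0, 0, 0, 0, 0, 0, 0, 0, 4, 0, 0, 0, -4, 0, 0, 0, 0, 4, 0, 0],
   [0, 0, 0, 0, 0, 0, 4, 0, 0, 0, 0, 0, 0, -4, 0, 0, 0, 0, -4, 0, 0, 0, 0, -4],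
   [-4, 0, 4, 0, 0, 0, 0, 0, 0, -4, 0, 0, 0, 0, -4, 0, 0, 0, 0, 0, 0, 0, 0, 0],
   [0, 0, 0, 0, 0, 4, 0, 0, -4, 0, 0, -4, 0, 0, 0, -4, 0, 0, 0, 0, 0, 0, 0, 0],
   [0, 4, 0, 0, 0, 0, 0, 0, 0, 0, 0, 0, -4, 0, 0, 0, 4, 0, 0, 0, 0, 4, 0, 0],
   [0, 0, 0, 0, 4, 0, 0, 0, 0, 0, -4, 0, 0, 0, 0, 0, 0, -4, 0, 0, 0, 0, -4, 0],
   [0, 0, 0, 0, 0, 0, -4, 0, 0, 0, 0, 0, 0, -4, 0, 0, 0, 0, -4, 0, 0, 0, 0, 4],
   [0, 0, 0, -4, 0, 0, 0, 4, 0, 0, 0, 0, 0, 0, 0, 0, 0, 0, 0, -4, -4, 0, 0, 0],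
   [0, 0, 0, 4, 0, 0, 0, -4, 0, 0, 0, 0, 0, 0, 0, 0, 0, 0, 0, -4, -4, 0, 0, 0],
   [0, -4, 0, 0, 0, 0, 0, 0, 0, 0, 0, 0, 4, 0, 0, 0, 4, 0, 0, 0, 0, 4, 0, 0],
   [0, 0, 0, 0, -4, 0, 0, 0, 0, 0, 4, 0, 0, 0, 0, 0, 0, -4, 0, 0, 0, 0, -4, 0],
   [0, 0, 0, 0, 0, 0, -4, 0, 0, 0, 0, 0, 0, -4, 0, 0, 0, 0, 4, 0, 0, 0, 0, -4]]

theorem f5_act2 : ∃ g ∈ centralizer ({f5x} : Set Co0), Acts (objs f5x 8 f5PT f5Ms 25) g (f5_g3.toPerm 25) :=
  f5_fs.acts f5X_ok (R := f5R2) (by decide +kernel) (GT := 0x877002327668204f) f5_g3_ok (by decide +kernel)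

/-- a generator of the centralizer -/
def f5R1 : List (List ℤ) :=
  [[4, 0, 0, 0, 0, -2, -2, -2, 2, -2, -2, 0, 0, 0, -2, 0, -2, 2, 0, 0, 2, 2, 0, 2],
   [0, 4, 0, 0, 0, -2, -2, -2, -2, -2, -2, 0, 0, 0, -2, 0, 2, -2, 0, 0, -2, -2, 0, -2],
   [0, 0, 4, 0, 0, 2, 2, -2, 2, 2, -2, 0, 0, 0, -2, 0, -2, -2, 0, 0, -2, -2, 0, 2],
   [0, 0, 0, 4, 0, 2, -2, 2, 2, -2, 2, 0, 0, 0, -2, 0, -2, 2, 0, 0, -2, -2, 0, -2],
   [0, 0, 0, 0, 4, -2, 2, 2, -2, -2, 2, 0, 0, 0, -2, 0, -2, -2, 0, 0, 2, -2, 0, 2],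
   [2, 2, -2, -2, 2, 4, 0, 0, 0, 0, 0, 2, -2, 2, 0, 2, 0, 0, -2, 2, 0, 0, -2, 0],
   [2, 2, -2, 2, -2, 0, 4, 0, 0, 0, 0, -2, -2, 2, 0, 2, 0, 0, 2, -2, 0, 0, 2, 0],
   [2, 2, 2, -2, -2, 0, 0, 4, 0, 0, 0, -2, 2, 2, 0, -2, 0, 0, 2, 2, 0, 0, -2, 0],
   [-2, 2, -2, -2, 2, 0, 0, 0, 4, 0, 0, 2, 2, 2, 0, -2, 0, 0, 2, -2, 0, 0, 2, 0],
   [2, 2, -2, 2, 2, 0, 0, 0, 0, 4, 0, -2, 2, -2, 0, -2, 0, 0, -2, 2, 0, 0, 2, 0],
   [2, 2, 2, -2, -2, 0, 0, 0, 0, 0, 4, 2, 2, -2, 0, 2, 0, 0, -2, -2, 0, 0, 2, 0],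
   [0, 0, 0, 0, 0, -2, 2, 2, -2, 2, -2, 4, 0, 0, -2, 0, -2, 2, 0, 0, -2, 2, 0, -2],
   [0, 0, 0, 0, 0, 2, 2, -2, -2, -2, -2, 0, 4, 0, 2, 0, -2, 2, 0, 0, 2, -2, 0, -2],
   [0, 0, 0, 0, 0, -2, -2, -2, -2, 2, 2, 0, 0, 4, 2, 0, -2, 2, 0, 0, -2, -2, 0, 2],
   [2, 2, 2, 2, 2, 0, 0, 0, 0, 0, 0, 2, -2, -2, 4, -2, 0, 0, 2, -2, 0, 0, -2, 0],
   [0, 0, 0, 0, 0, -2, -2, 2, 2, 2, -2, 0, 0, 0, 2, 4, -2, -2, 0, 0, 2, -2, 0, -2],
   [2, -2, 2, 2, 2, 0, 0, 0, 0, 0, 0, 2, 2, 2, 0, 2, 4, 0, 2, 2, 0, 0, 2, 0],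
   [-2, 2, 2, -2, 2, 0, 0, 0, 0, 0, 0, -2, -2, -2, 0, 2, 0, 4, 2, 2, 0, 0, 2, 0],
   [0, 0, 0, 0, 0, 2, -2, -2, -2, 2, 2, 0, 0, 0, -2, 0, -2, -2, 4, 0, 2, 2, 0, -2],
   [0, 0, 0, 0, 0, -2, 2, -2, 2, -2, 2, 0, 0, 0, 2, 0, -2, -2, 0, 4, -2, 2, 0, -2],
   [-2, 2, 2, 2, -2, 0, 0, 0, 0, 0, 0, 2, -2, 2, 0, -2, 0, 0, -2, 2, 4, 0, 2, 0],
   [-2, 2, 2, 2, 2, 0, 0, 0, 0, 0, 0, -2, 2, 2, 0, 2, 0, 0, -2, -2, 0, 4, -2, 0],
   [0, 0, 0, 0, 0, 2, -2, 2, -2, -2, -2, 0, 0, 0, 2, 0, -2, -2, 0, 0, -2, 2, 4, 2],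
   [-2, 2, -2, 2, -2, 0, 0, 0, 0, 0, 0, 2, 2, -2, 0, 2, 0, 0, 2, 2, 0, 0, -2, 4]]

theorem f5_act1 : ∃ g ∈ centralizer ({f5x} : Set Co0), Acts (objs f5x 8 f5PT f5Ms 25) g (f5_g2.toPerm 25) :=
  f5_fs.acts f5X_ok (R := f5R1) (by decide +kernel) (GT := 0x6c30d8a80c08b31e) f5_g2_ok (by decide +kernel)

/-- a generator of the centralizer -/
def f5R0 : List (List ℤ) :=
  [[2, 0, -4, 0, 0, -2, -2, 0, 0, 0, 0, -2, 2, 0, -2, 0, 0, 2, -2, 2, 2, 2, 2, 0],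
   [0, 2, 2, 2, 2, 0, 0, -2, -2, -2, -2, 0, 4, 2, 0, 2, 2, 0, 0, 0, 0, 0, 0, -2],
   [4, 2, 2, 2, 2, 0, 0, -2, 2, 2, -2, 0, 0, -2, 0, -2, -2, 0, 0, 0, 0, 0, 0, 2],
   [0, 2, 2, 2, -2, 0, 0, 2, 2, -2, 2, 0, 0, 2, 0, -2, -2, 0, 0, 4, 0, 0, 0, -2],
   [0, 2, 2, -2, 2, 0, 0, 2, -2, -2, 2, 0, 0, -2, 0, 2, -2, 0, 0, 0, 0, 0, 4, 2],
   [2, 0, 0, 0, 0, 2, 2, 0, -4, 0, 0, 2, -2, 0, -2, 0, 0, 2, -2, 2, -2, 2, -2, 0],
   [2, 0, 0, 0, 0, 2, 2, 0, 0, 0, 0, -2, -2, 0, -2, 0, 0, -2, 2, -2, 2, 2, 2, -4],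
   [0, 2, 2, -2, -2, 0, 0, 2, -2, 2, -2, 0, 0, 2, 0, -2, 2, 0, 0, 0, 4, 0, 0, 2],
   [0, 2, -2, -2, 2, 4, 0, -2, 2, -2, 2, 0, 0, 2, 0, -2, 2, 0, 0, 0, 0, 0, 0, 2],
   [0, 2, -2, 2, 2, 0, 0, 2, -2, 2, 2, 0, 0, -2, 4, -2, 2, 0, 0, 0, 0, 0, 0, -2],
   [0, 2, 2, -2, -2, 0, 0, -2, 2, 2, 2, 0, 0, -2, 0, 2, 2, 4, 0, 0, 0, 0, 0, -2],
   [-2, 0, 0, 0, 0, -2, 2, 0, 0, 0, 0, 2, 2, 0, -2, -4, 0, 2, 2, -2, -2, 2, 2, 0],
   [2, -4, 0, 0, 0, 2, 2, 0, 0, 0, 0, 2, 2, 0, 2, 0, 0, 2, 2, 2, 2, -2, 2, 0],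
   [0, 2, -2, 2, -2, 0, 0, -2, -2, 2, 2, 0, 0, 2, 0, 2, -2, 0, 4, 0, 0, 0, 0, 2],
   [2, 0, 0, 0, 0, -2, -2, 0, 0, -4, 0, 2, -2, 0, 2, 0, 0, 2, 2, -2, 2, 2, -2, 0],
   [0, 2, -2, -2, 2, 0, 0, 2, 2, 2, -2, 4, 0, 2, 0, 2, -2, 0, 0, 0, 0, 0, 0, -2],
   [0, -2, 2, 2, 2, 0, 0, 2, 2, 2, 2, 0, 0, 2, 0, 2, 2, 0, 0, 0, 0, 4, 0, 2],
   [-2, 0, 0, 0, 0, 2, -2, 0, 0, 0, -4, -2, -2, 0, 2, 0, 0, 2, 2, 2, -2, 2, 2, 0],
   [-2, 0, 0, 0, 0, 2, -2, 0, 0, 0, 0, 2, 2, -4, -2, 0, 0, -2, 2, 2, 2, 2, -2, 0],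
   [2, 0, 0, -4, 0, -2, 2, 0, 0, 0, 0, -2, 2, 0, 2, 0, 0, -2, 2, 2, -2, 2, -2, 0],
   [-2, 0, 0, 0, 0, -2, 2, -4, 0, 0, 0, 2, -2, 0, 2, 0, 0, -2, -2, 2, 2, 2, 2, 0],
   [-2, 0, 0, 0, 0, 2, 2, 0, 0, 0, 0, -2, 2, 0, 2, 0, -4, 2, -2, -2, 2, 2, -2, 0],
   [2, 0, 0, 0, -4, 2, -2, 0, 0, 0, 0, 2, 2, 0, 2, 0, 0, -2, -2, -2, -2, 2, 2, 0],
   [0, 2, -2, 2, -2, 0, 4, 2, 2, -2, -2, 0, 0, -2, 0, 2, 2, 0, 0, 0, 0, 0, 0, 2]]

theorem f5_act0 : ∃ g ∈ centralizer ({f5x} : Set Co0), Acts (objs f5x 8 f5PT f5Ms 25) g (f5_g1.toPerm 25) :=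
  f5_fs.acts f5X_ok (R := f5R0) (by decide +kernel) (GT := 0x4810dce84ec7087) f5_g1_ok (by decide +kernel)

theorem f5_acts : ∀ o ∈ f5_O, ∃ g ∈ centralizer ({f5x} : Set Co0), Acts (objs f5x 8 f5PT f5Ms 25) g (o.toPerm 25) :=
  (List.forall_mem_cons.2 ⟨f5_act0, (List.forall_mem_cons.2 ⟨f5_act1, (List.forall_mem_cons.2 ⟨f5_act2, (fun _ h => absurd h List.not_mem_nil)⟩)⟩)⟩)

theorem f5_inj : Function.Injective (objs f5x 8 f5PT f5Ms 25) := f5_fs.objs_injective (by decide +kernel)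

theorem f5_trans : ∀ i j, ∃ g ∈ grp 25 f5_O, g i = j :=
  trans_of_words (by norm_num) f5_O_ok (ws := [0, 261, 1029, 131589, 517, 1, 66817, 263425, 33686785, 132353, 4, 66820, 263428, 33686788, 132356, 514, 17105410, 67437058, 8623817218, 33882626, 2, 66818, 263426, 33686786, 132354]) (by decide +kernel)

theorem f5_ord : orderOf f5x = 5 := (orderOf_permEl _).trans (m24_rep_spec (by norm_num)).1

theorem f5_n4 : cnt (n64 f5reps) (2 ^ 8) = 75 := by decide +kernel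

theorem f5_orb : (MulAction.orbit (centralizer ({f5x} : Set Co0)) (cls (e8 none))).ncard ≤ 75 :=
  f5_n4 ▸ f5_fs.ncard_orbit_le (permEl_mem_mono _) _ fun _ _ _ _ h _ => decide_eq_true h

theorem f5_cent : CentData f5x (grp 25 f5_O) :=
  centData (by decide) f5_ord f5_inj f5_acts ((card_cent_le (inM_m24reps (by norm_num)) f5_orb (nw := 16) (by decide +kernel) (m24_rep_spec (by norm_num)).2).trans (by rw [f5o_card]; decide)) (by decide) f5_trans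

theorem f5a_hn : NOk 5 := by decide

theorem f5a_hk : 5 ≤ 2 ^ 3 := by decide

noncomputable def f5a_g1 : Net := (Net.cons (nat_lit 1) (nat_lit 5) (Net.cons (nat_lit 2) (nat_lit 1) (Net.cons (nat_lit 4) (nat_lit 1) Net.nil)))

theorem f5a_g1_ok : Net.ok 5 f5a_g1 = true := by decide +kernel

noncomputable def f5a_g2 : Net := (Net.cons (nat_lit 1) (nat_lit 4) (Net.cons (nat_lit 2) (nat_lit 2) (Net.cons (nat_lit 1) (nat_lit 5) Net.nil)))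

theorem f5a_g2_ok : Net.ok 5 f5a_g2 = true := by decide +kernel

noncomputable def f5a_O : List Net := [f5a_g1, f5a_g2]

theorem f5a_O_ok : okE 5 f5a_O = true := (okE_cons.2 ⟨f5a_g1_ok, (okE_cons.2 ⟨f5a_g2_ok, (okE_nil 5)⟩)⟩)

noncomputable def f5a_V3 : List Net := [f5a_g1]

theorem f5a_V3_ok : okE 5 f5a_V3 = true := (okE_cons.2 ⟨f5a_g1_ok, (okE_nil 5)⟩)

noncomputable def f5a_g5 : Net := (Net.cons (nat_lit 1) (nat_lit 5) (Net.cons (nat_lit 2) (nat_lit 1) (Net.cons (nat_lit 4) (nat_lit 1) (Net.cons (nat_lit 1) (nat_lit 5) Net.nil))))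

theorem f5a_g5_ok : Net.ok 5 f5a_g5 = true := by decide +kernel

noncomputable def f5a_g6 : Net := (Net.cons (nat_lit 1) (nat_lit 4) (Net.cons (nat_lit 2) (nat_lit 2) Net.nil))

theorem f5a_g6_ok : Net.ok 5 f5a_g6 = true := by decide +kernel

noncomputable def f5a_V7 : List Net := [f5a_g5, f5a_g6]

theorem f5a_V7_ok : okE 5 f5a_V7 = true := (okE_cons.2 ⟨f5a_g5_ok, (okE_cons.2 ⟨f5a_g6_ok, (okE_nil 5)⟩)⟩)

noncomputable def f5a_V9 : List Net := [f5a_g5]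

theorem f5a_V9_ok : okE 5 f5a_V9 = true := (okE_cons.2 ⟨f5a_g5_ok, (okE_nil 5)⟩)

noncomputable def f5a_g11 : Net := (Net.cons (nat_lit 2) (nat_lit 1) (Net.cons (nat_lit 4) (nat_lit 1) (Net.cons (nat_lit 2) (nat_lit 1) (Net.cons (nat_lit 1) (nat_lit 4) Net.nil))))

theorem f5a_g11_ok : Net.ok 5 f5a_g11 = true := by decide +kernel

noncomputable def f5a_g12 : Net := (Net.cons (nat_lit 1) (nat_lit 4) (Net.cons (nat_lit 2) (nat_lit 1) (Net.cons (nat_lit 4) (nat_lit 1) (Net.cons (nat_lit 2) (nat_lit 1) Net.nil))))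

theorem f5a_g12_ok : Net.ok 5 f5a_g12 = true := by decide +kernel

noncomputable def f5a_V13 : List Net := [f5a_g11, f5a_g12]

theorem f5a_V13_ok : okE 5 f5a_V13 = true := (okE_cons.2 ⟨f5a_g11_ok, (okE_cons.2 ⟨f5a_g12_ok, (okE_nil 5)⟩)⟩)

noncomputable def f5a_V15 : List Net := [f5a_g11]

theorem f5a_V15_ok : okE 5 f5a_V15 = true := (okE_cons.2 ⟨f5a_g11_ok, (okE_nil 5)⟩)

noncomputable def f5ao_E3 : List Net := []

theorem f5ao_E3_ok : okE 5 f5ao_E3 = true := (okE_nil 5)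

noncomputable def f5ao_G2 : List Net := [f5a_g11]

theorem f5ao_G2_ok : okE 5 f5ao_G2 = true := (okE_cons.2 ⟨f5a_g11_ok, (okE_nil 5)⟩)

noncomputable def f5ao_E2 : List Net := [f5a_g11, f5a_g12]

theorem f5ao_E2_ok : okE 5 f5ao_E2 = true := (okE_cons.2 ⟨f5a_g11_ok, (okE_cons.2 ⟨f5a_g12_ok, (okE_nil 5)⟩)⟩)

noncomputable def f5ao_G1 : List Net := [f5a_g5, f5a_g11, f5a_g12]

theorem f5ao_G1_ok : okE 5 f5ao_G1 = true := (okE_cons.2 ⟨f5a_g5_ok, (okE_cons.2 ⟨f5a_g11_ok, (okE_cons.2 ⟨f5a_g12_ok, (okE_nil 5)⟩)⟩)⟩)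

noncomputable def f5ao_E1 : List Net := [f5a_g5, f5a_g6, f5a_g11, f5a_g12]

theorem f5ao_E1_ok : okE 5 f5ao_E1 = true := (okE_cons.2 ⟨f5a_g5_ok, (okE_cons.2 ⟨f5a_g6_ok, (okE_cons.2 ⟨f5a_g11_ok, (okE_cons.2 ⟨f5a_g12_ok, (okE_nil 5)⟩)⟩)⟩)⟩)

noncomputable def f5ao_G0 : List Net := [f5a_g1, f5a_g5, f5a_g6, f5a_g11, f5a_g12]

theorem f5ao_G0_ok : okE 5 f5ao_G0 = true := (okE_cons.2 ⟨f5a_g1_ok, (okE_cons.2 ⟨f5a_g5_ok, (okE_cons.2 ⟨f5a_g6_ok, (okE_cons.2 ⟨f5a_g11_ok, (okE_cons.2 ⟨f5a_g12_ok, (okE_nil 5)⟩)⟩)⟩)⟩)⟩)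

noncomputable def f5ao_E0 : List Net := [f5a_g1, f5a_g2, f5a_g5, f5a_g6, f5a_g11, f5a_g12]

theorem f5ao_E0_ok : okE 5 f5ao_E0 = true := (okE_cons.2 ⟨f5a_g1_ok, (okE_cons.2 ⟨f5a_g2_ok, (okE_cons.2 ⟨f5a_g5_ok, (okE_cons.2 ⟨f5a_g6_ok, (okE_cons.2 ⟨f5a_g11_ok, (okE_cons.2 ⟨f5a_g12_ok, (okE_nil 5)⟩)⟩)⟩)⟩)⟩)⟩)

theorem f5a_le4 : grp 5 f5a_V3 ≤ grp 5 f5a_O :=
  grp_le_of_memB f5a_hn f5a_hk f5a_O_ok f5a_V3_ok (ws := [nat_lit 1]) (by decide +kernel)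

theorem f5a_le8 : grp 5 f5a_V7 ≤ grp 5 f5a_O :=
  grp_le_of_memB f5a_hn f5a_hk f5a_O_ok f5a_V7_ok (ws := [nat_lit 196867, nat_lit 0x40402030103]) (by decide +kernel)

theorem f5a_le10 : grp 5 f5a_V9 ≤ grp 5 f5a_V7 :=
  grp_le_of_memB f5a_hn f5a_hk f5a_V7_ok f5a_V9_ok (ws := [nat_lit 1]) (by decide +kernel)

theorem f5a_le14 : grp 5 f5a_V13 ≤ grp 5 f5a_V7 :=
  grp_le_of_memB f5a_hn f5a_hk f5a_V7_ok f5a_V13_ok (ws := [nat_lit 196865, nat_lit 0x1040103030302]) (by decide +kernel)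

theorem f5a_le16 : grp 5 f5a_V15 ≤ grp 5 f5a_V13 :=
  grp_le_of_memB f5a_hn f5a_hk f5a_V13_ok f5a_V15_ok (ws := [nat_lit 1]) (by decide +kernel)

theorem f5ao_card3 : Nat.card (grp 5 f5ao_E3) = 1 :=
  card_grp_nil 5

theorem f5ao_leO3 : grp 5 f5ao_E3 ≤ grp 5 f5a_O :=
  grp_nil_le _

theorem f5ao_2_fix : grp 5 f5ao_E3 ≤ MulAction.stabilizer (Equiv.Perm (Fin 5)) (⟨3, by decide⟩ : Fin 5) :=
  grp_le_stab f5ao_E3_ok (by decide : 3 < 5) (by decide +kernel)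

noncomputable def f5ao_2_ts : List ℕ := [nat_lit 0, nat_lit 1, nat_lit 2]

noncomputable def f5ao_2_ds : List ℕ := [nat_lit 3, nat_lit 2, nat_lit 4]

theorem f5ao_2_dist : Dist 5 f5ao_E3 f5ao_G2 (⟨3, by decide⟩ : Fin 5) f5ao_2_ts f5ao_2_ds :=
  dist_of_distB (k := 2) f5a_hn f5ao_E3_ok f5ao_G2_ok (by decide : 3 < 5) (by decide +kernel)

noncomputable def f5ao_2_sl0 : SL := (SL.cons (nat_lit 1) (nat_lit 2) Ch.nil [] (SL.cons (nat_lit 2) (nat_lit 4) Ch.nil [] SL.nil))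

theorem f5ao_2_sc0 : SCs 5 f5ao_E3 f5ao_G2 (⟨3, by decide⟩ : Fin 5) (SL.words f5ao_2_sl0) :=
  scs_of_ok f5a_hn (det_lab f5a_hk ⊤) f5ao_E3_ok f5ao_G2_ok le_top le_top (by decide : 3 < 5) f5ao_2_fix f5ao_card3.le (by decide +kernel)

noncomputable def f5ao_2_l : List ℕ := (appL (SL.words f5ao_2_sl0) [])

theorem f5ao_2_scs : SCs 5 f5ao_E3 f5ao_G2 (⟨3, by decide⟩ : Fin 5) f5ao_2_l :=
  (SCs.append f5ao_2_sc0 SCs.nil)

noncomputable def f5ao_2_rl0_0 : RL := (RL.cons (nat_lit 0) (nat_lit 3) (nat_lit 0) (nat_lit 0) (nat_lit 2) (nat_lit 0) (RL.cons (nat_lit 1) (nat_lit 2) (nat_lit 0) (nat_lit 0) (nat_lit 0) (nat_lit 0) (RL.cons (nat_lit 2) (nat_lit 4) (nat_lit 0) (nat_lit 0) (nat_lit 1) (nat_lit 0) RL.nil)))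

theorem f5ao_2_good0_0 : GoodSet 5 f5ao_E3 f5ao_G2 (⟨3, by decide⟩ : Fin 5) f5ao_2_ts (nat_lit 1) (RL.pts f5ao_2_rl0_0) :=
  goodSet_of_ok f5a_hn (det_lab f5a_hk ⊤) f5ao_E3_ok f5ao_G2_ok le_top le_top (by decide : 3 < 5) (sepAt_lab f5a_hk _) (by decide +kernel)

theorem f5ao_2_step0 : Step 5 f5ao_E3 f5ao_G2 f5ao_2_ts (2 * 0 + 1) :=
  step_of_cover f5ao_E3_ok f5ao_2_dist (by decide +kernel) f5ao_2_scs (by decide +kernel) f5ao_2_good0_0 (kw := [])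
    (conj_mem_of_scs f5ao_E3_ok f5ao_G2_ok (by decide : 3 < 5) f5ao_2_scs (c := 0) (d := 2) (by decide +kernel)) (by decide +kernel)

theorem f5ao_2_lev : grp 5 f5ao_G2 ⊓ MulAction.stabilizer (Equiv.Perm (Fin 5)) (⟨3, by decide⟩ : Fin 5) = grp 5 f5ao_E3 :=
  sims_level (gs := f5a_V15) rfl (by decide) f5ao_2_fix f5ao_2_dist (forall_lt_one f5ao_2_step0)

theorem f5ao_2_cardG : Nat.card (grp 5 f5ao_G2) = 3 :=
  card_of_level f5a_hn f5ao_G2_ok (by decide : 3 < 5) f5ao_2_lev f5ao_card3 (m := 3) (by decide +kernel)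

theorem f5a_le17 : grp 5 f5ao_E2 ≤ grp 5 f5ao_G2 :=
  grp_le_of_memB f5a_hn f5a_hk f5ao_G2_ok f5ao_E2_ok (ws := [nat_lit 1, nat_lit 2]) (by decide +kernel)

theorem f5a_le18 : grp 5 f5ao_G2 ≤ grp 5 f5ao_E2 :=
  grp_le_of_memB f5a_hn f5a_hk f5ao_E2_ok f5ao_G2_ok (ws := [nat_lit 1]) (by decide +kernel)

theorem f5ao_2_eq : grp 5 f5ao_E2 = grp 5 f5ao_G2 :=
  le_antisymm f5a_le17 f5a_le18

theorem f5ao_card2 : Nat.card (grp 5 f5ao_E2) = 3 :=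
  by rw [f5ao_2_eq]; exact f5ao_2_cardG

theorem f5ao_stab2 : grp 5 f5ao_E2 ⊓ MulAction.stabilizer (Equiv.Perm (Fin 5)) (⟨3, by decide⟩ : Fin 5) = grp 5 f5ao_E3 :=
  by rw [f5ao_2_eq]; exact f5ao_2_lev

theorem f5ao_leO2 : grp 5 f5ao_E2 ≤ grp 5 f5a_O :=
  f5ao_2_eq.le.trans (grp_cons_le ((f5a_le14.trans (f5a_le8.trans (le_refl (grp 5 f5a_O)))) (f5a_le16 (toPerm_mem_grp (E := f5a_V15) (by simp [f5a_V15])))) f5ao_leO3)

theorem f5ao_1_fix : grp 5 f5ao_E2 ≤ MulAction.stabilizer (Equiv.Perm (Fin 5)) (⟨1, by decide⟩ : Fin 5) :=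
  grp_le_stab f5ao_E2_ok (by decide : 1 < 5) (by decide +kernel)

noncomputable def f5ao_1_ts : List ℕ := [nat_lit 0, nat_lit 1]

noncomputable def f5ao_1_ds : List ℕ := [nat_lit 1, nat_lit 3]

theorem f5ao_1_dist : Dist 5 f5ao_E2 f5ao_G1 (⟨1, by decide⟩ : Fin 5) f5ao_1_ts f5ao_1_ds :=
  dist_of_distB (k := 1) f5a_hn f5ao_E2_ok f5ao_G1_ok (by decide : 1 < 5) (by decide +kernel)

noncomputable def f5ao_1_sl0 : SL := (SL.cons (nat_lit 1) (nat_lit 3) Ch.nil [] SL.nil)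

theorem f5ao_1_sc0 : SCs 5 f5ao_E2 f5ao_G1 (⟨1, by decide⟩ : Fin 5) (SL.words f5ao_1_sl0) :=
  scs_of_ok f5a_hn (det_lab f5a_hk ⊤) f5ao_E2_ok f5ao_G1_ok le_top le_top (by decide : 1 < 5) f5ao_1_fix f5ao_card2.le (by decide +kernel)

noncomputable def f5ao_1_l : List ℕ := (appL (SL.words f5ao_1_sl0) [])

theorem f5ao_1_scs : SCs 5 f5ao_E2 f5ao_G1 (⟨1, by decide⟩ : Fin 5) f5ao_1_l :=
  (SCs.append f5ao_1_sc0 SCs.nil)

noncomputable def f5ao_1_rl0_0 : RL := (RL.cons (nat_lit 0) (nat_lit 1) (nat_lit 0) (nat_lit 2) (nat_lit 1) (nat_lit 2) (RL.cons (nat_lit 1) (nat_lit 3) (nat_lit 0) (nat_lit 0) (nat_lit 0) (nat_lit 0) (RL.cons (nat_lit 1) (nat_lit 2) (nat_lit 1) (nat_lit 1) (nat_lit 1) (nat_lit 2) (RL.cons (nat_lit 1) (nat_lit 4) (nat_lit 2) (nat_lit 0) (nat_lit 1) (nat_lit 1) RL.nil))))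

theorem f5ao_1_good0_0 : GoodSet 5 f5ao_E2 f5ao_G1 (⟨1, by decide⟩ : Fin 5) f5ao_1_ts (nat_lit 1) (RL.pts f5ao_1_rl0_0) :=
  goodSet_of_ok f5a_hn (det_lab f5a_hk ⊤) f5ao_E2_ok f5ao_G1_ok le_top le_top (by decide : 1 < 5) (sepAt_lab f5a_hk _) (by decide +kernel)

theorem f5ao_1_step0 : Step 5 f5ao_E2 f5ao_G1 f5ao_1_ts (2 * 0 + 1) :=
  step_of_cover f5ao_E2_ok f5ao_1_dist (by decide +kernel) f5ao_1_scs (by decide +kernel) f5ao_1_good0_0 (kw := [])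
    (conj_mem_of_scs f5ao_E2_ok f5ao_G1_ok (by decide : 1 < 5) f5ao_1_scs (c := 0) (d := 3) (by decide +kernel)) (by decide +kernel)

theorem f5ao_1_lev : grp 5 f5ao_G1 ⊓ MulAction.stabilizer (Equiv.Perm (Fin 5)) (⟨1, by decide⟩ : Fin 5) = grp 5 f5ao_E2 :=
  sims_level (gs := f5a_V9) rfl (by decide) f5ao_1_fix f5ao_1_dist (forall_lt_one f5ao_1_step0)

theorem f5ao_1_cardG : Nat.card (grp 5 f5ao_G1) = 12 :=
  card_of_level f5a_hn f5ao_G1_ok (by decide : 1 < 5) f5ao_1_lev f5ao_card2 (m := 4) (by decide +kernel)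

theorem f5a_le19 : grp 5 f5ao_E1 ≤ grp 5 f5ao_G1 :=
  grp_le_of_memB f5a_hn f5a_hk f5ao_G1_ok f5ao_E1_ok (ws := [nat_lit 1, nat_lit 769, nat_lit 3, nat_lit 5]) (by decide +kernel)

theorem f5a_le20 : grp 5 f5ao_G1 ≤ grp 5 f5ao_E1 :=
  grp_le_of_memB f5a_hn f5a_hk f5ao_E1_ok f5ao_G1_ok (ws := [nat_lit 1, nat_lit 5, nat_lit 7]) (by decide +kernel)

theorem f5ao_1_eq : grp 5 f5ao_E1 = grp 5 f5ao_G1 :=
  le_antisymm f5a_le19 f5a_le20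

theorem f5ao_card1 : Nat.card (grp 5 f5ao_E1) = 12 :=
  by rw [f5ao_1_eq]; exact f5ao_1_cardG

theorem f5ao_stab1 : grp 5 f5ao_E1 ⊓ MulAction.stabilizer (Equiv.Perm (Fin 5)) (⟨1, by decide⟩ : Fin 5) = grp 5 f5ao_E2 :=
  by rw [f5ao_1_eq]; exact f5ao_1_lev

theorem f5ao_leO1 : grp 5 f5ao_E1 ≤ grp 5 f5a_O :=
  f5ao_1_eq.le.trans (grp_cons_le ((f5a_le8.trans (le_refl (grp 5 f5a_O))) (f5a_le10 (toPerm_mem_grp (E := f5a_V9) (by simp [f5a_V9])))) f5ao_leO2)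

theorem f5ao_0_fix : grp 5 f5ao_E1 ≤ MulAction.stabilizer (Equiv.Perm (Fin 5)) (⟨0, by decide⟩ : Fin 5) :=
  grp_le_stab f5ao_E1_ok (by decide : 0 < 5) (by decide +kernel)

noncomputable def f5ao_0_ts : List ℕ := [nat_lit 0, nat_lit 1]

noncomputable def f5ao_0_ds : List ℕ := [nat_lit 0, nat_lit 1]

theorem f5ao_0_dist : Dist 5 f5ao_E1 f5ao_G0 (⟨0, by decide⟩ : Fin 5) f5ao_0_ts f5ao_0_ds :=
  dist_of_distB (k := 1) f5a_hn f5ao_E1_ok f5ao_G0_ok (by decide : 0 < 5) (by decide +kernel)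

noncomputable def f5ao_0_sl0 : SL := (SL.cons (nat_lit 1) (nat_lit 1) (Ch.cons (nat_lit 3) [nat_lit 5, nat_lit 7] Ch.nil) [nat_lit 1281, nat_lit 4] SL.nil)

theorem f5ao_0_sc0 : SCs 5 f5ao_E1 f5ao_G0 (⟨0, by decide⟩ : Fin 5) (SL.words f5ao_0_sl0) :=
  scs_of_ok f5a_hn (det_lab f5a_hk ⊤) f5ao_E1_ok f5ao_G0_ok le_top le_top (by decide : 0 < 5) f5ao_0_fix f5ao_card1.le (by decide +kernel)

noncomputable def f5ao_0_l : List ℕ := (appL (SL.words f5ao_0_sl0) [])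

theorem f5ao_0_scs : SCs 5 f5ao_E1 f5ao_G0 (⟨0, by decide⟩ : Fin 5) f5ao_0_l :=
  (SCs.append f5ao_0_sc0 SCs.nil)

noncomputable def f5ao_0_rl0_0 : RL := (RL.cons (nat_lit 0) (nat_lit 0) (nat_lit 0) (nat_lit 2) (nat_lit 1) (nat_lit 2) (RL.cons (nat_lit 1) (nat_lit 1) (nat_lit 0) (nat_lit 0) (nat_lit 0) (nat_lit 0) (RL.cons (nat_lit 1) (nat_lit 3) (nat_lit 1) (nat_lit 4) (nat_lit 1) (nat_lit 1540) RL.nil)))

theorem f5ao_0_good0_0 : GoodSet 5 f5ao_E1 f5ao_G0 (⟨0, by decide⟩ : Fin 5) f5ao_0_ts (nat_lit 1) (RL.pts f5ao_0_rl0_0) :=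
  goodSet_of_ok f5a_hn (det_lab f5a_hk ⊤) f5ao_E1_ok f5ao_G0_ok le_top le_top (by decide : 0 < 5) (sepAt_lab f5a_hk _) (by decide +kernel)

theorem f5ao_0_step0 : Step 5 f5ao_E1 f5ao_G0 f5ao_0_ts (2 * 0 + 1) :=
  step_of_cover f5ao_E1_ok f5ao_0_dist (by decide +kernel) f5ao_0_scs (by decide +kernel) f5ao_0_good0_0 (kw := [nat_lit 5, nat_lit 7])
    (conj_mem_of_scs f5ao_E1_ok f5ao_G0_ok (by decide : 0 < 5) f5ao_0_scs (c := 0) (d := 1) (by decide +kernel)) (by decide +kernel)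

theorem f5ao_0_lev : grp 5 f5ao_G0 ⊓ MulAction.stabilizer (Equiv.Perm (Fin 5)) (⟨0, by decide⟩ : Fin 5) = grp 5 f5ao_E1 :=
  sims_level (gs := f5a_V3) rfl (by decide) f5ao_0_fix f5ao_0_dist (forall_lt_one f5ao_0_step0)

theorem f5ao_0_cardG : Nat.card (grp 5 f5ao_G0) = 60 :=
  card_of_level f5a_hn f5ao_G0_ok (by decide : 0 < 5) f5ao_0_lev f5ao_card1 (m := 5) (by decide +kernel)

theorem f5a_le21 : grp 5 f5ao_E0 ≤ grp 5 f5ao_G0 :=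
  grp_le_of_memB f5a_hn f5a_hk f5ao_G0_ok f5ao_E0_ok (ws := [nat_lit 1, nat_lit 1793, nat_lit 3, nat_lit 5, nat_lit 7, nat_lit 9]) (by decide +kernel)

theorem f5a_le22 : grp 5 f5ao_G0 ≤ grp 5 f5ao_E0 :=
  grp_le_of_memB f5a_hn f5a_hk f5ao_E0_ok f5ao_G0_ok (ws := [nat_lit 1, nat_lit 5, nat_lit 7, nat_lit 9, nat_lit 11]) (by decide +kernel)

theorem f5ao_0_eq : grp 5 f5ao_E0 = grp 5 f5ao_G0 :=
  le_antisymm f5a_le21 f5a_le22

theorem f5ao_card0 : Nat.card (grp 5 f5ao_E0) = 60 :=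
  by rw [f5ao_0_eq]; exact f5ao_0_cardG

theorem f5ao_stab0 : grp 5 f5ao_E0 ⊓ MulAction.stabilizer (Equiv.Perm (Fin 5)) (⟨0, by decide⟩ : Fin 5) = grp 5 f5ao_E1 :=
  by rw [f5ao_0_eq]; exact f5ao_0_lev

theorem f5ao_leO0 : grp 5 f5ao_E0 ≤ grp 5 f5a_O :=
  f5ao_0_eq.le.trans (grp_cons_le ((le_refl (grp 5 f5a_O)) (f5a_le4 (toPerm_mem_grp (E := f5a_V3) (by simp [f5a_V3])))) f5ao_leO1)

theorem f5a_le23 : grp 5 f5a_O ≤ grp 5 f5ao_E0 :=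
  grp_le_of_memB f5a_hn f5a_hk f5ao_E0_ok f5a_O_ok (ws := [nat_lit 1, nat_lit 3]) (by decide +kernel)

theorem f5ao_eq : grp 5 f5a_O = grp 5 f5ao_E0 :=
  le_antisymm f5a_le23 f5ao_leO0

theorem f5ao_card : Nat.card (grp 5 f5a_O) = 60 :=
  by rw [f5ao_eq]; exact f5ao_card0

noncomputable def f5ao_ch : Ch := (Ch.cons (nat_lit 0) [nat_lit 1, nat_lit 3] (Ch.cons (nat_lit 1) [nat_lit 5, nat_lit 7] (Ch.cons (nat_lit 3) [nat_lit 9, nat_lit 11] Ch.nil)))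

theorem f5ao_exact : Ch.Exact 5 f5ao_E0 f5ao_ch (grp 5 f5ao_E0) :=
  Ch.exact (k := 3) (L := (lab 5 3)) f5a_hn f5ao_E0_ok (by decide +kernel) (wgrp_le_grp _ _ _) f5ao_card0.le

/-- the cells of the grid -/
def f5pts (y : Fin 25) : Finset (Fin 5 ⊕ Fin 5) :=
  {Sum.inl ⟨y / 5, by omega⟩, Sum.inr ⟨y % 5, by omega⟩}

theorem f5pts_inj : Function.Injective f5pts := by decide +kernel

/-- generators of the wreath product -/
noncomputable def f5S : Set (Equiv.Perm (Fin 5 ⊕ Fin 5)) :=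
  {Equiv.Perm.sumCongr (f5a_g1.toPerm 5) 1, Equiv.Perm.sumCongr (f5a_g2.toPerm 5) 1,
    Equiv.sumComm (Fin 5) (Fin 5)}

theorem f5a_eq : grp 5 f5a_O = alternatingGroup (Fin 5) :=
  grp_eq_alternatingGroup (by rw [f5ao_card]; decide)

theorem f5S_closure : closure f5S = alternatingFiveWreathTwo := by
  apply le_antisymm
  · rw [Subgroup.closure_le]
    rintro _ (rfl | rfl | rfl)
    · exact subset_closure (Or.inl ⟨⟨_, f5a_eq.le (toPerm_mem_grp List.mem_cons_self)⟩, 1, rfl⟩)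
    · exact subset_closure (Or.inl ⟨⟨_, f5a_eq.le (toPerm_mem_grp
        (List.mem_cons_of_mem _ List.mem_cons_self))⟩, 1, rfl⟩)
    · exact subset_closure (Or.inr rfl)
  · have hs : Equiv.sumComm (Fin 5) (Fin 5) ∈ closure f5S := subset_closure (by simp [f5S])
    have key : alternatingGroup (Fin 5) ≤ (closure f5S).comap
        ((Equiv.Perm.sumCongrHom (Fin 5) (Fin 5)).comp (MonoidHom.inl _ _)) := by
      rw [← f5a_eq]
      exact grp_cons_le (subset_closure (Or.inl rfl))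
        (grp_cons_le (subset_closure (Or.inr (Or.inl rfl))) (grp_nil_le _))
    rw [alternatingFiveWreathTwo, Subgroup.closure_le]
    rintro _ (⟨σ, τ, rfl⟩ | rfl)
    · refine SetLike.mem_coe.2 ?_
      convert mul_mem (mem_comap.1 (key σ.2)) (mul_mem (mul_mem hs (mem_comap.1 (key τ.2))) hs)
        using 1
      ext (i | i) <;> rfl
    · exact hs

theorem f5a_val0 : f5a_g1.toPerm 5 = ⟨![1, 2, 3, 4, 0], ![4, 0, 1, 2, 3], by decide, by decide⟩ :=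
  toPerm_eq_of_pt f5a_g1_ok (by decide +kernel)

theorem f5a_val1 : f5a_g2.toPerm 5 = ⟨![1, 2, 0, 3, 4], ![2, 0, 1, 3, 4], by decide, by decide⟩ :=
  toPerm_eq_of_pt f5a_g2_ok (by decide +kernel)

theorem f5w_act0 : Acts f5pts (Equiv.Perm.sumCongr (f5a_g1.toPerm 5) (1 : Equiv.Perm (Fin 5))) (f5_g1.toPerm 25) :=
  acts_of_table f5_g1_ok ![5, 6, 7, 8, 9, 10, 11, 12, 13, 14, 15, 16, 17, 18, 19, 20, 21, 22, 23, 24, 0, 1, 2, 3, 4] (by decide +kernel) (by rw [f5a_val0]; decide +kernel)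

theorem f5w_act1 : Acts f5pts (Equiv.Perm.sumCongr (f5a_g2.toPerm 5) (1 : Equiv.Perm (Fin 5))) (f5_g2.toPerm 25) :=
  acts_of_table f5_g2_ok ![5, 6, 7, 8, 9, 10, 11, 12, 13, 14, 0, 1, 2, 3, 4, 15, 16, 17, 18, 19, 20, 21, 22, 23, 24] (by decide +kernel) (by rw [f5a_val1]; decide +kernel)

theorem f5w_act2 : Acts f5pts (Equiv.sumComm (Fin 5) (Fin 5) : Equiv.Perm (Fin 5 ⊕ Fin 5)) (f5_g3.toPerm 25) :=
  acts_of_table f5_g3_ok ![0, 5, 10, 15, 20, 1, 6, 11, 16, 21, 2, 7, 12, 17, 22, 3, 8, 13, 18, 23, 4, 9, 14, 19, 24] (by decide +kernel) (by decide +kernel)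

theorem f5pts_faithful (g : Equiv.Perm (Fin 5 ⊕ Fin 5)) (h : ∀ i, g • f5pts i = f5pts i) :
    g = 1 := by
  have key : ∀ u v : Fin 5 ⊕ Fin 5, (∀ i, u ∈ f5pts i → v ∈ f5pts i) → v = u := by decide +kernel
  ext1 u
  exact key u _ fun i hi => h i ▸ Finset.smul_mem_smul_finset hi

theorem f5_equiv : Nonempty (alternatingFiveWreathTwo ≃* grp 25 f5_O) := by
  rw [← f5S_closure]
  obtain ⟨e, -⟩ := exists_equiv_closure f5pts_inj (S := f5S) (E := f5_O) (by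
      rintro _ (rfl | rfl | rfl)
      · exact ⟨_, by simp [f5_O], f5w_act0⟩
      · exact ⟨_, by simp [f5_O], f5w_act1⟩
      · exact ⟨_, by simp [f5_O], f5w_act2⟩)
    (List.forall_mem_cons.2 ⟨⟨_, by simp [f5S], f5w_act0⟩, List.forall_mem_cons.2
      ⟨⟨_, by simp [f5S], f5w_act1⟩, List.forall_mem_cons.2 ⟨⟨_, by simp [f5S], f5w_act2⟩,
      fun _ h => absurd h List.not_mem_nil⟩⟩⟩) (fun g _ => f5pts_faithful g)
  exact ⟨e⟩

theorem f5_centData : CentData f5x alternatingFiveWreathTwo :=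
  f5_equiv.elim f5_cent.of_equiv

end Cfsg.Agent.H49
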