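import Cfsg.Agent.H44.OnBV

/-! Project S95: lines of involutions and the parabolic `P` of `C(ζ)` in the O'Nan group. -/

set_option autoImplicit false

open scoped Pointwise

namespace Cfsg.Agent.H49.OnLC

open Subgroup Cfsg.Agent.H44 Cfsg.Agent.H44.OnBV Cfsg.Agent.H59 Cfsg.Agent.H59.On
  Cfsg.Agent.H46.S95 Cfsg.Agent.H46.S95.On

/-- The automorphisms fixing `ν 1`, `ν 6` and the words of `L` are conjugations by words in `S`. -/
noncomputable def fxB (L S T : List (List ℕ)) : Bool :=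
  allL (fun w => bA (bO (bN (allL (fun m => eqB (w ++ m) (m ++ w)) L))
      (anyL (fun l => eqB w (l.flatMap (nth [] S))) T))
    (bN (allL (fun m => eqB (w ++ m.flatMap (nth [] Wι)) (m ++ w)) L))) Wf

theorem fx (L S T : List (List ℕ)) (k : fxB L S T = true) {α : MulAut Γ}
    (h : ∀ m ∈ [1] :: [6] :: L, α (ev ν m) = ev ν m) : ∃ c ∈ wgen ν S, α = MulAut.conj c := by
  have v : ∀ m ∈ [[1], [6]], ι (ev ν m) = ev ν m := fun m hm =>
    ι_V (mem_wgen ν m (List.mem_append_left [_] hm))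
  obtain ⟨g, rfl | rfl⟩ := aut_cases α
  · obtain ⟨w, hw, rfl⟩ := cw_f.1 g fun m hm =>
      mul_inv_eq_iff_eq_mul.1 (h m (List.mem_append_left L hm))
    rcases bO_iff.1 (bA_iff.1 (allL_iff.1 k w hw)).1 with e | e
    · rw [bN_iff, allL_iff.2 fun m hm => (ko.iff _ _).2 (by
        rw [ev_append, ev_append]
        exact mul_inv_eq_iff_eq_mul.1 (h m (List.mem_append_right [_, _] hm)))] at e
      exact Bool.noConfusion e
    · obtain ⟨l, -, e⟩ := anyL_iff.1 e
      exact ⟨_, mem_of S w l e, rfl⟩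
  · obtain ⟨w, hw, rfl⟩ := cw_f.1 g fun m hm => mul_inv_eq_iff_eq_mul.1 (by
      have := h m (List.mem_append_left L hm)
      rwa [MulAut.mul_apply, v m hm] at this)
    have e := (bA_iff.1 (allL_iff.1 k w hw)).2
    rw [bN_iff, allL_iff.2 fun m hm => (ko.iff _ _).2 (by
      rw [ev_append, ev_append, ← ι_ev]
      exact mul_inv_eq_iff_eq_mul.1 (h m (List.mem_append_right [_, _] hm)))] at e
    exact Bool.noConfusion e

theorem cj (g a b : List ℕ) (h : eqB (g ++ a) (b ++ g) = true) :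
    ev ν g * ev ν a * (ev ν g)⁻¹ = ev ν b := by
  rw [mul_inv_eq_iff_eq_mul, ← ev_append, ← ev_append]; exact ko.eq _ _ h

theorem two (i j : ℕ) : ν i * ν j = ev ν [i, j] := by rw [ev_cons, ev_single]

theorem lc : LC (ν 1) (ν 6) (ν 4) where
  zz := a_sq
  z1 := a_ne
  zy := by rw [two, two]; exact ko.eq _ _ (by decide +kernel)
  ys := by rw [two, two]; exact ko.eq _ _ (by decide +kernel)
  n1 := by rw [← ev_single ν 6, ← ev_single ν 1]; exact ko.ne _ _ (by decide +kernel)
  n2 := by rw [two]; exact ko.ne _ [] (by decide +kernel)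
  n3 := by rw [two, ← ev_single ν 1]; exact ko.ne _ _ (by decide +kernel)
  sg := ⟨ev ν [2, 3, 4, 3, 8, 2, 7, 2, 3, 4, 3, 2, 3, 2, 3, 4, 3, 2, 8, 2, 3, 4, 3, 7, 2], by
    rw [two, ← ev_single ν 6, ← ev_single ν 1]
    exact ⟨cj _ _ _ (by decide +kernel), cj _ _ _ (by decide +kernel)⟩⟩
  q := ⟨ev ν [5, 4, 3, 4, 5, 3, 4, 3, 8, 5, 4, 7, 5, 7], by
    rw [two, two, ← ev_single ν 6, ← ev_single ν 1, ← ev_single ν 4]
    exact ⟨cj _ _ _ (by decide +kernel), cj _ _ _ (by decide +kernel),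
      cj _ _ _ (by decide +kernel)⟩⟩
  rho := ⟨ev ν [5, 8, 4, 5, 7, 5], by
    rw [two, ← ev_single ν 6, ← ev_single ν 1, ← ev_single ν 4]
    exact ⟨cj _ _ _ (by decide +kernel), cj _ _ _ (by decide +kernel),
      cj _ _ _ (by decide +kernel)⟩⟩
  cP := fun α h => by
    obtain ⟨c, hc, e⟩ := fx [[3], [4], [7]] [[1], [6]] [0, 1].sublists (by decide +kernel) (α := α)
      fun m hm => by
        have k := ko.com (xs := [[1], [6]]) (W := [[1], [6], [3], [4], [7]]) (by decide +kernel) m hm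
        simp only [List.forall_mem_cons, ev_single] at k
        exact h _ k.1 k.2.1
    refine ⟨c, wgen_le.2 ?_ hc, e⟩
    simp only [List.forall_mem_cons, ev_single]
    exact ⟨subset_closure (by simp), subset_closure (by simp), by simp⟩
  cN := fun α h => by
    obtain ⟨c, hc, e⟩ := fx [[4], [2]] [[6], [4]] [0, 1].sublists (by decide +kernel) (α := α)
      fun m hm => by
        have k := ko.com (xs := [[6], [4]]) (W := [[1], [6], [4], [2]]) (by decide +kernel) m hm
        simp only [List.forall_mem_cons, ev_single] at k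
        exact h _ k.1 k.2.1
    refine ⟨c, wgen_le.2 ?_ hc, e⟩
    simp only [List.forall_mem_cons, ev_single]
    exact ⟨subset_closure (by simp), subset_closure (by simp), by simp⟩

/-- generators of `P` -/
def gP : List (List ℕ) := [[1], [4], [6], [3, 7], [3, 4, 3], [5, 6, 4, 5]]

/-- generators of `C(ζ)` -/
def gH : List (List ℕ) := gP ++ [[3, 5, 6, 4, 5, 3]]

theorem x_sq : ν 3 * ν 3 = 1 := bv.2.1.xx

theorem x_cj (w : List ℕ) : ν 3 * ev ν w * (ν 3)⁻¹ = ev ν (3 :: (w ++ [3])) := by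
  rw [ev_cons, ev_append, ev_single, inv_eq_of_mul_eq_one_right x_sq, mul_assoc]

theorem H_le : wgen ν gH ≤ Cz ζ := wgen_le.2 fun s hs => mem_centralizer_singleton_iff.2
  (ko.com (xs := [[3, 7, 3, 8]]) (W := gH) (by decide +kernel) s hs _ (List.mem_singleton_self _))

theorem H_nrm {h : Γ} (hh : h ∈ wgen ν gH) : ν 3 * h * (ν 3)⁻¹ ∈ wgen ν gH :=
  (wgen_le (K := (wgen ν gH).comap (MulAut.conj (ν 3)).toMonoidHom)).2 (fun s hs => by
    obtain ⟨l, -, e⟩ := anyL_iff.1 (allL_iff.1 (by decide +kernel : allL (fun s => anyL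
      (fun l => eqB (3 :: (s ++ [3])) (l.flatMap (nth [] gH)))
      [[0], [1], [2], [4], [5], [6], [3, 3, 3, 2]]) gH = true) s hs)
    exact mem_comap.2 ((x_cj s).symm ▸ mem_of gH _ l e : ν 3 * ev ν s * (ν 3)⁻¹ ∈ _)) hh

theorem K_cov {c : Γ} (hc : c ∈ K0) : c ∈ wgen ν gH ∨ c * ν 3 ∈ wgen ν gH := by
  have i : (ν 3)⁻¹ = ν 3 := inv_eq_of_mul_eq_one_right x_sq
  induction hc using closure_induction with
  | mem x hx =>
    obtain ⟨s, hs, rfl⟩ := hx
    obtain ⟨l, -, e⟩ := anyL_iff.1 (allL_iff.1 (by decide +kernel : allL (fun s => anyL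
      (fun l => bO (eqB s (l.flatMap (nth [] gH))) (eqB (s ++ [3]) (l.flatMap (nth [] gH))))
      [[], [0], [1], [2], [1, 6, 5, 6, 1, 0], [3, 3, 3, 2], [3, 3, 3, 0]])
      [[1], [3], [4], [5], [6], [7], [8]] = true) s hs)
    refine (bO_iff.1 e).imp (mem_of gH _ l) fun e => ?_
    rw [← ev_single ν 3, ← ev_append]
    exact mem_of gH _ l e
  | one => exact .inl (one_mem _)
  | mul x y _ _ hx hy =>
    rcases hx with hx | hx <;> rcases hy with hy | hy
    · exact .inl (mul_mem hx hy)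
    · exact .inr (mul_assoc x y _ ▸ mul_mem hx hy)
    · refine .inr ?_
      have := mul_mem hx (H_nrm hy)
      rwa [← mul_assoc, ← mul_assoc, mul_assoc x, x_sq, mul_one, i] at this
    · refine .inl ?_
      have := mul_mem hx (H_nrm hy)
      rwa [mul_assoc (ν 3), mul_inv_cancel_right, ← mul_assoc, mul_assoc x, x_sq, mul_one] at this
  | inv x _ hx =>
    refine hx.imp inv_mem fun h => ?_
    have := H_nrm (inv_mem h)
    rwa [mul_inv_rev, mul_inv_cancel_left, i] at this

/-- `C(ζ)` by generators -/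
theorem Cζ_eq : Cz ζ = wgen ν gH := le_antisymm (fun c hc => by
  have c1 : Commute c ζ := mem_centralizer_singleton_iff.1 hc
  refine (K_cov (cent_eq.le (mem_centralizer_singleton_iff.2
    (ζ_sq ▸ (c1.mul_right c1).eq)))).resolve_right fun e => ζ_ne ?_
  rw [← x_inv, mem_centralizer_singleton_iff.1 ((mul_mem_cancel_left hc).1 (H_le e)),
    mul_inv_cancel_right]) H_le

theorem oe : OE (ν 1) ζ (ν 3) P where
  toOX := bv.2.1
  zz := a_sq
  z1 := a_ne
  sq := ζ_sq
  one := bv.1.one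
  zP := mem_of gP _ [3, 3, 2, 0] (by decide +kernel)
  PC := (wgen_mono _ fun _ => List.mem_append_left _).trans H_le
  gen := Cζ_eq.le.trans (wgen_le.2 fun s hs => by
    rcases List.mem_append.1 hs with h | h
    · exact mem_sup_left (mem_wgen ν s h)
    · rw [List.mem_singleton.1 h]
      exact mem_sup_right (x_cj [5, 6, 4, 5] ▸
        smul_mem_pointwise_smul _ (MulAut.conj (ν 3)) P (mem_wgen ν [5, 6, 4, 5] (by decide))))
  cT := fun α h => by
    obtain ⟨c, hc, e⟩ := fx [[3, 7], [5, 3, 1, 3, 5].flatMap (nth [] gP)] [[3, 7, 3, 8]]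
      [[], [0], [0, 0], [0, 0, 0]] (by decide +kernel) (α := α) fun m hm => by
        obtain ⟨l, -, e⟩ := anyL_iff.1 (allL_iff.1 (by decide +kernel : allL (fun s => anyL
          (fun l => bA (eqB s (l.1.flatMap (nth [] gP)))
            (eqB (3 :: (s ++ [3])) (l.2.flatMap (nth [] gP))))
          [([0], [0]), ([2], [2]), ([3], [3, 3, 3, 2]),
            ([5, 3, 1, 3, 5], [1, 3, 5, 3, 1, 3, 5, 1, 0])])
          [[1], [6], [3, 7], [5, 3, 1, 3, 5].flatMap (nth [] gP)] = true) m hm)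
        exact h _ (mem_of gP _ _ (bA_iff.1 e).1) (x_cj m ▸ mem_of gP _ _ (bA_iff.1 e).2)
    exact ⟨c, wgen_le.2 (List.forall_mem_singleton.2 (mem_zpowers _)) hc, e⟩
  cM := fun α h => by
    obtain ⟨c, hc, e⟩ := fx [[5], [7, 5, 7]] [[3], [3, 7, 3, 8]] [0, 1, 1, 1].sublists
      (by decide +kernel) (α := α) fun m hm => by
        have k := ko.com (xs := [[3], [3, 7, 3, 8]]) (W := [[1], [6], [5], [7, 5, 7]])
          (by decide +kernel) m hm
        simp only [List.forall_mem_cons, ev_single] at k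
        exact h _ k.1 k.2.1
    refine ⟨c, wgen_le.2 ?_ hc, e⟩
    simp only [List.forall_mem_cons, ev_single]
    exact ⟨subset_closure (by simp), subset_closure (.inr rfl), by simp⟩

theorem lcs : LCS := ⟨lc, oe⟩

end Cfsg.Agent.H49.OnLC
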