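import Cfsg.Agent.H96.D4Defs

/-!
# Essential subgroups of the Sylow subgroup of `³D₄(q)`, `q` odd, contain no mixed element
-/

set_option autoImplicit false

namespace Cfsg.Agent.H49.D4MO

open Cfsg.Agent.H97 Cfsg.Agent.H96.VB Cfsg.Agent.H96.CP Cfsg.Agent.H96.DF Subgroup
open scoped commutatorElement

universe u

variable {F K : Type u} [Field F] [Field K] [Algebra F K] {C : Tri F K} {g k g₀ : U C}

theorem flip {H : Subgroup (U C)} (h : ⁅g, k⁆ ∈ H) : ⁅k, g⁆ ∈ H := by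
  rw [← commutatorElement_inv]; exact inv_mem h

theorem flip1 (h : ⁅g, k⁆ = 1) : ⁅k, g⁆ = 1 := by rw [← commutatorElement_inv, h, inv_one]

theorem Z_le_W : Z C ≤ W C := fun _ h => ⟨h.1, h.2.1, h.2.2.1, h.2.2.2.1⟩
theorem W_le_Y : W C ≤ Y C := fun _ h => ⟨h.1, h.2.1, h.2.2.1⟩
theorem Y_le_J : Y C ≤ J C := fun _ h => ⟨h.1, h.2.1⟩

theorem cU (g k : U C) : ⁅g, k⁆ ∈ J C := ⟨comm_t g k, comm_u g k⟩

theorem cJ (g : U C) (hk : k ∈ J C) : ⁅g, k⁆ ∈ Y C := by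
  obtain ⟨h1, h2⟩ := mem_J.1 hk
  simp [mem_Y, comm_y, h1, h2]

theorem cY (g : U C) (hk : k ∈ Y C) : ⁅g, k⁆ ∈ W C := by
  obtain ⟨h1, h2, h3⟩ := mem_Y.1 hk
  simp [mem_W, comm_y, comm_x, h1, h2, h3]

theorem cW (g : U C) (hk : k ∈ W C) : ⁅g, k⁆ ∈ Z C := by
  obtain ⟨h1, h2, h3, h4⟩ := mem_W.1 hk
  simp [mem_Z, comm_y, comm_x, comm_a, h1, h2, h3, h4]

theorem cJJ (hg : g ∈ J C) (hk : k ∈ J C) : ⁅g, k⁆ ∈ Z C := by
  obtain ⟨h1, h2⟩ := mem_J.1 hk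
  obtain ⟨h3, h4⟩ := mem_J.1 hg
  simp [mem_Z, comm_y, comm_x, comm_a, h1, h2, h3, h4]

theorem aY (g : U C) (hk : k ∈ Y C) : ⁅g, k⁆.a = C.T (g.t * k.x) := by
  obtain ⟨h1, h2, h3⟩ := mem_Y.1 hk
  simp [comm_a, h1, h2, h3]

theorem zY (g : U C) (hk : k ∈ Y C) :
    ⁅g, k⁆.z = C.T (k.x * g.y) - k.a * g.u - C.T (g.t * k.x) * g.u := by
  obtain ⟨h1, h2, h3⟩ := mem_Y.1 hk
  rw [comm_z, aY g hk, (cY g hk).2.2.2]
  simp [h1, h2, h3]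
  ring

theorem eq_one (h : g ∈ W C) (ha : g.a = 0) (hz : g.z = 0) : g = 1 :=
  U.ext h.1 h.2.1 h.2.2.1 h.2.2.2 ha hz

theorem cEW (hg : g.u = 0) (hk : k ∈ W C) : ⁅g, k⁆ = 1 :=
  eq_one (cY g (W_le_Y hk)) (cW g hk).2.2.2.2 (by simp [zY g (W_le_Y hk), hg, hk.2.2.2])

theorem cZ (g : U C) (hk : k ∈ Z C) : ⁅g, k⁆ = 1 :=
  eq_one (cY g (W_le_Y (Z_le_W hk))) (cW g (Z_le_W hk)).2.2.2.2
    (by simp [zY g (W_le_Y (Z_le_W hk)), hk.2.2.2.1, hk.2.2.2.2])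

theorem mem_Z_of (hu : g.u ≠ 0) (hk : k ∈ W C) (h : ⁅g, k⁆ = 1) : k ∈ Z C := by
  have := zY g (W_le_Y hk)
  rw [h] at this
  exact ⟨hk.1, hk.2.1, hk.2.2.1, hk.2.2.2, by simpa [hk.2.2.2, hu] using this⟩

theorem mem_Y_of (h2 : (2 : F) ≠ 0) (ht : g.t ≠ 0) (hk : k ∈ J C) (h : ⁅g, k⁆ ∈ W C) : k ∈ Y C := by
  obtain ⟨h1, h3⟩ := mem_J.1 hk
  exact ⟨h1, h3, C.cr_eq_zero_odd h2 ht (by simpa [comm_x, h1, h3] using h.2.2.2)⟩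

theorem prop_t (hu : g₀.u ≠ 0) (h : ⁅g, g₀⁆ ∈ Y C) : g.t = (g.u / g₀.u) • g₀.t := by
  have := (mem_Y.1 h).2.2
  rw [comm_y, sub_eq_zero] at this
  rw [div_eq_inv_mul, mul_smul, ← this, inv_smul_smul₀ hu]

theorem prop_y (h2 : (2 : F) ≠ 0) (ht : g₀.t ≠ 0) (hu : g₀.u ≠ 0) (h : ⁅g, g₀⁆ ∈ W C) :
    ∃ c d : F, g.t = c • g₀.t ∧ g.u = c * g₀.u ∧ g.y = c • g₀.y + (c * d) • g₀.t := by
  have h1 := prop_t hu (W_le_Y h)
  have h3 : g.u = g.u / g₀.u * g₀.u := (div_mul_cancel₀ _ hu).symm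
  generalize g.u / g₀.u = c at h1 h3
  refine ⟨c, (c - 1) * g₀.u / 2, h1, h3, (sub_eq_zero.1 (C.cr_eq_zero_odd h2 ht ?_)).symm⟩
  have := h.2.2.2
  rw [comm_x, h1, h3, C.smul_cr, C.sh_smul] at this
  rw [sub_eq_add_neg, C.cr_add, C.cr_add, C.cr_neg, C.cr_smul, C.cr_smul, C.cr_self, two_mul, ← this,
    show c * ((c - 1) * g₀.u / 2) = (2 : F)⁻¹ * (c * (c - 1) * g₀.u) by ring]
  match_scalars <;> field_simp <;> ring

theorem mixed (hu : g₀.u ≠ 0) (ht : g₀.t ≠ 0) (h : ⁅g, g₀⁆ ∈ Y C) (hJ : g ∉ J C) : g.t ≠ 0 ∧ g.u ≠ 0 := by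
  have h1 := prop_t hu h
  have h2 : g.u ≠ 0 := fun e => hJ (mem_J.2 ⟨by simpa [e] using h1, e⟩)
  exact ⟨h1 ▸ smul_ne_zero (div_ne_zero h2 hu) ht, h2⟩

/-- The centraliser of a mixed element in `J`. -/
def A0 (g₀ k : U C) : Prop := k ∈ Y C ∧ C.T (g₀.t * k.x) = 0 ∧ k.a * g₀.u = C.T (k.x * g₀.y)

theorem cA0 (h2 : (2 : F) ≠ 0) (ht : g₀.t ≠ 0) (hu : g₀.u ≠ 0) (h : ⁅g, g₀⁆ ∈ W C) (hk : A0 g₀ k) :
    ⁅g, k⁆ = 1 := by
  obtain ⟨c, d, h1, h3, h4⟩ := prop_y h2 ht hu h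
  refine eq_one (cY g hk.1) (by simp [aY g hk.1, h1, hk.2.1]) ?_
  rw [zY g hk.1, h1, h3, h4]
  simp only [mul_add, mul_smul_comm, smul_mul_assoc, map_add, map_smul, smul_eq_mul, mul_comm k.x g₀.t,
    hk.2.1]
  linear_combination (-c) * hk.2.2

section fin

variable [Finite K]

theorem exists_perp (a : K) : ∃ y : K, y ≠ 0 ∧ C.T (a * y) = 0 := by
  have := LinearMap.ker_ne_bot_of_finrank_lt (f := C.T ∘ₗ LinearMap.mulLeft F a)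
    (by rw [C.finrank, Module.finrank_self]; norm_num)
  obtain ⟨y, h1, h2⟩ := Submodule.exists_mem_ne_zero_of_ne_bot this
  exact ⟨y, h2, h1⟩

theorem exists_conj (h2 : (2 : F) ≠ 0) (ht : g.t ≠ 0) (hu : g.u ≠ 0) (hk : k ∈ Y C) :
    ∃ s : U C, s * g * s⁻¹ = k * g := by
  obtain ⟨y, hy⟩ := Finite.surjective_of_injective (f := fun y => C.cr g.t y) (fun a b h =>
    sub_eq_zero.1 (C.cr_eq_zero_odd h2 ht (by
      rw [sub_eq_add_neg, C.cr_add, C.cr_neg, show C.cr g.t a = C.cr g.t b from h, add_neg_cancel]))) (-k.x)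
  obtain ⟨x, hx⟩ := C.T_onto ht (-k.a - C.T (C.sh g.t * y))
  have e : ∀ r, ⁅(⟨0, 0, y, x, r, 0⟩ : U C), g⁆.z = ⁅(⟨0, 0, y, x, 0, 0⟩ : U C), g⁆.z + r * g.u := fun r => by
    simp [comm_z, comm_a, comm_x]
    ring
  obtain ⟨h3, h4, h5⟩ := mem_Y.1 hk
  refine ⟨⟨0, 0, y, x, (k.z - ⁅(⟨0, 0, y, x, 0, 0⟩ : U C), g⁆.z) / g.u, 0⟩, mul_inv_eq_iff_eq_mul.1 ?_⟩
  rw [← commutatorElement_def]
  refine U.ext (by simp [h3]) (by simp [h4]) (by simp [comm_y, h5]) ?_ ?_ ?_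
  · simp [comm_x, show C.cr g.t y = -k.x from hy]
  · simp [comm_a, hx]
  · rw [e, div_mul_cancel₀ _ hu, add_sub_cancel]

end fin

variable {p : ℕ} {P : Subgroup (U C)} {A B : Subgroup (MulAut P)}

theorem cen (D : Cd p P A B) (h : ∀ x ∈ P, ⁅g, x⁆ = 1) : g ∈ P :=
  D.cen g fun x hx => commutatorElement_eq_one_iff_mul_comm.1 (h x hx)

theorem Z_le (D : Cd p P A B) : Z C ≤ P := fun _ hz => cen D fun x _ => flip1 (cZ x hz)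

theorem ivZ (D : Cd p P A B) (h2 : (2 : F) ≠ 0) (hg : g₀ ∈ P) (ht : g₀.t ≠ 0) (hu : g₀.u ≠ 0)
    (h : ∀ α ∈ A, ∀ z ∈ Z C, ext α z ∈ J C) : Iv A (Z C) := fun α hα z hz hZ => by
  have c : ⁅g₀, ext α z⁆ = 1 :=
    flip1 (Iv.one.commP α hα z hz (fun x _ => flip1 (cZ x hZ)) g₀ hg)
  exact mem_Z_of hu (D.g1 z (Z_le_W hZ) _ (mem_Y_of h2 ht (h α hα z hZ) (c ▸ one_mem _))
    (Rel.ext hα hz)) c

theorem W_le (D : Cd p P A B) (h : Iv A (Z C)) : W C ≤ P := fun w hw =>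
  D.chain [Z C] (by simpa using ⟨Z_le D, h⟩) w ⟨fun x _ => flip (cW x hw), fun x hx => cZ w hx⟩

theorem caseA2 (D : Cd p P A B) (h2 : (2 : F) ≠ 0) (hg : g₀ ∈ P) (ht : g₀.t ≠ 0) (hu : g₀.u ≠ 0)
    (iZ : Iv A (Z C)) (h : ∀ g ∈ P, (∀ x ∈ P, ⁅g, x⁆ ∈ Z C) → g ∈ J C) : False := by
  have lZ := Z_le D
  have lW := W_le D iZ
  have iW : Iv A (W C) := fun α hα w hw hW => by
    have c := iZ.commP α hα w hw fun x _ => flip (cW x hW)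
    exact D.g1 w hW _ (mem_Y_of h2 ht (h _ (ext_mem α hw) c) (Z_le_W (flip (c g₀ hg)))) (Rel.ext hα hw)
  have lY : Y C ≤ P := fun y hy => D.chain [W C] (by simpa using ⟨lW, iW⟩) y
    ⟨fun x _ => flip (cY x hy), fun x hx => cEW (mem_Y.1 hy).2.1 hx⟩
  have iE : Iv A (E C) := (Iv.one.comm iW).congr fun g _ => ⟨fun e x _ hx => cEW e hx, fun e => by
    have m : xa C 1 ∈ W C := ⟨rfl, rfl, rfl, rfl⟩
    have := zY g (W_le_Y m)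
    rw [show ⁅g, xa C 1⁆ = 1 from e _ (lW m) m] at this
    exact mem_E.2 (by simpa [xa] using this)⟩
  have J_of : ∀ g ∈ E C, ⁅g, g₀⁆ ∈ Y C → g ∈ J C := fun g e k =>
    mem_J.2 ⟨by simpa [mem_E.1 e] using prop_t hu k, e⟩
  have iY : Iv A (Y C) := (iE.inter iW.commP).congr fun g _ =>
    ⟨fun e => ⟨(Y_le_J e).2, fun x _ => flip (cY x e)⟩, fun e =>
      mem_Y_of h2 ht (J_of g e.1 (W_le_Y (e.2 g₀ hg))) (flip (e.2 g₀ hg))⟩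
  have iJ : Iv A (J C) := (iE.inter iY.commP).congr fun g _ =>
    ⟨fun e => ⟨e.2, fun x _ => flip (cJ x e)⟩, fun e => J_of g e.1 (e.2 g₀ hg)⟩
  have lJ : J C ≤ P := fun j hj => D.chain [Y C, W C] (by simpa using ⟨⟨lY, iY⟩, lW, iW⟩) j
    ⟨fun x _ => flip (cJ x hj), fun x hx => cY j hx, fun x hx => cEW hj.2 hx⟩
  exact D.ne (eq_top_iff.2 fun g _ => D.chain [J C, Y C, W C, Z C]
    (by simpa using ⟨⟨lJ, iJ⟩, ⟨lY, iY⟩, ⟨lW, iW⟩, lZ, iZ⟩) g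
    ⟨fun x _ => cU g x, fun x hx => cJ g hx, fun x hx => cY g hx, fun x hx => cW g hx, fun x hx => cZ g hx⟩)

variable [Finite K]

theorem caseA1 (D : Cd p P A B) (h2 : (2 : F) ≠ 0) (hg : g₀ ∈ P) (ht : g₀.t ≠ 0) (hu : g₀.u ≠ 0)
    (iZ : Iv A (Z C)) (hc : ∀ g ∈ P, (∀ x ∈ P, ⁅g, x⁆ = 1) → g ∈ J C) (h : ∀ x ∈ P, ⁅g₀, x⁆ ∈ Z C) :
    False := by
  obtain ⟨y, y0, hy⟩ := exists_perp (C := C) (C.sh g₀.t)
  obtain ⟨x, hx⟩ := C.T_onto ht (C.T (C.cr g₀.t y * g₀.y) / g₀.u)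
  have m : (⟨0, 0, y, x, 0, 0⟩ : U C) ∈ J C := ⟨rfl, rfl⟩
  have key : ∀ g ∈ P, A0 g₀ ⁅g, (⟨0, 0, y, x, 0, 0⟩ : U C)⁆ := fun g hg' => by
    obtain ⟨c, d, h1, -, -⟩ := prop_y h2 ht hu (Z_le_W (flip (h g hg')))
    refine ⟨cJ g m, ?_, ?_⟩
    · simp [comm_x, h1, C.smul_cr, C.T_cr, C.cr_self, two_mul, add_mul, hy]
    · simp [comm_x, comm_a, h1, C.smul_cr, C.sh_smul, hy, hx]
      field_simp
  have := D.chain [P ⊓ centralizer (P : Set (U C)), Z C]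
    (by simpa using ⟨Iv.of_ivs Ch.self.cent.2, Z_le D, iZ⟩) _
    ⟨fun g hg' => flip (by
      have e := fun v hv => cA0 h2 ht hu (Z_le_W (flip (h v hv))) (key g hg')
      exact ⟨cen D fun v hv => flip1 (e v hv), fun v hv =>
        commutatorElement_eq_one_iff_mul_comm.1 (e v hv)⟩), fun z hz => cJJ m (hc z hz.1 fun x hx =>
      commutatorElement_eq_one_iff_mul_comm.2 (hz.2 x hx).symm), fun z hz => cZ _ hz⟩
  exact y0 (mem_Y.1 (mem_Y_of h2 ht m (Z_le_W (h _ this)))).2.2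

theorem caseB (D : Cd p P A B) (h2 : (2 : F) ≠ 0) (hg : g₀ ∈ P) (ht : g₀.t ≠ 0) (hu : g₀.u ≠ 0)
    (h : ∀ x ∈ P, ⁅g₀, x⁆ = 1) : False := by
  have hW : ∀ x ∈ P, ⁅x, g₀⁆ ∈ W C := fun x hx => flip1 (h x hx) ▸ one_mem _
  have iZ := ivZ D h2 hg ht hu fun α hα z hz => by
    by_contra hJ
    have zP := Z_le D hz
    obtain ⟨m1, m2⟩ := mixed hu ht (W_le_Y (hW _ (ext_mem α zP))) hJ
    obtain ⟨e, he⟩ := C.T_onto ht 1
    let b : K → U C := fun x => ⟨0, 0, 0, x - C.T (g₀.t * x) • e,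
      C.T ((x - C.T (g₀.t * x) • e) * g₀.y) / g₀.u, 0⟩
    have bY : ∀ x, b x ∈ Y C := fun x => ⟨rfl, rfl, rfl⟩
    have bP : ∀ x, b x ∈ P := fun x => cen D fun g hg' => flip1 (cA0 h2 ht hu (hW g hg')
      ⟨bY x, by simp [b, mul_sub, he], div_mul_cancel₀ _ hu⟩)
    haveI : Finite F := Finite.of_injective _ (algebraMap F K).injective
    obtain ⟨x₁, x₂, e1, e2⟩ : ∃ x₁ x₂ : K, (C.T (g₀.t * x₁), (ext α (b x₁)).u) =
        (C.T (g₀.t * x₂), (ext α (b x₂)).u) ∧ x₁ ≠ x₂ := by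
      by_contra! k
      have := Nat.card_le_card_of_injective _ (k : Function.Injective
        fun x => (C.T (g₀.t * x), (ext α (b x)).u))
      rw [C.card, Nat.card_prod, ← pow_two] at this
      exact absurd this (not_le.2 (Nat.pow_lt_pow_right Finite.one_lt_card (by norm_num)))
    obtain ⟨e3, e4⟩ := Prod.mk.inj e1
    have c1 := mul_mem (inv_mem (bP x₂)) (bP x₁)
    have c2 : (ext α ((b x₂)⁻¹ * b x₁)).u = 0 := by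
      rw [ext_map_mul α (inv_mem (bP x₂)) (bP x₁), ext_map_inv α (bP x₂)]
      simp [e4]
    have c3 := ext_mem α c1
    obtain ⟨s, hs⟩ := exists_conj h2 m1 m2 (mem_Y_of h2 ht
      (mem_J.2 ⟨by simpa [c2] using prop_t hu (W_le_Y (hW _ c3)), c2⟩) (h _ c3 ▸ one_mem _))
    rw [← ext_map_mul α c1 zP] at hs
    have := (D.g1 z (Z_le_W hz) _ (mul_mem (mul_mem (inv_mem (bY x₂)) (bY x₁)) (W_le_Y (Z_le_W hz)))
      ((Rel.ext hα zP).trans ((Rel.conj s _).trans (hs ▸ (Rel.ext hα (mul_mem c1 zP)).symm)))).2.2.2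
    simp [b, e3, hz.2.2.2.1] at this
    exact e2 (by linear_combination this)
  have m : xa C 1 ∈ W C := ⟨rfl, rfl, rfl, rfl⟩
  simpa [xa] using (mem_Z_of hu m (h _ (W_le D iZ m))).2.2.2.2

theorem mo {p : ℕ} [Fact p.Prime] [CharP F p] : MOStmt C p := by
  intro hp P hP g₀ hg ht hu
  obtain ⟨A, B, D⟩ := hP.ex
  have h2 : (2 : F) ≠ 0 := fun h => hp ((Nat.prime_dvd_prime_iff_eq Fact.out Nat.prime_two).1
    ((CharP.cast_eq_zero_iff F p 2).1 h))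
  by_cases hc : ∀ g ∈ P, (∀ x ∈ P, ⁅g, x⁆ = 1) → g ∈ J C
  · have iZ := ivZ D h2 hg ht hu fun α hα z hz => hc _ (ext_mem α (Z_le D hz))
      (Iv.one.commP α hα z (Z_le D hz) fun x _ => flip1 (cZ x hz))
    refine caseA2 D h2 hg ht hu iZ fun g hg' h => by_contra fun hJ => ?_
    obtain ⟨m1, m2⟩ := mixed hu ht (W_le_Y (Z_le_W (h g₀ hg))) hJ
    exact caseA1 D h2 hg' m1 m2 iZ hc h
  · push Not at hc
    obtain ⟨g, hg', h, hJ⟩ := hc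
    obtain ⟨m1, m2⟩ := mixed hu ht (h g₀ hg ▸ one_mem _) hJ
    exact caseB D h2 hg' m1 m2 h

end Cfsg.Agent.H49.D4MO
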