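import Cfsg.Agent.H56.HLK

set_option autoImplicit false

namespace Cfsg.Agent.H49.HLP5c

open MulAction Subgroup Cfsg.Agent.H56.HL
open scoped Cfsg.Agent.H63

universe u v

theorem p5c : P5cStmt.{u, v} := by
  intro G Ω _ _ _ _ _ NN q EE k H hk hb
  have st := H.pl.st
  refine ⟨fun a x y xa ya => ?_, ?_⟩
  · obtain ⟨F, hF, hx, hy⟩ := H.p3b.three a x y
    have hA := (H.p2a.fixF hF x xa.symm).1 hx
    have l3 := (st.kit a).l3
    have hN : SS (NN a) q F ≤ N[F] := SS_le fun E h => le_sup_left.trans ((st.kit a).ka.nE h)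
    have ha : a ∈ Fx Ω F := hA.vr.le.trans (st.fix a)
    have h2 := l3.two_le
    have sub : orbit (SS (NN a) q F) x ⊆ Fx Ω F \ {a} := by
      rintro _ ⟨g, rfl⟩
      refine ⟨smul_mem_Fx_of (hN g.2) hx, fun e => xa (smul_left_cancel (g : G) ?_)⟩
      exact (e : (g : G) • x = a).trans (st.fix a (SS_le_N g.2)).symm
    have c1 : Nat.card (stabilizer (SS (NN a) q F) x) ≤ q ^ 3 := by
      rw [← (l3.fb hA).cardU]
      exact Nat.card_le_card_of_injective
        (fun g => (⟨g.1.1, hb a x F xa.symm hA _ g.1.2 g.2⟩ : ↥(EE a x ⊔ F)))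
        fun g g' e => Subtype.ext (Subtype.ext (Subtype.mk.inj e))
    have c2 := (stabilizer (SS (NN a) q F) x).index_mul_card
    rw [index_stabilizer, (l3.fe hA).cardS] at c2
    have c3 : (Fx Ω F \ {a}).ncard = q ^ 2 - 1 := by
      rw [Set.ncard_diff_singleton_of_mem ha, H.p3a.plane hF, hk, Nat.add_sub_cancel_left,
        ← Nat.sq_sub_sq, one_pow]
    have := Set.eq_of_subset_of_ncard_le sub (by
      rw [c3]
      refine Nat.le_of_mul_le_mul_right ?_ (show 0 < q ^ 3 by positivity)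
      rw [mul_comm, ← c2]
      exact Nat.mul_le_mul_left _ c1)
    obtain ⟨g, hg⟩ : y ∈ orbit (SS (NN a) q F) x := this ▸ ⟨hy, ya⟩
    exact ⟨g, SS_le_N g.2, hg⟩
  · obtain ⟨a, b, hab⟩ := st.nt
    obtain ⟨F, hA⟩ := (st.kit a).ka.nbr (H.pl.ln.vx hab)
    exact ((st.kit a).l3.fd hA).odd fun g hg => hb a b F hab hA g hg.1 (H.pl.sS hab hg.2)

end Cfsg.Agent.H49.HLP5c
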