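import Mathlib
import Cfsg.Agent.H76.K0Defs

set_option autoImplicit false

namespace Cfsg.Agent.H49.K0Ar

theorem poly (n : ℕ) (A B C : ℤ) : 6 * ∑ i ∈ Finset.range n, (A * (i : ℤ) ^ 2 + B * i + C) =
    A * (n - 1) * n * (2 * n - 1) + 3 * B * n * (n - 1) + 6 * C * n := by
  induction n with
  | zero => simp
  | succ n ih => rw [Finset.sum_range_succ, mul_add, ih]; push_cast; ring

theorem zsum (h : ℕ) : ∑ x : ZMod (2 * h + 1),
    (2 * x.valMinAbs ^ 2 - (((2 * h + 1 : ℕ) : ℤ) * (x.val : ℤ) - (x.val : ℤ) ^ 2)) = 0 := by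
  have e1 : ∑ x : ZMod (2 * h + 1),
      (2 * x.valMinAbs ^ 2 - (((2 * h + 1 : ℕ) : ℤ) * (x.val : ℤ) - (x.val : ℤ) ^ 2)) =
      ∑ i ∈ Finset.range (2 * h + 1), (2 * (if i ≤ h then (i : ℤ) else (i : ℤ) - (2 * h + 1 : ℕ)) ^ 2 -
        (((2 * h + 1 : ℕ) : ℤ) * (i : ℤ) - (i : ℤ) ^ 2)) := by
    rw [← Fin.sum_univ_eq_sum_range (fun i => (2 * (if i ≤ h then (i : ℤ) else (i : ℤ) - (2 * h + 1 : ℕ)) ^ 2 -
        (((2 * h + 1 : ℕ) : ℤ) * (i : ℤ) - (i : ℤ) ^ 2))) (2 * h + 1)]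
    refine Finset.sum_congr rfl fun x _ => ?_
    rw [ZMod.valMinAbs_def_pos]
    have : (2 * h + 1) / 2 = h := by omega
    rw [this]
    rfl
  rw [e1, show 2 * h + 1 = (h + 1) + h by ring, Finset.sum_range_add]
  have e2 : ∑ i ∈ Finset.range (h + 1), (2 * (if i ≤ h then (i : ℤ) else (i : ℤ) - (h + 1 + h : ℕ)) ^ 2 -
        (((h + 1 + h : ℕ) : ℤ) * (i : ℤ) - (i : ℤ) ^ 2)) =
      ∑ i ∈ Finset.range (h + 1), ((3 : ℤ) * (i : ℤ) ^ 2 + (-(2 * h + 1)) * i + 0) := by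
    refine Finset.sum_congr rfl fun i hi => ?_
    rw [if_pos (by simpa [Nat.lt_succ_iff] using hi)]
    push_cast; ring
  have e3 : ∑ j ∈ Finset.range h, (2 * (if h + 1 + j ≤ h then ((h + 1 + j : ℕ) : ℤ) else ((h + 1 + j : ℕ) : ℤ) - (h + 1 + h : ℕ)) ^ 2 -
        (((h + 1 + h : ℕ) : ℤ) * ((h + 1 + j : ℕ) : ℤ) - ((h + 1 + j : ℕ) : ℤ) ^ 2)) =
      ∑ j ∈ Finset.range h, ((3 : ℤ) * (j : ℤ) ^ 2 + (1 - 4 * h) * j + (h ^ 2 - h)) := by
    refine Finset.sum_congr rfl fun j _ => ?_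
    rw [if_neg (by omega)]
    push_cast; ring
  rw [e2, e3]
  have p1 := poly (h + 1) 3 (-(2 * h + 1)) 0
  have p2 := poly h 3 (1 - 4 * h) (h ^ 2 - h)
  push_cast at p1
  nlinarith [p1, p2]

theorem ar : H76.K0.ArStmt := by
  intro p hp hp2 d e hd he H
  obtain ⟨h, rfl⟩ : ∃ h, p = 2 * h + 1 := hp.odd_of_ne_two hp2
  haveI := Fact.mk hp
  have hd' : (d : ZMod (2 * h + 1)) ≠ 0 := by rwa [Ne, ZMod.intCast_zmod_eq_zero_iff_dvd]
  have he' : (e : ZMod (2 * h + 1)) ≠ 0 := by rwa [Ne, ZMod.intCast_zmod_eq_zero_iff_dvd]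
  have hdiv : ∀ (x : ZMod (2 * h + 1)) (d : ℤ),
      ((2 * h + 1 : ℕ) : ℤ) ∣ (x * (d : ZMod (2 * h + 1))).valMinAbs - (x.val : ℤ) * d := by
    intro x d
    rw [← ZMod.intCast_zmod_eq_zero_iff_dvd]
    push_cast
    simp
  let t : ZMod (2 * h + 1) → ℤ := fun x => (x * (d : ZMod (2 * h + 1))).valMinAbs ^ 2 +
    (x * (e : ZMod (2 * h + 1))).valMinAbs ^ 2 - (((2 * h + 1 : ℕ) : ℤ) * (x.val : ℤ) - (x.val : ℤ) ^ 2)
  have ht : ∀ x, 0 ≤ t x := by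
    intro x
    have := H x.val _ _ (hdiv x d) (hdiv x e)
    simp only [t]
    linarith
  have s1 : ∑ x : ZMod (2 * h + 1), (x * (d : ZMod (2 * h + 1))).valMinAbs ^ 2 =
      ∑ x : ZMod (2 * h + 1), x.valMinAbs ^ 2 :=
    Equiv.sum_comp (Equiv.mulRight₀ _ hd') (fun x => x.valMinAbs ^ 2)
  have s2 : ∑ x : ZMod (2 * h + 1), (x * (e : ZMod (2 * h + 1))).valMinAbs ^ 2 =
      ∑ x : ZMod (2 * h + 1), x.valMinAbs ^ 2 :=
    Equiv.sum_comp (Equiv.mulRight₀ _ he') (fun x => x.valMinAbs ^ 2)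
  have hsum : ∑ x, t x = 0 := by
    have z := zsum h
    rw [Finset.sum_sub_distrib, ← Finset.mul_sum] at z
    simp only [t]
    rw [Finset.sum_sub_distrib, Finset.sum_add_distrib, s1, s2]
    linarith
  have hz : ∀ x, t x = 0 := fun x =>
    (Finset.sum_eq_zero_iff_of_nonneg (fun x _ => ht x)).1 hsum x (Finset.mem_univ _)
  by_contra hne
  have h1 : 1 ≤ h := by have := hp.two_le; omega
  have h2 : 2 ≤ h := by omega
  have v1 : ((1 : ℕ) : ZMod (2 * h + 1)).val = 1 := ZMod.val_cast_of_lt (by omega)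
  have v2 : ((2 : ℕ) : ZMod (2 * h + 1)).val = 2 := ZMod.val_cast_of_lt (by omega)
  have z1 := hz ((1 : ℕ) : ZMod (2 * h + 1))
  have z2 := hz ((2 : ℕ) : ZMod (2 * h + 1))
  have d1 := hdiv ((1 : ℕ) : ZMod (2 * h + 1)) d
  have d2 := hdiv ((2 : ℕ) : ZMod (2 * h + 1)) d
  have e1 := hdiv ((1 : ℕ) : ZMod (2 * h + 1)) e
  have e2 := hdiv ((2 : ℕ) : ZMod (2 * h + 1)) e
  simp only [t] at z1 z2
  rw [v1] at z1 d1 e1
  rw [v2] at z2 d2 e2
  generalize (((1 : ℕ) : ZMod (2 * h + 1)) * (d : ZMod (2 * h + 1))).valMinAbs = b1 at *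
  generalize (((1 : ℕ) : ZMod (2 * h + 1)) * (e : ZMod (2 * h + 1))).valMinAbs = c1 at *
  generalize (((2 : ℕ) : ZMod (2 * h + 1)) * (d : ZMod (2 * h + 1))).valMinAbs = b2 at *
  generalize (((2 : ℕ) : ZMod (2 * h + 1)) * (e : ZMod (2 * h + 1))).valMinAbs = c2 at *
  clear hz hsum ht s1 s2 hdiv H
  have hP : (5 : ℤ) ≤ ((2 * h + 1 : ℕ) : ℤ) := by exact_mod_cast (by omega : 5 ≤ 2 * h + 1)
  have h9 : ((2 * h + 1 : ℕ) : ℤ) = 5 ∨ ((2 * h + 1 : ℕ) : ℤ) = 7 ∨ (11 : ℤ) ≤ ((2 * h + 1 : ℕ) : ℤ) := by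
    have : h ≠ 4 := by rintro rfl; norm_num at hp
    omega
  generalize ((2 * h + 1 : ℕ) : ℤ) = P at *
  push_cast at z1 z2 d1 d2 e1 e2
  have hb1 : b1 ≠ 0 := by rintro rfl; apply hd; simpa using d1
  have hc1 : c1 ≠ 0 := by rintro rfl; apply he; simpa using e1
  have pb : 1 ≤ b1 ^ 2 := by have := sq_pos_of_ne_zero hb1; omega
  have pc : 1 ≤ c1 ^ 2 := by have := sq_pos_of_ne_zero hc1; omega
  have small : ∀ x : ℤ, x ^ 2 ≤ 5 → x ≠ 0 → x ^ 2 = 1 ∨ x ^ 2 = 4 := by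
    intro x hx h0
    have a1 : x ≤ 2 := by nlinarith
    have a2 : -2 ≤ x := by nlinarith
    interval_cases x <;> simp_all
  rcases h9 with h9 | h9 | h9
  · rcases small b1 (by linarith) hb1 with a | a <;> rcases small c1 (by linarith) hc1 with b | b <;> omega
  · rcases small b1 (by linarith) hb1 with a | a <;> rcases small c1 (by linarith) hc1 with b | b <;> omega
  · have key : ∀ x y k : ℤ, x ^ 2 ≤ P - 2 → y ^ 2 ≤ 2 * P - 4 → y - 2 * x = P * k → k = 0 := by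
      intro x y k hx hy hk
      by_contra h0
      have k1 : 1 ≤ k ^ 2 := by have := sq_pos_of_ne_zero h0; omega
      have k2 : (P * k) ^ 2 ≤ 12 * P - 24 := by rw [← hk]; nlinarith [sq_nonneg (y + 2 * x)]
      have k3 : P ^ 2 ≤ (P * k) ^ 2 := by nlinarith [sq_nonneg P]
      nlinarith
    obtain ⟨k, hk⟩ : P ∣ b2 - 2 * b1 := by
      obtain ⟨u, hu⟩ := d1
      obtain ⟨v, hv⟩ := d2
      exact ⟨v - 2 * u, by linear_combination hv - 2 * hu⟩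
    obtain ⟨l, hl⟩ : P ∣ c2 - 2 * c1 := by
      obtain ⟨u, hu⟩ := e1
      obtain ⟨v, hv⟩ := e2
      exact ⟨v - 2 * u, by linear_combination hv - 2 * hu⟩
    have k0 := key b1 b2 k (by linarith) (by nlinarith [sq_nonneg c2]) hk
    have l0 := key c1 c2 l (by linarith) (by nlinarith [sq_nonneg b2]) hl
    subst k0 l0
    have q1 : b2 = 2 * b1 := by linarith
    have q2 : c2 = 2 * c1 := by linarith
    subst q1 q2
    nlinarith

end Cfsg.Agent.H49.K0Ar
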