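import Cfsg.Agent.H49.Leech2
import Cfsg.Agent.H42.Kern

/-! Coordinates on the Leech lattice modulo two: classes as 24-bit masks. -/

set_option autoImplicit false
set_option maxRecDepth 200000

namespace Cfsg.Agent.H49

open Cfsg Finset Cfsg.Agent.H48 Cfsg.Agent.H42

/-- a basis of the lattice -/
def basL : List (List ℤ) :=
  [[1, 1, 1, 1, 1, 1, 1, 1, 1, 1, 1, 1, 1, 1, 1, 1, 1, 1, 1, 1, 1, 1, 1, -3],
   [0, 2, 0, 0, 0, 0, 0, 0, 0, 0, 0, 0, -2, 2, -2, 2, 2, 0, 0, -2, 0, 0, -2, 0],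
   [0, 0, 2, 0, 0, 0, 0, 0, 0, 0, 0, 0, 2, -2, 0, -2, 0, 0, 2, 0, 2, 0, 2, 2],
   [0, 0, 0, 2, 0, 0, 0, 0, 0, 0, 0, 0, -2, 2, 0, 0, 0, 2, -2, -2, 0, 2, -2, 0],
   [0, 0, 0, 0, 2, 0, 0, 0, 0, 0, 0, 0, 2, -2, 0, 0, 2, -2, 0, 2, 2, 0, 0, 2],
   [0, 0, 0, 0, 0, 2, 0, 0, 0, 0, 0, 0, 0, -2, 2, 0, 0, -2, -2, 0, -2, -2, 0, -2],
   [0, 0, 0, 0, 0, 0, 2, 0, 0, 0, 0, 0, 0, 0, -2, -2, 0, 0, 2, 2, 0, 2, 2, 2],
   [0, 0, 0, 0, 0, 0, 0, 2, 0, 0, 0, 0, -2, 0, 2, 2, 0, 2, 2, 2, -2, 0, 0, 0],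
   [0, 0, 0, 0, 0, 0, 0, 0, 2, 0, 0, 0, 0, 2, 0, 2, 2, 0, 2, -2, -2, 2, 0, 0],
   [0, 0, 0, 0, 0, 0, 0, 0, 0, 2, 0, 0, 0, 0, 2, 0, -2, 2, 0, 2, -2, -2, -2, 0],
   [0, 0, 0, 0, 0, 0, 0, 0, 0, 0, 2, 0, 2, 0, -2, 2, 2, 0, 0, 0, -2, 2, 0, 2],
   [0, 0, 0, 0, 0, 0, 0, 0, 0, 0, 0, 2, 0, 2, 0, 2, 2, 2, 0, 0, 0, 2, 2, 2],
   [0, 0, 0, 0, 0, 0, 0, 0, 0, 0, 0, 0, 4, 0, 0, 0, 0, 0, 0, 0, 0, 0, 0, -4],
   [0, 0, 0, 0, 0, 0, 0, 0, 0, 0, 0, 0, 0, 4, 0, 0, 0, 0, 0, 0, 0, 0, 0, 4],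
   [0, 0, 0, 0, 0, 0, 0, 0, 0, 0, 0, 0, 0, 0, 4, 0, 0, 0, 0, 0, 0, 0, 0, 4],
   [0, 0, 0, 0, 0, 0, 0, 0, 0, 0, 0, 0, 0, 0, 0, 4, 0, 0, 0, 0, 0, 0, 0, 4],
   [0, 0, 0, 0, 0, 0, 0, 0, 0, 0, 0, 0, 0, 0, 0, 0, 4, 0, 0, 0, 0, 0, 0, -4],
   [0, 0, 0, 0, 0, 0, 0, 0, 0, 0, 0, 0, 0, 0, 0, 0, 0, 4, 0, 0, 0, 0, 0, 4],
   [0, 0, 0, 0, 0, 0, 0, 0, 0, 0, 0, 0, 0, 0, 0, 0, 0, 0, 4, 0, 0, 0, 0, 4],
   [0, 0, 0, 0, 0, 0, 0, 0, 0, 0, 0, 0, 0, 0, 0, 0, 0, 0, 0, 4, 0, 0, 0, -4],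
   [0, 0, 0, 0, 0, 0, 0, 0, 0, 0, 0, 0, 0, 0, 0, 0, 0, 0, 0, 0, 4, 0, 0, -4],
   [0, 0, 0, 0, 0, 0, 0, 0, 0, 0, 0, 0, 0, 0, 0, 0, 0, 0, 0, 0, 0, 4, 0, 4],
   [0, 0, 0, 0, 0, 0, 0, 0, 0, 0, 0, 0, 0, 0, 0, 0, 0, 0, 0, 0, 0, 0, 4, -4],
   [0, 0, 0, 0, 0, 0, 0, 0, 0, 0, 0, 0, 0, 0, 0, 0, 0, 0, 0, 0, 0, 0, 0, 8]]

/-- the dual basis -/
def dualL : List (List ℤ) :=
  [[8, 0, 0, 0, 0, 0, 0, 0, 0, 0, 0, 0, 0, 0, 0, 0, 0, 0, 0, 0, 0, 0, 0, 0],
   [-4, 4, 0, 0, 0, 0, 0, 0, 0, 0, 0, 0, 0, 0, 0, 0, 0, 0, 0, 0, 0, 0, 0, 0],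
   [-4, 0, 4, 0, 0, 0, 0, 0, 0, 0, 0, 0, 0, 0, 0, 0, 0, 0, 0, 0, 0, 0, 0, 0],
   [-4, 0, 0, 4, 0, 0, 0, 0, 0, 0, 0, 0, 0, 0, 0, 0, 0, 0, 0, 0, 0, 0, 0, 0],
   [-4, 0, 0, 0, 4, 0, 0, 0, 0, 0, 0, 0, 0, 0, 0, 0, 0, 0, 0, 0, 0, 0, 0, 0],
   [-4, 0, 0, 0, 0, 4, 0, 0, 0, 0, 0, 0, 0, 0, 0, 0, 0, 0, 0, 0, 0, 0, 0, 0],
   [-4, 0, 0, 0, 0, 0, 4, 0, 0, 0, 0, 0, 0, 0, 0, 0, 0, 0, 0, 0, 0, 0, 0, 0],
   [-4, 0, 0, 0, 0, 0, 0, 4, 0, 0, 0, 0, 0, 0, 0, 0, 0, 0, 0, 0, 0, 0, 0, 0],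
   [-4, 0, 0, 0, 0, 0, 0, 0, 4, 0, 0, 0, 0, 0, 0, 0, 0, 0, 0, 0, 0, 0, 0, 0],
   [-4, 0, 0, 0, 0, 0, 0, 0, 0, 4, 0, 0, 0, 0, 0, 0, 0, 0, 0, 0, 0, 0, 0, 0],
   [-4, 0, 0, 0, 0, 0, 0, 0, 0, 0, 4, 0, 0, 0, 0, 0, 0, 0, 0, 0, 0, 0, 0, 0],
   [-4, 0, 0, 0, 0, 0, 0, 0, 0, 0, 0, 4, 0, 0, 0, 0, 0, 0, 0, 0, 0, 0, 0, 0],
   [-2, 2, -2, 2, -2, 0, 0, 2, 0, 0, -2, 0, 2, 0, 0, 0, 0, 0, 0, 0, 0, 0, 0, 0],
   [0, -2, 2, -2, 2, 2, 0, 0, -2, 0, 0, -2, 0, 2, 0, 0, 0, 0, 0, 0, 0, 0, 0, 0],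
   [-2, 2, 0, 0, 0, -2, 2, -2, 0, -2, 2, 0, 0, 0, 2, 0, 0, 0, 0, 0, 0, 0, 0, 0],
   [4, -2, 2, 0, 0, 0, 2, -2, -2, 0, -2, -2, 0, 0, 0, 2, 0, 0, 0, 0, 0, 0, 0, 0],
   [6, -2, 0, 0, -2, 0, 0, 0, -2, 2, -2, -2, 0, 0, 0, 0, 2, 0, 0, 0, 0, 0, 0, 0],
   [2, 0, 0, -2, 2, 2, 0, -2, 0, -2, 0, -2, 0, 0, 0, 0, 0, 2, 0, 0, 0, 0, 0, 0],
   [2, 0, -2, 2, 0, 2, -2, -2, -2, 0, 0, 0, 0, 0, 0, 0, 0, 0, 2, 0, 0, 0, 0, 0],
   [0, 2, 0, 2, -2, 0, -2, -2, 2, -2, 0, 0, 0, 0, 0, 0, 0, 0, 0, 2, 0, 0, 0, 0],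
   [-8, 0, -2, 0, -2, 2, 0, 2, 2, 2, 2, 0, 0, 0, 0, 0, 0, 0, 0, 0, 2, 0, 0, 0],
   [4, 0, 0, -2, 0, 2, -2, 0, -2, 2, -2, -2, 0, 0, 0, 0, 0, 0, 0, 0, 0, 2, 0, 0],
   [-2, 2, -2, 2, 0, 0, -2, 0, 0, 2, 0, -2, 0, 0, 0, 0, 0, 0, 0, 0, 0, 0, 2, 0],
   [-1, 3, -5, 5, -7, -1, -3, 5, 5, 3, -1, 1, 1, -1, -1, -1, 1, -1, -1, 1, 1, -1, 1, 1]]

open Classical in
/-- the lattice vector with the given coordinates -/
noncomputable def lamD (l : List ℤ) : Lam := if h : vec l ∈ leechLattice then ⟨vec l, h⟩ else 0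

theorem lamD_val {l : List ℤ} (h : memL l = true) : (lamD l).1 = vec l := by
  unfold lamD; rw [dif_pos (vec_mem h)]

theorem basL_chk : allB (fun i => memL (basL.getD i []) && memL (dualL.getD i [])) 24 = true := by
  decide +kernel

theorem memL_bas {i : ℕ} (hi : i < 24) : memL (basL.getD i []) = true :=
  (Bool.and_eq_true_iff.1 (of_allB basL_chk hi)).1

theorem memL_dual {i : ℕ} (hi : i < 24) : memL (dualL.getD i []) = true :=
  (Bool.and_eq_true_iff.1 (of_allB basL_chk hi)).2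

theorem dual_bas : ∀ k l : GolayPt,
    ∑ i ∈ range 24, vec (dualL.getD i []) l * vec (basL.getD i []) k = if l = k then 8 else 0 := by
  decide +kernel

/-- the basis vectors -/
noncomputable def bas (i : ℕ) : Lam := lamD (basL.getD i [])

/-- the coordinates of a vector -/
def coef (v : Lam) (i : ℕ) : ℤ := dotInt v.1 (vec (dualL.getD i [])) / 8

theorem eight_mul_coef (v : Lam) {i : ℕ} (hi : i < 24) :
    8 * coef v i = dotInt v.1 (vec (dualL.getD i [])) :=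
  Int.mul_ediv_cancel' (eight_dvd_dot v.2 (vec_mem (memL_dual hi)))

theorem coef_add (v w : Lam) {i : ℕ} (hi : i < 24) : coef (v + w) i = coef v i + coef w i := by
  have h1 := eight_mul_coef (v + w) hi
  rw [AddSubgroup.coe_add, dotInt_add_left, ← eight_mul_coef v hi, ← eight_mul_coef w hi] at h1
  omega

theorem eq_sum_bas (v : Lam) : v = ∑ i ∈ range 24, coef v i • bas i := by
  apply Subtype.ext
  funext k
  have h1 : 8 * (∑ i ∈ range 24, coef v i • bas i).1 k = 8 * v.1 k := by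
    rw [AddSubmonoidClass.coe_finsetSum, Finset.sum_apply, Finset.mul_sum]
    have h2 : ∀ i ∈ range 24, 8 * (coef v i • bas i).1 k =
        ∑ l, v.1 l * (vec (dualL.getD i []) l * vec (basL.getD i []) k) := by
      intro i hi
      have hi' := Finset.mem_range.1 hi
      rw [AddSubgroup.coe_zsmul, Pi.smul_apply, smul_eq_mul, ← mul_assoc, eight_mul_coef v hi', bas,
        lamD_val (memL_bas hi'), dotInt, Finset.sum_mul]
      simp only [mul_assoc]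
    rw [Finset.sum_congr rfl h2, Finset.sum_comm]
    simp only [← Finset.mul_sum, dual_bas, mul_ite, mul_zero, Finset.sum_ite_eq', Finset.mem_univ,
      if_true]
    ring
  omega

/-- the mask with prescribed bits -/
noncomputable def kapN (f : ℕ → Bool) (k : ℕ) : ℕ :=
  Nat.rec 0 (fun i acc => Bool.rec acc (Nat.xor acc (Nat.pow 2 i)) (f i)) k

theorem kapN_testBit (f : ℕ → Bool) (k j : ℕ) :
    (kapN f k).testBit j = (decide (j < k) && f j) := by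
  induction k with
  | zero => simp [kapN]
  | succ k ih =>
    have e : kapN f (k + 1) = @Bool.rec (fun _ => ℕ) (kapN f k) (kapN f k ^^^ 2 ^ k) (f k) := rfl
    rw [e]
    rcases lt_trichotomy j k with h | rfl | h
    · cases hf : f k <;> simp [ih, h, h.ne', Nat.lt_succ_of_lt h]
    · cases hf : f j <;> simp [ih, hf]
    · cases hf : f k <;> simp [ih, h.ne, h.not_gt, h.not_ge]

theorem kapN_lt (f : ℕ → Bool) (k : ℕ) : kapN f k < 2 ^ k :=
  Nat.lt_pow_two_of_testBit _ fun i hi => by rw [kapN_testBit]; simp [hi]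

/-- parity -/
def oddB (a : ℤ) : Bool := Bool.not (dvdB 2 a)

theorem oddB_eq (a : ℤ) : oddB a = decide (a % 2 = 1) := by
  unfold oddB
  rw [Bool.eq_iff_iff, Bool.not_eq_true', ← Bool.not_eq_true, dvdB_iff, decide_eq_true_iff]
  omega

/-- the class of a vector as a mask -/
noncomputable def kap (v : Lam) : ℕ := kapN (fun i => oddB (coef v i)) 24

theorem kap_lt (v : Lam) : kap v < 2 ^ 24 := kapN_lt _ _

theorem kap_add (v w : Lam) : kap (v + w) = kap v ^^^ kap w := by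
  apply Nat.eq_of_testBit_eq
  intro j
  simp only [kap, Nat.testBit_xor, kapN_testBit, oddB_eq]
  by_cases hj : j < 24
  · rw [coef_add v w hj]
    rcases Int.emod_two_eq_zero_or_one (coef v j) with h | h <;>
      rcases Int.emod_two_eq_zero_or_one (coef w j) with h' | h' <;>
      simp [hj, Int.add_emod, h, h']
  · simp [hj]

/-- additive maps into masks -/
def XL (f : Lam → ℕ) : Prop := ∀ v w, f (v + w) = f v ^^^ f w

theorem XL.zero {f : Lam → ℕ} (h : XL f) : f 0 = 0 := by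
  have := h 0 0
  rwa [add_zero, Nat.xor_self] at this

theorem XL.cong {f : Lam → ℕ} (h : XL f) {v w : Lam} (c : cong v w) : f w = f v := by
  obtain ⟨u, rfl⟩ := c
  rw [h, h, Nat.xor_self, Nat.xor_zero]

theorem XL.smul {f : Lam → ℕ} (h : XL f) (g : Co0) : XL fun v => f (g • v) :=
  fun v w => by simp only [co_add, h _ _]

theorem xl_kap : XL kap := kap_add

theorem cong_of_kap_eq_zero {v : Lam} (h : kap v = 0) : cong 0 v := by
  rw [cong_zero_iff]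
  refine ⟨∑ i ∈ range 24, (coef v i / 2) • bas i, ?_⟩
  rw [← Finset.sum_add_distrib]
  conv_lhs => rw [eq_sum_bas v]
  apply Finset.sum_congr rfl
  intro i hi
  have h1 := congrArg (fun n => Nat.testBit n i) h
  simp only [kap, kapN_testBit, oddB_eq, Finset.mem_range.1 hi, Nat.zero_testBit, decide_true,
    Bool.true_and, decide_eq_false_iff_not] at h1
  rw [← add_smul]
  congr 1
  omega

theorem cong_iff_kap {v w : Lam} : cong v w ↔ kap v = kap w := by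
  refine ⟨fun h => (xl_kap.cong h).symm, fun h => ?_⟩
  rw [cong_iff_add]
  apply cong_of_kap_eq_zero
  rw [kap_add, h, Nat.xor_self]

/-- the sum of the vectors `f i` over the bits of a mask -/
noncomputable def sumB (f : ℕ → Lam) (m k : ℕ) : Lam :=
  ∑ i ∈ range k, if m.testBit i = true then f i else 0

theorem XL.sumB {φ : Lam → ℕ} (h : XL φ) (f : ℕ → Lam) (m k : ℕ) :
    φ (sumB f m k) = xorC (fun i => φ (f i)) m k := by
  induction k with
  | zero => exact h.zero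
  | succ k ih =>
    rw [xorC_succ, H49.sumB, Finset.sum_range_succ, h, ← H49.sumB, ih]
    split_ifs
    · rfl
    · rw [h.zero, Nat.xor_zero]

theorem cong_zsmul (c : ℤ) (v : Lam) : cong (c • v) (if c % 2 = 1 then v else 0) := by
  refine ⟨-((c / 2) • v), ?_⟩
  have e : c • v + (-((c / 2) • v) + -((c / 2) • v)) = (c % 2) • v := by
    rw [← neg_smul, ← add_smul, ← add_smul]; congr 1; omega
  rw [e]
  rcases Int.emod_two_eq_zero_or_one c with h | h <;> simp [h]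

theorem cong_sum {s : Finset ℕ} {f g : ℕ → Lam} (h : ∀ i ∈ s, cong (f i) (g i)) :
    cong (∑ i ∈ s, f i) (∑ i ∈ s, g i) := by
  induction s using Finset.induction_on with
  | empty => exact cong.refl _
  | insert a s ha ih =>
    rw [Finset.sum_insert ha, Finset.sum_insert ha]
    exact (h a (mem_insert_self _ _)).add (ih fun i hi => h i (mem_insert_of_mem hi))

theorem cong_sumB (v : Lam) : cong v (sumB bas (kap v) 24) := by
  conv_lhs => rw [eq_sum_bas v]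
  apply cong_sum
  intro i hi
  have := cong_zsmul (coef v i) (bas i)
  simpa only [kap, kapN_testBit, oddB_eq, Finset.mem_range.1 hi, decide_true, Bool.true_and,
    decide_eq_true_iff] using this

theorem XL.eq {f : Lam → ℕ} (h : XL f) (v : Lam) : f v = xorC (fun i => f (bas i)) (kap v) 24 := by
  rw [← h.sumB, h.cong (cong_sumB v)]

theorem xorC_congr {f g : ℕ → ℕ} (m : ℕ) {k : ℕ} (h : ∀ i < k, f i = g i) :
    xorC f m k = xorC g m k := by
  induction k with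
  | zero => rfl
  | succ k ih =>
    rw [xorC_succ, xorC_succ, ih fun i hi => h i (Nat.lt_succ_of_lt hi), h k (Nat.lt_succ_self k)]

theorem xorC_zero' (f : ℕ → ℕ) (k : ℕ) : xorC f 0 k = 0 := by
  have := xorC_xor f 0 0 k
  rwa [Nat.xor_self, Nat.xor_self] at this

theorem xorC_comp (f g : ℕ → ℕ) (m k n : ℕ) :
    xorC f (xorC g m k) n = xorC (fun i => xorC f (g i) n) m k := by
  induction k with
  | zero => exact xorC_zero' f n
  | succ k ih =>
    rw [xorC_succ, xorC_succ]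
    split_ifs
    · rw [xorC_xor, ih]
    · exact ih

theorem xorC_fld_lt (w T m k : ℕ) : xorC (fld w T) m k < 2 ^ w :=
  xorC_induction (· < 2 ^ w) (Nat.two_pow_pos w) (fun _ _ => Nat.xor_lt_two_pow) _ _ _
    fun i _ => fld_lt w T i

/-- evaluation of an integer -/
noncomputable def forceI {α : Type} (x : ℤ) (k : ℤ → α) : α :=
  Int.rec (fun n => force n fun m => k (Int.ofNat m)) (fun n => force n fun m => k (Int.negSucc m)) x

theorem forceI_eq {α : Type} (x : ℤ) (k : ℤ → α) : forceI x k = k x := by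
  cases x with
  | ofNat n => exact force_eq n fun m => k (Int.ofNat m)
  | negSucc n => exact force_eq n fun m => k (Int.negSucc m)

/-- evaluation of a list -/
noncomputable def forceL {α : Type} (l : List ℤ) : (List ℤ → α) → α :=
  List.rec (fun k => k []) (fun x _ ih k => forceI x fun y => ih fun t => k (y :: t)) l

theorem forceL_eq {α : Type} (l : List ℤ) (k : List ℤ → α) : forceL l k = k l := by
  induction l generalizing k with
  | nil => rfl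
  | cons x l ih =>
    exact (forceI_eq x fun y => forceL l fun t => k (y :: t)).trans (ih fun t => k (x :: t))

/-- the class of a list -/
noncomputable def kapL (l : List ℤ) : ℕ :=
  forceL l fun l => kapN (fun i => oddB (Int.ediv (ldot l (dualL.getD i [])) 8)) 24

theorem kap_vec {v : Lam} {l : List ℤ} (hl : l.length = 24) (h : v.1 = vec l) : kap v = kapL l := by
  unfold kapL kap coef
  rw [forceL_eq, h]
  simp only [dot_vec l _ hl]
  rfl

theorem kap_lamD {l : List ℤ} (h : memL l = true) : kap (lamD l) = kapL l :=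
  kap_vec (memL_length h) (lamD_val h)

/-- `R` lists the images of the vectors `8 e_i` under `g` -/
structure IsMat (g : Co0) (R : List (List ℤ)) : Prop where
  len0 : R.length = 24
  len : ∀ r ∈ R, r.length = 24
  col : ∀ i, (g • e8 i).1 = row R i

theorem isMat_colEl {R : List (List ℤ)} (hR : matB R = true) : IsMat (colEl R hR) R := by
  refine ⟨?_, (matSpec_of hR).len, colEl_e8 R hR⟩
  simp only [matB, Bool.and_eq_true, Nat.beq_eq] at hR
  exact hR.1.1.1.1.1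

theorem exists_isMat {R : List (List ℤ)} (hR : matB R = true) : ∃ g, IsMat g R := ⟨_, isMat_colEl hR⟩

theorem IsMat.length_lact {g : Co0} {R : List (List ℤ)} (hR : IsMat g R) {l : List ℤ}
    (hl : l.length = 24) : (lact R l).length = 24 := by
  rw [lact, ldiv_eq, List.length_map]
  exact (lcomb_spec l R 24 hl.le hR.len).1

theorem IsMat.smul {g : Co0} {R : List (List ℤ)} (hR : IsMat g R) (v : Lam) (l : List ℤ)
    (hl : l.length = 24) (hv : v.1 = vec l) : (g • v).1 = vec (lact R l) :=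
  smul_of_cols hR.len hR.col v l hl hv

theorem IsMat.kap {g : Co0} {R : List (List ℤ)} (hR : IsMat g R) {l : List ℤ} (h : memL l = true) :
    kap (g • lamD l) = kapL (lact R l) :=
  kap_vec (hR.length_lact (memL_length h)) (hR.smul _ l (memL_length h) (lamD_val h))

/-- the test that the table `T` lists the images of the basis -/
noncomputable def colsB (R : List (List ℤ)) (T : ℕ) : Bool :=
  allB (fun i => Nat.beq (kapL (lact R (basL.getD i []))) (fld 24 T i)) 24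

theorem IsMat.kap_smul {g : Co0} {R : List (List ℤ)} (hR : IsMat g R) {T : ℕ}
    (h : colsB R T = true) (v : Lam) : H49.kap (g • v) = xorC (fld 24 T) (H49.kap v) 24 := by
  rw [(xl_kap.smul _).eq v]
  exact xorC_congr _ fun i hi => (hR.kap (memL_bas hi)).trans (beq_iff.1 (of_allB h hi))

/-- equality test for lists -/
noncomputable def leqB (a : List ℤ) : List ℤ → Bool :=
  List.rec (fun b => List.rec true (fun _ _ _ => false) b)
    (fun x _ ih b => List.rec false (fun y ys _ => (Int.decEq x y).decide && ih ys) b) a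

theorem eq_of_leqB {a b : List ℤ} (h : leqB a b = true) : a = b := by
  induction a generalizing b with
  | nil => cases b with
    | nil => rfl
    | cons y b => exact absurd h (by simp [leqB])
  | cons x a ih => cases b with
    | nil => exact absurd h (by simp [leqB])
    | cons y b =>
      have e : leqB (x :: a) (y :: b) = ((Int.decEq x y).decide && leqB a b) := rfl
      rw [e, Bool.and_eq_true, decide_eq_true_iff] at h
      rw [h.1, ih h.2]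

/-- the test `R * S = R' * S'` -/
noncomputable def mulB (R S R' S' : List (List ℤ)) : Bool :=
  allB (fun i => leqB (lact R (S.getD i [])) (lact R' (S'.getD i []))) 24

theorem IsMat.length_getD {g : Co0} {R : List (List ℤ)} (hR : IsMat g R) (i : GolayPt) :
    (R.getD (ix i) []).length = 24 :=
  hR.len _ (getD_mem R [] _ (hR.len0 ▸ ix_lt i))

theorem mul_eq_of_mulB {g h g' h' : Co0} {R S R' S' : List (List ℤ)} (hR : IsMat g R)
    (hS : IsMat h S) (hR' : IsMat g' R') (hS' : IsMat h' S') (e : mulB R S R' S' = true) :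
    g * h = g' * h' := by
  apply co_ext_e8
  intro i
  apply Subtype.ext
  rw [mul_smul, mul_smul, hR.smul _ _ (hS.length_getD i) (hS.col i),
    hR'.smul _ _ (hS'.length_getD i) (hS'.col i), eq_of_leqB (of_allB e (ix_lt i))]

end Cfsg.Agent.H49
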