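import Mathlib
import Cfsg.Agent.H43.Cent

set_option autoImplicit false
set_option maxRecDepth 200000
set_option linter.style.longLine false

namespace Cfsg.Agent.H49

open Cfsg.Agent.H43

theorem m24_hn : NOk 24 := by decide

theorem m24_hk : 24 ≤ 2 ^ 5 := by decide

noncomputable def m24_g1 : Net := (Net.cons (nat_lit 1) (nat_lit 0x444450) (Net.cons (nat_lit 2) (nat_lit 0x110100) (Net.cons (nat_lit 4) (nat_lit 2048) (Net.cons (nat_lit 8) (nat_lit 196) (Net.cons (nat_lit 16) (nat_lit 206) (Net.cons (nat_lit 8) (nat_lit 125) (Net.cons (nat_lit 4) (nat_lit 722433) (Net.cons (nat_lit 2) (nat_lit 0x203331) (Net.cons (nat_lit 1) (nat_lit 0x541041) Net.nil)))))))))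

theorem m24_g1_ok : Net.ok 24 m24_g1 = true := by decide +kernel

noncomputable def m24_g2 : Net := (Net.cons (nat_lit 1) (nat_lit 0x415454) (Net.cons (nat_lit 2) (nat_lit 0x203000) (Net.cons (nat_lit 4) (nat_lit 263168) (Net.cons (nat_lit 8) (nat_lit 17) (Net.cons (nat_lit 16) (nat_lit 121) (Net.cons (nat_lit 8) (nat_lit 53) (Net.cons (nat_lit 4) (nat_lit 590598) (Net.cons (nat_lit 2) (nat_lit 0x212200) (Net.cons (nat_lit 1) (nat_lit 0x551114) Net.nil)))))))))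

theorem m24_g2_ok : Net.ok 24 m24_g2 = true := by decide +kernel

noncomputable def m24_O : List Net := [m24_g1, m24_g2]

theorem m24_O_ok : okE 24 m24_O = true := (okE_cons.2 ⟨m24_g1_ok, (okE_cons.2 ⟨m24_g2_ok, (okE_nil 24)⟩)⟩)

noncomputable def m24_V3 : List Net := [m24_g1]

theorem m24_V3_ok : okE 24 m24_V3 = true := (okE_cons.2 ⟨m24_g1_ok, (okE_nil 24)⟩)

noncomputable def m24_g5 : Net := (Net.cons (nat_lit 1) (nat_lit 0x150014) (Net.cons (nat_lit 2) (nat_lit 0x122100) (Net.cons (nat_lit 4) (nat_lit 788480) (Net.cons (nat_lit 8) (nat_lit 209) (Net.cons (nat_lit 16) (nat_lit 209) (Net.cons (nat_lit 8) (nat_lit 221) (Net.cons (nat_lit 4) (nat_lit 2818) (Net.cons (nat_lit 2) (nat_lit 0x310112) (Net.cons (nat_lit 1) (nat_lit 0x451140) Net.nil)))))))))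

theorem m24_g5_ok : Net.ok 24 m24_g5 = true := by decide +kernel

noncomputable def m24_g6 : Net := (Net.cons (nat_lit 1) (nat_lit 262148) (Net.cons (nat_lit 2) (nat_lit 544) (Net.cons (nat_lit 4) (nat_lit 524544) (Net.cons (nat_lit 8) (nat_lit 12) (Net.cons (nat_lit 16) (nat_lit 30) (Net.cons (nat_lit 8) (nat_lit 154) (Net.cons (nat_lit 4) (nat_lit 789770) (Net.cons (nat_lit 2) (nat_lit 69632) (Net.cons (nat_lit 1) (nat_lit 0x141044) Net.nil)))))))))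

theorem m24_g6_ok : Net.ok 24 m24_g6 = true := by decide +kernel

noncomputable def m24_V7 : List Net := [m24_g5, m24_g6]

theorem m24_V7_ok : okE 24 m24_V7 = true := (okE_cons.2 ⟨m24_g5_ok, (okE_cons.2 ⟨m24_g6_ok, (okE_nil 24)⟩)⟩)

noncomputable def m24_g9 : Net := (Net.cons (nat_lit 1) (nat_lit 0x104410) (Net.cons (nat_lit 2) (nat_lit 0x123000) (Net.cons (nat_lit 4) (nat_lit 328960) (Net.cons (nat_lit 8) (nat_lit 3) (Net.cons (nat_lit 16) (nat_lit 99) (Net.cons (nat_lit 8) (nat_lit 123) (Net.cons (nat_lit 4) (nat_lit 525318) (Net.cons (nat_lit 2) (nat_lit 0x222332) (Net.cons (nat_lit 1) (nat_lit 0x115500) Net.nil)))))))))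

theorem m24_g9_ok : Net.ok 24 m24_g9 = true := by decide +kernel

noncomputable def m24_V10 : List Net := [m24_g9]

theorem m24_V10_ok : okE 24 m24_V10 = true := (okE_cons.2 ⟨m24_g9_ok, (okE_nil 24)⟩)

noncomputable def m24_g12 : Net := (Net.cons (nat_lit 1) (nat_lit 0x555444) (Net.cons (nat_lit 2) (nat_lit 12544) (Net.cons (nat_lit 4) (nat_lit 589824) (Net.cons (nat_lit 8) (nat_lit 49) (Net.cons (nat_lit 16) (nat_lit 59) (Net.cons (nat_lit 8) (nat_lit 163) (Net.cons (nat_lit 4) (nat_lit 918282) (Net.cons (nat_lit 2) (nat_lit 0x312032) (Net.cons (nat_lit 1) (nat_lit 0x405450) Net.nil)))))))))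

theorem m24_g12_ok : Net.ok 24 m24_g12 = true := by decide +kernel

noncomputable def m24_g13 : Net := (Net.cons (nat_lit 1) (nat_lit 0x440000) (Net.cons (nat_lit 2) (nat_lit 0x311210) (Net.cons (nat_lit 4) (nat_lit 394240) (Net.cons (nat_lit 8) (nat_lit 129) (Net.cons (nat_lit 16) (nat_lit 189) (Net.cons (nat_lit 8) (nat_lit 7) (Net.cons (nat_lit 4) (nat_lit 265984) (Net.cons (nat_lit 2) (nat_lit 139778) (Net.cons (nat_lit 1) (nat_lit 0x514150) Net.nil)))))))))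

theorem m24_g13_ok : Net.ok 24 m24_g13 = true := by decide +kernel

noncomputable def m24_V14 : List Net := [m24_g12, m24_g13]

theorem m24_V14_ok : okE 24 m24_V14 = true := (okE_cons.2 ⟨m24_g12_ok, (okE_cons.2 ⟨m24_g13_ok, (okE_nil 24)⟩)⟩)

noncomputable def m24_g16 : Net := (Net.cons (nat_lit 1) (nat_lit 0x411410) (Net.cons (nat_lit 2) (nat_lit 256) (Net.cons (nat_lit 4) (nat_lit 591872) (Net.cons (nat_lit 8) (nat_lit 51) (Net.cons (nat_lit 16) (nat_lit 243) (Net.cons (nat_lit 8) (nat_lit 41) (Net.cons (nat_lit 4) (nat_lit 397060) (Net.cons (nat_lit 2) (nat_lit 143648) (Net.cons (nat_lit 1) (nat_lit 267268) Net.nil)))))))))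

theorem m24_g16_ok : Net.ok 24 m24_g16 = true := by decide +kernel

noncomputable def m24_V17 : List Net := [m24_g16]

theorem m24_V17_ok : okE 24 m24_V17 = true := (okE_cons.2 ⟨m24_g16_ok, (okE_nil 24)⟩)

noncomputable def m24_g19 : Net := (Net.cons (nat_lit 1) (nat_lit 332096) (Net.cons (nat_lit 2) (nat_lit 0x111020) (Net.cons (nat_lit 4) (nat_lit 983040) (Net.cons (nat_lit 8) (nat_lit 144) (Net.cons (nat_lit 16) (nat_lit 244) (Net.cons (nat_lit 8) (nat_lit 216) (Net.cons (nat_lit 4) (nat_lit 788748) (Net.cons (nat_lit 2) (nat_lit 0x111030) (Net.cons (nat_lit 1) (nat_lit 0x140040) Net.nil)))))))))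

theorem m24_g19_ok : Net.ok 24 m24_g19 = true := by decide +kernel

noncomputable def m24_g20 : Net := (Net.cons (nat_lit 1) (nat_lit 0x500400) (Net.cons (nat_lit 2) (nat_lit 135168) (Net.cons (nat_lit 4) (nat_lit 131840) (Net.cons (nat_lit 8) (nat_lit 130) (Net.cons (nat_lit 16) (nat_lit 254) (Net.cons (nat_lit 8) (nat_lit 150) (Net.cons (nat_lit 4) (nat_lit 328964) (Net.cons (nat_lit 2) (nat_lit 0x112110) (Net.cons (nat_lit 1) (nat_lit 267264) Net.nil)))))))))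

theorem m24_g20_ok : Net.ok 24 m24_g20 = true := by decide +kernel

noncomputable def m24_V21 : List Net := [m24_g19, m24_g20]

theorem m24_V21_ok : okE 24 m24_V21 = true := (okE_cons.2 ⟨m24_g19_ok, (okE_cons.2 ⟨m24_g20_ok, (okE_nil 24)⟩)⟩)

noncomputable def m24_g23 : Net := (Net.cons (nat_lit 1) (nat_lit 0x100150) (Net.cons (nat_lit 2) (nat_lit 0x131000) (Net.cons (nat_lit 4) (nat_lit 329216) (Net.cons (nat_lit 8) (nat_lit 19) (Net.cons (nat_lit 16) (nat_lit 63) (Net.cons (nat_lit 8) (nat_lit 15) (Net.cons (nat_lit 4) (nat_lit 199680) (Net.cons (nat_lit 2) (nat_lit 0x113020) (Net.cons (nat_lit 1) (nat_lit 344080) Net.nil)))))))))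

theorem m24_g23_ok : Net.ok 24 m24_g23 = true := by decide +kernel

noncomputable def m24_V24 : List Net := [m24_g23]

theorem m24_V24_ok : okE 24 m24_V24 = true := (okE_cons.2 ⟨m24_g23_ok, (okE_nil 24)⟩)

noncomputable def m24_g26 : Net := (Net.cons (nat_lit 1) (nat_lit 1024) (Net.cons (nat_lit 2) (nat_lit 0x330310) (Net.cons (nat_lit 4) (nat_lit 327936) (Net.cons (nat_lit 8) (nat_lit 97) (Net.cons (nat_lit 16) (nat_lit 105) (Net.cons (nat_lit 8) (nat_lit 29) (Net.cons (nat_lit 4) (nat_lit 590080) (Net.cons (nat_lit 2) (nat_lit 0x201210) (Net.cons (nat_lit 1) (nat_lit 0x400440) Net.nil)))))))))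

theorem m24_g26_ok : Net.ok 24 m24_g26 = true := by decide +kernel

noncomputable def m24_g27 : Net := (Net.cons (nat_lit 1) (nat_lit 0x155000) (Net.cons (nat_lit 2) (nat_lit 0x121230) (Net.cons (nat_lit 4) (nat_lit 721152) (Net.cons (nat_lit 8) (nat_lit 112) (Net.cons (nat_lit 16) (nat_lit 248) (Net.cons (nat_lit 8) (nat_lit 192) (Net.cons (nat_lit 4) (nat_lit 852740) (Net.cons (nat_lit 2) (nat_lit 0x331030) (Net.cons (nat_lit 1) (nat_lit 0x454110) Net.nil)))))))))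

theorem m24_g27_ok : Net.ok 24 m24_g27 = true := by decide +kernel

noncomputable def m24_V28 : List Net := [m24_g26, m24_g27]

theorem m24_V28_ok : okE 24 m24_V28 = true := (okE_cons.2 ⟨m24_g26_ok, (okE_cons.2 ⟨m24_g27_ok, (okE_nil 24)⟩)⟩)

noncomputable def m24_g30 : Net := (Net.cons (nat_lit 1) (nat_lit 0x150000) (Net.cons (nat_lit 2) (nat_lit 0x131100) (Net.cons (nat_lit 4) (nat_lit 460288) (Net.cons (nat_lit 8) (nat_lit 74) (Net.cons (nat_lit 16) (nat_lit 94) (Net.cons (nat_lit 8) (nat_lit 106) (Net.cons (nat_lit 4) (nat_lit 786944) (Net.cons (nat_lit 2) (nat_lit 0x131120) (Net.cons (nat_lit 1) (nat_lit 0x150004) Net.nil)))))))))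

theorem m24_g30_ok : Net.ok 24 m24_g30 = true := by decide +kernel

noncomputable def m24_V31 : List Net := [m24_g30]

theorem m24_V31_ok : okE 24 m24_V31 = true := (okE_cons.2 ⟨m24_g30_ok, (okE_nil 24)⟩)

noncomputable def m24_g33 : Net := (Net.cons (nat_lit 1) (nat_lit 0x550140) (Net.cons (nat_lit 2) (nat_lit 0x133110) (Net.cons (nat_lit 4) (nat_lit 723200) (Net.cons (nat_lit 8) (nat_lit 11) (Net.cons (nat_lit 16) (nat_lit 223) (Net.cons (nat_lit 8) (nat_lit 11) (Net.cons (nat_lit 4) (nat_lit 724224) (Net.cons (nat_lit 2) (nat_lit 0x133110) (Net.cons (nat_lit 1) (nat_lit 0x550140) Net.nil)))))))))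

theorem m24_g33_ok : Net.ok 24 m24_g33 = true := by decide +kernel

noncomputable def m24_g34 : Net := (Net.cons (nat_lit 1) (nat_lit 0x550000) (Net.cons (nat_lit 2) (nat_lit 0x210110) (Net.cons (nat_lit 4) (nat_lit 526080) (Net.cons (nat_lit 8) (nat_lit 65) (Net.cons (nat_lit 16) (nat_lit 245) (Net.cons (nat_lit 8) (nat_lit 37) (Net.cons (nat_lit 4) (nat_lit 721672) (Net.cons (nat_lit 2) (nat_lit 0x121130) (Net.cons (nat_lit 1) (nat_lit 0x450140) Net.nil)))))))))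

theorem m24_g34_ok : Net.ok 24 m24_g34 = true := by decide +kernel

noncomputable def m24_g35 : Net := (Net.cons (nat_lit 1) (nat_lit 0x500040) (Net.cons (nat_lit 2) (nat_lit 65824) (Net.cons (nat_lit 4) (nat_lit 722176) (Net.cons (nat_lit 8) (nat_lit 37) (Net.cons (nat_lit 16) (nat_lit 61) (Net.cons (nat_lit 8) (nat_lit 101) (Net.cons (nat_lit 4) (nat_lit 460556) (Net.cons (nat_lit 2) (nat_lit 65824) (Net.cons (nat_lit 1) (nat_lit 0x440050) Net.nil)))))))))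

theorem m24_g35_ok : Net.ok 24 m24_g35 = true := by decide +kernel

noncomputable def m24_V36 : List Net := [m24_g33, m24_g34, m24_g35]

theorem m24_V36_ok : okE 24 m24_V36 = true := (okE_cons.2 ⟨m24_g33_ok, (okE_cons.2 ⟨m24_g34_ok, (okE_cons.2 ⟨m24_g35_ok, (okE_nil 24)⟩)⟩)⟩)

noncomputable def m24_g38 : Net := (Net.cons (nat_lit 1) (nat_lit 0x440140) (Net.cons (nat_lit 2) (nat_lit 0x101120) (Net.cons (nat_lit 4) (nat_lit 197376) (Net.cons (nat_lit 8) (nat_lit 37) (Net.cons (nat_lit 16) (nat_lit 125) (Net.cons (nat_lit 8) (nat_lit 65) (Net.cons (nat_lit 4) (nat_lit 1800) (Net.cons (nat_lit 2) (nat_lit 0x310130) (Net.cons (nat_lit 1) (nat_lit 0x550040) Net.nil)))))))))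

theorem m24_g38_ok : Net.ok 24 m24_g38 = true := by decide +kernel

noncomputable def m24_V39 : List Net := [m24_g38]

theorem m24_V39_ok : okE 24 m24_V39 = true := (okE_cons.2 ⟨m24_g38_ok, (okE_nil 24)⟩)

noncomputable def m24_g41 : Net := (Net.cons (nat_lit 1) (nat_lit 0x150000) (Net.cons (nat_lit 2) (nat_lit 0x131200) (Net.cons (nat_lit 4) (nat_lit 2048) (Net.cons (nat_lit 8) (nat_lit 97) (Net.cons (nat_lit 16) (nat_lit 117) (Net.cons (nat_lit 8) (nat_lit 177) (Net.cons (nat_lit 4) (nat_lit 854276) (Net.cons (nat_lit 2) (nat_lit 0x120210) (Net.cons (nat_lit 1) (nat_lit 0x150000) Net.nil)))))))))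

theorem m24_g41_ok : Net.ok 24 m24_g41 = true := by decide +kernel

noncomputable def m24_g42 : Net := (Net.cons (nat_lit 1) (nat_lit 16640) (Net.cons (nat_lit 2) (nat_lit 256) (Net.cons (nat_lit 4) (nat_lit 263424) (Net.cons (nat_lit 8) (nat_lit 35) (Net.cons (nat_lit 16) (nat_lit 55) (Net.cons (nat_lit 8) (nat_lit 227) (Net.cons (nat_lit 4) (nat_lit 919296) (Net.cons (nat_lit 2) (nat_lit 256) (Net.cons (nat_lit 1) (nat_lit 16640) Net.nil)))))))))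

theorem m24_g42_ok : Net.ok 24 m24_g42 = true := by decide +kernel

noncomputable def m24_g43 : Net := (Net.cons (nat_lit 1) (nat_lit 0x504000) (Net.cons (nat_lit 2) (nat_lit 8192) (Net.cons (nat_lit 4) (nat_lit 262144) (Net.cons (nat_lit 8) (nat_lit 34) (Net.cons (nat_lit 16) (nat_lit 38) (Net.cons (nat_lit 8) (nat_lit 162) (Net.cons (nat_lit 4) (nat_lit 983808) (Net.cons (nat_lit 2) (nat_lit 8208) (Net.cons (nat_lit 1) (nat_lit 0x504000) Net.nil)))))))))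

theorem m24_g43_ok : Net.ok 24 m24_g43 = true := by decide +kernel

noncomputable def m24_g44 : Net := (Net.cons (nat_lit 1) (nat_lit 0x441150) (Net.cons (nat_lit 2) (nat_lit 0x213100) (Net.cons (nat_lit 4) (nat_lit 328192) (Net.cons (nat_lit 8) (nat_lit 20) (Net.cons (nat_lit 16) (nat_lit 84) (Net.cons (nat_lit 8) (nat_lit 240) (Net.cons (nat_lit 4) (nat_lit 198148) (Net.cons (nat_lit 2) (nat_lit 0x213100) (Net.cons (nat_lit 1) (nat_lit 0x541150) Net.nil)))))))))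

theorem m24_g44_ok : Net.ok 24 m24_g44 = true := by decide +kernel

noncomputable def m24_V45 : List Net := [m24_g41, m24_g42, m24_g43, m24_g44]

theorem m24_V45_ok : okE 24 m24_V45 = true := (okE_cons.2 ⟨m24_g41_ok, (okE_cons.2 ⟨m24_g42_ok, (okE_cons.2 ⟨m24_g43_ok, (okE_cons.2 ⟨m24_g44_ok, (okE_nil 24)⟩)⟩)⟩)⟩)

noncomputable def m24_g47 : Net := (Net.cons (nat_lit 1) (nat_lit 65600) (Net.cons (nat_lit 2) (nat_lit 0x213100) (Net.cons (nat_lit 4) (nat_lit 394240) (Net.cons (nat_lit 8) (nat_lit 82) (Net.cons (nat_lit 16) (nat_lit 82) (Net.cons (nat_lit 8) (nat_lit 214) (Net.cons (nat_lit 4) (nat_lit 525312) (Net.cons (nat_lit 2) (nat_lit 0x213110) (Net.cons (nat_lit 1) (nat_lit 0x400140) Net.nil)))))))))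

theorem m24_g47_ok : Net.ok 24 m24_g47 = true := by decide +kernel

noncomputable def m24_V48 : List Net := [m24_g43, m24_g41, m24_g44, m24_g47]

theorem m24_V48_ok : okE 24 m24_V48 = true := (okE_cons.2 ⟨m24_g43_ok, (okE_cons.2 ⟨m24_g41_ok, (okE_cons.2 ⟨m24_g44_ok, (okE_cons.2 ⟨m24_g47_ok, (okE_nil 24)⟩)⟩)⟩)⟩)

noncomputable def m24_E7 : List Net := []

theorem m24_E7_ok : okE 24 m24_E7 = true := (okE_nil 24)

noncomputable def m24_G6 : List Net := [m24_g43, m24_g41, m24_g44, m24_g47]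

theorem m24_G6_ok : okE 24 m24_G6 = true := (okE_cons.2 ⟨m24_g43_ok, (okE_cons.2 ⟨m24_g41_ok, (okE_cons.2 ⟨m24_g44_ok, (okE_cons.2 ⟨m24_g47_ok, (okE_nil 24)⟩)⟩)⟩)⟩)

noncomputable def m24_E6 : List Net := [m24_g43, m24_g41, m24_g44, m24_g47, m24_g42]

theorem m24_E6_ok : okE 24 m24_E6 = true := (okE_cons.2 ⟨m24_g43_ok, (okE_cons.2 ⟨m24_g41_ok, (okE_cons.2 ⟨m24_g44_ok, (okE_cons.2 ⟨m24_g47_ok, (okE_cons.2 ⟨m24_g42_ok, (okE_nil 24)⟩)⟩)⟩)⟩)⟩)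

noncomputable def m24_G5 : List Net := [m24_g38, m24_g43, m24_g41, m24_g44, m24_g47, m24_g42]

theorem m24_G5_ok : okE 24 m24_G5 = true := (okE_cons.2 ⟨m24_g38_ok, (okE_cons.2 ⟨m24_g43_ok, (okE_cons.2 ⟨m24_g41_ok, (okE_cons.2 ⟨m24_g44_ok, (okE_cons.2 ⟨m24_g47_ok, (okE_cons.2 ⟨m24_g42_ok, (okE_nil 24)⟩)⟩)⟩)⟩)⟩)⟩)

noncomputable def m24_E5 : List Net := [m24_g38, m24_g33, m24_g34, m24_g35, m24_g43, m24_g41, m24_g44, m24_g47, m24_g42]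

theorem m24_E5_ok : okE 24 m24_E5 = true := (okE_cons.2 ⟨m24_g38_ok, (okE_cons.2 ⟨m24_g33_ok, (okE_cons.2 ⟨m24_g34_ok, (okE_cons.2 ⟨m24_g35_ok, (okE_cons.2 ⟨m24_g43_ok, (okE_cons.2 ⟨m24_g41_ok, (okE_cons.2 ⟨m24_g44_ok, (okE_cons.2 ⟨m24_g47_ok, (okE_cons.2 ⟨m24_g42_ok, (okE_nil 24)⟩)⟩)⟩)⟩)⟩)⟩)⟩)⟩)⟩)

noncomputable def m24_G4 : List Net := [m24_g30, m24_g38, m24_g33, m24_g34, m24_g35, m24_g43, m24_g41, m24_g44, m24_g47, m24_g42]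

theorem m24_G4_ok : okE 24 m24_G4 = true := (okE_cons.2 ⟨m24_g30_ok, (okE_cons.2 ⟨m24_g38_ok, (okE_cons.2 ⟨m24_g33_ok, (okE_cons.2 ⟨m24_g34_ok, (okE_cons.2 ⟨m24_g35_ok, (okE_cons.2 ⟨m24_g43_ok, (okE_cons.2 ⟨m24_g41_ok, (okE_cons.2 ⟨m24_g44_ok, (okE_cons.2 ⟨m24_g47_ok, (okE_cons.2 ⟨m24_g42_ok, (okE_nil 24)⟩)⟩)⟩)⟩)⟩)⟩)⟩)⟩)⟩)⟩)

noncomputable def m24_E4 : List Net := [m24_g30, m24_g26, m24_g27, m24_g38, m24_g33, m24_g34, m24_g35, m24_g43, m24_g41, m24_g44, m24_g47, m24_g42]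

theorem m24_E4_ok : okE 24 m24_E4 = true := (okE_cons.2 ⟨m24_g30_ok, (okE_cons.2 ⟨m24_g26_ok, (okE_cons.2 ⟨m24_g27_ok, (okE_cons.2 ⟨m24_g38_ok, (okE_cons.2 ⟨m24_g33_ok, (okE_cons.2 ⟨m24_g34_ok, (okE_cons.2 ⟨m24_g35_ok, (okE_cons.2 ⟨m24_g43_ok, (okE_cons.2 ⟨m24_g41_ok, (okE_cons.2 ⟨m24_g44_ok, (okE_cons.2 ⟨m24_g47_ok, (okE_cons.2 ⟨m24_g42_ok, (okE_nil 24)⟩)⟩)⟩)⟩)⟩)⟩)⟩)⟩)⟩)⟩)⟩)⟩)

noncomputable def m24_G3 : List Net := [m24_g23, m24_g30, m24_g26, m24_g27, m24_g38, m24_g33, m24_g34, m24_g35, m24_g43, m24_g41, m24_g44, m24_g47, m24_g42]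

theorem m24_G3_ok : okE 24 m24_G3 = true := (okE_cons.2 ⟨m24_g23_ok, (okE_cons.2 ⟨m24_g30_ok, (okE_cons.2 ⟨m24_g26_ok, (okE_cons.2 ⟨m24_g27_ok, (okE_cons.2 ⟨m24_g38_ok, (okE_cons.2 ⟨m24_g33_ok, (okE_cons.2 ⟨m24_g34_ok, (okE_cons.2 ⟨m24_g35_ok, (okE_cons.2 ⟨m24_g43_ok, (okE_cons.2 ⟨m24_g41_ok, (okE_cons.2 ⟨m24_g44_ok, (okE_cons.2 ⟨m24_g47_ok, (okE_cons.2 ⟨m24_g42_ok, (okE_nil 24)⟩)⟩)⟩)⟩)⟩)⟩)⟩)⟩)⟩)⟩)⟩)⟩)⟩)

noncomputable def m24_E3 : List Net := [m24_g23, m24_g19, m24_g20, m24_g30, m24_g26, m24_g27, m24_g38, m24_g33, m24_g34, m24_g35, m24_g43, m24_g41, m24_g44, m24_g47, m24_g42]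

theorem m24_E3_ok : okE 24 m24_E3 = true := (okE_cons.2 ⟨m24_g23_ok, (okE_cons.2 ⟨m24_g19_ok, (okE_cons.2 ⟨m24_g20_ok, (okE_cons.2 ⟨m24_g30_ok, (okE_cons.2 ⟨m24_g26_ok, (okE_cons.2 ⟨m24_g27_ok, (okE_cons.2 ⟨m24_g38_ok, (okE_cons.2 ⟨m24_g33_ok, (okE_cons.2 ⟨m24_g34_ok, (okE_cons.2 ⟨m24_g35_ok, (okE_cons.2 ⟨m24_g43_ok, (okE_cons.2 ⟨m24_g41_ok, (okE_cons.2 ⟨m24_g44_ok, (okE_cons.2 ⟨m24_g47_ok, (okE_cons.2 ⟨m24_g42_ok, (okE_nil 24)⟩)⟩)⟩)⟩)⟩)⟩)⟩)⟩)⟩)⟩)⟩)⟩)⟩)⟩)⟩)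

noncomputable def m24_G2 : List Net := [m24_g16, m24_g23, m24_g19, m24_g20, m24_g30, m24_g26, m24_g27, m24_g38, m24_g33, m24_g34, m24_g35, m24_g43, m24_g41, m24_g44, m24_g47, m24_g42]

theorem m24_G2_ok : okE 24 m24_G2 = true := (okE_cons.2 ⟨m24_g16_ok, (okE_cons.2 ⟨m24_g23_ok, (okE_cons.2 ⟨m24_g19_ok, (okE_cons.2 ⟨m24_g20_ok, (okE_cons.2 ⟨m24_g30_ok, (okE_cons.2 ⟨m24_g26_ok, (okE_cons.2 ⟨m24_g27_ok, (okE_cons.2 ⟨m24_g38_ok, (okE_cons.2 ⟨m24_g33_ok, (okE_cons.2 ⟨m24_g34_ok, (okE_cons.2 ⟨m24_g35_ok, (okE_cons.2 ⟨m24_g43_ok, (okE_cons.2 ⟨m24_g41_ok, (okE_cons.2 ⟨m24_g44_ok, (okE_cons.2 ⟨m24_g47_ok, (okE_cons.2 ⟨m24_g42_ok, (okE_nil 24)⟩)⟩)⟩)⟩)⟩)⟩)⟩)⟩)⟩)⟩)⟩)⟩)⟩)⟩)⟩)⟩)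

noncomputable def m24_E2 : List Net := [m24_g16, m24_g12, m24_g13, m24_g23, m24_g19, m24_g20, m24_g30, m24_g26, m24_g27, m24_g38, m24_g33, m24_g34, m24_g35, m24_g43, m24_g41, m24_g44, m24_g47, m24_g42]

theorem m24_E2_ok : okE 24 m24_E2 = true := (okE_cons.2 ⟨m24_g16_ok, (okE_cons.2 ⟨m24_g12_ok, (okE_cons.2 ⟨m24_g13_ok, (okE_cons.2 ⟨m24_g23_ok, (okE_cons.2 ⟨m24_g19_ok, (okE_cons.2 ⟨m24_g20_ok, (okE_cons.2 ⟨m24_g30_ok, (okE_cons.2 ⟨m24_g26_ok, (okE_cons.2 ⟨m24_g27_ok, (okE_cons.2 ⟨m24_g38_ok, (okE_cons.2 ⟨m24_g33_ok, (okE_cons.2 ⟨m24_g34_ok, (okE_cons.2 ⟨m24_g35_ok, (okE_cons.2 ⟨m24_g43_ok, (okE_cons.2 ⟨m24_g41_ok, (okE_cons.2 ⟨m24_g44_ok, (okE_cons.2 ⟨m24_g47_ok, (okE_cons.2 ⟨m24_g42_ok, (okE_nil 24)⟩)⟩)⟩)⟩)⟩)⟩)⟩)⟩)⟩)⟩)⟩)⟩)⟩)⟩)⟩)⟩)⟩)⟩)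

noncomputable def m24_G1 : List Net := [m24_g9, m24_g16, m24_g12, m24_g13, m24_g23, m24_g19, m24_g20, m24_g30, m24_g26, m24_g27, m24_g38, m24_g33, m24_g34, m24_g35, m24_g43, m24_g41, m24_g44, m24_g47, m24_g42]

theorem m24_G1_ok : okE 24 m24_G1 = true := (okE_cons.2 ⟨m24_g9_ok, (okE_cons.2 ⟨m24_g16_ok, (okE_cons.2 ⟨m24_g12_ok, (okE_cons.2 ⟨m24_g13_ok, (okE_cons.2 ⟨m24_g23_ok, (okE_cons.2 ⟨m24_g19_ok, (okE_cons.2 ⟨m24_g20_ok, (okE_cons.2 ⟨m24_g30_ok, (okE_cons.2 ⟨m24_g26_ok, (okE_cons.2 ⟨m24_g27_ok, (okE_cons.2 ⟨m24_g38_ok, (okE_cons.2 ⟨m24_g33_ok, (okE_cons.2 ⟨m24_g34_ok, (okE_cons.2 ⟨m24_g35_ok, (okE_cons.2 ⟨m24_g43_ok, (okE_cons.2 ⟨m24_g41_ok, (okE_cons.2 ⟨m24_g44_ok, (okE_cons.2 ⟨m24_g47_ok, (okE_cons.2 ⟨m24_g42_ok, (okE_nil 24)⟩)⟩)⟩)⟩)⟩)⟩)⟩)⟩)⟩)⟩)⟩)⟩)⟩)⟩)⟩)⟩)⟩)⟩)⟩)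

noncomputable def m24_E1 : List Net := [m24_g9, m24_g5, m24_g6, m24_g16, m24_g12, m24_g13, m24_g23, m24_g19, m24_g20, m24_g30, m24_g26, m24_g27, m24_g38, m24_g33, m24_g34, m24_g35, m24_g43, m24_g41, m24_g44, m24_g47, m24_g42]

theorem m24_E1_ok : okE 24 m24_E1 = true := (okE_cons.2 ⟨m24_g9_ok, (okE_cons.2 ⟨m24_g5_ok, (okE_cons.2 ⟨m24_g6_ok, (okE_cons.2 ⟨m24_g16_ok, (okE_cons.2 ⟨m24_g12_ok, (okE_cons.2 ⟨m24_g13_ok, (okE_cons.2 ⟨m24_g23_ok, (okE_cons.2 ⟨m24_g19_ok, (okE_cons.2 ⟨m24_g20_ok, (okE_cons.2 ⟨m24_g30_ok, (okE_cons.2 ⟨m24_g26_ok, (okE_cons.2 ⟨m24_g27_ok, (okE_cons.2 ⟨m24_g38_ok, (okE_cons.2 ⟨m24_g33_ok, (okE_cons.2 ⟨m24_g34_ok, (okE_cons.2 ⟨m24_g35_ok, (okE_cons.2 ⟨m24_g43_ok, (okE_cons.2 ⟨m24_g41_ok, (okE_cons.2 ⟨m24_g44_ok, (okE_cons.2 ⟨m24_g47_ok, (okE_cons.2 ⟨m24_g42_ok, (okE_nil 24)⟩)⟩)⟩)⟩)⟩)⟩)⟩)⟩)⟩)⟩)⟩)⟩)⟩)⟩)⟩)⟩)⟩)⟩)⟩)⟩)⟩)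

noncomputable def m24_G0 : List Net := [m24_g1, m24_g9, m24_g5, m24_g6, m24_g16, m24_g12, m24_g13, m24_g23, m24_g19, m24_g20, m24_g30, m24_g26, m24_g27, m24_g38, m24_g33, m24_g34, m24_g35, m24_g43, m24_g41, m24_g44, m24_g47, m24_g42]

theorem m24_G0_ok : okE 24 m24_G0 = true := (okE_cons.2 ⟨m24_g1_ok, (okE_cons.2 ⟨m24_g9_ok, (okE_cons.2 ⟨m24_g5_ok, (okE_cons.2 ⟨m24_g6_ok, (okE_cons.2 ⟨m24_g16_ok, (okE_cons.2 ⟨m24_g12_ok, (okE_cons.2 ⟨m24_g13_ok, (okE_cons.2 ⟨m24_g23_ok, (okE_cons.2 ⟨m24_g19_ok, (okE_cons.2 ⟨m24_g20_ok, (okE_cons.2 ⟨m24_g30_ok, (okE_cons.2 ⟨m24_g26_ok, (okE_cons.2 ⟨m24_g27_ok, (okE_cons.2 ⟨m24_g38_ok, (okE_cons.2 ⟨m24_g33_ok, (okE_cons.2 ⟨m24_g34_ok, (okE_cons.2 ⟨m24_g35_ok, (okE_cons.2 ⟨m24_g43_ok, (okE_cons.2 ⟨m24_g41_ok, (okE_cons.2 ⟨m24_g44_ok, (okE_cons.2 ⟨m24_g47_ok, (okE_cons.2 ⟨m24_g42_ok, (okE_nil 24)⟩)⟩)⟩)⟩)⟩)⟩)⟩)⟩)⟩)⟩)⟩)⟩)⟩)⟩)⟩)⟩)⟩)⟩)⟩)⟩)⟩)⟩)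

noncomputable def m24_E0 : List Net := [m24_g1, m24_g2, m24_g9, m24_g5, m24_g6, m24_g16, m24_g12, m24_g13, m24_g23, m24_g19, m24_g20, m24_g30, m24_g26, m24_g27, m24_g38, m24_g33, m24_g34, m24_g35, m24_g43, m24_g41, m24_g44, m24_g47, m24_g42]

theorem m24_E0_ok : okE 24 m24_E0 = true := (okE_cons.2 ⟨m24_g1_ok, (okE_cons.2 ⟨m24_g2_ok, (okE_cons.2 ⟨m24_g9_ok, (okE_cons.2 ⟨m24_g5_ok, (okE_cons.2 ⟨m24_g6_ok, (okE_cons.2 ⟨m24_g16_ok, (okE_cons.2 ⟨m24_g12_ok, (okE_cons.2 ⟨m24_g13_ok, (okE_cons.2 ⟨m24_g23_ok, (okE_cons.2 ⟨m24_g19_ok, (okE_cons.2 ⟨m24_g20_ok, (okE_cons.2 ⟨m24_g30_ok, (okE_cons.2 ⟨m24_g26_ok, (okE_cons.2 ⟨m24_g27_ok, (okE_cons.2 ⟨m24_g38_ok, (okE_cons.2 ⟨m24_g33_ok, (okE_cons.2 ⟨m24_g34_ok, (okE_cons.2 ⟨m24_g35_ok, (okE_cons.2 ⟨m24_g43_ok, (okE_cons.2 ⟨m24_g41_ok, (okE_cons.2 ⟨m24_g44_ok, (okE_cons.2 ⟨m24_g47_ok, (okE_cons.2 ⟨m24_g42_ok,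 (okE_nil 24)⟩)⟩)⟩)⟩)⟩)⟩)⟩)⟩)⟩)⟩)⟩)⟩)⟩)⟩)⟩)⟩)⟩)⟩)⟩)⟩)⟩)⟩)⟩)

noncomputable def m24_g66 : Net := (Net.cons (nat_lit 1) (nat_lit 0x541040) (Net.cons (nat_lit 2) (nat_lit 0x232000) (Net.cons (nat_lit 4) (nat_lit 658432) (Net.cons (nat_lit 8) (nat_lit 164) (Net.cons (nat_lit 16) (nat_lit 236) (Net.cons (nat_lit 8) (nat_lit 241) (Net.cons (nat_lit 4) (nat_lit 919556) (Net.cons (nat_lit 2) (nat_lit 0x232000) (Net.cons (nat_lit 1) (nat_lit 0x541040) Net.nil)))))))))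

theorem m24_g66_ok : Net.ok 24 m24_g66 = true := by decide +kernel

noncomputable def m24_g67 : Net := (Net.cons (nat_lit 1) (nat_lit 328720) (Net.cons (nat_lit 2) (nat_lit 0x310130) (Net.cons (nat_lit 4) (nat_lit 986624) (Net.cons (nat_lit 8) (nat_lit 225) (Net.cons (nat_lit 16) (nat_lit 241) (Net.cons (nat_lit 8) (nat_lit 152) (Net.cons (nat_lit 4) (nat_lit 855558) (Net.cons (nat_lit 2) (nat_lit 0x230120) (Net.cons (nat_lit 1) (nat_lit 0x454555) Net.nil)))))))))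

theorem m24_g67_ok : Net.ok 24 m24_g67 = true := by decide +kernel

noncomputable def m24_g68 : Net := (Net.cons (nat_lit 1) (nat_lit 0x415500) (Net.cons (nat_lit 2) (nat_lit 0x220130) (Net.cons (nat_lit 4) (nat_lit 786688) (Net.cons (nat_lit 8) (nat_lit 205) (Net.cons (nat_lit 16) (nat_lit 205) (Net.cons (nat_lit 8) (nat_lit 209) (Net.cons (nat_lit 4) (nat_lit 395522) (Net.cons (nat_lit 2) (nat_lit 0x320022) (Net.cons (nat_lit 1) (nat_lit 0x505544) Net.nil)))))))))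

theorem m24_g68_ok : Net.ok 24 m24_g68 = true := by decide +kernel

noncomputable def m24_g69 : Net := (Net.cons (nat_lit 1) (nat_lit 0x110100) (Net.cons (nat_lit 2) (nat_lit 0x120100) (Net.cons (nat_lit 4) (nat_lit 199680) (Net.cons (nat_lit 8) (nat_lit 180) (Net.cons (nat_lit 16) (nat_lit 244) (Net.cons (nat_lit 8) (nat_lit 204) (Net.cons (nat_lit 4) (nat_lit 658442) (Net.cons (nat_lit 2) (nat_lit 0x231130) (Net.cons (nat_lit 1) (nat_lit 0x155150) Net.nil)))))))))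

theorem m24_g69_ok : Net.ok 24 m24_g69 = true := by decide +kernel

noncomputable def m24_g70 : Net := (Net.cons (nat_lit 1) (nat_lit 0x545040) (Net.cons (nat_lit 2) (nat_lit 0x110000) (Net.cons (nat_lit 4) (nat_lit 264192) (Net.cons (nat_lit 8) (nat_lit 72) (Net.cons (nat_lit 16) (nat_lit 216) (Net.cons (nat_lit 8) (nat_lit 58) (Net.cons (nat_lit 4) (nat_lit 67584) (Net.cons (nat_lit 2) (nat_lit 4112) (Net.cons (nat_lit 1) (nat_lit 0x545040) Net.nil)))))))))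

theorem m24_g70_ok : Net.ok 24 m24_g70 = true := by decide +kernel

noncomputable def m24_g71 : Net := (Net.cons (nat_lit 1) (nat_lit 0x451000) (Net.cons (nat_lit 2) (nat_lit 139776) (Net.cons (nat_lit 4) (nat_lit 918528) (Net.cons (nat_lit 8) (nat_lit 36) (Net.cons (nat_lit 16) (nat_lit 228) (Net.cons (nat_lit 8) (nat_lit 52) (Net.cons (nat_lit 4) (nat_lit 920578) (Net.cons (nat_lit 2) (nat_lit 0x222200) (Net.cons (nat_lit 1) (nat_lit 0x451000) Net.nil)))))))))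

theorem m24_g71_ok : Net.ok 24 m24_g71 = true := by decide +kernel

noncomputable def m24_g72 : Net := (Net.cons (nat_lit 1) (nat_lit 0x411040) (Net.cons (nat_lit 2) (nat_lit 0x320200) (Net.cons (nat_lit 4) (nat_lit 262144) (Net.cons (nat_lit 8) (nat_lit 168) (Net.cons (nat_lit 16) (nat_lit 250) (Net.cons (nat_lit 8) (nat_lit 168) (Net.cons (nat_lit 4) (nat_lit 788480) (Net.cons (nat_lit 2) (nat_lit 0x321220) (Net.cons (nat_lit 1) (nat_lit 0x411040) Net.nil)))))))))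

theorem m24_g72_ok : Net.ok 24 m24_g72 = true := by decide +kernel

noncomputable def m24t_c1_K : List Net := [m24_g67, m24_g68, m24_g69, m24_g70, m24_g71, m24_g72]

theorem m24t_c1_K_ok : okE 24 m24t_c1_K = true := (okE_cons.2 ⟨m24_g67_ok, (okE_cons.2 ⟨m24_g68_ok, (okE_cons.2 ⟨m24_g69_ok, (okE_cons.2 ⟨m24_g70_ok, (okE_cons.2 ⟨m24_g71_ok, (okE_cons.2 ⟨m24_g72_ok, (okE_nil 24)⟩)⟩)⟩)⟩)⟩)⟩)

noncomputable def m24_V74 : List Net := [m24_g9, m24_g5, m24_g6, m24_g16, m24_g12, m24_g13, m24_g23, m24_g19, m24_g20, m24_g30, m24_g26, m24_g27, m24_g38, m24_g33, m24_g34, m24_g35, m24_g43, m24_g41, m24_g44, m24_g47, m24_g42]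

theorem m24_V74_ok : okE 24 m24_V74 = true := (okE_cons.2 ⟨m24_g9_ok, (okE_cons.2 ⟨m24_g5_ok, (okE_cons.2 ⟨m24_g6_ok, (okE_cons.2 ⟨m24_g16_ok, (okE_cons.2 ⟨m24_g12_ok, (okE_cons.2 ⟨m24_g13_ok, (okE_cons.2 ⟨m24_g23_ok, (okE_cons.2 ⟨m24_g19_ok, (okE_cons.2 ⟨m24_g20_ok, (okE_cons.2 ⟨m24_g30_ok, (okE_cons.2 ⟨m24_g26_ok, (okE_cons.2 ⟨m24_g27_ok, (okE_cons.2 ⟨m24_g38_ok, (okE_cons.2 ⟨m24_g33_ok, (okE_cons.2 ⟨m24_g34_ok, (okE_cons.2 ⟨m24_g35_ok, (okE_cons.2 ⟨m24_g43_ok, (okE_cons.2 ⟨m24_g41_ok, (okE_cons.2 ⟨m24_g44_ok, (okE_cons.2 ⟨m24_g47_ok, (okE_cons.2 ⟨m24_g42_ok, (okE_nil 24)⟩)⟩)⟩)⟩)⟩)⟩)⟩)⟩)⟩)⟩)⟩)⟩)⟩)⟩)⟩)⟩)⟩)⟩)⟩)⟩)⟩)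

noncomputable def m24_V75 : List Net := [m24_g16, m24_g12, m24_g13, m24_g23, m24_g19, m24_g20, m24_g30, m24_g26, m24_g27, m24_g38, m24_g33, m24_g34, m24_g35, m24_g43, m24_g41, m24_g44, m24_g47, m24_g42]

theorem m24_V75_ok : okE 24 m24_V75 = true := (okE_cons.2 ⟨m24_g16_ok, (okE_cons.2 ⟨m24_g12_ok, (okE_cons.2 ⟨m24_g13_ok, (okE_cons.2 ⟨m24_g23_ok, (okE_cons.2 ⟨m24_g19_ok, (okE_cons.2 ⟨m24_g20_ok, (okE_cons.2 ⟨m24_g30_ok, (okE_cons.2 ⟨m24_g26_ok, (okE_cons.2 ⟨m24_g27_ok, (okE_cons.2 ⟨m24_g38_ok, (okE_cons.2 ⟨m24_g33_ok, (okE_cons.2 ⟨m24_g34_ok, (okE_cons.2 ⟨m24_g35_ok, (okE_cons.2 ⟨m24_g43_ok, (okE_cons.2 ⟨m24_g41_ok, (okE_cons.2 ⟨m24_g44_ok, (okE_cons.2 ⟨m24_g47_ok, (okE_cons.2 ⟨m24_g42_ok, (okE_nil 24)⟩)⟩)⟩)⟩)⟩)⟩)⟩)⟩)⟩)⟩)⟩)⟩)⟩)⟩)⟩)⟩)⟩)⟩)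

noncomputable def m24_V76 : List Net := [m24_g23, m24_g19, m24_g20, m24_g30, m24_g26, m24_g27, m24_g38, m24_g33, m24_g34, m24_g35, m24_g43, m24_g41, m24_g44, m24_g47, m24_g42]

theorem m24_V76_ok : okE 24 m24_V76 = true := (okE_cons.2 ⟨m24_g23_ok, (okE_cons.2 ⟨m24_g19_ok, (okE_cons.2 ⟨m24_g20_ok, (okE_cons.2 ⟨m24_g30_ok, (okE_cons.2 ⟨m24_g26_ok, (okE_cons.2 ⟨m24_g27_ok, (okE_cons.2 ⟨m24_g38_ok, (okE_cons.2 ⟨m24_g33_ok, (okE_cons.2 ⟨m24_g34_ok, (okE_cons.2 ⟨m24_g35_ok, (okE_cons.2 ⟨m24_g43_ok, (okE_cons.2 ⟨m24_g41_ok, (okE_cons.2 ⟨m24_g44_ok, (okE_cons.2 ⟨m24_g47_ok, (okE_cons.2 ⟨m24_g42_ok, (okE_nil 24)⟩)⟩)⟩)⟩)⟩)⟩)⟩)⟩)⟩)⟩)⟩)⟩)⟩)⟩)⟩)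

noncomputable def m24_V77 : List Net := [m24_g30, m24_g26, m24_g27, m24_g38, m24_g33, m24_g34, m24_g35, m24_g43, m24_g41, m24_g44, m24_g47, m24_g42]

theorem m24_V77_ok : okE 24 m24_V77 = true := (okE_cons.2 ⟨m24_g30_ok, (okE_cons.2 ⟨m24_g26_ok, (okE_cons.2 ⟨m24_g27_ok, (okE_cons.2 ⟨m24_g38_ok, (okE_cons.2 ⟨m24_g33_ok, (okE_cons.2 ⟨m24_g34_ok, (okE_cons.2 ⟨m24_g35_ok, (okE_cons.2 ⟨m24_g43_ok, (okE_cons.2 ⟨m24_g41_ok, (okE_cons.2 ⟨m24_g44_ok, (okE_cons.2 ⟨m24_g47_ok, (okE_cons.2 ⟨m24_g42_ok, (okE_nil 24)⟩)⟩)⟩)⟩)⟩)⟩)⟩)⟩)⟩)⟩)⟩)⟩)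

noncomputable def m24_V78 : List Net := [m24_g38, m24_g33, m24_g34, m24_g35, m24_g43, m24_g41, m24_g44, m24_g47, m24_g42]

theorem m24_V78_ok : okE 24 m24_V78 = true := (okE_cons.2 ⟨m24_g38_ok, (okE_cons.2 ⟨m24_g33_ok, (okE_cons.2 ⟨m24_g34_ok, (okE_cons.2 ⟨m24_g35_ok, (okE_cons.2 ⟨m24_g43_ok, (okE_cons.2 ⟨m24_g41_ok, (okE_cons.2 ⟨m24_g44_ok, (okE_cons.2 ⟨m24_g47_ok, (okE_cons.2 ⟨m24_g42_ok, (okE_nil 24)⟩)⟩)⟩)⟩)⟩)⟩)⟩)⟩)⟩)

noncomputable def m24_V79 : List Net := [m24_g43, m24_g41, m24_g44, m24_g47, m24_g42]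

theorem m24_V79_ok : okE 24 m24_V79 = true := (okE_cons.2 ⟨m24_g43_ok, (okE_cons.2 ⟨m24_g41_ok, (okE_cons.2 ⟨m24_g44_ok, (okE_cons.2 ⟨m24_g47_ok, (okE_cons.2 ⟨m24_g42_ok, (okE_nil 24)⟩)⟩)⟩)⟩)⟩)

noncomputable def m24_V80 : List Net := []

theorem m24_V80_ok : okE 24 m24_V80 = true := (okE_nil 24)

noncomputable def m24t_c1_cnt_EG : List Net := [m24_g30, m24_g26, m24_g27, m24_g38, m24_g33, m24_g34, m24_g35, m24_g43, m24_g41, m24_g44, m24_g47, m24_g42, m24_g23, m24_g19, m24_g20, m24_g16, m24_g12, m24_g13, m24_g9, m24_g5, m24_g6, m24_g1, m24_g2]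

theorem m24t_c1_cnt_EG_ok : okE 24 m24t_c1_cnt_EG = true := (okE_cons.2 ⟨m24_g30_ok, (okE_cons.2 ⟨m24_g26_ok, (okE_cons.2 ⟨m24_g27_ok, (okE_cons.2 ⟨m24_g38_ok, (okE_cons.2 ⟨m24_g33_ok, (okE_cons.2 ⟨m24_g34_ok, (okE_cons.2 ⟨m24_g35_ok, (okE_cons.2 ⟨m24_g43_ok, (okE_cons.2 ⟨m24_g41_ok, (okE_cons.2 ⟨m24_g44_ok, (okE_cons.2 ⟨m24_g47_ok, (okE_cons.2 ⟨m24_g42_ok, (okE_cons.2 ⟨m24_g23_ok, (okE_cons.2 ⟨m24_g19_ok, (okE_cons.2 ⟨m24_g20_ok, (okE_cons.2 ⟨m24_g16_ok, (okE_cons.2 ⟨m24_g12_ok, (okE_cons.2 ⟨m24_g13_ok, (okE_cons.2 ⟨m24_g9_ok, (okE_cons.2 ⟨m24_g5_ok, (okE_cons.2 ⟨m24_g6_ok, (okE_cons.2 ⟨m24_g1_ok, (okE_cons.2 ⟨m24_g2_ok, (okE_nil 24)⟩)⟩)⟩)⟩)⟩)⟩)⟩)⟩)⟩)⟩)⟩)⟩)⟩)⟩)⟩)⟩)⟩)⟩)⟩)⟩)⟩)⟩)⟩)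

noncomputable def m24_g81 : Net := (Net.cons (nat_lit 1) (nat_lit 0x451110) (Net.cons (nat_lit 2) (nat_lit 0x120220) (Net.cons (nat_lit 4) (nat_lit 256) (Net.cons (nat_lit 8) (nat_lit 7) (Net.cons (nat_lit 16) (nat_lit 183) (Net.cons (nat_lit 8) (nat_lit 203) (Net.cons (nat_lit 4) (nat_lit 788996) (Net.cons (nat_lit 2) (nat_lit 0x210110) (Net.cons (nat_lit 1) (nat_lit 0x104445) Net.nil)))))))))

theorem m24_g81_ok : Net.ok 24 m24_g81 = true := by decide +kernel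

noncomputable def m24_g82 : Net := (Net.cons (nat_lit 1) (nat_lit 0x115110) (Net.cons (nat_lit 2) (nat_lit 13072) (Net.cons (nat_lit 4) (nat_lit 329216) (Net.cons (nat_lit 8) (nat_lit 12) (Net.cons (nat_lit 16) (nat_lit 30) (Net.cons (nat_lit 8) (nat_lit 168) (Net.cons (nat_lit 4) (nat_lit 199179) (Net.cons (nat_lit 2) (nat_lit 0x132000) (Net.cons (nat_lit 1) (nat_lit 0x401450) Net.nil)))))))))

theorem m24_g82_ok : Net.ok 24 m24_g82 = true := by decide +kernel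

noncomputable def m24_g83 : Net := (Net.cons (nat_lit 1) (nat_lit 0x105510) (Net.cons (nat_lit 2) (nat_lit 0x221320) (Net.cons (nat_lit 4) (nat_lit 197632) (Net.cons (nat_lit 8) (nat_lit 242) (Net.cons (nat_lit 16) (nat_lit 246) (Net.cons (nat_lit 8) (nat_lit 82) (Net.cons (nat_lit 4) (nat_lit 198408) (Net.cons (nat_lit 2) (nat_lit 0x310030) (Net.cons (nat_lit 1) (nat_lit 0x451044) Net.nil)))))))))

theorem m24_g83_ok : Net.ok 24 m24_g83 = true := by decide +kernel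

noncomputable def m24_g84 : Net := (Net.cons (nat_lit 1) (nat_lit 86272) (Net.cons (nat_lit 2) (nat_lit 204800) (Net.cons (nat_lit 4) (nat_lit 264704) (Net.cons (nat_lit 8) (nat_lit 214) (Net.cons (nat_lit 16) (nat_lit 246) (Net.cons (nat_lit 8) (nat_lit 142) (Net.cons (nat_lit 4) (nat_lit 787200) (Net.cons (nat_lit 2) (nat_lit 4112) (Net.cons (nat_lit 1) (nat_lit 4416) Net.nil)))))))))

theorem m24_g84_ok : Net.ok 24 m24_g84 = true := by decide +kernel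

noncomputable def m24_g85 : Net := (Net.cons (nat_lit 1) (nat_lit 0x400400) (Net.cons (nat_lit 2) (nat_lit 0x112220) (Net.cons (nat_lit 4) (nat_lit 265728) (Net.cons (nat_lit 8) (nat_lit 44) (Net.cons (nat_lit 16) (nat_lit 188) (Net.cons (nat_lit 8) (nat_lit 204) (Net.cons (nat_lit 4) (nat_lit 329736) (Net.cons (nat_lit 2) (nat_lit 0x233010) (Net.cons (nat_lit 1) (nat_lit 0x410400) Net.nil)))))))))

theorem m24_g85_ok : Net.ok 24 m24_g85 = true := by decide +kernel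

noncomputable def m24t_c2_K : List Net := [m24_g82, m24_g83, m24_g84, m24_g85]

theorem m24t_c2_K_ok : okE 24 m24t_c2_K = true := (okE_cons.2 ⟨m24_g82_ok, (okE_cons.2 ⟨m24_g83_ok, (okE_cons.2 ⟨m24_g84_ok, (okE_cons.2 ⟨m24_g85_ok, (okE_nil 24)⟩)⟩)⟩)⟩)

noncomputable def m24_g87 : Net := (Net.cons (nat_lit 1) (nat_lit 20800) (Net.cons (nat_lit 2) (nat_lit 0x322130) (Net.cons (nat_lit 4) (nat_lit 1024) (Net.cons (nat_lit 8) (nat_lit 32) (Net.cons (nat_lit 16) (nat_lit 180) (Net.cons (nat_lit 8) (nat_lit 208) (Net.cons (nat_lit 4) (nat_lit 787464) (Net.cons (nat_lit 2) (nat_lit 0x202130) (Net.cons (nat_lit 1) (nat_lit 0x144044) Net.nil)))))))))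

theorem m24_g87_ok : Net.ok 24 m24_g87 = true := by decide +kernel

noncomputable def m24_V88 : List Net := [m24_g87]

theorem m24_V88_ok : okE 24 m24_V88 = true := (okE_cons.2 ⟨m24_g87_ok, (okE_nil 24)⟩)

noncomputable def m24_V90 : List Net := []

theorem m24_V90_ok : okE 24 m24_V90 = true := (okE_nil 24)

noncomputable def m24t_c2_cnt_EG : List Net := [m24_g30, m24_g26, m24_g27, m24_g38, m24_g33, m24_g34, m24_g35, m24_g43, m24_g41, m24_g44, m24_g47, m24_g42, m24_g23, m24_g19, m24_g20, m24_g16, m24_g12, m24_g13, m24_g9, m24_g5, m24_g6, m24_g1, m24_g2, m24_g87]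

theorem m24t_c2_cnt_EG_ok : okE 24 m24t_c2_cnt_EG = true := (okE_cons.2 ⟨m24_g30_ok, (okE_cons.2 ⟨m24_g26_ok, (okE_cons.2 ⟨m24_g27_ok, (okE_cons.2 ⟨m24_g38_ok, (okE_cons.2 ⟨m24_g33_ok, (okE_cons.2 ⟨m24_g34_ok, (okE_cons.2 ⟨m24_g35_ok, (okE_cons.2 ⟨m24_g43_ok, (okE_cons.2 ⟨m24_g41_ok, (okE_cons.2 ⟨m24_g44_ok, (okE_cons.2 ⟨m24_g47_ok, (okE_cons.2 ⟨m24_g42_ok, (okE_cons.2 ⟨m24_g23_ok, (okE_cons.2 ⟨m24_g19_ok, (okE_cons.2 ⟨m24_g20_ok, (okE_cons.2 ⟨m24_g16_ok, (okE_cons.2 ⟨m24_g12_ok, (okE_cons.2 ⟨m24_g13_ok, (okE_cons.2 ⟨m24_g9_ok, (okE_cons.2 ⟨m24_g5_ok, (okE_cons.2 ⟨m24_g6_ok, (okE_cons.2 ⟨m24_g1_ok, (okE_cons.2 ⟨m24_g2_ok, (okE_cons.2 ⟨m24_g87_ok, (okE_nil 24)⟩)⟩)⟩)⟩)⟩)⟩)⟩)⟩)⟩)⟩)⟩)⟩)⟩)⟩)⟩)⟩)⟩)⟩)⟩)⟩)⟩)⟩)⟩)⟩)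

noncomputable def m24_g91 : Net := (Net.cons (nat_lit 1) (nat_lit 332096) (Net.cons (nat_lit 2) (nat_lit 0x111200) (Net.cons (nat_lit 4) (nat_lit 524800) (Net.cons (nat_lit 8) (nat_lit 6) (Net.cons (nat_lit 16) (nat_lit 198) (Net.cons (nat_lit 8) (nat_lit 39) (Net.cons (nat_lit 4) (nat_lit 459520) (Net.cons (nat_lit 2) (nat_lit 4096) (Net.cons (nat_lit 1) (nat_lit 332096) Net.nil)))))))))

theorem m24_g91_ok : Net.ok 24 m24_g91 = true := by decide +kernel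

noncomputable def m24_g92 : Net := (Net.cons (nat_lit 1) (nat_lit 4164) (Net.cons (nat_lit 2) (nat_lit 0x220030) (Net.cons (nat_lit 4) (nat_lit 524544) (Net.cons (nat_lit 8) (nat_lit 26) (Net.cons (nat_lit 16) (nat_lit 59) (Net.cons (nat_lit 8) (nat_lit 142) (Net.cons (nat_lit 4) (nat_lit 394508) (Net.cons (nat_lit 2) (nat_lit 0x222222) (Net.cons (nat_lit 1) (nat_lit 0x555054) Net.nil)))))))))

theorem m24_g92_ok : Net.ok 24 m24_g92 = true := by decide +kernel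

noncomputable def m24_g93 : Net := (Net.cons (nat_lit 1) (nat_lit 0x140050) (Net.cons (nat_lit 2) (nat_lit 0x212100) (Net.cons (nat_lit 4) (nat_lit 66048) (Net.cons (nat_lit 8) (nat_lit 8) (Net.cons (nat_lit 16) (nat_lit 152) (Net.cons (nat_lit 8) (nat_lit 146) (Net.cons (nat_lit 4) (nat_lit 592650) (Net.cons (nat_lit 2) (nat_lit 0x100010) (Net.cons (nat_lit 1) (nat_lit 0x510010) Net.nil)))))))))

theorem m24_g93_ok : Net.ok 24 m24_g93 = true := by decide +kernel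

noncomputable def m24_g94 : Net := (Net.cons (nat_lit 1) (nat_lit 1040) (Net.cons (nat_lit 2) (nat_lit 4128) (Net.cons (nat_lit 4) (nat_lit 131584) (Net.cons (nat_lit 8) (nat_lit 8) (Net.cons (nat_lit 16) (nat_lit 40) (Net.cons (nat_lit 8) (nat_lit 74) (Net.cons (nat_lit 4) (nat_lit 131592) (Net.cons (nat_lit 2) (nat_lit 0x311020) (Net.cons (nat_lit 1) (nat_lit 1040) Net.nil)))))))))

theorem m24_g94_ok : Net.ok 24 m24_g94 = true := by decide +kernel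

noncomputable def m24_g95 : Net := (Net.cons (nat_lit 1) (nat_lit 16) (Net.cons (nat_lit 2) (nat_lit 0x112000) (Net.cons (nat_lit 4) (nat_lit 2048) (Net.cons (nat_lit 8) (nat_lit 20) (Net.cons (nat_lit 16) (nat_lit 212) (Net.cons (nat_lit 8) (nat_lit 28) (Net.cons (nat_lit 4) (nat_lit 133122) (Net.cons (nat_lit 2) (nat_lit 0x112000) (Net.cons (nat_lit 1) (nat_lit 262160) Net.nil)))))))))

theorem m24_g95_ok : Net.ok 24 m24_g95 = true := by decide +kernel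

noncomputable def m24t_c3_K : List Net := [m24_g92, m24_g93, m24_g94, m24_g95]

theorem m24t_c3_K_ok : okE 24 m24t_c3_K = true := (okE_cons.2 ⟨m24_g92_ok, (okE_cons.2 ⟨m24_g93_ok, (okE_cons.2 ⟨m24_g94_ok, (okE_cons.2 ⟨m24_g95_ok, (okE_nil 24)⟩)⟩)⟩)⟩)

noncomputable def m24t_c3_cnt_EG : List Net := [m24_g43, m24_g41, m24_g44, m24_g47, m24_g42, m24_g38, m24_g33, m24_g34, m24_g35, m24_g30, m24_g26, m24_g27, m24_g23, m24_g19, m24_g20, m24_g16, m24_g12, m24_g13, m24_g9, m24_g5, m24_g6, m24_g1, m24_g2]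

theorem m24t_c3_cnt_EG_ok : okE 24 m24t_c3_cnt_EG = true := (okE_cons.2 ⟨m24_g43_ok, (okE_cons.2 ⟨m24_g41_ok, (okE_cons.2 ⟨m24_g44_ok, (okE_cons.2 ⟨m24_g47_ok, (okE_cons.2 ⟨m24_g42_ok, (okE_cons.2 ⟨m24_g38_ok, (okE_cons.2 ⟨m24_g33_ok, (okE_cons.2 ⟨m24_g34_ok, (okE_cons.2 ⟨m24_g35_ok, (okE_cons.2 ⟨m24_g30_ok, (okE_cons.2 ⟨m24_g26_ok, (okE_cons.2 ⟨m24_g27_ok, (okE_cons.2 ⟨m24_g23_ok, (okE_cons.2 ⟨m24_g19_ok, (okE_cons.2 ⟨m24_g20_ok, (okE_cons.2 ⟨m24_g16_ok, (okE_cons.2 ⟨m24_g12_ok, (okE_cons.2 ⟨m24_g13_ok, (okE_cons.2 ⟨m24_g9_ok, (okE_cons.2 ⟨m24_g5_ok, (okE_cons.2 ⟨m24_g6_ok, (okE_cons.2 ⟨m24_g1_ok, (okE_cons.2 ⟨m24_g2_ok, (okE_nil 24)⟩)⟩)⟩)⟩)⟩)⟩)⟩)⟩)⟩)⟩)⟩)⟩)⟩)⟩)⟩)⟩)⟩)⟩)⟩)⟩)⟩)⟩)⟩)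

noncomputable def m24_g97 : Net := (Net.cons (nat_lit 1) (nat_lit 263424) (Net.cons (nat_lit 2) (nat_lit 13104) (Net.cons (nat_lit 4) (nat_lit 787712) (Net.cons (nat_lit 8) (nat_lit 193) (Net.cons (nat_lit 16) (nat_lit 215) (Net.cons (nat_lit 8) (nat_lit 172) (Net.cons (nat_lit 4) (nat_lit 459776) (Net.cons (nat_lit 2) (nat_lit 0x231010) (Net.cons (nat_lit 1) (nat_lit 0x154551) Net.nil)))))))))

theorem m24_g97_ok : Net.ok 24 m24_g97 = true := by decide +kernel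

noncomputable def m24_g98 : Net := (Net.cons (nat_lit 1) (nat_lit 0x114500) (Net.cons (nat_lit 2) (nat_lit 0x213200) (Net.cons (nat_lit 4) (nat_lit 133120) (Net.cons (nat_lit 8) (nat_lit 90) (Net.cons (nat_lit 16) (nat_lit 222) (Net.cons (nat_lit 8) (nat_lit 180) (Net.cons (nat_lit 4) (nat_lit 66060) (Net.cons (nat_lit 2) (nat_lit 0x210323) (Net.cons (nat_lit 1) (nat_lit 0x445015) Net.nil)))))))))

theorem m24_g98_ok : Net.ok 24 m24_g98 = true := by decide +kernel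

noncomputable def m24_g99 : Net := (Net.cons (nat_lit 1) (nat_lit 0x104144) (Net.cons (nat_lit 2) (nat_lit 131360) (Net.cons (nat_lit 4) (nat_lit 197376) (Net.cons (nat_lit 8) (nat_lit 96) (Net.cons (nat_lit 16) (nat_lit 242) (Net.cons (nat_lit 8) (nat_lit 26) (Net.cons (nat_lit 4) (nat_lit 196614) (Net.cons (nat_lit 2) (nat_lit 131858) (Net.cons (nat_lit 1) (nat_lit 0x505114) Net.nil)))))))))

theorem m24_g99_ok : Net.ok 24 m24_g99 = true := by decide +kernel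

noncomputable def m24_g100 : Net := (Net.cons (nat_lit 1) (nat_lit 0x505400) (Net.cons (nat_lit 2) (nat_lit 0x200000) (Net.cons (nat_lit 4) (nat_lit 589824) (Net.cons (nat_lit 8) (nat_lit 5) (Net.cons (nat_lit 16) (nat_lit 165) (Net.cons (nat_lit 8) (nat_lit 97) (Net.cons (nat_lit 4) (nat_lit 591880) (Net.cons (nat_lit 2) (nat_lit 0x203010) (Net.cons (nat_lit 1) (nat_lit 0x440414) Net.nil)))))))))

theorem m24_g100_ok : Net.ok 24 m24_g100 = true := by decide +kernel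

noncomputable def m24t_c4_K : List Net := [m24_g98, m24_g99, m24_g100]

theorem m24t_c4_K_ok : okE 24 m24t_c4_K = true := (okE_cons.2 ⟨m24_g98_ok, (okE_cons.2 ⟨m24_g99_ok, (okE_cons.2 ⟨m24_g100_ok, (okE_nil 24)⟩)⟩)⟩)

noncomputable def m24t_c4_cnt_EG : List Net := [m24_g30, m24_g26, m24_g27, m24_g38, m24_g33, m24_g34, m24_g35, m24_g43, m24_g41, m24_g44, m24_g47, m24_g42, m24_g23, m24_g19, m24_g20, m24_g16, m24_g12, m24_g13, m24_g9, m24_g5, m24_g6, m24_g1, m24_g2, m24_g87]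

theorem m24t_c4_cnt_EG_ok : okE 24 m24t_c4_cnt_EG = true := (okE_cons.2 ⟨m24_g30_ok, (okE_cons.2 ⟨m24_g26_ok, (okE_cons.2 ⟨m24_g27_ok, (okE_cons.2 ⟨m24_g38_ok, (okE_cons.2 ⟨m24_g33_ok, (okE_cons.2 ⟨m24_g34_ok, (okE_cons.2 ⟨m24_g35_ok, (okE_cons.2 ⟨m24_g43_ok, (okE_cons.2 ⟨m24_g41_ok, (okE_cons.2 ⟨m24_g44_ok, (okE_cons.2 ⟨m24_g47_ok, (okE_cons.2 ⟨m24_g42_ok, (okE_cons.2 ⟨m24_g23_ok, (okE_cons.2 ⟨m24_g19_ok, (okE_cons.2 ⟨m24_g20_ok, (okE_cons.2 ⟨m24_g16_ok, (okE_cons.2 ⟨m24_g12_ok, (okE_cons.2 ⟨m24_g13_ok, (okE_cons.2 ⟨m24_g9_ok, (okE_cons.2 ⟨m24_g5_ok, (okE_cons.2 ⟨m24_g6_ok, (okE_cons.2 ⟨m24_g1_ok, (okE_cons.2 ⟨m24_g2_ok, (okE_cons.2 ⟨m24_g87_ok, (okE_nil 24)⟩)⟩)⟩)⟩)⟩)⟩)⟩)⟩)⟩)⟩)⟩)⟩)⟩)⟩)⟩)⟩)⟩)⟩)⟩)⟩)⟩)⟩)⟩)⟩)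

noncomputable def m24_g102 : Net := (Net.cons (nat_lit 1) (nat_lit 0x104510) (Net.cons (nat_lit 2) (nat_lit 0x220200) (Net.cons (nat_lit 4) (nat_lit 65792) (Net.cons (nat_lit 8) (nat_lit 105) (Net.cons (nat_lit 16) (nat_lit 127) (Net.cons (nat_lit 8) (nat_lit 18) (Net.cons (nat_lit 4) (nat_lit 659210) (Net.cons (nat_lit 2) (nat_lit 0x111330) (Net.cons (nat_lit 1) (nat_lit 266517) Net.nil)))))))))

theorem m24_g102_ok : Net.ok 24 m24_g102 = true := by decide +kernel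

noncomputable def m24_g103 : Net := (Net.cons (nat_lit 1) (nat_lit 0x154554) (Net.cons (nat_lit 2) (nat_lit 0x332020) (Net.cons (nat_lit 4) (nat_lit 983040) (Net.cons (nat_lit 8) (nat_lit 41) (Net.cons (nat_lit 16) (nat_lit 63) (Net.cons (nat_lit 8) (nat_lit 18) (Net.cons (nat_lit 4) (nat_lit 134414) (Net.cons (nat_lit 2) (nat_lit 0x210212) (Net.cons (nat_lit 1) (nat_lit 0x541115) Net.nil)))))))))

theorem m24_g103_ok : Net.ok 24 m24_g103 = true := by decide +kernel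

noncomputable def m24_g104 : Net := (Net.cons (nat_lit 1) (nat_lit 0x410544) (Net.cons (nat_lit 2) (nat_lit 0x120300) (Net.cons (nat_lit 4) (nat_lit 786432) (Net.cons (nat_lit 8) (nat_lit 182) (Net.cons (nat_lit 16) (nat_lit 247) (Net.cons (nat_lit 8) (nat_lit 209) (Net.cons (nat_lit 4) (nat_lit 393216) (Net.cons (nat_lit 2) (nat_lit 305) (Net.cons (nat_lit 1) (nat_lit 0x111040) Net.nil)))))))))

theorem m24_g104_ok : Net.ok 24 m24_g104 = true := by decide +kernel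

noncomputable def m24_g105 : Net := (Net.cons (nat_lit 1) (nat_lit 0x401100) (Net.cons (nat_lit 2) (nat_lit 143360) (Net.cons (nat_lit 4) (nat_lit 526592) (Net.cons (nat_lit 8) (nat_lit 8) (Net.cons (nat_lit 16) (nat_lit 42) (Net.cons (nat_lit 8) (nat_lit 220) (Net.cons (nat_lit 4) (nat_lit 658694) (Net.cons (nat_lit 2) (nat_lit 143632) (Net.cons (nat_lit 1) (nat_lit 0x411100) Net.nil)))))))))

theorem m24_g105_ok : Net.ok 24 m24_g105 = true := by decide +kernel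

noncomputable def m24_g106 : Net := (Net.cons (nat_lit 1) (nat_lit 0x104100) (Net.cons (nat_lit 2) (nat_lit 0x221100) (Net.cons (nat_lit 4) (nat_lit 134144) (Net.cons (nat_lit 8) (nat_lit 164) (Net.cons (nat_lit 16) (nat_lit 172) (Net.cons (nat_lit 8) (nat_lit 244) (Net.cons (nat_lit 4) (nat_lit 134146) (Net.cons (nat_lit 2) (nat_lit 0x321100) (Net.cons (nat_lit 1) (nat_lit 0x145100) Net.nil)))))))))

theorem m24_g106_ok : Net.ok 24 m24_g106 = true := by decide +kernel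

noncomputable def m24_g107 : Net := (Net.cons (nat_lit 1) (nat_lit 0x504010) (Net.cons (nat_lit 2) (nat_lit 69632) (Net.cons (nat_lit 4) (nat_lit 527104) (Net.cons (nat_lit 8) (nat_lit 161) (Net.cons (nat_lit 16) (nat_lit 187) (Net.cons (nat_lit 8) (nat_lit 195) (Net.cons (nat_lit 4) (nat_lit 657666) (Net.cons (nat_lit 2) (nat_lit 0x231202) (Net.cons (nat_lit 1) (nat_lit 0x504010) Net.nil)))))))))

theorem m24_g107_ok : Net.ok 24 m24_g107 = true := by decide +kernel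

noncomputable def m24t_c5_K : List Net := [m24_g103, m24_g104, m24_g105, m24_g106, m24_g107]

theorem m24t_c5_K_ok : okE 24 m24t_c5_K = true := (okE_cons.2 ⟨m24_g103_ok, (okE_cons.2 ⟨m24_g104_ok, (okE_cons.2 ⟨m24_g105_ok, (okE_cons.2 ⟨m24_g106_ok, (okE_cons.2 ⟨m24_g107_ok, (okE_nil 24)⟩)⟩)⟩)⟩)⟩)

noncomputable def m24t_c5_cnt_EG : List Net := [m24_g30, m24_g26, m24_g27, m24_g38, m24_g33, m24_g34, m24_g35, m24_g43, m24_g41, m24_g44, m24_g47, m24_g42, m24_g23, m24_g19, m24_g20, m24_g16, m24_g12, m24_g13, m24_g9, m24_g5, m24_g6, m24_g1, m24_g2]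

theorem m24t_c5_cnt_EG_ok : okE 24 m24t_c5_cnt_EG = true := (okE_cons.2 ⟨m24_g30_ok, (okE_cons.2 ⟨m24_g26_ok, (okE_cons.2 ⟨m24_g27_ok, (okE_cons.2 ⟨m24_g38_ok, (okE_cons.2 ⟨m24_g33_ok, (okE_cons.2 ⟨m24_g34_ok, (okE_cons.2 ⟨m24_g35_ok, (okE_cons.2 ⟨m24_g43_ok, (okE_cons.2 ⟨m24_g41_ok, (okE_cons.2 ⟨m24_g44_ok, (okE_cons.2 ⟨m24_g47_ok, (okE_cons.2 ⟨m24_g42_ok, (okE_cons.2 ⟨m24_g23_ok, (okE_cons.2 ⟨m24_g19_ok, (okE_cons.2 ⟨m24_g20_ok, (okE_cons.2 ⟨m24_g16_ok, (okE_cons.2 ⟨m24_g12_ok, (okE_cons.2 ⟨m24_g13_ok, (okE_cons.2 ⟨m24_g9_ok, (okE_cons.2 ⟨m24_g5_ok, (okE_cons.2 ⟨m24_g6_ok, (okE_cons.2 ⟨m24_g1_ok, (okE_cons.2 ⟨m24_g2_ok, (okE_nil 24)⟩)⟩)⟩)⟩)⟩)⟩)⟩)⟩)⟩)⟩)⟩)⟩)⟩)⟩)⟩)⟩)⟩)⟩)⟩)⟩)⟩)⟩)⟩)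

noncomputable def m24_g109 : Net := (Net.cons (nat_lit 1) (nat_lit 0x411010) (Net.cons (nat_lit 2) (nat_lit 0x100220) (Net.cons (nat_lit 4) (nat_lit 256) (Net.cons (nat_lit 8) (nat_lit 9) (Net.cons (nat_lit 16) (nat_lit 121) (Net.cons (nat_lit 8) (nat_lit 27) (Net.cons (nat_lit 4) (nat_lit 131840) (Net.cons (nat_lit 2) (nat_lit 0x310031) (Net.cons (nat_lit 1) (nat_lit 0x150040) Net.nil)))))))))

theorem m24_g109_ok : Net.ok 24 m24_g109 = true := by decide +kernel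

noncomputable def m24_g110 : Net := (Net.cons (nat_lit 1) (nat_lit 0x400050) (Net.cons (nat_lit 2) (nat_lit 0x120010) (Net.cons (nat_lit 4) (nat_lit 196864) (Net.cons (nat_lit 8) (nat_lit 11) (Net.cons (nat_lit 16) (nat_lit 15) (Net.cons (nat_lit 8) (nat_lit 113) (Net.cons (nat_lit 4) (nat_lit 984077) (Net.cons (nat_lit 2) (nat_lit 0x110130) (Net.cons (nat_lit 1) (nat_lit 0x155505) Net.nil)))))))))

theorem m24_g110_ok : Net.ok 24 m24_g110 = true := by decide +kernel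

noncomputable def m24_g111 : Net := (Net.cons (nat_lit 1) (nat_lit 320) (Net.cons (nat_lit 2) (nat_lit 135712) (Net.cons (nat_lit 4) (nat_lit 985856) (Net.cons (nat_lit 8) (nat_lit 210) (Net.cons (nat_lit 16) (nat_lit 242) (Net.cons (nat_lit 8) (nat_lit 32) (Net.cons (nat_lit 4) (nat_lit 3586) (Net.cons (nat_lit 2) (nat_lit 131888) (Net.cons (nat_lit 1) (nat_lit 65600) Net.nil)))))))))

theorem m24_g111_ok : Net.ok 24 m24_g111 = true := by decide +kernel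

noncomputable def m24_g112 : Net := (Net.cons (nat_lit 1) (nat_lit 1280) (Net.cons (nat_lit 2) (nat_lit 0x211000) (Net.cons (nat_lit 4) (nat_lit 589824) (Net.cons (nat_lit 8) (nat_lit 69) (Net.cons (nat_lit 16) (nat_lit 247) (Net.cons (nat_lit 8) (nat_lit 69) (Net.cons (nat_lit 4) (nat_lit 721410) (Net.cons (nat_lit 2) (nat_lit 0x211000) (Net.cons (nat_lit 1) (nat_lit 1280) Net.nil)))))))))

theorem m24_g112_ok : Net.ok 24 m24_g112 = true := by decide +kernel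

noncomputable def m24_g113 : Net := (Net.cons (nat_lit 1) (nat_lit 0x100500) (Net.cons (nat_lit 2) (nat_lit 0x232320) (Net.cons (nat_lit 4) (nat_lit 264960) (Net.cons (nat_lit 8) (nat_lit 13) (Net.cons (nat_lit 16) (nat_lit 141) (Net.cons (nat_lit 8) (nat_lit 53) (Net.cons (nat_lit 4) (nat_lit 918026) (Net.cons (nat_lit 2) (nat_lit 8194) (Net.cons (nat_lit 1) (nat_lit 0x505400) Net.nil)))))))))

theorem m24_g113_ok : Net.ok 24 m24_g113 = true := by decide +kernel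

noncomputable def m24_g114 : Net := (Net.cons (nat_lit 1) (nat_lit 5140) (Net.cons (nat_lit 2) (nat_lit 0x200100) (Net.cons (nat_lit 4) (nat_lit 591616) (Net.cons (nat_lit 8) (nat_lit 33) (Net.cons (nat_lit 16) (nat_lit 163) (Net.cons (nat_lit 8) (nat_lit 55) (Net.cons (nat_lit 4) (nat_lit 986114) (Net.cons (nat_lit 2) (nat_lit 0x200120) (Net.cons (nat_lit 1) (nat_lit 0x451514) Net.nil)))))))))

theorem m24_g114_ok : Net.ok 24 m24_g114 = true := by decide +kernel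

noncomputable def m24t_c6_K : List Net := [m24_g109, m24_g110, m24_g111, m24_g112, m24_g113, m24_g114]

theorem m24t_c6_K_ok : okE 24 m24t_c6_K = true := (okE_cons.2 ⟨m24_g109_ok, (okE_cons.2 ⟨m24_g110_ok, (okE_cons.2 ⟨m24_g111_ok, (okE_cons.2 ⟨m24_g112_ok, (okE_cons.2 ⟨m24_g113_ok, (okE_cons.2 ⟨m24_g114_ok, (okE_nil 24)⟩)⟩)⟩)⟩)⟩)⟩)

noncomputable def m24t_c6_cnt_EG : List Net := [m24_g43, m24_g41, m24_g44, m24_g47, m24_g42, m24_g38, m24_g33, m24_g34, m24_g35, m24_g30, m24_g26, m24_g27, m24_g23, m24_g19, m24_g20, m24_g16, m24_g12, m24_g13, m24_g9, m24_g5, m24_g6, m24_g1, m24_g2]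

theorem m24t_c6_cnt_EG_ok : okE 24 m24t_c6_cnt_EG = true := (okE_cons.2 ⟨m24_g43_ok, (okE_cons.2 ⟨m24_g41_ok, (okE_cons.2 ⟨m24_g44_ok, (okE_cons.2 ⟨m24_g47_ok, (okE_cons.2 ⟨m24_g42_ok, (okE_cons.2 ⟨m24_g38_ok, (okE_cons.2 ⟨m24_g33_ok, (okE_cons.2 ⟨m24_g34_ok, (okE_cons.2 ⟨m24_g35_ok, (okE_cons.2 ⟨m24_g30_ok, (okE_cons.2 ⟨m24_g26_ok, (okE_cons.2 ⟨m24_g27_ok, (okE_cons.2 ⟨m24_g23_ok, (okE_cons.2 ⟨m24_g19_ok, (okE_cons.2 ⟨m24_g20_ok, (okE_cons.2 ⟨m24_g16_ok, (okE_cons.2 ⟨m24_g12_ok, (okE_cons.2 ⟨m24_g13_ok, (okE_cons.2 ⟨m24_g9_ok, (okE_cons.2 ⟨m24_g5_ok, (okE_cons.2 ⟨m24_g6_ok, (okE_cons.2 ⟨m24_g1_ok, (okE_cons.2 ⟨m24_g2_ok, (okE_nil 24)⟩)⟩)⟩)⟩)⟩)⟩)⟩)⟩)⟩)⟩)⟩)⟩)⟩)⟩)⟩)⟩)⟩)⟩)⟩)⟩)⟩)⟩)⟩)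

noncomputable def m24_g116 : Net := (Net.cons (nat_lit 1) (nat_lit 0x544140) (Net.cons (nat_lit 2) (nat_lit 0x312200) (Net.cons (nat_lit 4) (nat_lit 461824) (Net.cons (nat_lit 8) (nat_lit 16) (Net.cons (nat_lit 16) (nat_lit 91) (Net.cons (nat_lit 8) (nat_lit 122) (Net.cons (nat_lit 4) (nat_lit 262913) (Net.cons (nat_lit 2) (nat_lit 0x230013) (Net.cons (nat_lit 1) (nat_lit 69908) Net.nil)))))))))

theorem m24_g116_ok : Net.ok 24 m24_g116 = true := by decide +kernel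

noncomputable def m24_g117 : Net := (Net.cons (nat_lit 1) (nat_lit 0x405500) (Net.cons (nat_lit 2) (nat_lit 0x310100) (Net.cons (nat_lit 4) (nat_lit 394496) (Net.cons (nat_lit 8) (nat_lit 67) (Net.cons (nat_lit 16) (nat_lit 243) (Net.cons (nat_lit 8) (nat_lit 237) (Net.cons (nat_lit 4) (nat_lit 721423) (Net.cons (nat_lit 2) (nat_lit 0x311203) (Net.cons (nat_lit 1) (nat_lit 0x145010) Net.nil)))))))))

theorem m24_g117_ok : Net.ok 24 m24_g117 = true := by decide +kernel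

noncomputable def m24_g118 : Net := (Net.cons (nat_lit 1) (nat_lit 0x401040) (Net.cons (nat_lit 2) (nat_lit 0x103300) (Net.cons (nat_lit 4) (nat_lit 459776) (Net.cons (nat_lit 8) (nat_lit 37) (Net.cons (nat_lit 16) (nat_lit 39) (Net.cons (nat_lit 8) (nat_lit 101) (Net.cons (nat_lit 4) (nat_lit 986112) (Net.cons (nat_lit 2) (nat_lit 0x103320) (Net.cons (nat_lit 1) (nat_lit 0x401040) Net.nil)))))))))

theorem m24_g118_ok : Net.ok 24 m24_g118 = true := by decide +kernel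

noncomputable def m24_g119 : Net := (Net.cons (nat_lit 1) (nat_lit 0x400100) (Net.cons (nat_lit 2) (nat_lit 0x300000) (Net.cons (nat_lit 4) (nat_lit 2048) (Net.cons (nat_lit 8) (nat_lit 24) (Net.cons (nat_lit 16) (nat_lit 216) (Net.cons (nat_lit 8) (nat_lit 58) (Net.cons (nat_lit 4) (nat_lit 133120) (Net.cons (nat_lit 2) (nat_lit 0x300100) (Net.cons (nat_lit 1) (nat_lit 0x400100) Net.nil)))))))))

theorem m24_g119_ok : Net.ok 24 m24_g119 = true := by decide +kernel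

noncomputable def m24t_c7_K : List Net := [m24_g116, m24_g117, m24_g118, m24_g119]

theorem m24t_c7_K_ok : okE 24 m24t_c7_K = true := (okE_cons.2 ⟨m24_g116_ok, (okE_cons.2 ⟨m24_g117_ok, (okE_cons.2 ⟨m24_g118_ok, (okE_cons.2 ⟨m24_g119_ok, (okE_nil 24)⟩)⟩)⟩)⟩)

noncomputable def m24t_c7_cnt_EG : List Net := [m24_g30, m24_g26, m24_g27, m24_g38, m24_g33, m24_g34, m24_g35, m24_g43, m24_g41, m24_g44, m24_g47, m24_g42, m24_g23, m24_g19, m24_g20, m24_g16, m24_g12, m24_g13, m24_g9, m24_g5, m24_g6, m24_g1, m24_g2, m24_g87]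

theorem m24t_c7_cnt_EG_ok : okE 24 m24t_c7_cnt_EG = true := (okE_cons.2 ⟨m24_g30_ok, (okE_cons.2 ⟨m24_g26_ok, (okE_cons.2 ⟨m24_g27_ok, (okE_cons.2 ⟨m24_g38_ok, (okE_cons.2 ⟨m24_g33_ok, (okE_cons.2 ⟨m24_g34_ok, (okE_cons.2 ⟨m24_g35_ok, (okE_cons.2 ⟨m24_g43_ok, (okE_cons.2 ⟨m24_g41_ok, (okE_cons.2 ⟨m24_g44_ok, (okE_cons.2 ⟨m24_g47_ok, (okE_cons.2 ⟨m24_g42_ok, (okE_cons.2 ⟨m24_g23_ok, (okE_cons.2 ⟨m24_g19_ok, (okE_cons.2 ⟨m24_g20_ok, (okE_cons.2 ⟨m24_g16_ok, (okE_cons.2 ⟨m24_g12_ok, (okE_cons.2 ⟨m24_g13_ok, (okE_cons.2 ⟨m24_g9_ok, (okE_cons.2 ⟨m24_g5_ok, (okE_cons.2 ⟨m24_g6_ok, (okE_cons.2 ⟨m24_g1_ok, (okE_cons.2 ⟨m24_g2_ok, (okE_cons.2 ⟨m24_g87_ok, (okE_nil 24)⟩)⟩)⟩)⟩)⟩)⟩)⟩)⟩)⟩)⟩)⟩)⟩)⟩)⟩)⟩)⟩)⟩)⟩)⟩)⟩)⟩)⟩)⟩)⟩)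

noncomputable def m24_g121 : Net := (Net.cons (nat_lit 1) (nat_lit 0x114150) (Net.cons (nat_lit 2) (nat_lit 0x310230) (Net.cons (nat_lit 4) (nat_lit 919552) (Net.cons (nat_lit 8) (nat_lit 10) (Net.cons (nat_lit 16) (nat_lit 91) (Net.cons (nat_lit 8) (nat_lit 67) (Net.cons (nat_lit 4) (nat_lit 919561) (Net.cons (nat_lit 2) (nat_lit 0x312110) (Net.cons (nat_lit 1) (nat_lit 0x550544) Net.nil)))))))))

theorem m24_g121_ok : Net.ok 24 m24_g121 = true := by decide +kernel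

noncomputable def m24_g122 : Net := (Net.cons (nat_lit 1) (nat_lit 0x445454) (Net.cons (nat_lit 2) (nat_lit 4096) (Net.cons (nat_lit 4) (nat_lit 196608) (Net.cons (nat_lit 8) (nat_lit 57) (Net.cons (nat_lit 16) (nat_lit 127) (Net.cons (nat_lit 8) (nat_lit 60) (Net.cons (nat_lit 4) (nat_lit 131085) (Net.cons (nat_lit 2) (nat_lit 66081) (Net.cons (nat_lit 1) (nat_lit 327748) Net.nil)))))))))

theorem m24_g122_ok : Net.ok 24 m24_g122 = true := by decide +kernel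

noncomputable def m24_g123 : Net := (Net.cons (nat_lit 1) (nat_lit 82244) (Net.cons (nat_lit 2) (nat_lit 0x302300) (Net.cons (nat_lit 4) (nat_lit 196864) (Net.cons (nat_lit 8) (nat_lit 144) (Net.cons (nat_lit 16) (nat_lit 210) (Net.cons (nat_lit 8) (nat_lit 40) (Net.cons (nat_lit 4) (nat_lit 66830) (Net.cons (nat_lit 2) (nat_lit 0x102322) (Net.cons (nat_lit 1) (nat_lit 65604) Net.nil)))))))))

theorem m24_g123_ok : Net.ok 24 m24_g123 = true := by decide +kernel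

noncomputable def m24t_c8_K : List Net := [m24_g121, m24_g122, m24_g123]

theorem m24t_c8_K_ok : okE 24 m24t_c8_K = true := (okE_cons.2 ⟨m24_g121_ok, (okE_cons.2 ⟨m24_g122_ok, (okE_cons.2 ⟨m24_g123_ok, (okE_nil 24)⟩)⟩)⟩)

noncomputable def m24t_c8_cnt_EG : List Net := [m24_g30, m24_g26, m24_g27, m24_g38, m24_g33, m24_g34, m24_g35, m24_g43, m24_g41, m24_g44, m24_g47, m24_g42, m24_g23, m24_g19, m24_g20, m24_g16, m24_g12, m24_g13, m24_g9, m24_g5, m24_g6, m24_g1, m24_g2, m24_g87]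

theorem m24t_c8_cnt_EG_ok : okE 24 m24t_c8_cnt_EG = true := (okE_cons.2 ⟨m24_g30_ok, (okE_cons.2 ⟨m24_g26_ok, (okE_cons.2 ⟨m24_g27_ok, (okE_cons.2 ⟨m24_g38_ok, (okE_cons.2 ⟨m24_g33_ok, (okE_cons.2 ⟨m24_g34_ok, (okE_cons.2 ⟨m24_g35_ok, (okE_cons.2 ⟨m24_g43_ok, (okE_cons.2 ⟨m24_g41_ok, (okE_cons.2 ⟨m24_g44_ok, (okE_cons.2 ⟨m24_g47_ok, (okE_cons.2 ⟨m24_g42_ok, (okE_cons.2 ⟨m24_g23_ok, (okE_cons.2 ⟨m24_g19_ok, (okE_cons.2 ⟨m24_g20_ok, (okE_cons.2 ⟨m24_g16_ok, (okE_cons.2 ⟨m24_g12_ok, (okE_cons.2 ⟨m24_g13_ok, (okE_cons.2 ⟨m24_g9_ok, (okE_cons.2 ⟨m24_g5_ok, (okE_cons.2 ⟨m24_g6_ok, (okE_cons.2 ⟨m24_g1_ok, (okE_cons.2 ⟨m24_g2_ok, (okE_cons.2 ⟨m24_g87_ok, (okE_nil 24)⟩)⟩)⟩)⟩)⟩)⟩)⟩)⟩)⟩)⟩)⟩)⟩)⟩)⟩)⟩)⟩)⟩)⟩)⟩)⟩)⟩)⟩)⟩)⟩)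

noncomputable def m24_g125 : Net := (Net.cons (nat_lit 1) (nat_lit 0x455154) (Net.cons (nat_lit 2) (nat_lit 0x213020) (Net.cons (nat_lit 4) (nat_lit 527360) (Net.cons (nat_lit 8) (nat_lit 145) (Net.cons (nat_lit 16) (nat_lit 149) (Net.cons (nat_lit 8) (nat_lit 201) (Net.cons (nat_lit 4) (nat_lit 983565) (Net.cons (nat_lit 2) (nat_lit 0x330201) (Net.cons (nat_lit 1) (nat_lit 65860) Net.nil)))))))))

theorem m24_g125_ok : Net.ok 24 m24_g125 = true := by decide +kernel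

noncomputable def m24_g126 : Net := (Net.cons (nat_lit 1) (nat_lit 0x400544) (Net.cons (nat_lit 2) (nat_lit 0x110100) (Net.cons (nat_lit 4) (nat_lit 265216) (Net.cons (nat_lit 8) (nat_lit 66) (Net.cons (nat_lit 16) (nat_lit 90) (Net.cons (nat_lit 8) (nat_lit 127) (Net.cons (nat_lit 4) (nat_lit 590852) (Net.cons (nat_lit 2) (nat_lit 817) (Net.cons (nat_lit 1) (nat_lit 21504) Net.nil)))))))))

theorem m24_g126_ok : Net.ok 24 m24_g126 = true := by decide +kernel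

noncomputable def m24_g127 : Net := (Net.cons (nat_lit 1) (nat_lit 0x450504) (Net.cons (nat_lit 2) (nat_lit 0x101120) (Net.cons (nat_lit 8) (nat_lit 81) (Net.cons (nat_lit 16) (nat_lit 247) (Net.cons (nat_lit 8) (nat_lit 21) (Net.cons (nat_lit 4) (nat_lit 394246) (Net.cons (nat_lit 2) (nat_lit 0x101120) (Net.cons (nat_lit 1) (nat_lit 0x450504) Net.nil))))))))

theorem m24_g127_ok : Net.ok 24 m24_g127 = true := by decide +kernel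

noncomputable def m24t_c9_K : List Net := [m24_g125, m24_g126, m24_g127]

theorem m24t_c9_K_ok : okE 24 m24t_c9_K = true := (okE_cons.2 ⟨m24_g125_ok, (okE_cons.2 ⟨m24_g126_ok, (okE_cons.2 ⟨m24_g127_ok, (okE_nil 24)⟩)⟩)⟩)

noncomputable def m24t_c9_cnt_EG : List Net := [m24_g43, m24_g41, m24_g44, m24_g47, m24_g42, m24_g38, m24_g33, m24_g34, m24_g35, m24_g30, m24_g26, m24_g27, m24_g23, m24_g19, m24_g20, m24_g16, m24_g12, m24_g13, m24_g9, m24_g5, m24_g6, m24_g1, m24_g2]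

theorem m24t_c9_cnt_EG_ok : okE 24 m24t_c9_cnt_EG = true := (okE_cons.2 ⟨m24_g43_ok, (okE_cons.2 ⟨m24_g41_ok, (okE_cons.2 ⟨m24_g44_ok, (okE_cons.2 ⟨m24_g47_ok, (okE_cons.2 ⟨m24_g42_ok, (okE_cons.2 ⟨m24_g38_ok, (okE_cons.2 ⟨m24_g33_ok, (okE_cons.2 ⟨m24_g34_ok, (okE_cons.2 ⟨m24_g35_ok, (okE_cons.2 ⟨m24_g30_ok, (okE_cons.2 ⟨m24_g26_ok, (okE_cons.2 ⟨m24_g27_ok, (okE_cons.2 ⟨m24_g23_ok, (okE_cons.2 ⟨m24_g19_ok, (okE_cons.2 ⟨m24_g20_ok, (okE_cons.2 ⟨m24_g16_ok, (okE_cons.2 ⟨m24_g12_ok, (okE_cons.2 ⟨m24_g13_ok, (okE_cons.2 ⟨m24_g9_ok, (okE_cons.2 ⟨m24_g5_ok, (okE_cons.2 ⟨m24_g6_ok, (okE_cons.2 ⟨m24_g1_ok, (okE_cons.2 ⟨m24_g2_ok, (okE_nil 24)⟩)⟩)⟩)⟩)⟩)⟩)⟩)⟩)⟩)⟩)⟩)⟩)⟩)⟩)⟩)⟩)⟩)⟩)⟩)⟩)⟩)⟩)⟩)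

noncomputable def m24_g129 : Net := (Net.cons (nat_lit 1) (nat_lit 0x444500) (Net.cons (nat_lit 2) (nat_lit 139264) (Net.cons (nat_lit 4) (nat_lit 66048) (Net.cons (nat_lit 8) (nat_lit 164) (Net.cons (nat_lit 16) (nat_lit 253) (Net.cons (nat_lit 8) (nat_lit 43) (Net.cons (nat_lit 4) (nat_lit 986886) (Net.cons (nat_lit 2) (nat_lit 143921) (Net.cons (nat_lit 1) (nat_lit 345093) Net.nil)))))))))

theorem m24_g129_ok : Net.ok 24 m24_g129 = true := by decide +kernel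

noncomputable def m24_g130 : Net := (Net.cons (nat_lit 1) (nat_lit 0x514514) (Net.cons (nat_lit 2) (nat_lit 74016) (Net.cons (nat_lit 4) (nat_lit 592384) (Net.cons (nat_lit 8) (nat_lit 36) (Net.cons (nat_lit 16) (nat_lit 126) (Net.cons (nat_lit 8) (nat_lit 242) (Net.cons (nat_lit 4) (nat_lit 396290) (Net.cons (nat_lit 2) (nat_lit 0x302000) (Net.cons (nat_lit 1) (nat_lit 0x405541) Net.nil)))))))))

theorem m24_g130_ok : Net.ok 24 m24_g130 = true := by decide +kernel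

noncomputable def m24_g131 : Net := (Net.cons (nat_lit 1) (nat_lit 0x100054) (Net.cons (nat_lit 2) (nat_lit 131584) (Net.cons (nat_lit 4) (nat_lit 459008) (Net.cons (nat_lit 8) (nat_lit 192) (Net.cons (nat_lit 16) (nat_lit 235) (Net.cons (nat_lit 8) (nat_lit 143) (Net.cons (nat_lit 4) (nat_lit 527874) (Net.cons (nat_lit 2) (nat_lit 0x121220) (Net.cons (nat_lit 1) (nat_lit 0x150145) Net.nil)))))))))

theorem m24_g131_ok : Net.ok 24 m24_g131 = true := by decide +kernel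

noncomputable def m24t_c10_K : List Net := [m24_g129, m24_g130, m24_g131]

theorem m24t_c10_K_ok : okE 24 m24t_c10_K = true := (okE_cons.2 ⟨m24_g129_ok, (okE_cons.2 ⟨m24_g130_ok, (okE_cons.2 ⟨m24_g131_ok, (okE_nil 24)⟩)⟩)⟩)

noncomputable def m24t_c10_cnt_EG : List Net := [m24_g30, m24_g26, m24_g27, m24_g38, m24_g33, m24_g34, m24_g35, m24_g43, m24_g41, m24_g44, m24_g47, m24_g42, m24_g23, m24_g19, m24_g20, m24_g16, m24_g12, m24_g13, m24_g9, m24_g5, m24_g6, m24_g1, m24_g2, m24_g87]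

theorem m24t_c10_cnt_EG_ok : okE 24 m24t_c10_cnt_EG = true := (okE_cons.2 ⟨m24_g30_ok, (okE_cons.2 ⟨m24_g26_ok, (okE_cons.2 ⟨m24_g27_ok, (okE_cons.2 ⟨m24_g38_ok, (okE_cons.2 ⟨m24_g33_ok, (okE_cons.2 ⟨m24_g34_ok, (okE_cons.2 ⟨m24_g35_ok, (okE_cons.2 ⟨m24_g43_ok, (okE_cons.2 ⟨m24_g41_ok, (okE_cons.2 ⟨m24_g44_ok, (okE_cons.2 ⟨m24_g47_ok, (okE_cons.2 ⟨m24_g42_ok, (okE_cons.2 ⟨m24_g23_ok, (okE_cons.2 ⟨m24_g19_ok, (okE_cons.2 ⟨m24_g20_ok, (okE_cons.2 ⟨m24_g16_ok, (okE_cons.2 ⟨m24_g12_ok, (okE_cons.2 ⟨m24_g13_ok, (okE_cons.2 ⟨m24_g9_ok, (okE_cons.2 ⟨m24_g5_ok, (okE_cons.2 ⟨m24_g6_ok, (okE_cons.2 ⟨m24_g1_ok, (okE_cons.2 ⟨m24_g2_ok, (okE_cons.2 ⟨m24_g87_ok, (okE_nil 24)⟩)⟩)⟩)⟩)⟩)⟩)⟩)⟩)⟩)⟩)⟩)⟩)⟩)⟩)⟩)⟩)⟩)⟩)⟩)⟩)⟩)⟩)⟩)⟩)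

noncomputable def m24_g133 : Net := (Net.cons (nat_lit 1) (nat_lit 5456) (Net.cons (nat_lit 2) (nat_lit 0x132300) (Net.cons (nat_lit 4) (nat_lit 265984) (Net.cons (nat_lit 8) (nat_lit 96) (Net.cons (nat_lit 16) (nat_lit 122) (Net.cons (nat_lit 8) (nat_lit 229) (Net.cons (nat_lit 4) (nat_lit 656137) (Net.cons (nat_lit 2) (nat_lit 0x102113) (Net.cons (nat_lit 1) (nat_lit 332820) Net.nil)))))))))

theorem m24_g133_ok : Net.ok 24 m24_g133 = true := by decide +kernel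

noncomputable def m24_g134 : Net := (Net.cons (nat_lit 1) (nat_lit 0x110050) (Net.cons (nat_lit 2) (nat_lit 0x312220) (Net.cons (nat_lit 4) (nat_lit 264448) (Net.cons (nat_lit 8) (nat_lit 24) (Net.cons (nat_lit 16) (nat_lit 61) (Net.cons (nat_lit 8) (nat_lit 253) (Net.cons (nat_lit 4) (nat_lit 458765) (Net.cons (nat_lit 2) (nat_lit 0x310312) (Net.cons (nat_lit 1) (nat_lit 0x441054) Net.nil)))))))))

theorem m24_g134_ok : Net.ok 24 m24_g134 = true := by decide +kernel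

noncomputable def m24_g135 : Net := (Net.cons (nat_lit 1) (nat_lit 0x110100) (Net.cons (nat_lit 2) (nat_lit 0x232300) (Net.cons (nat_lit 4) (nat_lit 263168) (Net.cons (nat_lit 8) (nat_lit 64) (Net.cons (nat_lit 16) (nat_lit 230) (Net.cons (nat_lit 8) (nat_lit 72) (Net.cons (nat_lit 4) (nat_lit 460290) (Net.cons (nat_lit 2) (nat_lit 0x232300) (Net.cons (nat_lit 1) (nat_lit 0x110100) Net.nil)))))))))

theorem m24_g135_ok : Net.ok 24 m24_g135 = true := by decide +kernel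

noncomputable def m24t_c11_K : List Net := [m24_g133, m24_g134, m24_g135]

theorem m24t_c11_K_ok : okE 24 m24t_c11_K = true := (okE_cons.2 ⟨m24_g133_ok, (okE_cons.2 ⟨m24_g134_ok, (okE_cons.2 ⟨m24_g135_ok, (okE_nil 24)⟩)⟩)⟩)

noncomputable def m24t_c11_cnt_EG : List Net := [m24_g30, m24_g26, m24_g27, m24_g38, m24_g33, m24_g34, m24_g35, m24_g43, m24_g41, m24_g44, m24_g47, m24_g42, m24_g23, m24_g19, m24_g20, m24_g16, m24_g12, m24_g13, m24_g9, m24_g5, m24_g6, m24_g1, m24_g2]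

theorem m24t_c11_cnt_EG_ok : okE 24 m24t_c11_cnt_EG = true := (okE_cons.2 ⟨m24_g30_ok, (okE_cons.2 ⟨m24_g26_ok, (okE_cons.2 ⟨m24_g27_ok, (okE_cons.2 ⟨m24_g38_ok, (okE_cons.2 ⟨m24_g33_ok, (okE_cons.2 ⟨m24_g34_ok, (okE_cons.2 ⟨m24_g35_ok, (okE_cons.2 ⟨m24_g43_ok, (okE_cons.2 ⟨m24_g41_ok, (okE_cons.2 ⟨m24_g44_ok, (okE_cons.2 ⟨m24_g47_ok, (okE_cons.2 ⟨m24_g42_ok, (okE_cons.2 ⟨m24_g23_ok, (okE_cons.2 ⟨m24_g19_ok, (okE_cons.2 ⟨m24_g20_ok, (okE_cons.2 ⟨m24_g16_ok, (okE_cons.2 ⟨m24_g12_ok, (okE_cons.2 ⟨m24_g13_ok, (okE_cons.2 ⟨m24_g9_ok, (okE_cons.2 ⟨m24_g5_ok, (okE_cons.2 ⟨m24_g6_ok, (okE_cons.2 ⟨m24_g1_ok, (okE_cons.2 ⟨m24_g2_ok, (okE_nil 24)⟩)⟩)⟩)⟩)⟩)⟩)⟩)⟩)⟩)⟩)⟩)⟩)⟩)⟩)⟩)⟩)⟩)⟩)⟩)⟩)⟩)⟩)⟩)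

noncomputable def m24_g137 : Net := (Net.cons (nat_lit 1) (nat_lit 328960) (Net.cons (nat_lit 2) (nat_lit 143408) (Net.cons (nat_lit 16) (nat_lit 158) (Net.cons (nat_lit 8) (nat_lit 25) (Net.cons (nat_lit 4) (nat_lit 461058) (Net.cons (nat_lit 2) (nat_lit 0x122013) (Net.cons (nat_lit 1) (nat_lit 0x100401) Net.nil)))))))

theorem m24_g137_ok : Net.ok 24 m24_g137 = true := by decide +kernel

noncomputable def m24_g138 : Net := (Net.cons (nat_lit 1) (nat_lit 4432) (Net.cons (nat_lit 2) (nat_lit 208928) (Net.cons (nat_lit 4) (nat_lit 590080) (Net.cons (nat_lit 8) (nat_lit 132) (Net.cons (nat_lit 16) (nat_lit 165) (Net.cons (nat_lit 8) (nat_lit 75) (Net.cons (nat_lit 4) (nat_lit 591373) (Net.cons (nat_lit 2) (nat_lit 0x310320) (Net.cons (nat_lit 1) (nat_lit 0x150055) Net.nil)))))))))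

theorem m24_g138_ok : Net.ok 24 m24_g138 = true := by decide +kernel

noncomputable def m24t_c12_K : List Net := [m24_g137, m24_g138, m24_g135]

theorem m24t_c12_K_ok : okE 24 m24t_c12_K = true := (okE_cons.2 ⟨m24_g137_ok, (okE_cons.2 ⟨m24_g138_ok, (okE_cons.2 ⟨m24_g135_ok, (okE_nil 24)⟩)⟩)⟩)

noncomputable def m24t_c12_cnt_EG : List Net := [m24_g30, m24_g26, m24_g27, m24_g38, m24_g33, m24_g34, m24_g35, m24_g43, m24_g41, m24_g44, m24_g47, m24_g42, m24_g23, m24_g19, m24_g20, m24_g16, m24_g12, m24_g13, m24_g9, m24_g5, m24_g6, m24_g1, m24_g2]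

theorem m24t_c12_cnt_EG_ok : okE 24 m24t_c12_cnt_EG = true := (okE_cons.2 ⟨m24_g30_ok, (okE_cons.2 ⟨m24_g26_ok, (okE_cons.2 ⟨m24_g27_ok, (okE_cons.2 ⟨m24_g38_ok, (okE_cons.2 ⟨m24_g33_ok, (okE_cons.2 ⟨m24_g34_ok, (okE_cons.2 ⟨m24_g35_ok, (okE_cons.2 ⟨m24_g43_ok, (okE_cons.2 ⟨m24_g41_ok, (okE_cons.2 ⟨m24_g44_ok, (okE_cons.2 ⟨m24_g47_ok, (okE_cons.2 ⟨m24_g42_ok, (okE_cons.2 ⟨m24_g23_ok, (okE_cons.2 ⟨m24_g19_ok, (okE_cons.2 ⟨m24_g20_ok, (okE_cons.2 ⟨m24_g16_ok, (okE_cons.2 ⟨m24_g12_ok, (okE_cons.2 ⟨m24_g13_ok, (okE_cons.2 ⟨m24_g9_ok, (okE_cons.2 ⟨m24_g5_ok, (okE_cons.2 ⟨m24_g6_ok, (okE_cons.2 ⟨m24_g1_ok, (okE_cons.2 ⟨m24_g2_ok, (okE_nil 24)⟩)⟩)⟩)⟩)⟩)⟩)⟩)⟩)⟩)⟩)⟩)⟩)⟩)⟩)⟩)⟩)⟩)⟩)⟩)⟩)⟩)⟩)⟩)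

noncomputable def m24_g140 : Net := (Net.cons (nat_lit 1) (nat_lit 0x511000) (Net.cons (nat_lit 2) (nat_lit 209152) (Net.cons (nat_lit 4) (nat_lit 656896) (Net.cons (nat_lit 8) (nat_lit 40) (Net.cons (nat_lit 16) (nat_lit 62) (Net.cons (nat_lit 8) (nat_lit 134) (Net.cons (nat_lit 4) (nat_lit 985605) (Net.cons (nat_lit 2) (nat_lit 0x111312) (Net.cons (nat_lit 1) (nat_lit 0x550000) Net.nil)))))))))

theorem m24_g140_ok : Net.ok 24 m24_g140 = true := by decide +kernel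

noncomputable def m24_g141 : Net := (Net.cons (nat_lit 1) (nat_lit 0x454544) (Net.cons (nat_lit 2) (nat_lit 0x230010) (Net.cons (nat_lit 4) (nat_lit 131328) (Net.cons (nat_lit 8) (nat_lit 33) (Net.cons (nat_lit 16) (nat_lit 99) (Net.cons (nat_lit 8) (nat_lit 87) (Net.cons (nat_lit 4) (nat_lit 330756) (Net.cons (nat_lit 2) (nat_lit 0x210000) (Net.cons (nat_lit 1) (nat_lit 87108) Net.nil)))))))))

theorem m24_g141_ok : Net.ok 24 m24_g141 = true := by decide +kernel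

noncomputable def m24_g142 : Net := (Net.cons (nat_lit 1) (nat_lit 0x100000) (Net.cons (nat_lit 2) (nat_lit 0x121200) (Net.cons (nat_lit 4) (nat_lit 262144) (Net.cons (nat_lit 8) (nat_lit 73) (Net.cons (nat_lit 16) (nat_lit 251) (Net.cons (nat_lit 8) (nat_lit 73) (Net.cons (nat_lit 4) (nat_lit 262656) (Net.cons (nat_lit 2) (nat_lit 0x121200) (Net.cons (nat_lit 1) (nat_lit 0x100000) Net.nil)))))))))

theorem m24_g142_ok : Net.ok 24 m24_g142 = true := by decide +kernel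

noncomputable def m24t_c13_K : List Net := [m24_g140, m24_g141, m24_g142]

theorem m24t_c13_K_ok : okE 24 m24t_c13_K = true := (okE_cons.2 ⟨m24_g140_ok, (okE_cons.2 ⟨m24_g141_ok, (okE_cons.2 ⟨m24_g142_ok, (okE_nil 24)⟩)⟩)⟩)

noncomputable def m24t_c13_cnt_EG : List Net := [m24_g43, m24_g41, m24_g44, m24_g47, m24_g42, m24_g38, m24_g33, m24_g34, m24_g35, m24_g30, m24_g26, m24_g27, m24_g23, m24_g19, m24_g20, m24_g16, m24_g12, m24_g13, m24_g9, m24_g5, m24_g6, m24_g1, m24_g2]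

theorem m24t_c13_cnt_EG_ok : okE 24 m24t_c13_cnt_EG = true := (okE_cons.2 ⟨m24_g43_ok, (okE_cons.2 ⟨m24_g41_ok, (okE_cons.2 ⟨m24_g44_ok, (okE_cons.2 ⟨m24_g47_ok, (okE_cons.2 ⟨m24_g42_ok, (okE_cons.2 ⟨m24_g38_ok, (okE_cons.2 ⟨m24_g33_ok, (okE_cons.2 ⟨m24_g34_ok, (okE_cons.2 ⟨m24_g35_ok, (okE_cons.2 ⟨m24_g30_ok, (okE_cons.2 ⟨m24_g26_ok, (okE_cons.2 ⟨m24_g27_ok, (okE_cons.2 ⟨m24_g23_ok, (okE_cons.2 ⟨m24_g19_ok, (okE_cons.2 ⟨m24_g20_ok, (okE_cons.2 ⟨m24_g16_ok, (okE_cons.2 ⟨m24_g12_ok, (okE_cons.2 ⟨m24_g13_ok, (okE_cons.2 ⟨m24_g9_ok, (okE_cons.2 ⟨m24_g5_ok, (okE_cons.2 ⟨m24_g6_ok, (okE_cons.2 ⟨m24_g1_ok, (okE_cons.2 ⟨m24_g2_ok, (okE_nil 24)⟩)⟩)⟩)⟩)⟩)⟩)⟩)⟩)⟩)⟩)⟩)⟩)⟩)⟩)⟩)⟩)⟩)⟩)⟩)⟩)⟩)⟩)⟩)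

noncomputable def m24_g144 : Net := (Net.cons (nat_lit 1) (nat_lit 0x405550) (Net.cons (nat_lit 2) (nat_lit 0x220100) (Net.cons (nat_lit 4) (nat_lit 591104) (Net.cons (nat_lit 8) (nat_lit 72) (Net.cons (nat_lit 16) (nat_lit 88) (Net.cons (nat_lit 8) (nat_lit 118) (Net.cons (nat_lit 4) (nat_lit 657928) (Net.cons (nat_lit 2) (nat_lit 0x212323) (Net.cons (nat_lit 1) (nat_lit 0x515404) Net.nil)))))))))

theorem m24_g144_ok : Net.ok 24 m24_g144 = true := by decide +kernel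

noncomputable def m24_g145 : Net := (Net.cons (nat_lit 1) (nat_lit 0x515054) (Net.cons (nat_lit 2) (nat_lit 0x211100) (Net.cons (nat_lit 4) (nat_lit 262144) (Net.cons (nat_lit 8) (nat_lit 48) (Net.cons (nat_lit 16) (nat_lit 253) (Net.cons (nat_lit 8) (nat_lit 46) (Net.cons (nat_lit 4) (nat_lit 658183) (Net.cons (nat_lit 2) (nat_lit 0x230013) (Net.cons (nat_lit 1) (nat_lit 81937) Net.nil)))))))))

theorem m24_g145_ok : Net.ok 24 m24_g145 = true := by decide +kernel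

noncomputable def m24t_c14_K : List Net := [m24_g144, m24_g145]

theorem m24t_c14_K_ok : okE 24 m24t_c14_K = true := (okE_cons.2 ⟨m24_g144_ok, (okE_cons.2 ⟨m24_g145_ok, (okE_nil 24)⟩)⟩)

noncomputable def m24t_c14_cnt_EG : List Net := [m24_g43, m24_g41, m24_g44, m24_g47, m24_g42, m24_g38, m24_g33, m24_g34, m24_g35, m24_g30, m24_g26, m24_g27, m24_g23, m24_g19, m24_g20, m24_g16, m24_g12, m24_g13, m24_g9, m24_g5, m24_g6, m24_g1, m24_g2]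

theorem m24t_c14_cnt_EG_ok : okE 24 m24t_c14_cnt_EG = true := (okE_cons.2 ⟨m24_g43_ok, (okE_cons.2 ⟨m24_g41_ok, (okE_cons.2 ⟨m24_g44_ok, (okE_cons.2 ⟨m24_g47_ok, (okE_cons.2 ⟨m24_g42_ok, (okE_cons.2 ⟨m24_g38_ok, (okE_cons.2 ⟨m24_g33_ok, (okE_cons.2 ⟨m24_g34_ok, (okE_cons.2 ⟨m24_g35_ok, (okE_cons.2 ⟨m24_g30_ok, (okE_cons.2 ⟨m24_g26_ok, (okE_cons.2 ⟨m24_g27_ok, (okE_cons.2 ⟨m24_g23_ok, (okE_cons.2 ⟨m24_g19_ok, (okE_cons.2 ⟨m24_g20_ok, (okE_cons.2 ⟨m24_g16_ok, (okE_cons.2 ⟨m24_g12_ok, (okE_cons.2 ⟨m24_g13_ok, (okE_cons.2 ⟨m24_g9_ok, (okE_cons.2 ⟨m24_g5_ok, (okE_cons.2 ⟨m24_g6_ok, (okE_cons.2 ⟨m24_g1_ok, (okE_cons.2 ⟨m24_g2_ok, (okE_nil 24)⟩)⟩)⟩)⟩)⟩)⟩)⟩)⟩)⟩)⟩)⟩)⟩)⟩)⟩)⟩)⟩)⟩)⟩)⟩)⟩)⟩)⟩)⟩)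

noncomputable def m24_g147 : Net := (Net.cons (nat_lit 1) (nat_lit 0x504454) (Net.cons (nat_lit 2) (nat_lit 0x300020) (Net.cons (nat_lit 4) (nat_lit 525056) (Net.cons (nat_lit 8) (nat_lit 64) (Net.cons (nat_lit 16) (nat_lit 236) (Net.cons (nat_lit 8) (nat_lit 94) (Net.cons (nat_lit 4) (nat_lit 395525) (Net.cons (nat_lit 2) (nat_lit 140064) (Net.cons (nat_lit 1) (nat_lit 0x400041) Net.nil)))))))))

theorem m24_g147_ok : Net.ok 24 m24_g147 = true := by decide +kernel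

noncomputable def m24t_c15_K : List Net := [m24_g147]

theorem m24t_c15_K_ok : okE 24 m24t_c15_K = true := (okE_cons.2 ⟨m24_g147_ok, (okE_nil 24)⟩)

noncomputable def m24t_c15_cnt_EG : List Net := [m24_g30, m24_g26, m24_g27, m24_g38, m24_g33, m24_g34, m24_g35, m24_g43, m24_g41, m24_g44, m24_g47, m24_g42, m24_g23, m24_g19, m24_g20, m24_g16, m24_g12, m24_g13, m24_g9, m24_g5, m24_g6, m24_g1, m24_g2]

theorem m24t_c15_cnt_EG_ok : okE 24 m24t_c15_cnt_EG = true := (okE_cons.2 ⟨m24_g30_ok, (okE_cons.2 ⟨m24_g26_ok, (okE_cons.2 ⟨m24_g27_ok, (okE_cons.2 ⟨m24_g38_ok, (okE_cons.2 ⟨m24_g33_ok, (okE_cons.2 ⟨m24_g34_ok, (okE_cons.2 ⟨m24_g35_ok, (okE_cons.2 ⟨m24_g43_ok, (okE_cons.2 ⟨m24_g41_ok, (okE_cons.2 ⟨m24_g44_ok, (okE_cons.2 ⟨m24_g47_ok, (okE_cons.2 ⟨m24_g42_ok, (okE_cons.2 ⟨m24_g23_ok, (okE_cons.2 ⟨m24_g19_ok, (okE_cons.2 ⟨m24_g20_ok, (okE_cons.2 ⟨m24_g16_ok,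 (okE_cons.2 ⟨m24_g12_ok, (okE_cons.2 ⟨m24_g13_ok, (okE_cons.2 ⟨m24_g9_ok, (okE_cons.2 ⟨m24_g5_ok, (okE_cons.2 ⟨m24_g6_ok, (okE_cons.2 ⟨m24_g1_ok, (okE_cons.2 ⟨m24_g2_ok, (okE_nil 24)⟩)⟩)⟩)⟩)⟩)⟩)⟩)⟩)⟩)⟩)⟩)⟩)⟩)⟩)⟩)⟩)⟩)⟩)⟩)⟩)⟩)⟩)⟩)

noncomputable def m24_g149 : Net := (Net.cons (nat_lit 1) (nat_lit 0x500444) (Net.cons (nat_lit 2) (nat_lit 0x133200) (Net.cons (nat_lit 4) (nat_lit 461312) (Net.cons (nat_lit 8) (nat_lit 105) (Net.cons (nat_lit 16) (nat_lit 239) (Net.cons (nat_lit 8) (nat_lit 83) (Net.cons (nat_lit 4) (nat_lit 655873) (Net.cons (nat_lit 2) (nat_lit 12563) (Net.cons (nat_lit 1) (nat_lit 4161) Net.nil)))))))))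

theorem m24_g149_ok : Net.ok 24 m24_g149 = true := by decide +kernel

noncomputable def m24t_c16_K : List Net := [m24_g149]

theorem m24t_c16_K_ok : okE 24 m24t_c16_K = true := (okE_cons.2 ⟨m24_g149_ok, (okE_nil 24)⟩)

noncomputable def m24t_c16_cnt_EG : List Net := [m24_g43, m24_g41, m24_g44, m24_g47, m24_g42, m24_g38, m24_g33, m24_g34, m24_g35, m24_g30, m24_g26, m24_g27, m24_g23, m24_g19, m24_g20, m24_g16, m24_g12, m24_g13, m24_g9, m24_g5, m24_g6, m24_g1, m24_g2]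

theorem m24t_c16_cnt_EG_ok : okE 24 m24t_c16_cnt_EG = true := (okE_cons.2 ⟨m24_g43_ok, (okE_cons.2 ⟨m24_g41_ok, (okE_cons.2 ⟨m24_g44_ok, (okE_cons.2 ⟨m24_g47_ok, (okE_cons.2 ⟨m24_g42_ok, (okE_cons.2 ⟨m24_g38_ok, (okE_cons.2 ⟨m24_g33_ok, (okE_cons.2 ⟨m24_g34_ok, (okE_cons.2 ⟨m24_g35_ok, (okE_cons.2 ⟨m24_g30_ok, (okE_cons.2 ⟨m24_g26_ok, (okE_cons.2 ⟨m24_g27_ok, (okE_cons.2 ⟨m24_g23_ok, (okE_cons.2 ⟨m24_g19_ok, (okE_cons.2 ⟨m24_g20_ok, (okE_cons.2 ⟨m24_g16_ok, (okE_cons.2 ⟨m24_g12_ok, (okE_cons.2 ⟨m24_g13_ok, (okE_cons.2 ⟨m24_g9_ok, (okE_cons.2 ⟨m24_g5_ok, (okE_cons.2 ⟨m24_g6_ok, (okE_cons.2 ⟨m24_g1_ok, (okE_cons.2 ⟨m24_g2_ok, (okE_nil 24)⟩)⟩)⟩)⟩)⟩)⟩)⟩)⟩)⟩)⟩)⟩)⟩)⟩)⟩)⟩)⟩)⟩)⟩)⟩)⟩)⟩)⟩)⟩)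

noncomputable def m24_g151 : Net := (Net.cons (nat_lit 1) (nat_lit 0x550010) (Net.cons (nat_lit 2) (nat_lit 0x330000) (Net.cons (nat_lit 4) (nat_lit 264192) (Net.cons (nat_lit 8) (nat_lit 111) (Net.cons (nat_lit 16) (nat_lit 111) (Net.cons (nat_lit 8) (nat_lit 22) (Net.cons (nat_lit 4) (nat_lit 854535) (Net.cons (nat_lit 2) (nat_lit 0x202032) (Net.cons (nat_lit 1) (nat_lit 263252) Net.nil)))))))))

theorem m24_g151_ok : Net.ok 24 m24_g151 = true := by decide +kernel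

noncomputable def m24t_c17_K : List Net := [m24_g151]

theorem m24t_c17_K_ok : okE 24 m24t_c17_K = true := (okE_cons.2 ⟨m24_g151_ok, (okE_nil 24)⟩)

noncomputable def m24t_c17_cnt_EG : List Net := [m24_g30, m24_g26, m24_g27, m24_g38, m24_g33, m24_g34, m24_g35, m24_g43, m24_g41, m24_g44, m24_g47, m24_g42, m24_g23, m24_g19, m24_g20, m24_g16, m24_g12, m24_g13, m24_g9, m24_g5, m24_g6, m24_g1, m24_g2]

theorem m24t_c17_cnt_EG_ok : okE 24 m24t_c17_cnt_EG = true := (okE_cons.2 ⟨m24_g30_ok, (okE_cons.2 ⟨m24_g26_ok, (okE_cons.2 ⟨m24_g27_ok, (okE_cons.2 ⟨m24_g38_ok, (okE_cons.2 ⟨m24_g33_ok, (okE_cons.2 ⟨m24_g34_ok, (okE_cons.2 ⟨m24_g35_ok, (okE_cons.2 ⟨m24_g43_ok, (okE_cons.2 ⟨m24_g41_ok, (okE_cons.2 ⟨m24_g44_ok, (okE_cons.2 ⟨m24_g47_ok, (okE_cons.2 ⟨m24_g42_ok, (okE_cons.2 ⟨m24_g23_ok, (okE_cons.2 ⟨m24_g19_ok, (okE_cons.2 ⟨m24_g20_ok, (okE_cons.2 ⟨m24_g16_ok,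 (okE_cons.2 ⟨m24_g12_ok, (okE_cons.2 ⟨m24_g13_ok, (okE_cons.2 ⟨m24_g9_ok, (okE_cons.2 ⟨m24_g5_ok, (okE_cons.2 ⟨m24_g6_ok, (okE_cons.2 ⟨m24_g1_ok, (okE_cons.2 ⟨m24_g2_ok, (okE_nil 24)⟩)⟩)⟩)⟩)⟩)⟩)⟩)⟩)⟩)⟩)⟩)⟩)⟩)⟩)⟩)⟩)⟩)⟩)⟩)⟩)⟩)⟩)⟩)

noncomputable def m24_g153 : Net := (Net.cons (nat_lit 1) (nat_lit 0x544140) (Net.cons (nat_lit 2) (nat_lit 0x100010) (Net.cons (nat_lit 4) (nat_lit 133888) (Net.cons (nat_lit 8) (nat_lit 148) (Net.cons (nat_lit 16) (nat_lit 223) (Net.cons (nat_lit 8) (nat_lit 96) (Net.cons (nat_lit 4) (nat_lit 132868) (Net.cons (nat_lit 2) (nat_lit 0x110203) (Net.cons (nat_lit 1) (nat_lit 0x405054) Net.nil)))))))))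

theorem m24_g153_ok : Net.ok 24 m24_g153 = true := by decide +kernel

noncomputable def m24t_c18_K : List Net := [m24_g153]

theorem m24t_c18_K_ok : okE 24 m24t_c18_K = true := (okE_cons.2 ⟨m24_g153_ok, (okE_nil 24)⟩)

noncomputable def m24t_c18_cnt_EG : List Net := [m24_g43, m24_g41, m24_g44, m24_g47, m24_g42, m24_g38, m24_g33, m24_g34, m24_g35, m24_g30, m24_g26, m24_g27, m24_g23, m24_g19, m24_g20, m24_g16, m24_g12, m24_g13, m24_g9, m24_g5, m24_g6, m24_g1, m24_g2]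

theorem m24t_c18_cnt_EG_ok : okE 24 m24t_c18_cnt_EG = true := (okE_cons.2 ⟨m24_g43_ok, (okE_cons.2 ⟨m24_g41_ok, (okE_cons.2 ⟨m24_g44_ok, (okE_cons.2 ⟨m24_g47_ok, (okE_cons.2 ⟨m24_g42_ok, (okE_cons.2 ⟨m24_g38_ok, (okE_cons.2 ⟨m24_g33_ok, (okE_cons.2 ⟨m24_g34_ok, (okE_cons.2 ⟨m24_g35_ok, (okE_cons.2 ⟨m24_g30_ok, (okE_cons.2 ⟨m24_g26_ok, (okE_cons.2 ⟨m24_g27_ok, (okE_cons.2 ⟨m24_g23_ok, (okE_cons.2 ⟨m24_g19_ok, (okE_cons.2 ⟨m24_g20_ok, (okE_cons.2 ⟨m24_g16_ok, (okE_cons.2 ⟨m24_g12_ok, (okE_cons.2 ⟨m24_g13_ok, (okE_cons.2 ⟨m24_g9_ok, (okE_cons.2 ⟨m24_g5_ok, (okE_cons.2 ⟨m24_g6_ok, (okE_cons.2 ⟨m24_g1_ok, (okE_cons.2 ⟨m24_g2_ok, (okE_nil 24)⟩)⟩)⟩)⟩)⟩)⟩)⟩)⟩)⟩)⟩)⟩)⟩)⟩)⟩)⟩)⟩)⟩)⟩)⟩)⟩)⟩)⟩)⟩)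

noncomputable def m24_g155 : Net := (Net.cons (nat_lit 1) (nat_lit 66576) (Net.cons (nat_lit 2) (nat_lit 0x302000) (Net.cons (nat_lit 4) (nat_lit 327680) (Net.cons (nat_lit 8) (nat_lit 8) (Net.cons (nat_lit 16) (nat_lit 207) (Net.cons (nat_lit 8) (nat_lit 97) (Net.cons (nat_lit 4) (nat_lit 66570) (Net.cons (nat_lit 2) (nat_lit 0x202231) (Net.cons (nat_lit 1) (nat_lit 0x511110) Net.nil)))))))))

theorem m24_g155_ok : Net.ok 24 m24_g155 = true := by decide +kernel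

noncomputable def m24t_c19_K : List Net := [m24_g155]

theorem m24t_c19_K_ok : okE 24 m24t_c19_K = true := (okE_cons.2 ⟨m24_g155_ok, (okE_nil 24)⟩)

noncomputable def m24t_c19_cnt_EG : List Net := [m24_g43, m24_g41, m24_g44, m24_g47, m24_g42, m24_g38, m24_g33, m24_g34, m24_g35, m24_g30, m24_g26, m24_g27, m24_g23, m24_g19, m24_g20, m24_g16, m24_g12, m24_g13, m24_g9, m24_g5, m24_g6, m24_g1, m24_g2]

theorem m24t_c19_cnt_EG_ok : okE 24 m24t_c19_cnt_EG = true := (okE_cons.2 ⟨m24_g43_ok, (okE_cons.2 ⟨m24_g41_ok, (okE_cons.2 ⟨m24_g44_ok, (okE_cons.2 ⟨m24_g47_ok, (okE_cons.2 ⟨m24_g42_ok, (okE_cons.2 ⟨m24_g38_ok, (okE_cons.2 ⟨m24_g33_ok, (okE_cons.2 ⟨m24_g34_ok, (okE_cons.2 ⟨m24_g35_ok, (okE_cons.2 ⟨m24_g30_ok, (okE_cons.2 ⟨m24_g26_ok, (okE_cons.2 ⟨m24_g27_ok, (okE_cons.2 ⟨m24_g23_ok, (okE_cons.2 ⟨m24_g19_ok, (okE_cons.2 ⟨m24_g20_ok, (okE_cons.2 ⟨m24_g16_ok,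 (okE_cons.2 ⟨m24_g12_ok, (okE_cons.2 ⟨m24_g13_ok, (okE_cons.2 ⟨m24_g9_ok, (okE_cons.2 ⟨m24_g5_ok, (okE_cons.2 ⟨m24_g6_ok, (okE_cons.2 ⟨m24_g1_ok, (okE_cons.2 ⟨m24_g2_ok, (okE_nil 24)⟩)⟩)⟩)⟩)⟩)⟩)⟩)⟩)⟩)⟩)⟩)⟩)⟩)⟩)⟩)⟩)⟩)⟩)⟩)⟩)⟩)⟩)⟩)

noncomputable def m24_g157 : Net := (Net.cons (nat_lit 1) (nat_lit 344144) (Net.cons (nat_lit 2) (nat_lit 0x132020) (Net.cons (nat_lit 4) (nat_lit 69120) (Net.cons (nat_lit 8) (nat_lit 82) (Net.cons (nat_lit 16) (nat_lit 115) (Net.cons (nat_lit 8) (nat_lit 126) (Net.cons (nat_lit 4) (nat_lit 593161) (Net.cons (nat_lit 2) (nat_lit 0x321230) (Net.cons (nat_lit 1) (nat_lit 0x441450) Net.nil)))))))))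

theorem m24_g157_ok : Net.ok 24 m24_g157 = true := by decide +kernel

noncomputable def m24t_c20_K : List Net := [m24_g157]

theorem m24t_c20_K_ok : okE 24 m24t_c20_K = true := (okE_cons.2 ⟨m24_g157_ok, (okE_nil 24)⟩)

noncomputable def m24t_c20_cnt_EG : List Net := [m24_g43, m24_g41, m24_g44, m24_g47, m24_g42, m24_g38, m24_g33, m24_g34, m24_g35, m24_g30, m24_g26, m24_g27, m24_g23, m24_g19, m24_g20, m24_g16, m24_g12, m24_g13, m24_g9, m24_g5, m24_g6, m24_g1, m24_g2]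

theorem m24t_c20_cnt_EG_ok : okE 24 m24t_c20_cnt_EG = true := (okE_cons.2 ⟨m24_g43_ok, (okE_cons.2 ⟨m24_g41_ok, (okE_cons.2 ⟨m24_g44_ok, (okE_cons.2 ⟨m24_g47_ok, (okE_cons.2 ⟨m24_g42_ok, (okE_cons.2 ⟨m24_g38_ok, (okE_cons.2 ⟨m24_g33_ok, (okE_cons.2 ⟨m24_g34_ok, (okE_cons.2 ⟨m24_g35_ok, (okE_cons.2 ⟨m24_g30_ok, (okE_cons.2 ⟨m24_g26_ok, (okE_cons.2 ⟨m24_g27_ok, (okE_cons.2 ⟨m24_g23_ok, (okE_cons.2 ⟨m24_g19_ok, (okE_cons.2 ⟨m24_g20_ok, (okE_cons.2 ⟨m24_g16_ok, (okE_cons.2 ⟨m24_g12_ok, (okE_cons.2 ⟨m24_g13_ok, (okE_cons.2 ⟨m24_g9_ok, (okE_cons.2 ⟨m24_g5_ok, (okE_cons.2 ⟨m24_g6_ok, (okE_cons.2 ⟨m24_g1_ok, (okE_cons.2 ⟨m24_g2_ok, (okE_nil 24)⟩)⟩)⟩)⟩)⟩)⟩)⟩)⟩)⟩)⟩)⟩)⟩)⟩)⟩)⟩)⟩)⟩)⟩)⟩)⟩)⟩)⟩)⟩)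

noncomputable def m24_g159 : Net := (Net.cons (nat_lit 1) (nat_lit 21760) (Net.cons (nat_lit 2) (nat_lit 78096) (Net.cons (nat_lit 4) (nat_lit 264704) (Net.cons (nat_lit 8) (nat_lit 15) (Net.cons (nat_lit 16) (nat_lit 63) (Net.cons (nat_lit 8) (nat_lit 238) (Net.cons (nat_lit 4) (nat_lit 196613) (Net.cons (nat_lit 2) (nat_lit 0x330330) (Net.cons (nat_lit 1) (nat_lit 0x555044) Net.nil)))))))))

theorem m24_g159_ok : Net.ok 24 m24_g159 = true := by decide +kernel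

noncomputable def m24t_c21_K : List Net := [m24_g159]

theorem m24t_c21_K_ok : okE 24 m24t_c21_K = true := (okE_cons.2 ⟨m24_g159_ok, (okE_nil 24)⟩)

noncomputable def m24t_c21_cnt_EG : List Net := [m24_g43, m24_g41, m24_g44, m24_g47, m24_g42, m24_g38, m24_g33, m24_g34, m24_g35, m24_g30, m24_g26, m24_g27, m24_g23, m24_g19, m24_g20, m24_g16, m24_g12, m24_g13, m24_g9, m24_g5, m24_g6, m24_g1, m24_g2]

theorem m24t_c21_cnt_EG_ok : okE 24 m24t_c21_cnt_EG = true := (okE_cons.2 ⟨m24_g43_ok, (okE_cons.2 ⟨m24_g41_ok, (okE_cons.2 ⟨m24_g44_ok, (okE_cons.2 ⟨m24_g47_ok, (okE_cons.2 ⟨m24_g42_ok, (okE_cons.2 ⟨m24_g38_ok, (okE_cons.2 ⟨m24_g33_ok, (okE_cons.2 ⟨m24_g34_ok, (okE_cons.2 ⟨m24_g35_ok, (okE_cons.2 ⟨m24_g30_ok, (okE_cons.2 ⟨m24_g26_ok, (okE_cons.2 ⟨m24_g27_ok, (okE_cons.2 ⟨m24_g23_ok, (okE_cons.2 ⟨m24_g19_ok, (okE_cons.2 ⟨m24_g20_ok, (okE_cons.2 ⟨m24_g16_ok,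 (okE_cons.2 ⟨m24_g12_ok, (okE_cons.2 ⟨m24_g13_ok, (okE_cons.2 ⟨m24_g9_ok, (okE_cons.2 ⟨m24_g5_ok, (okE_cons.2 ⟨m24_g6_ok, (okE_cons.2 ⟨m24_g1_ok, (okE_cons.2 ⟨m24_g2_ok, (okE_nil 24)⟩)⟩)⟩)⟩)⟩)⟩)⟩)⟩)⟩)⟩)⟩)⟩)⟩)⟩)⟩)⟩)⟩)⟩)⟩)⟩)⟩)⟩)⟩)

noncomputable def m24_g161 : Net := (Net.cons (nat_lit 1) (nat_lit 279808) (Net.cons (nat_lit 2) (nat_lit 0x313000) (Net.cons (nat_lit 4) (nat_lit 458752) (Net.cons (nat_lit 8) (nat_lit 201) (Net.cons (nat_lit 16) (nat_lit 203) (Net.cons (nat_lit 8) (nat_lit 27) (Net.cons (nat_lit 4) (nat_lit 198414) (Net.cons (nat_lit 2) (nat_lit 0x300100) (Net.cons (nat_lit 1) (nat_lit 0x415541) Net.nil)))))))))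

theorem m24_g161_ok : Net.ok 24 m24_g161 = true := by decide +kernel

noncomputable def m24t_c22_K : List Net := [m24_g161]

theorem m24t_c22_K_ok : okE 24 m24t_c22_K = true := (okE_cons.2 ⟨m24_g161_ok, (okE_nil 24)⟩)

noncomputable def m24t_c22_cnt_EG : List Net := [m24_g43, m24_g41, m24_g44, m24_g47, m24_g42, m24_g38, m24_g33, m24_g34, m24_g35, m24_g30, m24_g26, m24_g27, m24_g23, m24_g19, m24_g20, m24_g16, m24_g12, m24_g13, m24_g9, m24_g5, m24_g6, m24_g1, m24_g2]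

theorem m24t_c22_cnt_EG_ok : okE 24 m24t_c22_cnt_EG = true := (okE_cons.2 ⟨m24_g43_ok, (okE_cons.2 ⟨m24_g41_ok, (okE_cons.2 ⟨m24_g44_ok, (okE_cons.2 ⟨m24_g47_ok, (okE_cons.2 ⟨m24_g42_ok, (okE_cons.2 ⟨m24_g38_ok, (okE_cons.2 ⟨m24_g33_ok, (okE_cons.2 ⟨m24_g34_ok, (okE_cons.2 ⟨m24_g35_ok, (okE_cons.2 ⟨m24_g30_ok, (okE_cons.2 ⟨m24_g26_ok, (okE_cons.2 ⟨m24_g27_ok, (okE_cons.2 ⟨m24_g23_ok, (okE_cons.2 ⟨m24_g19_ok, (okE_cons.2 ⟨m24_g20_ok, (okE_cons.2 ⟨m24_g16_ok, (okE_cons.2 ⟨m24_g12_ok, (okE_cons.2 ⟨m24_g13_ok, (okE_cons.2 ⟨m24_g9_ok, (okE_cons.2 ⟨m24_g5_ok, (okE_cons.2 ⟨m24_g6_ok, (okE_cons.2 ⟨m24_g1_ok, (okE_cons.2 ⟨m24_g2_ok, (okE_nil 24)⟩)⟩)⟩)⟩)⟩)⟩)⟩)⟩)⟩)⟩)⟩)⟩)⟩)⟩)⟩)⟩)⟩)⟩)⟩)⟩)⟩)⟩)⟩)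

noncomputable def m24_g163 : Net := (Net.cons (nat_lit 1) (nat_lit 282640) (Net.cons (nat_lit 2) (nat_lit 0x223000) (Net.cons (nat_lit 4) (nat_lit 197632) (Net.cons (nat_lit 8) (nat_lit 164) (Net.cons (nat_lit 16) (nat_lit 252) (Net.cons (nat_lit 8) (nat_lit 204) (Net.cons (nat_lit 4) (nat_lit 787722) (Net.cons (nat_lit 2) (nat_lit 0x222323) (Net.cons (nat_lit 1) (nat_lit 0x501554) Net.nil)))))))))

theorem m24_g163_ok : Net.ok 24 m24_g163 = true := by decide +kernel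

noncomputable def m24t_c23_K : List Net := [m24_g163]

theorem m24t_c23_K_ok : okE 24 m24t_c23_K = true := (okE_cons.2 ⟨m24_g163_ok, (okE_nil 24)⟩)

noncomputable def m24t_c23_cnt_EG : List Net := [m24_g43, m24_g41, m24_g44, m24_g47, m24_g42, m24_g38, m24_g33, m24_g34, m24_g35, m24_g30, m24_g26, m24_g27, m24_g23, m24_g19, m24_g20, m24_g16, m24_g12, m24_g13, m24_g9, m24_g5, m24_g6, m24_g1, m24_g2]

theorem m24t_c23_cnt_EG_ok : okE 24 m24t_c23_cnt_EG = true := (okE_cons.2 ⟨m24_g43_ok, (okE_cons.2 ⟨m24_g41_ok, (okE_cons.2 ⟨m24_g44_ok, (okE_cons.2 ⟨m24_g47_ok, (okE_cons.2 ⟨m24_g42_ok, (okE_cons.2 ⟨m24_g38_ok, (okE_cons.2 ⟨m24_g33_ok, (okE_cons.2 ⟨m24_g34_ok, (okE_cons.2 ⟨m24_g35_ok, (okE_cons.2 ⟨m24_g30_ok, (okE_cons.2 ⟨m24_g26_ok, (okE_cons.2 ⟨m24_g27_ok, (okE_cons.2 ⟨m24_g23_ok, (okE_cons.2 ⟨m24_g19_ok, (okE_cons.2 ⟨m24_g20_ok, (okE_cons.2 ⟨m24_g16_ok,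 (okE_cons.2 ⟨m24_g12_ok, (okE_cons.2 ⟨m24_g13_ok, (okE_cons.2 ⟨m24_g9_ok, (okE_cons.2 ⟨m24_g5_ok, (okE_cons.2 ⟨m24_g6_ok, (okE_cons.2 ⟨m24_g1_ok, (okE_cons.2 ⟨m24_g2_ok, (okE_nil 24)⟩)⟩)⟩)⟩)⟩)⟩)⟩)⟩)⟩)⟩)⟩)⟩)⟩)⟩)⟩)⟩)⟩)⟩)⟩)⟩)⟩)⟩)⟩)

noncomputable def m24_g165 : Net := (Net.cons (nat_lit 1) (nat_lit 0x400040) (Net.cons (nat_lit 2) (nat_lit 69888) (Net.cons (nat_lit 4) (nat_lit 262656) (Net.cons (nat_lit 8) (nat_lit 64) (Net.cons (nat_lit 16) (nat_lit 209) (Net.cons (nat_lit 8) (nat_lit 120) (Net.cons (nat_lit 4) (nat_lit 134660) (Net.cons (nat_lit 2) (nat_lit 0x231213) (Net.cons (nat_lit 1) (nat_lit 0x104510) Net.nil)))))))))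

theorem m24_g165_ok : Net.ok 24 m24_g165 = true := by decide +kernel

noncomputable def m24t_c24_K : List Net := [m24_g165]

theorem m24t_c24_K_ok : okE 24 m24t_c24_K = true := (okE_cons.2 ⟨m24_g165_ok, (okE_nil 24)⟩)

noncomputable def m24t_c24_cnt_EG : List Net := [m24_g43, m24_g41, m24_g44, m24_g47, m24_g42, m24_g38, m24_g33, m24_g34, m24_g35, m24_g30, m24_g26, m24_g27, m24_g23, m24_g19, m24_g20, m24_g16, m24_g12, m24_g13, m24_g9, m24_g5, m24_g6, m24_g1, m24_g2]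

theorem m24t_c24_cnt_EG_ok : okE 24 m24t_c24_cnt_EG = true := (okE_cons.2 ⟨m24_g43_ok, (okE_cons.2 ⟨m24_g41_ok, (okE_cons.2 ⟨m24_g44_ok, (okE_cons.2 ⟨m24_g47_ok, (okE_cons.2 ⟨m24_g42_ok, (okE_cons.2 ⟨m24_g38_ok, (okE_cons.2 ⟨m24_g33_ok, (okE_cons.2 ⟨m24_g34_ok, (okE_cons.2 ⟨m24_g35_ok, (okE_cons.2 ⟨m24_g30_ok, (okE_cons.2 ⟨m24_g26_ok, (okE_cons.2 ⟨m24_g27_ok, (okE_cons.2 ⟨m24_g23_ok, (okE_cons.2 ⟨m24_g19_ok, (okE_cons.2 ⟨m24_g20_ok, (okE_cons.2 ⟨m24_g16_ok, (okE_cons.2 ⟨m24_g12_ok, (okE_cons.2 ⟨m24_g13_ok, (okE_cons.2 ⟨m24_g9_ok, (okE_cons.2 ⟨m24_g5_ok, (okE_cons.2 ⟨m24_g6_ok, (okE_cons.2 ⟨m24_g1_ok, (okE_cons.2 ⟨m24_g2_ok, (okE_nil 24)⟩)⟩)⟩)⟩)⟩)⟩)⟩)⟩)⟩)⟩)⟩)⟩)⟩)⟩)⟩)⟩)⟩)⟩)⟩)⟩)⟩)⟩)⟩)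

noncomputable def m24_g167 : Net := (Net.cons (nat_lit 1) (nat_lit 0x415150) (Net.cons (nat_lit 2) (nat_lit 512) (Net.cons (nat_lit 4) (nat_lit 263168) (Net.cons (nat_lit 8) (nat_lit 75) (Net.cons (nat_lit 16) (nat_lit 255) (Net.cons (nat_lit 8) (nat_lit 36) (Net.cons (nat_lit 4) (nat_lit 460290) (Net.cons (nat_lit 2) (nat_lit 0x112233) (Net.cons (nat_lit 1) (nat_lit 0x551144) Net.nil)))))))))

theorem m24_g167_ok : Net.ok 24 m24_g167 = true := by decide +kernel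

noncomputable def m24t_c25_K : List Net := [m24_g167]

theorem m24t_c25_K_ok : okE 24 m24t_c25_K = true := (okE_cons.2 ⟨m24_g167_ok, (okE_nil 24)⟩)

noncomputable def m24t_c25_cnt_EG : List Net := [m24_g43, m24_g41, m24_g44, m24_g47, m24_g42, m24_g38, m24_g33, m24_g34, m24_g35, m24_g30, m24_g26, m24_g27, m24_g23, m24_g19, m24_g20, m24_g16, m24_g12, m24_g13, m24_g9, m24_g5, m24_g6, m24_g1, m24_g2]

theorem m24t_c25_cnt_EG_ok : okE 24 m24t_c25_cnt_EG = true := (okE_cons.2 ⟨m24_g43_ok, (okE_cons.2 ⟨m24_g41_ok, (okE_cons.2 ⟨m24_g44_ok, (okE_cons.2 ⟨m24_g47_ok, (okE_cons.2 ⟨m24_g42_ok, (okE_cons.2 ⟨m24_g38_ok, (okE_cons.2 ⟨m24_g33_ok, (okE_cons.2 ⟨m24_g34_ok, (okE_cons.2 ⟨m24_g35_ok, (okE_cons.2 ⟨m24_g30_ok, (okE_cons.2 ⟨m24_g26_ok, (okE_cons.2 ⟨m24_g27_ok, (okE_cons.2 ⟨m24_g23_ok, (okE_cons.2 ⟨m24_g19_ok, (okE_cons.2 ⟨m24_g20_ok, (okE_cons.2 ⟨m24_g16_ok,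 (okE_cons.2 ⟨m24_g12_ok, (okE_cons.2 ⟨m24_g13_ok, (okE_cons.2 ⟨m24_g9_ok, (okE_cons.2 ⟨m24_g5_ok, (okE_cons.2 ⟨m24_g6_ok, (okE_cons.2 ⟨m24_g1_ok, (okE_cons.2 ⟨m24_g2_ok, (okE_nil 24)⟩)⟩)⟩)⟩)⟩)⟩)⟩)⟩)⟩)⟩)⟩)⟩)⟩)⟩)⟩)⟩)⟩)⟩)⟩)⟩)⟩)⟩)⟩)

noncomputable def m24t_nc12_11_cnt_EG : List Net := [m24_g38, m24_g33, m24_g34, m24_g35, m24_g43, m24_g41, m24_g44, m24_g47, m24_g42, m24_g30, m24_g26, m24_g27, m24_g23, m24_g19, m24_g20, m24_g16, m24_g12, m24_g13, m24_g9, m24_g5, m24_g6, m24_g1, m24_g2]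

theorem m24t_nc12_11_cnt_EG_ok : okE 24 m24t_nc12_11_cnt_EG = true := (okE_cons.2 ⟨m24_g38_ok, (okE_cons.2 ⟨m24_g33_ok, (okE_cons.2 ⟨m24_g34_ok, (okE_cons.2 ⟨m24_g35_ok, (okE_cons.2 ⟨m24_g43_ok, (okE_cons.2 ⟨m24_g41_ok, (okE_cons.2 ⟨m24_g44_ok, (okE_cons.2 ⟨m24_g47_ok, (okE_cons.2 ⟨m24_g42_ok, (okE_cons.2 ⟨m24_g30_ok, (okE_cons.2 ⟨m24_g26_ok, (okE_cons.2 ⟨m24_g27_ok, (okE_cons.2 ⟨m24_g23_ok, (okE_cons.2 ⟨m24_g19_ok, (okE_cons.2 ⟨m24_g20_ok, (okE_cons.2 ⟨m24_g16_ok, (okE_cons.2 ⟨m24_g12_ok, (okE_cons.2 ⟨m24_g13_ok, (okE_cons.2 ⟨m24_g9_ok, (okE_cons.2 ⟨m24_g5_ok, (okE_cons.2 ⟨m24_g6_ok, (okE_cons.2 ⟨m24_g1_ok, (okE_cons.2 ⟨m24_g2_ok, (okE_nil 24)⟩)⟩)⟩)⟩)⟩)⟩)⟩)⟩)⟩)⟩)⟩)⟩)⟩)⟩)⟩)⟩)⟩)⟩)⟩)⟩)⟩)⟩)⟩)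

noncomputable def m24t_nc19_18_cnt_EG : List Net := [m24_g30, m24_g26, m24_g27, m24_g38, m24_g33, m24_g34, m24_g35, m24_g43, m24_g41, m24_g44, m24_g47, m24_g42, m24_g23, m24_g19, m24_g20, m24_g16, m24_g12, m24_g13, m24_g9, m24_g5, m24_g6, m24_g1, m24_g2]

theorem m24t_nc19_18_cnt_EG_ok : okE 24 m24t_nc19_18_cnt_EG = true := (okE_cons.2 ⟨m24_g30_ok, (okE_cons.2 ⟨m24_g26_ok, (okE_cons.2 ⟨m24_g27_ok, (okE_cons.2 ⟨m24_g38_ok, (okE_cons.2 ⟨m24_g33_ok, (okE_cons.2 ⟨m24_g34_ok, (okE_cons.2 ⟨m24_g35_ok, (okE_cons.2 ⟨m24_g43_ok, (okE_cons.2 ⟨m24_g41_ok, (okE_cons.2 ⟨m24_g44_ok, (okE_cons.2 ⟨m24_g47_ok, (okE_cons.2 ⟨m24_g42_ok, (okE_cons.2 ⟨m24_g23_ok, (okE_cons.2 ⟨m24_g19_ok, (okE_cons.2 ⟨m24_g20_ok, (okE_cons.2 ⟨m24_g16_ok, (okE_cons.2 ⟨m24_g12_ok, (okE_cons.2 ⟨m24_g13_ok, (okE_cons.2 ⟨m24_g9_ok, (okE_cons.2 ⟨m24_g5_ok, (okE_cons.2 ⟨m24_g6_ok, (okE_cons.2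 ⟨m24_g1_ok, (okE_cons.2 ⟨m24_g2_ok, (okE_nil 24)⟩)⟩)⟩)⟩)⟩)⟩)⟩)⟩)⟩)⟩)⟩)⟩)⟩)⟩)⟩)⟩)⟩)⟩)⟩)⟩)⟩)⟩)⟩)

noncomputable def m24t_nc21_20_cnt_EG : List Net := [m24_g30, m24_g26, m24_g27, m24_g38, m24_g33, m24_g34, m24_g35, m24_g43, m24_g41, m24_g44, m24_g47, m24_g42, m24_g23, m24_g19, m24_g20, m24_g16, m24_g12, m24_g13, m24_g9, m24_g5, m24_g6, m24_g1, m24_g2]

theorem m24t_nc21_20_cnt_EG_ok : okE 24 m24t_nc21_20_cnt_EG = true := (okE_cons.2 ⟨m24_g30_ok, (okE_cons.2 ⟨m24_g26_ok, (okE_cons.2 ⟨m24_g27_ok, (okE_cons.2 ⟨m24_g38_ok, (okE_cons.2 ⟨m24_g33_ok, (okE_cons.2 ⟨m24_g34_ok, (okE_cons.2 ⟨m24_g35_ok, (okE_cons.2 ⟨m24_g43_ok, (okE_cons.2 ⟨m24_g41_ok, (okE_cons.2 ⟨m24_g44_ok, (okE_cons.2 ⟨m24_g47_ok, (okE_cons.2 ⟨m24_g42_ok, (okE_cons.2 ⟨m24_g23_ok, (okE_cons.2 ⟨m24_g19_ok, (okE_cons.2 ⟨m24_g20_ok, (okE_cons.2 ⟨m24_g16_ok, (okE_cons.2 ⟨m24_g12_ok, (okE_cons.2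 ⟨m24_g13_ok, (okE_cons.2 ⟨m24_g9_ok, (okE_cons.2 ⟨m24_g5_ok, (okE_cons.2 ⟨m24_g6_ok, (okE_cons.2 ⟨m24_g1_ok, (okE_cons.2 ⟨m24_g2_ok, (okE_nil 24)⟩)⟩)⟩)⟩)⟩)⟩)⟩)⟩)⟩)⟩)⟩)⟩)⟩)⟩)⟩)⟩)⟩)⟩)⟩)⟩)⟩)⟩)⟩)

noncomputable def m24t_nc23_22_cnt_EG : List Net := [m24_g30, m24_g26, m24_g27, m24_g38, m24_g33, m24_g34, m24_g35, m24_g43, m24_g41, m24_g44, m24_g47, m24_g42, m24_g23, m24_g19, m24_g20, m24_g16, m24_g12, m24_g13, m24_g9, m24_g5, m24_g6, m24_g1, m24_g2]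

theorem m24t_nc23_22_cnt_EG_ok : okE 24 m24t_nc23_22_cnt_EG = true := (okE_cons.2 ⟨m24_g30_ok, (okE_cons.2 ⟨m24_g26_ok, (okE_cons.2 ⟨m24_g27_ok, (okE_cons.2 ⟨m24_g38_ok, (okE_cons.2 ⟨m24_g33_ok, (okE_cons.2 ⟨m24_g34_ok, (okE_cons.2 ⟨m24_g35_ok, (okE_cons.2 ⟨m24_g43_ok, (okE_cons.2 ⟨m24_g41_ok, (okE_cons.2 ⟨m24_g44_ok, (okE_cons.2 ⟨m24_g47_ok, (okE_cons.2 ⟨m24_g42_ok, (okE_cons.2 ⟨m24_g23_ok, (okE_cons.2 ⟨m24_g19_ok, (okE_cons.2 ⟨m24_g20_ok, (okE_cons.2 ⟨m24_g16_ok, (okE_cons.2 ⟨m24_g12_ok, (okE_cons.2 ⟨m24_g13_ok, (okE_cons.2 ⟨m24_g9_ok, (okE_cons.2 ⟨m24_g5_ok, (okE_cons.2 ⟨m24_g6_ok, (okE_cons.2 ⟨m24_g1_ok, (okE_cons.2 ⟨m24_g2_ok, (okE_nil 24)⟩)⟩)⟩)⟩)⟩)⟩)⟩)⟩)⟩)⟩)⟩)⟩)⟩)⟩)⟩)⟩)⟩)⟩)⟩)⟩)⟩)⟩)⟩)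

noncomputable def m24t_nc25_24_cnt_EG : List Net := [m24_g30, m24_g26, m24_g27, m24_g38, m24_g33, m24_g34, m24_g35, m24_g43, m24_g41, m24_g44, m24_g47, m24_g42, m24_g23, m24_g19, m24_g20, m24_g16, m24_g12, m24_g13, m24_g9, m24_g5, m24_g6, m24_g1, m24_g2]

theorem m24t_nc25_24_cnt_EG_ok : okE 24 m24t_nc25_24_cnt_EG = true := (okE_cons.2 ⟨m24_g30_ok, (okE_cons.2 ⟨m24_g26_ok, (okE_cons.2 ⟨m24_g27_ok, (okE_cons.2 ⟨m24_g38_ok, (okE_cons.2 ⟨m24_g33_ok, (okE_cons.2 ⟨m24_g34_ok, (okE_cons.2 ⟨m24_g35_ok, (okE_cons.2 ⟨m24_g43_ok, (okE_cons.2 ⟨m24_g41_ok, (okE_cons.2 ⟨m24_g44_ok, (okE_cons.2 ⟨m24_g47_ok, (okE_cons.2 ⟨m24_g42_ok, (okE_cons.2 ⟨m24_g23_ok, (okE_cons.2 ⟨m24_g19_ok, (okE_cons.2 ⟨m24_g20_ok, (okE_cons.2 ⟨m24_g16_ok, (okE_cons.2 ⟨m24_g12_ok, (okE_cons.2 ⟨m24_g13_ok, (okE_cons.2 ⟨m24_g9_ok, (okE_cons.2 ⟨m24_g5_ok, (okE_cons.2 ⟨m24_g6_ok, (okE_cons.2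 ⟨m24_g1_ok, (okE_cons.2 ⟨m24_g2_ok, (okE_nil 24)⟩)⟩)⟩)⟩)⟩)⟩)⟩)⟩)⟩)⟩)⟩)⟩)⟩)⟩)⟩)⟩)⟩)⟩)⟩)⟩)⟩)⟩)⟩)

theorem m24_le4 : grp 24 m24_V3 ≤ grp 24 m24_O :=
  grp_le_of_memB m24_hn m24_hk m24_O_ok m24_V3_ok (ws := [nat_lit 1]) (by decide +kernel)

theorem m24_le8 : grp 24 m24_V7 ≤ grp 24 m24_O :=
  grp_le_of_memB m24_hn m24_hk m24_O_ok m24_V7_ok (ws := [nat_lit 0x30103030101, nat_lit 0x302030203020301]) (by decide +kernel)

theorem m24_le11 : grp 24 m24_V10 ≤ grp 24 m24_V7 :=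
  grp_le_of_memB m24_hn m24_hk m24_V7_ok m24_V10_ok (ws := [nat_lit 0x1030301]) (by decide +kernel)

theorem m24_le15 : grp 24 m24_V14 ≤ grp 24 m24_V7 :=
  grp_le_of_memB m24_hn m24_hk m24_V7_ok m24_V14_ok (ws := [nat_lit 0x1030103020303, nat_lit 0x203010404020302]) (by decide +kernel)

theorem m24_le18 : grp 24 m24_V17 ≤ grp 24 m24_V14 :=
  grp_le_of_memB m24_hn m24_hk m24_V14_ok m24_V17_ok (ws := [nat_lit 260]) (by decide +kernel)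

theorem m24_le22 : grp 24 m24_V21 ≤ grp 24 m24_V14 :=
  grp_le_of_memB m24_hn m24_hk m24_V14_ok m24_V21_ok (ws := [nat_lit 0x204040203010404040202, nat_lit 0x2040101040104010103]) (by decide +kernel)

theorem m24_le25 : grp 24 m24_V24 ≤ grp 24 m24_V21 :=
  grp_le_of_memB m24_hn m24_hk m24_V21_ok m24_V24_ok (ws := [nat_lit 257]) (by decide +kernel)

theorem m24_le29 : grp 24 m24_V28 ≤ grp 24 m24_V21 :=
  grp_le_of_memB m24_hn m24_hk m24_V21_ok m24_V28_ok (ws := [nat_lit 196868, nat_lit 0x20401010101030202]) (by decide +kernel)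

theorem m24_le32 : grp 24 m24_V31 ≤ grp 24 m24_V28 :=
  grp_le_of_memB m24_hn m24_hk m24_V28_ok m24_V31_ok (ws := [nat_lit 131842]) (by decide +kernel)

theorem m24_le37 : grp 24 m24_V36 ≤ grp 24 m24_V28 :=
  grp_le_of_memB m24_hn m24_hk m24_V28_ok m24_V36_ok (ws := [nat_lit 0x203010103010104, nat_lit 0x101010402, nat_lit 0x30104040202040202]) (by decide +kernel)

theorem m24_le40 : grp 24 m24_V39 ≤ grp 24 m24_V36 :=
  grp_le_of_memB m24_hn m24_hk m24_V36_ok m24_V39_ok (ws := [nat_lit 4]) (by decide +kernel)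

theorem m24_le46 : grp 24 m24_V45 ≤ grp 24 m24_V36 :=
  grp_le_of_memB m24_hn m24_hk m24_V36_ok m24_V45_ok (ws := [nat_lit 0x2030302050106040204, nat_lit 0x1010301050202030204, nat_lit 0x20401040406060404, nat_lit 0x5020503010302]) (by decide +kernel)

theorem m24_le49 : grp 24 m24_V48 ≤ grp 24 m24_V45 :=
  grp_le_of_memB m24_hn m24_hk m24_V45_ok m24_V48_ok (ws := [nat_lit 5, nat_lit 1, nat_lit 7, nat_lit 66309]) (by decide +kernel)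

theorem m24_card7 : Nat.card (grp 24 m24_E7) = 1 :=
  card_grp_nil 24

theorem m24_leO7 : grp 24 m24_E7 ≤ grp 24 m24_O :=
  grp_nil_le _

theorem m24_6_fix : grp 24 m24_E7 ≤ MulAction.stabilizer (Equiv.Perm (Fin 24)) (⟨2, by decide⟩ : Fin 24) :=
  grp_le_stab m24_E7_ok (by decide : 2 < 24) (by decide +kernel)

noncomputable def m24_6_ts : List ℕ := [nat_lit 0, nat_lit 1, nat_lit 3, nat_lit 5, nat_lit 7, nat_lit 259, nat_lit 261, nat_lit 263, nat_lit 773, nat_lit 775, nat_lit 1287, nat_lit 66309, nat_lit 66311, nat_lit 66823, nat_lit 197895, nat_lit 0x1030507]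

noncomputable def m24_6_ds : List ℕ := [nat_lit 2, nat_lit 23, nat_lit 21, nat_lit 13, nat_lit 12, nat_lit 16, nat_lit 7, nat_lit 8, nat_lit 20, nat_lit 19, nat_lit 6, nat_lit 9, nat_lit 22, nat_lit 4, nat_lit 14, nat_lit 17]

theorem m24_6_dist : Dist 24 m24_E7 m24_G6 (⟨2, by decide⟩ : Fin 24) m24_6_ts m24_6_ds :=
  dist_of_distB (k := 4) m24_hn m24_E7_ok m24_G6_ok (by decide : 2 < 24) (by decide +kernel)

noncomputable def m24_6_sl0 : SL := (SL.cons (nat_lit 1) (nat_lit 23) Ch.nil [] (SL.cons (nat_lit 3) (nat_lit 21) Ch.nil [] (SL.cons (nat_lit 5) (nat_lit 13) Ch.nil [] (SL.cons (nat_lit 7) (nat_lit 12) Ch.nil [] (SL.cons (nat_lit 259) (nat_lit 16) Ch.nil [] (SL.cons (nat_lit 261) (nat_lit 7) Ch.nil [] (SL.cons (nat_lit 263) (nat_lit 8) Ch.nil [] (SL.cons (nat_lit 773) (nat_lit 20) Ch.nil [] (SL.cons (nat_lit 775) (nat_lit 19) Ch.nil [] (SL.cons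 (nat_lit 1287) (nat_lit 6) Ch.nil [] (SL.cons (nat_lit 66309) (nat_lit 9) Ch.nil [] (SL.cons (nat_lit 66311) (nat_lit 22) Ch.nil [] (SL.cons (nat_lit 66823) (nat_lit 4) Ch.nil [] (SL.cons (nat_lit 197895) (nat_lit 14) Ch.nil [] (SL.cons (nat_lit 0x1030507) (nat_lit 17) Ch.nil [] SL.nil)))))))))))))))

theorem m24_6_sc0 : SCs 24 m24_E7 m24_G6 (⟨2, by decide⟩ : Fin 24) (SL.words m24_6_sl0) :=
  scs_of_ok m24_hn (det_lab m24_hk ⊤) m24_E7_ok m24_G6_ok le_top le_top (by decide : 2 < 24) m24_6_fix m24_card7.le (by decide +kernel)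

noncomputable def m24_6_l : List ℕ := (appL (SL.words m24_6_sl0) [])

theorem m24_6_scs : SCs 24 m24_E7 m24_G6 (⟨2, by decide⟩ : Fin 24) m24_6_l :=
  (SCs.append m24_6_sc0 SCs.nil)

noncomputable def m24_6_rl0_0 : RL := (RL.cons (nat_lit 0) (nat_lit 2) (nat_lit 0) (nat_lit 0) (nat_lit 1) (nat_lit 0) (RL.cons (nat_lit 1) (nat_lit 23) (nat_lit 0) (nat_lit 0) (nat_lit 0) (nat_lit 0) (RL.cons (nat_lit 2) (nat_lit 21) (nat_lit 0) (nat_lit 0) (nat_lit 5) (nat_lit 0) (RL.cons (nat_lit 3) (nat_lit 13) (nat_lit 0) (nat_lit 0) (nat_lit 6) (nat_lit 0) (RL.cons (nat_lit 4) (nat_lit 12) (nat_lit 0) (nat_lit 0) (nat_lit 7) (nat_lit 0) (RL.cons (nat_lit 5) (nat_lit 16) (nat_lit 0) (nat_lit 0) (nat_lit 2) (nat_lit 0) (RL.cons (nat_lit 6) (nat_lit 7) (nat_lit 0) (nat_lit 0) (nat_lit 3) (nat_lit 0) (RL.cons (nat_lit 7) (nat_lit 8) (nat_lit 0) (nat_lit 0) (nat_lit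 4) (nat_lit 0) (RL.cons (nat_lit 8) (nat_lit 20) (nat_lit 0) (nat_lit 0) (nat_lit 11) (nat_lit 0) (RL.cons (nat_lit 9) (nat_lit 19) (nat_lit 0) (nat_lit 0) (nat_lit 12) (nat_lit 0) (RL.cons (nat_lit 10) (nat_lit 6) (nat_lit 0) (nat_lit 0) (nat_lit 13) (nat_lit 0) (RL.cons (nat_lit 11) (nat_lit 9) (nat_lit 0) (nat_lit 0) (nat_lit 8) (nat_lit 0) (RL.cons (nat_lit 12) (nat_lit 22) (nat_lit 0) (nat_lit 0) (nat_lit 9) (nat_lit 0) (RL.cons (nat_lit 13) (nat_lit 4) (nat_lit 0) (nat_lit 0) (nat_lit 10) (nat_lit 0) (RL.cons (nat_lit 14) (nat_lit 14) (nat_lit 0) (nat_lit 0) (nat_lit 15) (nat_lit 0) (RL.cons (nat_lit 15) (nat_lit 17) (nat_lit 0) (nat_lit 0) (nat_lit 14) (nat_lit 0) RL.nil))))))))))))))))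

theorem m24_6_good0_0 : GoodSet 24 m24_E7 m24_G6 (⟨2, by decide⟩ : Fin 24) m24_6_ts (nat_lit 1) (RL.pts m24_6_rl0_0) :=
  goodSet_of_ok m24_hn (det_lab m24_hk ⊤) m24_E7_ok m24_G6_ok le_top le_top (by decide : 2 < 24) (sepAt_lab m24_hk _) (by decide +kernel)

theorem m24_6_step0 : Step 24 m24_E7 m24_G6 m24_6_ts (2 * 0 + 1) :=
  step_of_cover m24_E7_ok m24_6_dist (by decide +kernel) m24_6_scs (by decide +kernel) m24_6_good0_0 (kw := [])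
    (conj_mem_of_scs m24_E7_ok m24_G6_ok (by decide : 2 < 24) m24_6_scs (c := 0) (d := 23) (by decide +kernel)) (by decide +kernel)

noncomputable def m24_6_rl1_0 : RL := (RL.cons (nat_lit 0) (nat_lit 2) (nat_lit 0) (nat_lit 0) (nat_lit 2) (nat_lit 0) (RL.cons (nat_lit 1) (nat_lit 23) (nat_lit 0) (nat_lit 0) (nat_lit 5) (nat_lit 0) (RL.cons (nat_lit 2) (nat_lit 21) (nat_lit 0) (nat_lit 0) (nat_lit 0) (nat_lit 0) (RL.cons (nat_lit 3) (nat_lit 13) (nat_lit 0) (nat_lit 0) (nat_lit 8) (nat_lit 0) (RL.cons (nat_lit 4) (nat_lit 12) (nat_lit 0) (nat_lit 0) (nat_lit 9) (nat_lit 0) (RL.cons (nat_lit 5) (nat_lit 16) (nat_lit 0) (nat_lit 0) (nat_lit 1) (nat_lit 0) (RL.cons (nat_lit 6) (nat_lit 7) (nat_lit 0) (nat_lit 0) (nat_lit 11) (nat_lit 0) (RL.cons (nat_lit 7) (nat_lit 8) (nat_lit 0) (nat_lit 0) (nat_lit 12) (nat_lit 0) (RL.cons (nat_lit 8) (nat_lit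 20) (nat_lit 0) (nat_lit 0) (nat_lit 3) (nat_lit 0) (RL.cons (nat_lit 9) (nat_lit 19) (nat_lit 0) (nat_lit 0) (nat_lit 4) (nat_lit 0) (RL.cons (nat_lit 10) (nat_lit 6) (nat_lit 0) (nat_lit 0) (nat_lit 14) (nat_lit 0) (RL.cons (nat_lit 11) (nat_lit 9) (nat_lit 0) (nat_lit 0) (nat_lit 6) (nat_lit 0) (RL.cons (nat_lit 12) (nat_lit 22) (nat_lit 0) (nat_lit 0) (nat_lit 7) (nat_lit 0) (RL.cons (nat_lit 13) (nat_lit 4) (nat_lit 0) (nat_lit 0) (nat_lit 15) (nat_lit 0) (RL.cons (nat_lit 14) (nat_lit 14) (nat_lit 0) (nat_lit 0) (nat_lit 10) (nat_lit 0) (RL.cons (nat_lit 15) (nat_lit 17) (nat_lit 0) (nat_lit 0) (nat_lit 13) (nat_lit 0) RL.nil))))))))))))))))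

theorem m24_6_good1_0 : GoodSet 24 m24_E7 m24_G6 (⟨2, by decide⟩ : Fin 24) m24_6_ts (nat_lit 3) (RL.pts m24_6_rl1_0) :=
  goodSet_of_ok m24_hn (det_lab m24_hk ⊤) m24_E7_ok m24_G6_ok le_top le_top (by decide : 2 < 24) (sepAt_lab m24_hk _) (by decide +kernel)

theorem m24_6_step1 : Step 24 m24_E7 m24_G6 m24_6_ts (2 * 1 + 1) :=
  step_of_cover m24_E7_ok m24_6_dist (by decide +kernel) m24_6_scs (by decide +kernel) m24_6_good1_0 (kw := [])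
    (conj_mem_of_scs m24_E7_ok m24_G6_ok (by decide : 2 < 24) m24_6_scs (c := 1) (d := 21) (by decide +kernel)) (by decide +kernel)

noncomputable def m24_6_rl2_0 : RL := (RL.cons (nat_lit 0) (nat_lit 2) (nat_lit 0) (nat_lit 0) (nat_lit 3) (nat_lit 0) (RL.cons (nat_lit 1) (nat_lit 23) (nat_lit 0) (nat_lit 0) (nat_lit 6) (nat_lit 0) (RL.cons (nat_lit 2) (nat_lit 21) (nat_lit 0) (nat_lit 0) (nat_lit 8) (nat_lit 0) (RL.cons (nat_lit 3) (nat_lit 13) (nat_lit 0) (nat_lit 0) (nat_lit 0) (nat_lit 0) (RL.cons (nat_lit 4) (nat_lit 12) (nat_lit 0) (nat_lit 0) (nat_lit 10) (nat_lit 0) (RL.cons (nat_lit 5) (nat_lit 16) (nat_lit 0) (nat_lit 0) (nat_lit 11) (nat_lit 0) (RL.cons (nat_lit 6) (nat_lit 7) (nat_lit 0) (nat_lit 0) (nat_lit 1) (nat_lit 0) (RL.cons (nat_lit 7) (nat_lit 8) (nat_lit 0) (nat_lit 0) (nat_lit 13) (nat_lit 0) (RL.cons (nat_lit 8) (nat_lit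 20) (nat_lit 0) (nat_lit 0) (nat_lit 2) (nat_lit 0) (RL.cons (nat_lit 9) (nat_lit 19) (nat_lit 0) (nat_lit 0) (nat_lit 14) (nat_lit 0) (RL.cons (nat_lit 10) (nat_lit 6) (nat_lit 0) (nat_lit 0) (nat_lit 4) (nat_lit 0) (RL.cons (nat_lit 11) (nat_lit 9) (nat_lit 0) (nat_lit 0) (nat_lit 5) (nat_lit 0) (RL.cons (nat_lit 12) (nat_lit 22) (nat_lit 0) (nat_lit 0) (nat_lit 15) (nat_lit 0) (RL.cons (nat_lit 13) (nat_lit 4) (nat_lit 0) (nat_lit 0) (nat_lit 7) (nat_lit 0) (RL.cons (nat_lit 14) (nat_lit 14) (nat_lit 0) (nat_lit 0) (nat_lit 9) (nat_lit 0) (RL.cons (nat_lit 15) (nat_lit 17) (nat_lit 0) (nat_lit 0) (nat_lit 12) (nat_lit 0) RL.nil))))))))))))))))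

theorem m24_6_good2_0 : GoodSet 24 m24_E7 m24_G6 (⟨2, by decide⟩ : Fin 24) m24_6_ts (nat_lit 5) (RL.pts m24_6_rl2_0) :=
  goodSet_of_ok m24_hn (det_lab m24_hk ⊤) m24_E7_ok m24_G6_ok le_top le_top (by decide : 2 < 24) (sepAt_lab m24_hk _) (by decide +kernel)

theorem m24_6_step2 : Step 24 m24_E7 m24_G6 m24_6_ts (2 * 2 + 1) :=
  step_of_cover m24_E7_ok m24_6_dist (by decide +kernel) m24_6_scs (by decide +kernel) m24_6_good2_0 (kw := [])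
    (conj_mem_of_scs m24_E7_ok m24_G6_ok (by decide : 2 < 24) m24_6_scs (c := 2) (d := 13) (by decide +kernel)) (by decide +kernel)

noncomputable def m24_6_rl3_0 : RL := (RL.cons (nat_lit 0) (nat_lit 2) (nat_lit 0) (nat_lit 0) (nat_lit 4) (nat_lit 0) (RL.cons (nat_lit 1) (nat_lit 23) (nat_lit 0) (nat_lit 0) (nat_lit 7) (nat_lit 0) (RL.cons (nat_lit 2) (nat_lit 21) (nat_lit 0) (nat_lit 0) (nat_lit 9) (nat_lit 0) (RL.cons (nat_lit 3) (nat_lit 13) (nat_lit 0) (nat_lit 0) (nat_lit 10) (nat_lit 0) (RL.cons (nat_lit 4) (nat_lit 12) (nat_lit 0) (nat_lit 0) (nat_lit 0) (nat_lit 0) (RL.cons (nat_lit 5) (nat_lit 16) (nat_lit 0) (nat_lit 0) (nat_lit 12) (nat_lit 0) (RL.cons (nat_lit 6) (nat_lit 7) (nat_lit 0) (nat_lit 0) (nat_lit 13) (nat_lit 0) (RL.cons (nat_lit 7) (nat_lit 8) (nat_lit 0) (nat_lit 0) (nat_lit 1) (nat_lit 0) (RL.cons (nat_lit 8) (nat_lit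 20) (nat_lit 0) (nat_lit 0) (nat_lit 14) (nat_lit 0) (RL.cons (nat_lit 9) (nat_lit 19) (nat_lit 0) (nat_lit 0) (nat_lit 2) (nat_lit 0) (RL.cons (nat_lit 10) (nat_lit 6) (nat_lit 0) (nat_lit 0) (nat_lit 3) (nat_lit 0) (RL.cons (nat_lit 11) (nat_lit 9) (nat_lit 0) (nat_lit 0) (nat_lit 15) (nat_lit 0) (RL.cons (nat_lit 12) (nat_lit 22) (nat_lit 0) (nat_lit 0) (nat_lit 5) (nat_lit 0) (RL.cons (nat_lit 13) (nat_lit 4) (nat_lit 0) (nat_lit 0) (nat_lit 6) (nat_lit 0) (RL.cons (nat_lit 14) (nat_lit 14) (nat_lit 0) (nat_lit 0) (nat_lit 8) (nat_lit 0) (RL.cons (nat_lit 15) (nat_lit 17) (nat_lit 0) (nat_lit 0) (nat_lit 11) (nat_lit 0) RL.nil))))))))))))))))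

theorem m24_6_good3_0 : GoodSet 24 m24_E7 m24_G6 (⟨2, by decide⟩ : Fin 24) m24_6_ts (nat_lit 7) (RL.pts m24_6_rl3_0) :=
  goodSet_of_ok m24_hn (det_lab m24_hk ⊤) m24_E7_ok m24_G6_ok le_top le_top (by decide : 2 < 24) (sepAt_lab m24_hk _) (by decide +kernel)

theorem m24_6_step3 : Step 24 m24_E7 m24_G6 m24_6_ts (2 * 3 + 1) :=
  step_of_cover m24_E7_ok m24_6_dist (by decide +kernel) m24_6_scs (by decide +kernel) m24_6_good3_0 (kw := [])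
    (conj_mem_of_scs m24_E7_ok m24_G6_ok (by decide : 2 < 24) m24_6_scs (c := 3) (d := 12) (by decide +kernel)) (by decide +kernel)

theorem m24_6_lev : grp 24 m24_G6 ⊓ MulAction.stabilizer (Equiv.Perm (Fin 24)) (⟨2, by decide⟩ : Fin 24) = grp 24 m24_E7 :=
  sims_level (gs := m24_V48) rfl (by decide) m24_6_fix m24_6_dist (forall_lt_succ' (forall_lt_succ' (forall_lt_succ' (forall_lt_one m24_6_step0) m24_6_step1) m24_6_step2) m24_6_step3)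

theorem m24_6_cardG : Nat.card (grp 24 m24_G6) = 16 :=
  card_of_level m24_hn m24_G6_ok (by decide : 2 < 24) m24_6_lev m24_card7 (m := 16) (by decide +kernel)

theorem m24_le50 : grp 24 m24_E6 ≤ grp 24 m24_G6 :=
  grp_le_of_memB m24_hn m24_hk m24_G6_ok m24_E6_ok (ws := [nat_lit 1, nat_lit 3, nat_lit 5, nat_lit 7, nat_lit 66311]) (by decide +kernel)

theorem m24_le51 : grp 24 m24_G6 ≤ grp 24 m24_E6 :=
  grp_le_of_memB m24_hn m24_hk m24_E6_ok m24_G6_ok (ws := [nat_lit 1, nat_lit 3, nat_lit 5, nat_lit 7]) (by decide +kernel)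

theorem m24_6_eq : grp 24 m24_E6 = grp 24 m24_G6 :=
  le_antisymm m24_le50 m24_le51

theorem m24_card6 : Nat.card (grp 24 m24_E6) = 16 :=
  by rw [m24_6_eq]; exact m24_6_cardG

theorem m24_stab6 : grp 24 m24_E6 ⊓ MulAction.stabilizer (Equiv.Perm (Fin 24)) (⟨2, by decide⟩ : Fin 24) = grp 24 m24_E7 :=
  by rw [m24_6_eq]; exact m24_6_lev

theorem m24_leO6 : grp 24 m24_E6 ≤ grp 24 m24_O :=
  m24_6_eq.le.trans (grp_cons_le ((m24_le46.trans (m24_le37.trans (m24_le29.trans (m24_le22.trans (m24_le15.trans (m24_le8.trans (le_refl (grp 24 m24_O)))))))) (m24_le49 (toPerm_mem_grp (E := m24_V48) (by simp [m24_V48])))) (grp_cons_le ((m24_le46.trans (m24_le37.trans (m24_le29.trans (m24_le22.trans (m24_le15.trans (m24_le8.trans (le_refl (grp 24 m24_O)))))))) (m24_le49 (toPerm_mem_grp (E := m24_V48) (by simp [m24_V48])))) (grp_cons_le ((m24_le46.trans (m24_le37.trans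 (m24_le29.trans (m24_le22.trans (m24_le15.trans (m24_le8.trans (le_refl (grp 24 m24_O)))))))) (m24_le49 (toPerm_mem_grp (E := m24_V48) (by simp [m24_V48])))) (grp_cons_le ((m24_le46.trans (m24_le37.trans (m24_le29.trans (m24_le22.trans (m24_le15.trans (m24_le8.trans (le_refl (grp 24 m24_O)))))))) (m24_le49 (toPerm_mem_grp (E := m24_V48) (by simp [m24_V48])))) m24_leO7))))

theorem m24_5_fix : grp 24 m24_E6 ≤ MulAction.stabilizer (Equiv.Perm (Fin 24)) (⟨3, by decide⟩ : Fin 24) :=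
  grp_le_stab m24_E6_ok (by decide : 3 < 24) (by decide +kernel)

noncomputable def m24_5_ts : List ℕ := [nat_lit 0, nat_lit 1, nat_lit 2]

noncomputable def m24_5_ds : List ℕ := [nat_lit 3, nat_lit 18, nat_lit 5]

theorem m24_5_dist : Dist 24 m24_E6 m24_G5 (⟨3, by decide⟩ : Fin 24) m24_5_ts m24_5_ds :=
  dist_of_distB (k := 2) m24_hn m24_E6_ok m24_G5_ok (by decide : 3 < 24) (by decide +kernel)

noncomputable def m24_5_sl0 : SL := (SL.cons (nat_lit 1) (nat_lit 18) (Ch.cons (nat_lit 2) [nat_lit 7, nat_lit 263, nat_lit 5, nat_lit 3] Ch.nil) [nat_lit 9, nat_lit 1287, nat_lit 66825, nat_lit 1289] (SL.cons (nat_lit 2) (nat_lit 5) (Ch.cons (nat_lit 2) [nat_lit 1, nat_lit 3, nat_lit 261, nat_lit 1289] Ch.nil) [nat_lit 773, nat_lit 66823, nat_lit 1287, nat_lit 3] SL.nil))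

theorem m24_5_sc0 : SCs 24 m24_E6 m24_G5 (⟨3, by decide⟩ : Fin 24) (SL.words m24_5_sl0) :=
  scs_of_ok m24_hn (det_lab m24_hk ⊤) m24_E6_ok m24_G5_ok le_top le_top (by decide : 3 < 24) m24_5_fix m24_card6.le (by decide +kernel)

noncomputable def m24_5_l : List ℕ := (appL (SL.words m24_5_sl0) [])

theorem m24_5_scs : SCs 24 m24_E6 m24_G5 (⟨3, by decide⟩ : Fin 24) m24_5_l :=
  (SCs.append m24_5_sc0 SCs.nil)

noncomputable def m24_5_rl0_0 : RL := (RL.cons (nat_lit 0) (nat_lit 3) (nat_lit 0) (nat_lit 0) (nat_lit 2) (nat_lit 0) (RL.cons (nat_lit 1) (nat_lit 18) (nat_lit 0) (nat_lit 0) (nat_lit 0) (nat_lit 0) (RL.cons (nat_lit 2) (nat_lit 5) (nat_lit 0) (nat_lit 0) (nat_lit 1) (nat_lit 0) RL.nil)))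

theorem m24_5_good0_0 : GoodSet 24 m24_E6 m24_G5 (⟨3, by decide⟩ : Fin 24) m24_5_ts (nat_lit 1) (RL.pts m24_5_rl0_0) :=
  goodSet_of_ok m24_hn (det_lab m24_hk ⊤) m24_E6_ok m24_G5_ok le_top le_top (by decide : 3 < 24) (sepAt_lab m24_hk _) (by decide +kernel)

theorem m24_5_step0 : Step 24 m24_E6 m24_G5 m24_5_ts (2 * 0 + 1) :=
  step_of_cover m24_E6_ok m24_5_dist (by decide +kernel) m24_5_scs (by decide +kernel) m24_5_good0_0 (kw := [nat_lit 7, nat_lit 263, nat_lit 5, nat_lit 3])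
    (conj_mem_of_scs m24_E6_ok m24_G5_ok (by decide : 3 < 24) m24_5_scs (c := 0) (d := 18) (by decide +kernel)) (by decide +kernel)

theorem m24_5_lev : grp 24 m24_G5 ⊓ MulAction.stabilizer (Equiv.Perm (Fin 24)) (⟨3, by decide⟩ : Fin 24) = grp 24 m24_E6 :=
  sims_level (gs := m24_V39) rfl (by decide) m24_5_fix m24_5_dist (forall_lt_one m24_5_step0)

theorem m24_5_cardG : Nat.card (grp 24 m24_G5) = 48 :=
  card_of_level m24_hn m24_G5_ok (by decide : 3 < 24) m24_5_lev m24_card6 (m := 3) (by decide +kernel)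

theorem m24_le52 : grp 24 m24_E5 ≤ grp 24 m24_G5 :=
  grp_le_of_memB m24_hn m24_hk m24_G5_ok m24_E5_ok (ws := [nat_lit 1, nat_lit 1803, nat_lit 2, nat_lit 197889, nat_lit 3, nat_lit 5, nat_lit 7, nat_lit 9, nat_lit 11]) (by decide +kernel)

theorem m24_le53 : grp 24 m24_G5 ≤ grp 24 m24_E5 :=
  grp_le_of_memB m24_hn m24_hk m24_E5_ok m24_G5_ok (ws := [nat_lit 1, nat_lit 9, nat_lit 11, nat_lit 13, nat_lit 15, nat_lit 17]) (by decide +kernel)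

theorem m24_5_eq : grp 24 m24_E5 = grp 24 m24_G5 :=
  le_antisymm m24_le52 m24_le53

theorem m24_card5 : Nat.card (grp 24 m24_E5) = 48 :=
  by rw [m24_5_eq]; exact m24_5_cardG

theorem m24_stab5 : grp 24 m24_E5 ⊓ MulAction.stabilizer (Equiv.Perm (Fin 24)) (⟨3, by decide⟩ : Fin 24) = grp 24 m24_E6 :=
  by rw [m24_5_eq]; exact m24_5_lev

theorem m24_leO5 : grp 24 m24_E5 ≤ grp 24 m24_O :=
  m24_5_eq.le.trans (grp_cons_le ((m24_le37.trans (m24_le29.trans (m24_le22.trans (m24_le15.trans (m24_le8.trans (le_refl (grp 24 m24_O))))))) (m24_le40 (toPerm_mem_grp (E := m24_V39) (by simp [m24_V39])))) m24_leO6)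

theorem m24_4_fix : grp 24 m24_E5 ≤ MulAction.stabilizer (Equiv.Perm (Fin 24)) (⟨11, by decide⟩ : Fin 24) :=
  grp_le_stab m24_E5_ok (by decide : 11 < 24) (by decide +kernel)

noncomputable def m24_4_ts : List ℕ := [nat_lit 0, nat_lit 1, nat_lit 68354]

noncomputable def m24_4_ds : List ℕ := [nat_lit 11, nat_lit 23, nat_lit 3]

theorem m24_4_dist : Dist 24 m24_E5 m24_G4 (⟨11, by decide⟩ : Fin 24) m24_4_ts m24_4_ds :=
  dist_of_distB (k := 2) m24_hn m24_E5_ok m24_G4_ok (by decide : 11 < 24) (by decide +kernel)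

noncomputable def m24_4_sl0 : SL := (SL.cons (nat_lit 1) (nat_lit 23) (Ch.cons (nat_lit 2) [nat_lit 593666] Ch.nil) [nat_lit 2305] (SL.cons (nat_lit 68354) (nat_lit 3) (Ch.cons (nat_lit 2) [nat_lit 9, nat_lit 11, nat_lit 13, nat_lit 15, nat_lit 17] Ch.nil) [nat_lit 9, nat_lit 2315, nat_lit 2317, nat_lit 593169, nat_lit 3343] SL.nil))

theorem m24_4_sc0 : SCs 24 m24_E5 m24_G4 (⟨11, by decide⟩ : Fin 24) (SL.words m24_4_sl0) :=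
  scs_of_ok m24_hn (det_lab m24_hk ⊤) m24_E5_ok m24_G4_ok le_top le_top (by decide : 11 < 24) m24_4_fix m24_card5.le (by decide +kernel)

noncomputable def m24_4_l : List ℕ := (appL (SL.words m24_4_sl0) [])

theorem m24_4_scs : SCs 24 m24_E5 m24_G4 (⟨11, by decide⟩ : Fin 24) m24_4_l :=
  (SCs.append m24_4_sc0 SCs.nil)

noncomputable def m24_4_rl0_0 : RL := (RL.cons (nat_lit 0) (nat_lit 11) (nat_lit 0) (nat_lit 7) (nat_lit 1) (nat_lit 592641) (RL.cons (nat_lit 1) (nat_lit 23) (nat_lit 0) (nat_lit 0) (nat_lit 0) (nat_lit 0) (RL.cons (nat_lit 1) (nat_lit 12) (nat_lit 1) (nat_lit 523) (nat_lit 1) (nat_lit 856322) (RL.cons (nat_lit 1) (nat_lit 14) (nat_lit 3) (nat_lit 3) (nat_lit 1) (nat_lit 855809) (RL.cons (nat_lit 1) (nat_lit 2) (nat_lit 9) (nat_lit 0) (nat_lit 2) (nat_lit 0) (RL.cons (nat_lit 1) (nat_lit 7) (nat_lit 13) (nat_lit 259) (nat_lit 1)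 (nat_lit 593153) (RL.cons (nat_lit 1) (nat_lit 8) (nat_lit 15) (nat_lit 1) (nat_lit 1) (nat_lit 0x90d0f02) (RL.cons (nat_lit 2) (nat_lit 3) (nat_lit 0) (nat_lit 264) (nat_lit 1) (nat_lit 2315) RL.nil))))))))

theorem m24_4_good0_0 : GoodSet 24 m24_E5 m24_G4 (⟨11, by decide⟩ : Fin 24) m24_4_ts (nat_lit 1) (RL.pts m24_4_rl0_0) :=
  goodSet_of_ok m24_hn (det_lab m24_hk ⊤) m24_E5_ok m24_G4_ok le_top le_top (by decide : 11 < 24) (sepAt_lab m24_hk _) (by decide +kernel)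

theorem m24_4_step0 : Step 24 m24_E5 m24_G4 m24_4_ts (2 * 0 + 1) :=
  step_of_cover m24_E5_ok m24_4_dist (by decide +kernel) m24_4_scs (by decide +kernel) m24_4_good0_0 (kw := [nat_lit 593666])
    (conj_mem_of_scs m24_E5_ok m24_G4_ok (by decide : 11 < 24) m24_4_scs (c := 0) (d := 23) (by decide +kernel)) (by decide +kernel)

theorem m24_4_lev : grp 24 m24_G4 ⊓ MulAction.stabilizer (Equiv.Perm (Fin 24)) (⟨11, by decide⟩ : Fin 24) = grp 24 m24_E5 :=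
  sims_level (gs := m24_V31) rfl (by decide) m24_4_fix m24_4_dist (forall_lt_one m24_4_step0)

theorem m24_4_cardG : Nat.card (grp 24 m24_G4) = 960 :=
  card_of_level m24_hn m24_G4_ok (by decide : 11 < 24) m24_4_lev m24_card5 (m := 20) (by decide +kernel)

theorem m24_le54 : grp 24 m24_E4 ≤ grp 24 m24_G4 :=
  grp_le_of_memB m24_hn m24_hk m24_G4_ok m24_E4_ok (ws := [nat_lit 1, nat_lit 0xd03010f, nat_lit 0xd04010b0f, nat_lit 3, nat_lit 5, nat_lit 7, nat_lit 9, nat_lit 11, nat_lit 13, nat_lit 15, nat_lit 17, nat_lit 19]) (by decide +kernel)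

theorem m24_le55 : grp 24 m24_G4 ≤ grp 24 m24_E4 :=
  grp_le_of_memB m24_hn m24_hk m24_E4_ok m24_G4_ok (ws := [nat_lit 1, nat_lit 7, nat_lit 9, nat_lit 11, nat_lit 13, nat_lit 15, nat_lit 17, nat_lit 19, nat_lit 21, nat_lit 23]) (by decide +kernel)

theorem m24_4_eq : grp 24 m24_E4 = grp 24 m24_G4 :=
  le_antisymm m24_le54 m24_le55

theorem m24_card4 : Nat.card (grp 24 m24_E4) = 960 :=
  by rw [m24_4_eq]; exact m24_4_cardG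

theorem m24_stab4 : grp 24 m24_E4 ⊓ MulAction.stabilizer (Equiv.Perm (Fin 24)) (⟨11, by decide⟩ : Fin 24) = grp 24 m24_E5 :=
  by rw [m24_4_eq]; exact m24_4_lev

theorem m24_leO4 : grp 24 m24_E4 ≤ grp 24 m24_O :=
  m24_4_eq.le.trans (grp_cons_le ((m24_le29.trans (m24_le22.trans (m24_le15.trans (m24_le8.trans (le_refl (grp 24 m24_O)))))) (m24_le32 (toPerm_mem_grp (E := m24_V31) (by simp [m24_V31])))) m24_leO5)

theorem m24_3_fix : grp 24 m24_E4 ≤ MulAction.stabilizer (Equiv.Perm (Fin 24)) (⟨15, by decide⟩ : Fin 24) :=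
  grp_le_stab m24_E4_ok (by decide : 15 < 24) (by decide +kernel)

noncomputable def m24_3_ts : List ℕ := [nat_lit 0, nat_lit 1]

noncomputable def m24_3_ds : List ℕ := [nat_lit 15, nat_lit 11]

theorem m24_3_dist : Dist 24 m24_E4 m24_G3 (⟨15, by decide⟩ : Fin 24) m24_3_ts m24_3_ds :=
  dist_of_distB (k := 1) m24_hn m24_E4_ok m24_G3_ok (by decide : 15 < 24) (by decide +kernel)

noncomputable def m24_3_sl0 : SL := (SL.cons (nat_lit 1) (nat_lit 11) (Ch.cons (nat_lit 3) [nat_lit 7, nat_lit 9, nat_lit 11, nat_lit 13] (Ch.cons (nat_lit 2) [nat_lit 15, nat_lit 17, nat_lit 19, nat_lit 21, nat_lit 23] Ch.nil)) [nat_lit 0x13070105, nat_lit 21, nat_lit 0xf1315080204, nat_lit 0xf070105, nat_lit 3861, nat_lit 4885, nat_lit 987411, nat_lit 3863, nat_lit 4887] SL.nil)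

theorem m24_3_sc0 : SCs 24 m24_E4 m24_G3 (⟨15, by decide⟩ : Fin 24) (SL.words m24_3_sl0) :=
  scs_of_ok m24_hn (det_lab m24_hk ⊤) m24_E4_ok m24_G3_ok le_top le_top (by decide : 15 < 24) m24_3_fix m24_card4.le (by decide +kernel)

noncomputable def m24_3_l : List ℕ := (appL (SL.words m24_3_sl0) [])

theorem m24_3_scs : SCs 24 m24_E4 m24_G3 (⟨15, by decide⟩ : Fin 24) m24_3_l :=
  (SCs.append m24_3_sc0 SCs.nil)

noncomputable def m24_3_rl0_0 : RL := (RL.cons (nat_lit 0) (nat_lit 15) (nat_lit 0) (nat_lit 259) (nat_lit 1) (nat_lit 0xf13150103) (RL.cons (nat_lit 1) (nat_lit 11) (nat_lit 0) (nat_lit 0) (nat_lit 0) (nat_lit 0) (RL.cons (nat_lit 1) (nat_lit 23) (nat_lit 1) (nat_lit 1) (nat_lit 1) (nat_lit 0xf150804) (RL.cons (nat_lit 1) (nat_lit 5) (nat_lit 259) (nat_lit 516) (nat_lit 1) (nat_lit 0xf150103) RL.nil))))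

theorem m24_3_good0_0 : GoodSet 24 m24_E4 m24_G3 (⟨15, by decide⟩ : Fin 24) m24_3_ts (nat_lit 1) (RL.pts m24_3_rl0_0) :=
  goodSet_of_ok m24_hn (det_lab m24_hk ⊤) m24_E4_ok m24_G3_ok le_top le_top (by decide : 15 < 24) (sepAt_lab m24_hk _) (by decide +kernel)

theorem m24_3_step0 : Step 24 m24_E4 m24_G3 m24_3_ts (2 * 0 + 1) :=
  step_of_cover m24_E4_ok m24_3_dist (by decide +kernel) m24_3_scs (by decide +kernel) m24_3_good0_0 (kw := [nat_lit 7, nat_lit 9, nat_lit 11, nat_lit 13, nat_lit 15, nat_lit 17, nat_lit 19, nat_lit 21, nat_lit 23])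
    (conj_mem_of_scs m24_E4_ok m24_G3_ok (by decide : 15 < 24) m24_3_scs (c := 0) (d := 11) (by decide +kernel)) (by decide +kernel)

theorem m24_3_lev : grp 24 m24_G3 ⊓ MulAction.stabilizer (Equiv.Perm (Fin 24)) (⟨15, by decide⟩ : Fin 24) = grp 24 m24_E4 :=
  sims_level (gs := m24_V24) rfl (by decide) m24_3_fix m24_3_dist (forall_lt_one m24_3_step0)

theorem m24_3_cardG : Nat.card (grp 24 m24_G3) = 20160 :=
  card_of_level m24_hn m24_G3_ok (by decide : 15 < 24) m24_3_lev m24_card4 (m := 21) (by decide +kernel)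

theorem m24_le56 : grp 24 m24_E3 ≤ grp 24 m24_G3 :=
  grp_le_of_memB m24_hn m24_hk m24_G3_ok m24_E3_ok (ws := [nat_lit 1, nat_lit 514, nat_lit 0x1115190a03060103, nat_lit 3, nat_lit 5, nat_lit 7, nat_lit 9, nat_lit 11, nat_lit 13, nat_lit 15, nat_lit 17, nat_lit 19, nat_lit 21, nat_lit 23, nat_lit 25]) (by decide +kernel)

theorem m24_le57 : grp 24 m24_G3 ≤ grp 24 m24_E3 :=
  grp_le_of_memB m24_hn m24_hk m24_E3_ok m24_G3_ok (ws := [nat_lit 1, nat_lit 7, nat_lit 9, nat_lit 11, nat_lit 13, nat_lit 15, nat_lit 17, nat_lit 19, nat_lit 21, nat_lit 23, nat_lit 25, nat_lit 27, nat_lit 29]) (by decide +kernel)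

theorem m24_3_eq : grp 24 m24_E3 = grp 24 m24_G3 :=
  le_antisymm m24_le56 m24_le57

theorem m24_card3 : Nat.card (grp 24 m24_E3) = 20160 :=
  by rw [m24_3_eq]; exact m24_3_cardG

theorem m24_stab3 : grp 24 m24_E3 ⊓ MulAction.stabilizer (Equiv.Perm (Fin 24)) (⟨15, by decide⟩ : Fin 24) = grp 24 m24_E4 :=
  by rw [m24_3_eq]; exact m24_3_lev

theorem m24_leO3 : grp 24 m24_E3 ≤ grp 24 m24_O :=
  m24_3_eq.le.trans (grp_cons_le ((m24_le22.trans (m24_le15.trans (m24_le8.trans (le_refl (grp 24 m24_O))))) (m24_le25 (toPerm_mem_grp (E := m24_V24) (by simp [m24_V24])))) m24_leO4)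

theorem m24_2_fix : grp 24 m24_E3 ≤ MulAction.stabilizer (Equiv.Perm (Fin 24)) (⟨1, by decide⟩ : Fin 24) :=
  grp_le_stab m24_E3_ok (by decide : 1 < 24) (by decide +kernel)

noncomputable def m24_2_ts : List ℕ := [nat_lit 0, nat_lit 1]

noncomputable def m24_2_ds : List ℕ := [nat_lit 1, nat_lit 15]

theorem m24_2_dist : Dist 24 m24_E3 m24_G2 (⟨1, by decide⟩ : Fin 24) m24_2_ts m24_2_ds :=
  dist_of_distB (k := 1) m24_hn m24_E3_ok m24_G2_ok (by decide : 1 < 24) (by decide +kernel)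

noncomputable def m24_2_sl0 : SL := (SL.cons (nat_lit 1) (nat_lit 15) (Ch.cons (nat_lit 11) [nat_lit 7, nat_lit 9, nat_lit 11] (Ch.cons (nat_lit 3) [nat_lit 13, nat_lit 15, nat_lit 17, nat_lit 19] (Ch.cons (nat_lit 2) [nat_lit 21, nat_lit 23, nat_lit 25, nat_lit 27, nat_lit 29] Ch.nil))) [nat_lit 0x1517190d080e06, nat_lit 0x151b0b02, nat_lit 0x151d0d070c0206, nat_lit 0x17190d070c0307, nat_lit 0x151719071d050c, nat_lit 0x151d0e070e060c, nat_lit 0x15191d0d070d0105, nat_lit 0x150a0109, nat_lit 0x1517190d0906, nat_lit 0x191d0d070e051b, nat_lit 0x191b0d04, nat_lit 0x150d070903] SL.nil)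

theorem m24_2_sc0 : SCs 24 m24_E3 m24_G2 (⟨1, by decide⟩ : Fin 24) (SL.words m24_2_sl0) :=
  scs_of_ok m24_hn (det_lab m24_hk ⊤) m24_E3_ok m24_G2_ok le_top le_top (by decide : 1 < 24) m24_2_fix m24_card3.le (by decide +kernel)

noncomputable def m24_2_l : List ℕ := (appL (SL.words m24_2_sl0) [])

theorem m24_2_scs : SCs 24 m24_E3 m24_G2 (⟨1, by decide⟩ : Fin 24) m24_2_l :=
  (SCs.append m24_2_sc0 SCs.nil)

noncomputable def m24_2_rl0_0 : RL := (RL.cons (nat_lit 0) (nat_lit 1) (nat_lit 0) (nat_lit 264) (nat_lit 1) (nat_lit 0x1519090108) (RL.cons (nat_lit 1) (nat_lit 15) (nat_lit 0) (nat_lit 0) (nat_lit 0) (nat_lit 0) (RL.cons (nat_lit 1) (nat_lit 11) (nat_lit 1) (nat_lit 2) (nat_lit 1) (nat_lit 0x15190d080f0305) RL.nil)))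

theorem m24_2_good0_0 : GoodSet 24 m24_E3 m24_G2 (⟨1, by decide⟩ : Fin 24) m24_2_ts (nat_lit 1) (RL.pts m24_2_rl0_0) :=
  goodSet_of_ok m24_hn (det_lab m24_hk ⊤) m24_E3_ok m24_G2_ok le_top le_top (by decide : 1 < 24) (sepAt_lab m24_hk _) (by decide +kernel)

theorem m24_2_step0 : Step 24 m24_E3 m24_G2 m24_2_ts (2 * 0 + 1) :=
  step_of_cover m24_E3_ok m24_2_dist (by decide +kernel) m24_2_scs (by decide +kernel) m24_2_good0_0 (kw := [nat_lit 7, nat_lit 9, nat_lit 11, nat_lit 13, nat_lit 15, nat_lit 17, nat_lit 19, nat_lit 21, nat_lit 23, nat_lit 25, nat_lit 27, nat_lit 29])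
    (conj_mem_of_scs m24_E3_ok m24_G2_ok (by decide : 1 < 24) m24_2_scs (c := 0) (d := 15) (by decide +kernel)) (by decide +kernel)

theorem m24_2_lev : grp 24 m24_G2 ⊓ MulAction.stabilizer (Equiv.Perm (Fin 24)) (⟨1, by decide⟩ : Fin 24) = grp 24 m24_E3 :=
  sims_level (gs := m24_V17) rfl (by decide) m24_2_fix m24_2_dist (forall_lt_one m24_2_step0)

theorem m24_2_cardG : Nat.card (grp 24 m24_G2) = 443520 :=
  card_of_level m24_hn m24_G2_ok (by decide : 1 < 24) m24_2_lev m24_card3 (m := 22) (by decide +kernel)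

theorem m24_le58 : grp 24 m24_E2 ≤ grp 24 m24_G2 :=
  grp_le_of_memB m24_hn m24_hk m24_G2_ok m24_E2_ok (ws := [nat_lit 1, nat_lit 0x1b0f0a030c0207, nat_lit 0x171b0f090b05020d, nat_lit 3, nat_lit 5, nat_lit 7, nat_lit 9, nat_lit 11, nat_lit 13, nat_lit 15, nat_lit 17, nat_lit 19, nat_lit 21, nat_lit 23, nat_lit 25, nat_lit 27, nat_lit 29, nat_lit 31]) (by decide +kernel)

theorem m24_le59 : grp 24 m24_G2 ≤ grp 24 m24_E2 :=
  grp_le_of_memB m24_hn m24_hk m24_E2_ok m24_G2_ok (ws := [nat_lit 1, nat_lit 7, nat_lit 9, nat_lit 11, nat_lit 13, nat_lit 15, nat_lit 17, nat_lit 19, nat_lit 21, nat_lit 23, nat_lit 25, nat_lit 27, nat_lit 29, nat_lit 31, nat_lit 33, nat_lit 35]) (by decide +kernel)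

theorem m24_2_eq : grp 24 m24_E2 = grp 24 m24_G2 :=
  le_antisymm m24_le58 m24_le59

theorem m24_card2 : Nat.card (grp 24 m24_E2) = 443520 :=
  by rw [m24_2_eq]; exact m24_2_cardG

theorem m24_stab2 : grp 24 m24_E2 ⊓ MulAction.stabilizer (Equiv.Perm (Fin 24)) (⟨1, by decide⟩ : Fin 24) = grp 24 m24_E3 :=
  by rw [m24_2_eq]; exact m24_2_lev

theorem m24_leO2 : grp 24 m24_E2 ≤ grp 24 m24_O :=
  m24_2_eq.le.trans (grp_cons_le ((m24_le15.trans (m24_le8.trans (le_refl (grp 24 m24_O)))) (m24_le18 (toPerm_mem_grp (E := m24_V17) (by simp [m24_V17])))) m24_leO3)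

theorem m24_1_fix : grp 24 m24_E2 ≤ MulAction.stabilizer (Equiv.Perm (Fin 24)) (⟨10, by decide⟩ : Fin 24) :=
  grp_le_stab m24_E2_ok (by decide : 10 < 24) (by decide +kernel)

noncomputable def m24_1_ts : List ℕ := [nat_lit 0, nat_lit 1]

noncomputable def m24_1_ds : List ℕ := [nat_lit 10, nat_lit 1]

theorem m24_1_dist : Dist 24 m24_E2 m24_G1 (⟨10, by decide⟩ : Fin 24) m24_1_ts m24_1_ds :=
  dist_of_distB (k := 1) m24_hn m24_E2_ok m24_G1_ok (by decide : 10 < 24) (by decide +kernel)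

noncomputable def m24_1_sl0 : SL := (SL.cons (nat_lit 1) (nat_lit 1) (Ch.cons (nat_lit 15) [nat_lit 7, nat_lit 9, nat_lit 11] (Ch.cons (nat_lit 11) [nat_lit 13, nat_lit 15, nat_lit 17] (Ch.cons (nat_lit 3) [nat_lit 19, nat_lit 21, nat_lit 23, nat_lit 25] (Ch.cons (nat_lit 2) [nat_lit 27, nat_lit 29, nat_lit 31, nat_lit 33, nat_lit 35] Ch.nil)))) [nat_lit 0x1b1d1f14110e070307, nat_lit 0x1d1f0f0c0103, nat_lit 0x23140d13090b, nat_lit 0x1b2114120c12020a, nat_lit 0x1d0f080307, nat_lit 0x1b21140e15070c010a, nat_lit 0x1f130d14071102, nat_lit 0x1b230e0a0c010c, nat_lit 0x1f0e14080103, nat_lit 0x1b2313110e08010a, nat_lit 0x1b1d1411070b0108, nat_lit 0x1b1f0d110b06, nat_lit 0x1f210d12070f0208, nat_lit 0x1b1f21130d120a0101, nat_lit 0x140f07110106] SL.nil)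

theorem m24_1_sc0 : SCs 24 m24_E2 m24_G1 (⟨10, by decide⟩ : Fin 24) (SL.words m24_1_sl0) :=
  scs_of_ok m24_hn (det_lab m24_hk ⊤) m24_E2_ok m24_G1_ok le_top le_top (by decide : 10 < 24) m24_1_fix m24_card2.le (by decide +kernel)

noncomputable def m24_1_l : List ℕ := (appL (SL.words m24_1_sl0) [])

theorem m24_1_scs : SCs 24 m24_E2 m24_G1 (⟨10, by decide⟩ : Fin 24) m24_1_l :=
  (SCs.append m24_1_sc0 SCs.nil)

noncomputable def m24_1_rl0_0 : RL := (RL.cons (nat_lit 0) (nat_lit 10) (nat_lit 0) (nat_lit 773) (nat_lit 1) (nat_lit 0x1b1f23140d0c0305) (RL.cons (nat_lit 1) (nat_lit 1) (nat_lit 0) (nat_lit 0) (nat_lit 0) (nat_lit 0) (RL.cons (nat_lit 1) (nat_lit 15) (nat_lit 1) (nat_lit 4) (nat_lit 1) (nat_lit 0x1b1d0d120710010a) RL.nil)))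

theorem m24_1_good0_0 : GoodSet 24 m24_E2 m24_G1 (⟨10, by decide⟩ : Fin 24) m24_1_ts (nat_lit 1) (RL.pts m24_1_rl0_0) :=
  goodSet_of_ok m24_hn (det_lab m24_hk ⊤) m24_E2_ok m24_G1_ok le_top le_top (by decide : 10 < 24) (sepAt_lab m24_hk _) (by decide +kernel)

theorem m24_1_step0 : Step 24 m24_E2 m24_G1 m24_1_ts (2 * 0 + 1) :=
  step_of_cover m24_E2_ok m24_1_dist (by decide +kernel) m24_1_scs (by decide +kernel) m24_1_good0_0 (kw := [nat_lit 7, nat_lit 9, nat_lit 11, nat_lit 13, nat_lit 15, nat_lit 17, nat_lit 19, nat_lit 21, nat_lit 23, nat_lit 25, nat_lit 27, nat_lit 29, nat_lit 31, nat_lit 33, nat_lit 35])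
    (conj_mem_of_scs m24_E2_ok m24_G1_ok (by decide : 10 < 24) m24_1_scs (c := 0) (d := 1) (by decide +kernel)) (by decide +kernel)

theorem m24_1_lev : grp 24 m24_G1 ⊓ MulAction.stabilizer (Equiv.Perm (Fin 24)) (⟨10, by decide⟩ : Fin 24) = grp 24 m24_E2 :=
  sims_level (gs := m24_V10) rfl (by decide) m24_1_fix m24_1_dist (forall_lt_one m24_1_step0)

theorem m24_1_cardG : Nat.card (grp 24 m24_G1) = 10200960 :=
  card_of_level m24_hn m24_G1_ok (by decide : 10 < 24) m24_1_lev m24_card2 (m := 23) (by decide +kernel)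

theorem m24_le60 : grp 24 m24_E1 ≤ grp 24 m24_G1 :=
  grp_le_of_memB m24_hn m24_hk m24_G1_ok m24_E1_ok (ws := [nat_lit 1, nat_lit 0x13100c030602, nat_lit 0x21230f25090e03080105, nat_lit 3, nat_lit 5, nat_lit 7, nat_lit 9, nat_lit 11, nat_lit 13, nat_lit 15, nat_lit 17, nat_lit 19, nat_lit 21, nat_lit 23, nat_lit 25, nat_lit 27, nat_lit 29, nat_lit 31, nat_lit 33, nat_lit 35, nat_lit 37]) (by decide +kernel)

theorem m24_le61 : grp 24 m24_G1 ≤ grp 24 m24_E1 :=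
  grp_le_of_memB m24_hn m24_hk m24_E1_ok m24_G1_ok (ws := [nat_lit 1, nat_lit 7, nat_lit 9, nat_lit 11, nat_lit 13, nat_lit 15, nat_lit 17, nat_lit 19, nat_lit 21, nat_lit 23, nat_lit 25, nat_lit 27, nat_lit 29, nat_lit 31, nat_lit 33, nat_lit 35, nat_lit 37, nat_lit 39, nat_lit 41]) (by decide +kernel)

theorem m24_1_eq : grp 24 m24_E1 = grp 24 m24_G1 :=
  le_antisymm m24_le60 m24_le61

theorem m24_card1 : Nat.card (grp 24 m24_E1) = 10200960 :=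
  by rw [m24_1_eq]; exact m24_1_cardG

theorem m24_stab1 : grp 24 m24_E1 ⊓ MulAction.stabilizer (Equiv.Perm (Fin 24)) (⟨10, by decide⟩ : Fin 24) = grp 24 m24_E2 :=
  by rw [m24_1_eq]; exact m24_1_lev

theorem m24_leO1 : grp 24 m24_E1 ≤ grp 24 m24_O :=
  m24_1_eq.le.trans (grp_cons_le ((m24_le8.trans (le_refl (grp 24 m24_O))) (m24_le11 (toPerm_mem_grp (E := m24_V10) (by simp [m24_V10])))) m24_leO2)

theorem m24_0_fix : grp 24 m24_E1 ≤ MulAction.stabilizer (Equiv.Perm (Fin 24)) (⟨0, by decide⟩ : Fin 24) :=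
  grp_le_stab m24_E1_ok (by decide : 0 < 24) (by decide +kernel)

noncomputable def m24_0_ts : List ℕ := [nat_lit 0, nat_lit 1]

noncomputable def m24_0_ds : List ℕ := [nat_lit 0, nat_lit 10]

theorem m24_0_dist : Dist 24 m24_E1 m24_G0 (⟨0, by decide⟩ : Fin 24) m24_0_ts m24_0_ds :=
  dist_of_distB (k := 1) m24_hn m24_E1_ok m24_G0_ok (by decide : 0 < 24) (by decide +kernel)

noncomputable def m24_0_sl0 : SL := (SL.cons (nat_lit 1) (nat_lit 10) (Ch.cons (nat_lit 1) [nat_lit 7, nat_lit 9, nat_lit 11] (Ch.cons (nat_lit 15) [nat_lit 13, nat_lit 15, nat_lit 17] (Ch.cons (nat_lit 11) [nat_lit 19, nat_lit 21, nat_lit 23] (Ch.cons (nat_lit 3) [nat_lit 25, nat_lit 27, nat_lit 29, nat_lit 31] (Ch.cons (nat_lit 2) [nat_lit 33, nat_lit 35, nat_lit 37, nat_lit 39, nat_lit 41] Ch.nil))))) [nat_lit 0x21251a13150f110801, nat_lit 0x25170d150709020f, nat_lit 0x25291a160d120b0219,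 nat_lit 0x2129180d110904, nat_lit 0x2123251a1411090212, nat_lit 0x212319130f0103, nat_lit 0x21251a1511180b0205, nat_lit 0x21291a0f11070a0229, nat_lit 0x2123251a17140d1407090401, nat_lit 0x21232513151218071204, nat_lit 0x21232519161b0d08, nat_lit 0x25271a141b1119090d06, nat_lit 0x13190d16080f04, nat_lit 0x271a13270d16090d, nat_lit 0x291913270e12070c, nat_lit 0x2719170d14081a, nat_lit 0x23191612180709, nat_lit 0x25190d0a] SL.nil)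

theorem m24_0_sc0 : SCs 24 m24_E1 m24_G0 (⟨0, by decide⟩ : Fin 24) (SL.words m24_0_sl0) :=
  scs_of_ok m24_hn (det_lab m24_hk ⊤) m24_E1_ok m24_G0_ok le_top le_top (by decide : 0 < 24) m24_0_fix m24_card1.le (by decide +kernel)

noncomputable def m24_0_l : List ℕ := (appL (SL.words m24_0_sl0) [])

theorem m24_0_scs : SCs 24 m24_E1 m24_G0 (⟨0, by decide⟩ : Fin 24) m24_0_l :=
  (SCs.append m24_0_sc0 SCs.nil)

noncomputable def m24_0_rl0_0 : RL := (RL.cons (nat_lit 0) (nat_lit 0) (nat_lit 0) (nat_lit 261) (nat_lit 1) (nat_lit 0x212529160e12070d0105) (RL.cons (nat_lit 1) (nat_lit 10) (nat_lit 0) (nat_lit 0) (nat_lit 0) (nat_lit 0) (RL.cons (nat_lit 1) (nat_lit 1) (nat_lit 1) (nat_lit 537) (nat_lit 1) (nat_lit 0x211913270e120b0209) RL.nil)))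

theorem m24_0_good0_0 : GoodSet 24 m24_E1 m24_G0 (⟨0, by decide⟩ : Fin 24) m24_0_ts (nat_lit 1) (RL.pts m24_0_rl0_0) :=
  goodSet_of_ok m24_hn (det_lab m24_hk ⊤) m24_E1_ok m24_G0_ok le_top le_top (by decide : 0 < 24) (sepAt_lab m24_hk _) (by decide +kernel)

theorem m24_0_step0 : Step 24 m24_E1 m24_G0 m24_0_ts (2 * 0 + 1) :=
  step_of_cover m24_E1_ok m24_0_dist (by decide +kernel) m24_0_scs (by decide +kernel) m24_0_good0_0 (kw := [nat_lit 7, nat_lit 9, nat_lit 11, nat_lit 13, nat_lit 15, nat_lit 17, nat_lit 19, nat_lit 21, nat_lit 23, nat_lit 25, nat_lit 27, nat_lit 29, nat_lit 31, nat_lit 33, nat_lit 35, nat_lit 37, nat_lit 39, nat_lit 41])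
    (conj_mem_of_scs m24_E1_ok m24_G0_ok (by decide : 0 < 24) m24_0_scs (c := 0) (d := 10) (by decide +kernel)) (by decide +kernel)

theorem m24_0_lev : grp 24 m24_G0 ⊓ MulAction.stabilizer (Equiv.Perm (Fin 24)) (⟨0, by decide⟩ : Fin 24) = grp 24 m24_E1 :=
  sims_level (gs := m24_V3) rfl (by decide) m24_0_fix m24_0_dist (forall_lt_one m24_0_step0)

theorem m24_0_cardG : Nat.card (grp 24 m24_G0) = 244823040 :=
  card_of_level m24_hn m24_G0_ok (by decide : 0 < 24) m24_0_lev m24_card1 (m := 24) (by decide +kernel)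

theorem m24_le62 : grp 24 m24_E0 ≤ grp 24 m24_G0 :=
  grp_le_of_memB m24_hn m24_hk m24_G0_ok m24_E0_ok (ws := [nat_lit 1, nat_lit 0x23272b1c161c0f190d0411, nat_lit 3, nat_lit 5, nat_lit 7, nat_lit 9, nat_lit 11, nat_lit 13, nat_lit 15, nat_lit 17, nat_lit 19, nat_lit 21, nat_lit 23, nat_lit 25, nat_lit 27, nat_lit 29, nat_lit 31, nat_lit 33, nat_lit 35, nat_lit 37, nat_lit 39, nat_lit 41, nat_lit 43]) (by decide +kernel)

theorem m24_le63 : grp 24 m24_G0 ≤ grp 24 m24_E0 :=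
  grp_le_of_memB m24_hn m24_hk m24_E0_ok m24_G0_ok (ws := [nat_lit 1, nat_lit 5, nat_lit 7, nat_lit 9, nat_lit 11, nat_lit 13, nat_lit 15, nat_lit 17, nat_lit 19, nat_lit 21, nat_lit 23, nat_lit 25, nat_lit 27, nat_lit 29, nat_lit 31, nat_lit 33, nat_lit 35, nat_lit 37, nat_lit 39, nat_lit 41, nat_lit 43, nat_lit 45]) (by decide +kernel)

theorem m24_0_eq : grp 24 m24_E0 = grp 24 m24_G0 :=
  le_antisymm m24_le62 m24_le63

theorem m24_card0 : Nat.card (grp 24 m24_E0) = 244823040 :=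
  by rw [m24_0_eq]; exact m24_0_cardG

theorem m24_stab0 : grp 24 m24_E0 ⊓ MulAction.stabilizer (Equiv.Perm (Fin 24)) (⟨0, by decide⟩ : Fin 24) = grp 24 m24_E1 :=
  by rw [m24_0_eq]; exact m24_0_lev

theorem m24_leO0 : grp 24 m24_E0 ≤ grp 24 m24_O :=
  m24_0_eq.le.trans (grp_cons_le ((le_refl (grp 24 m24_O)) (m24_le4 (toPerm_mem_grp (E := m24_V3) (by simp [m24_V3])))) m24_leO1)

theorem m24_le64 : grp 24 m24_O ≤ grp 24 m24_E0 :=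
  grp_le_of_memB m24_hn m24_hk m24_E0_ok m24_O_ok (ws := [nat_lit 1, nat_lit 3]) (by decide +kernel)

theorem m24_eq : grp 24 m24_O = grp 24 m24_E0 :=
  le_antisymm m24_le64 m24_leO0

theorem m24_card : Nat.card (grp 24 m24_O) = 244823040 :=
  by rw [m24_eq]; exact m24_card0

noncomputable def m24_ch : Ch := (Ch.cons (nat_lit 0) [nat_lit 1, nat_lit 3] (Ch.cons (nat_lit 10) [nat_lit 5, nat_lit 7, nat_lit 9] (Ch.cons (nat_lit 1) [nat_lit 11, nat_lit 13, nat_lit 15] (Ch.cons (nat_lit 15) [nat_lit 17, nat_lit 19, nat_lit 21] (Ch.cons (nat_lit 11) [nat_lit 23, nat_lit 25, nat_lit 27] (Ch.cons (nat_lit 3) [nat_lit 29, nat_lit 31, nat_lit 33, nat_lit 35] (Ch.cons (nat_lit 2) [nat_lit 37, nat_lit 39, nat_lit 41, nat_lit 43, nat_lit 45] Ch.nil)))))))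

theorem m24_exact : Ch.Exact 24 m24_E0 m24_ch (grp 24 m24_E0) :=
  Ch.exact (k := 5) (L := (lab 24 5)) m24_hn m24_E0_ok (by decide +kernel) (wgrp_le_grp _ _ _) m24_card0.le

theorem m24_T65_s0 : Stab 24 (grp 24 m24_E0) [] m24_E0 244823040 :=
  Stab.root m24_E0_ok m24_card0

theorem m24_le73 : grp 24 m24t_c1_K ≤ grp 24 m24_E0 :=
  grp_le_of_memB m24_hn m24_hk m24_E0_ok m24t_c1_K_ok (ws := [nat_lit 0x292d1e1a111a0801010e, nat_lit 0x25292d1e172d152b0b110509, nat_lit 0x25291e171b13150c13, nat_lit 0x25292d1a1f0b16, nat_lit 0x292d1e1a1f12160b12, nat_lit 0x292d171d120d0f]) (by decide +kernel)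

theorem m24t_c1_le : grp 24 m24t_c1_K ≤ (grp 24 m24_E0) :=
  (m24_le73.trans m24_T65_s0.le)

theorem m24t_c1_mem : Net.toPerm 24 m24_g66 ∈ (grp 24 m24_E0) :=
  m24t_c1_le (mem_grp_of_memB m24_hn m24_hk m24t_c1_K_ok m24_g66_ok (w := (nat_lit 0x9050906020901)) (by decide +kernel))

theorem m24t_c1_sym : Sym 24 (grp 24 m24_E0) [m24_g66] m24t_c1_K 0 :=
  Sym.of_lab m24_hn m24_hk (okE_cons.2 ⟨m24_g66_ok, okE_nil _⟩) m24t_c1_K_ok m24t_c1_le (kT := 0) (by decide +kernel)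

theorem m24_T65_s1 : Stab 24 (grp 24 m24_E0) [nat_lit 0] m24_V74 10200960 :=
  Stab.step (k := 5) (L := (lab 24 5)) m24_hn m24_T65_s0 m24_V74_ok (grp_mono (List.subset_append_right [m24_g1, m24_g2] _)) (c := (Ch.cons (nat_lit 10) [nat_lit 1, nat_lit 3, nat_lit 5] (Ch.cons (nat_lit 1) [nat_lit 7, nat_lit 9, nat_lit 11] (Ch.cons (nat_lit 15) [nat_lit 13, nat_lit 15, nat_lit 17] (Ch.cons (nat_lit 11) [nat_lit 19, nat_lit 21, nat_lit 23] (Ch.cons (nat_lit 3) [nat_lit 25, nat_lit 27, nat_lit 29, nat_lit 31] (Ch.cons (nat_lit 2) [nat_lit 33, nat_lit 35, nat_lit 37, nat_lit 39, nat_lit 41] Ch.nil))))))) (by decide +kernel)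

theorem m24_T65_s2 : Stab 24 (grp 24 m24_E0) [nat_lit 10, nat_lit 0] m24_V75 443520 :=
  Stab.step (k := 5) (L := (lab 24 5)) m24_hn m24_T65_s1 m24_V75_ok (grp_mono (List.subset_append_right [m24_g9, m24_g5, m24_g6] _)) (c := (Ch.cons (nat_lit 1) [nat_lit 1, nat_lit 3, nat_lit 5] (Ch.cons (nat_lit 15) [nat_lit 7, nat_lit 9, nat_lit 11] (Ch.cons (nat_lit 11) [nat_lit 13, nat_lit 15, nat_lit 17] (Ch.cons (nat_lit 3) [nat_lit 19, nat_lit 21, nat_lit 23, nat_lit 25] (Ch.cons (nat_lit 2) [nat_lit 27, nat_lit 29, nat_lit 31, nat_lit 33, nat_lit 35] Ch.nil)))))) (by decide +kernel)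

theorem m24_T65_s3 : Stab 24 (grp 24 m24_E0) [nat_lit 1, nat_lit 10, nat_lit 0] m24_V76 20160 :=
  Stab.step (k := 5) (L := (lab 24 5)) m24_hn m24_T65_s2 m24_V76_ok (grp_mono (List.subset_append_right [m24_g16, m24_g12, m24_g13] _)) (c := (Ch.cons (nat_lit 15) [nat_lit 1, nat_lit 3, nat_lit 5] (Ch.cons (nat_lit 11) [nat_lit 7, nat_lit 9, nat_lit 11] (Ch.cons (nat_lit 3) [nat_lit 13, nat_lit 15, nat_lit 17, nat_lit 19] (Ch.cons (nat_lit 2) [nat_lit 21, nat_lit 23, nat_lit 25, nat_lit 27, nat_lit 29] Ch.nil))))) (by decide +kernel)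

theorem m24_T65_s4 : Stab 24 (grp 24 m24_E0) [nat_lit 15, nat_lit 1, nat_lit 10, nat_lit 0] m24_V77 960 :=
  Stab.step (k := 5) (L := (lab 24 5)) m24_hn m24_T65_s3 m24_V77_ok (grp_mono (List.subset_append_right [m24_g23, m24_g19, m24_g20] _)) (c := (Ch.cons (nat_lit 11) [nat_lit 1, nat_lit 3, nat_lit 5] (Ch.cons (nat_lit 3) [nat_lit 7, nat_lit 9, nat_lit 11, nat_lit 13] (Ch.cons (nat_lit 2) [nat_lit 15, nat_lit 17, nat_lit 19, nat_lit 21, nat_lit 23] Ch.nil)))) (by decide +kernel)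

theorem m24_T65_s5 : Stab 24 (grp 24 m24_E0) [nat_lit 11, nat_lit 15, nat_lit 1, nat_lit 10, nat_lit 0] m24_V78 48 :=
  Stab.step (k := 5) (L := (lab 24 5)) m24_hn m24_T65_s4 m24_V78_ok (grp_mono (List.subset_append_right [m24_g30, m24_g26, m24_g27] _)) (c := (Ch.cons (nat_lit 3) [nat_lit 1, nat_lit 3, nat_lit 5, nat_lit 7] (Ch.cons (nat_lit 2) [nat_lit 9, nat_lit 11, nat_lit 13, nat_lit 15, nat_lit 17] Ch.nil))) (by decide +kernel)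

theorem m24_T65_s6 : Stab 24 (grp 24 m24_E0) [nat_lit 3, nat_lit 11, nat_lit 15, nat_lit 1, nat_lit 10, nat_lit 0] m24_V79 16 :=
  Stab.step (k := 5) (L := (lab 24 5)) m24_hn m24_T65_s5 m24_V79_ok (grp_mono (List.subset_append_right [m24_g38, m24_g33, m24_g34, m24_g35] _)) (c := (Ch.cons (nat_lit 2) [nat_lit 1, nat_lit 3, nat_lit 5, nat_lit 7, nat_lit 9] Ch.nil)) (by decide +kernel)

theorem m24_T65_s7 : Stab 24 (grp 24 m24_E0) [nat_lit 2, nat_lit 3, nat_lit 11, nat_lit 15, nat_lit 1, nat_lit 10, nat_lit 0] m24_V80 1 :=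
  Stab.step (k := 5) (L := (lab 24 5)) m24_hn m24_T65_s6 m24_V80_ok (grp_mono (List.subset_append_right [m24_g43, m24_g41, m24_g44, m24_g47, m24_g42] _)) (c := Ch.nil) (by decide +kernel)

theorem m24_g30_m24_T65 : Net.toPerm 24 m24_g30 ∈ (grp 24 m24_E0) :=
  m24_T65_s4.le (toPerm_mem_grp (E := m24_V77) (List.Mem.head _))

theorem m24_g26_m24_T65 : Net.toPerm 24 m24_g26 ∈ (grp 24 m24_E0) :=
  m24_T65_s4.le (toPerm_mem_grp (E := m24_V77) (List.Mem.tail _ (List.Mem.head _)))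

theorem m24_g27_m24_T65 : Net.toPerm 24 m24_g27 ∈ (grp 24 m24_E0) :=
  m24_T65_s4.le (toPerm_mem_grp (E := m24_V77) (List.Mem.tail _ (List.Mem.tail _ (List.Mem.head _))))

theorem m24_g38_m24_T65 : Net.toPerm 24 m24_g38 ∈ (grp 24 m24_E0) :=
  m24_T65_s4.le (toPerm_mem_grp (E := m24_V77) (List.Mem.tail _ (List.Mem.tail _ (List.Mem.tail _ (List.Mem.head _)))))

theorem m24_g33_m24_T65 : Net.toPerm 24 m24_g33 ∈ (grp 24 m24_E0) :=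
  m24_T65_s4.le (toPerm_mem_grp (E := m24_V77) (List.Mem.tail _ (List.Mem.tail _ (List.Mem.tail _ (List.Mem.tail _ (List.Mem.head _))))))

theorem m24_g34_m24_T65 : Net.toPerm 24 m24_g34 ∈ (grp 24 m24_E0) :=
  m24_T65_s4.le (toPerm_mem_grp (E := m24_V77) (List.Mem.tail _ (List.Mem.tail _ (List.Mem.tail _ (List.Mem.tail _ (List.Mem.tail _ (List.Mem.head _)))))))

theorem m24_g35_m24_T65 : Net.toPerm 24 m24_g35 ∈ (grp 24 m24_E0) :=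
  m24_T65_s4.le (toPerm_mem_grp (E := m24_V77) (List.Mem.tail _ (List.Mem.tail _ (List.Mem.tail _ (List.Mem.tail _ (List.Mem.tail _ (List.Mem.tail _ (List.Mem.head _))))))))

theorem m24_g43_m24_T65 : Net.toPerm 24 m24_g43 ∈ (grp 24 m24_E0) :=
  m24_T65_s4.le (toPerm_mem_grp (E := m24_V77) (List.Mem.tail _ (List.Mem.tail _ (List.Mem.tail _ (List.Mem.tail _ (List.Mem.tail _ (List.Mem.tail _ (List.Mem.tail _ (List.Mem.head _)))))))))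

theorem m24_g41_m24_T65 : Net.toPerm 24 m24_g41 ∈ (grp 24 m24_E0) :=
  m24_T65_s4.le (toPerm_mem_grp (E := m24_V77) (List.Mem.tail _ (List.Mem.tail _ (List.Mem.tail _ (List.Mem.tail _ (List.Mem.tail _ (List.Mem.tail _ (List.Mem.tail _ (List.Mem.tail _ (List.Mem.head _))))))))))

theorem m24_g44_m24_T65 : Net.toPerm 24 m24_g44 ∈ (grp 24 m24_E0) :=
  m24_T65_s4.le (toPerm_mem_grp (E := m24_V77) (List.Mem.tail _ (List.Mem.tail _ (List.Mem.tail _ (List.Mem.tail _ (List.Mem.tail _ (List.Mem.tail _ (List.Mem.tail _ (List.Mem.tail _ (List.Mem.tail _ (List.Mem.head _)))))))))))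

theorem m24_g47_m24_T65 : Net.toPerm 24 m24_g47 ∈ (grp 24 m24_E0) :=
  m24_T65_s4.le (toPerm_mem_grp (E := m24_V77) (List.Mem.tail _ (List.Mem.tail _ (List.Mem.tail _ (List.Mem.tail _ (List.Mem.tail _ (List.Mem.tail _ (List.Mem.tail _ (List.Mem.tail _ (List.Mem.tail _ (List.Mem.tail _ (List.Mem.head _))))))))))))

theorem m24_g42_m24_T65 : Net.toPerm 24 m24_g42 ∈ (grp 24 m24_E0) :=
  m24_T65_s4.le (toPerm_mem_grp (E := m24_V77) (List.Mem.tail _ (List.Mem.tail _ (List.Mem.tail _ (List.Mem.tail _ (List.Mem.tail _ (List.Mem.tail _ (List.Mem.tail _ (List.Mem.tail _ (List.Mem.tail _ (List.Mem.tail _ (List.Mem.tail _ (List.Mem.head _)))))))))))))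

theorem m24_g23_m24_T65 : Net.toPerm 24 m24_g23 ∈ (grp 24 m24_E0) :=
  m24_T65_s3.le (toPerm_mem_grp (E := m24_V76) (List.Mem.head _))

theorem m24_g19_m24_T65 : Net.toPerm 24 m24_g19 ∈ (grp 24 m24_E0) :=
  m24_T65_s3.le (toPerm_mem_grp (E := m24_V76) (List.Mem.tail _ (List.Mem.head _)))

theorem m24_g20_m24_T65 : Net.toPerm 24 m24_g20 ∈ (grp 24 m24_E0) :=
  m24_T65_s3.le (toPerm_mem_grp (E := m24_V76) (List.Mem.tail _ (List.Mem.tail _ (List.Mem.head _))))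

theorem m24_g16_m24_T65 : Net.toPerm 24 m24_g16 ∈ (grp 24 m24_E0) :=
  m24_T65_s2.le (toPerm_mem_grp (E := m24_V75) (List.Mem.head _))

theorem m24_g12_m24_T65 : Net.toPerm 24 m24_g12 ∈ (grp 24 m24_E0) :=
  m24_T65_s2.le (toPerm_mem_grp (E := m24_V75) (List.Mem.tail _ (List.Mem.head _)))

theorem m24_g13_m24_T65 : Net.toPerm 24 m24_g13 ∈ (grp 24 m24_E0) :=
  m24_T65_s2.le (toPerm_mem_grp (E := m24_V75) (List.Mem.tail _ (List.Mem.tail _ (List.Mem.head _))))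

theorem m24_g9_m24_T65 : Net.toPerm 24 m24_g9 ∈ (grp 24 m24_E0) :=
  m24_T65_s1.le (toPerm_mem_grp (E := m24_V74) (List.Mem.head _))

theorem m24_g5_m24_T65 : Net.toPerm 24 m24_g5 ∈ (grp 24 m24_E0) :=
  m24_T65_s1.le (toPerm_mem_grp (E := m24_V74) (List.Mem.tail _ (List.Mem.head _)))

theorem m24_g6_m24_T65 : Net.toPerm 24 m24_g6 ∈ (grp 24 m24_E0) :=
  m24_T65_s1.le (toPerm_mem_grp (E := m24_V74) (List.Mem.tail _ (List.Mem.tail _ (List.Mem.head _))))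

theorem m24_g1_m24_T65 : Net.toPerm 24 m24_g1 ∈ (grp 24 m24_E0) :=
  m24_T65_s0.le (toPerm_mem_grp (E := m24_E0) (List.Mem.head _))

theorem m24_g2_m24_T65 : Net.toPerm 24 m24_g2 ∈ (grp 24 m24_E0) :=
  m24_T65_s0.le (toPerm_mem_grp (E := m24_E0) (List.Mem.tail _ (List.Mem.head _)))

noncomputable def m24_T65_s7_O : ℕ := (nat_lit 0xff000000ff00f0f0f0ccccccaaaaaa000001000400000002008000000800000008000004)

theorem m24_T65_s7_F : Frame 24 (grp 24 m24_E0) 7 12 m24_T65_s7_O 1 1 :=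
  IsBase.frame m24_T65_s7.isBase (by decide +kernel)

noncomputable def m24_T65_s5_O : ℕ := (nat_lit 0x40028000001000400000002008000000800)

theorem m24_T65_s5_F : Frame 24 (grp 24 m24_E0) 5 6 m24_T65_s5_O 0 1 :=
  Stab.frame m24_hn m24_T65_s5 (by decide +kernel)

noncomputable def m24t_c1_cnt_L : List ℕ := [5, 6, m24_T65_s5_O, 0, 0, 7, 12, m24_T65_s7_O, 1, 0]

theorem m24t_c1_cnt_P : Prob 24 5 (grp 24 m24_E0) m24t_c1_cnt_EG [m24_g66] [m24_g66] m24t_c1_K m24t_c1_cnt_L 0 0 :=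
  Sym.prob m24_hn m24_hk m24t_c1_sym m24t_c1_cnt_EG_ok (grp_cons_le m24_g30_m24_T65 (grp_cons_le m24_g26_m24_T65 (grp_cons_le m24_g27_m24_T65 (grp_cons_le m24_g38_m24_T65 (grp_cons_le m24_g33_m24_T65 (grp_cons_le m24_g34_m24_T65 (grp_cons_le m24_g35_m24_T65 (grp_cons_le m24_g43_m24_T65 (grp_cons_le m24_g41_m24_T65 (grp_cons_le m24_g44_m24_T65 (grp_cons_le m24_g47_m24_T65 (grp_cons_le m24_g42_m24_T65 (grp_cons_le m24_g23_m24_T65 (grp_cons_le m24_g19_m24_T65 (grp_cons_le m24_g20_m24_T65 (grp_cons_le m24_g16_m24_T65 (grp_cons_le m24_g12_m24_T65 (grp_cons_le m24_g13_m24_T65 (grp_cons_le m24_g9_m24_T65 (grp_cons_le m24_g5_m24_T65 (grp_cons_le m24_g6_m24_T65 (grp_cons_le m24_g1_m24_T65 (grp_cons_le m24_g2_m24_T65 (grp_nil_le _)))))))))))))))))))))))) (Frames.cons m24_T65_s5_F (Frames.cons m24_T65_s7_F Frames.nil)) (okE_cons.2 ⟨m24_g66_ok, okE_nil _⟩)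 _

noncomputable def m24t_c1_cnt_t : BT := (BT.fix (nat_lit 1) (BT.dif (nat_lit 3) (nat_lit 0) (BT.br (nat_lit 0) (nat_lit 0) [nat_lit 1, nat_lit 3] (BT.kid (nat_lit 0) (nat_lit 1344) (BT.dif (nat_lit 1) (nat_lit 0) (BT.img (nat_lit 1) (nat_lit 1) (BT.dif (nat_lit 1) (nat_lit 0) (BT.br (nat_lit 0) (nat_lit 2) [nat_lit 3, nat_lit 5] (BT.kid (nat_lit 2) (nat_lit 96) (BT.dif (nat_lit 5) (nat_lit 0) (BT.dif (nat_lit 0) (nat_lit 5) (BT.dif (nat_lit 0) (nat_lit 4) (BT.img (nat_lit 1) (nat_lit 3) (BT.dif (nat_lit 1) (nat_lit 0) (BT.br (nat_lit 0) (nat_lit 3) [nat_lit 5, nat_lit 7, nat_lit 9] (BT.kid (nat_lit 3) (nat_lit 8) (BT.dif (nat_lit 11) (nat_lit 0) (BT.dif (nat_lit 0) (nat_lit 11) (BT.dif (nat_lit 0) (nat_lit 10) (BT.dif (nat_lit 0) (nat_lit 9) (BT.dif (nat_lit 0) (nat_lit 6) (BT.frm (nat_lit 0) (nat_lit 0x61d0622261b) (nat_lit 0x61d0622261b) [nat_lit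 5, nat_lit 7, nat_lit 11, nat_lit 13, nat_lit 15] (BT.pln (nat_lit 0) (nat_lit 5) (BT.dif (nat_lit 2) (nat_lit 0) (BT.br (nat_lit 0) (nat_lit 4) [nat_lit 7, nat_lit 9, nat_lit 11] (BT.kid (nat_lit 4) (nat_lit 1) (BT.img (nat_lit 1) (nat_lit 9) (BT.one (nat_lit 1) (nat_lit 0xf17061d0622261b) (nat_lit 0xf17061d0622261b) [nat_lit 1, nat_lit 0, nat_lit 10, nat_lit 12, nat_lit 16, nat_lit 18, nat_lit 20])) BT.nil)))))))))) BT.nil))))))) BT.nil))))) BT.nil))))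

theorem m24t_c1_cnt : Cnt 24 (grp 24 m24_E0) [m24_g66] [m24_g66] 0 0 0 0 21504 :=
  BT.sound m24t_c1_cnt_P Known.nil (t := m24t_c1_cnt_t) (d := 0) (by decide +kernel)

theorem m24t_c1_ge : 21504 ≤ Nat.card (grp 24 m24t_c1_K) :=
  Ch.le_card_grp (k := 5) (L := (lab 24 5)) m24_hn m24t_c1_K_ok (c := (Ch.cons (nat_lit 0) [nat_lit 1] (Ch.cons (nat_lit 2) [nat_lit 3] (Ch.cons (nat_lit 3) [nat_lit 5] (Ch.cons (nat_lit 4) [nat_lit 7, nat_lit 9, nat_lit 11] Ch.nil))))) (by decide +kernel)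

theorem m24t_c1_eq : (grp 24 m24_E0) ⊓ Subgroup.centralizer {Net.toPerm 24 m24_g66} = grp 24 m24t_c1_K :=
  cent_eq m24t_c1_sym m24t_c1_cnt m24t_c1_ge

theorem m24t_c1_card : Nat.card ↥((grp 24 m24_E0) ⊓ Subgroup.centralizer {Net.toPerm 24 m24_g66}) = 21504 :=
  card_cent m24t_c1_sym m24t_c1_cnt m24t_c1_ge

theorem m24t_c1_ord : orderOf (Net.toPerm 24 m24_g66) = 2 :=
  orderOf_net m24_hn m24_hk m24_g66_ok (by decide) (ps := [2]) (by set_option linter.unusedSimpArgs false in simp [Nat.primeFactorsList_ofNat]) (by decide +kernel)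

theorem m24_le86 : grp 24 m24t_c2_K ≤ grp 24 m24_E0 :=
  grp_le_of_memB m24_hn m24_hk m24_E0_ok m24t_c2_K_ok (ws := [nat_lit 0x2729181f12160b0d061d010111, nat_lit 0x25292d1b161c0b1208, nat_lit 0x252b1e1a111b0b1208, nat_lit 0x291e171d0b1208]) (by decide +kernel)

theorem m24t_c2_le : grp 24 m24t_c2_K ≤ (grp 24 m24_E0) :=
  (m24_le86.trans m24_T65_s0.le)

theorem m24t_c2_mem : Net.toPerm 24 m24_g81 ∈ (grp 24 m24_E0) :=
  m24t_c2_le (mem_grp_of_memB m24_hn m24_hk m24t_c2_K_ok m24_g81_ok (w := (nat_lit 0x60404010502)) (by decide +kernel))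

theorem m24t_c2_sym : Sym 24 (grp 24 m24_E0) [m24_g81] m24t_c2_K 0 :=
  Sym.of_lab m24_hn m24_hk (okE_cons.2 ⟨m24_g81_ok, okE_nil _⟩) m24t_c2_K_ok m24t_c2_le (kT := 0) (by decide +kernel)

theorem m24_le89 : grp 24 m24_V88 ≤ grp 24 m24_V78 :=
  grp_le_of_memB m24_hn m24_hk m24_V78_ok m24_V88_ok (ws := [nat_lit 724226]) (by decide +kernel)

theorem m24_T65_s8 : Stab 24 (grp 24 m24_E0) [nat_lit 16, nat_lit 11, nat_lit 15, nat_lit 1, nat_lit 10, nat_lit 0] m24_V88 3 :=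
  Stab.step (k := 5) (L := (lab 24 5)) m24_hn m24_T65_s5 m24_V88_ok m24_le89 (c := (Ch.cons (nat_lit 2) [nat_lit 1] Ch.nil)) (by decide +kernel)

theorem m24_T65_s9 : Stab 24 (grp 24 m24_E0) [nat_lit 2, nat_lit 16, nat_lit 11, nat_lit 15, nat_lit 1, nat_lit 10, nat_lit 0] m24_V90 1 :=
  Stab.step (k := 5) (L := (lab 24 5)) m24_hn m24_T65_s8 m24_V90_ok (grp_mono (List.subset_append_right [m24_g87] _)) (c := Ch.nil) (by decide +kernel)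

theorem m24_g87_m24_T65 : Net.toPerm 24 m24_g87 ∈ (grp 24 m24_E0) :=
  m24_T65_s8.le (toPerm_mem_grp (E := m24_V88) (List.Mem.head _))

noncomputable def m24_T65_s9_O : ℕ := (nat_lit 0xff000000ff00f0f0f0ccccccaaaaaa000001000400000002008000000800010000000004)

theorem m24_T65_s9_F : Frame 24 (grp 24 m24_E0) 7 12 m24_T65_s9_O 1 1 :=
  IsBase.frame m24_T65_s9.isBase (by decide +kernel)

noncomputable def m24_T65_s8_O : ℕ := (nat_lit 0x1a0000202080804040000310040028000001000400000002008000000800010000)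

theorem m24_T65_s8_F : Frame 24 (grp 24 m24_E0) 6 11 m24_T65_s8_O 0 1 :=
  Stab.frame m24_hn m24_T65_s8 (by decide +kernel)

noncomputable def m24t_c2_cnt_L : List ℕ := [5, 6, m24_T65_s5_O, 0, 0, 6, 11, m24_T65_s8_O, 0, 0, 7, 12, m24_T65_s9_O, 1, 0]

theorem m24t_c2_cnt_P : Prob 24 5 (grp 24 m24_E0) m24t_c2_cnt_EG [m24_g81] [m24_g81] m24t_c2_K m24t_c2_cnt_L 0 0 :=
  Sym.prob m24_hn m24_hk m24t_c2_sym m24t_c2_cnt_EG_ok (grp_cons_le m24_g30_m24_T65 (grp_cons_le m24_g26_m24_T65 (grp_cons_le m24_g27_m24_T65 (grp_cons_le m24_g38_m24_T65 (grp_cons_le m24_g33_m24_T65 (grp_cons_le m24_g34_m24_T65 (grp_cons_le m24_g35_m24_T65 (grp_cons_le m24_g43_m24_T65 (grp_cons_le m24_g41_m24_T65 (grp_cons_le m24_g44_m24_T65 (grp_cons_le m24_g47_m24_T65 (grp_cons_le m24_g42_m24_T65 (grp_cons_le m24_g23_m24_T65 (grp_cons_le m24_g19_m24_T65 (grp_cons_le m24_g20_m24_T65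 (grp_cons_le m24_g16_m24_T65 (grp_cons_le m24_g12_m24_T65 (grp_cons_le m24_g13_m24_T65 (grp_cons_le m24_g9_m24_T65 (grp_cons_le m24_g5_m24_T65 (grp_cons_le m24_g6_m24_T65 (grp_cons_le m24_g1_m24_T65 (grp_cons_le m24_g2_m24_T65 (grp_cons_le m24_g87_m24_T65 (grp_nil_le _))))))))))))))))))))))))) (Frames.cons m24_T65_s5_F (Frames.cons m24_T65_s8_F (Frames.cons m24_T65_s9_F Frames.nil))) (okE_cons.2 ⟨m24_g81_ok, okE_nil _⟩) _

noncomputable def m24t_c2_cnt_t : BT := (BT.br (nat_lit 2) (nat_lit 0) [nat_lit 1, nat_lit 3] (BT.kid (nat_lit 0) (nat_lit 320) (BT.dif (nat_lit 3) (nat_lit 0) (BT.img (nat_lit 1) (nat_lit 1) (BT.dif (nat_lit 1) (nat_lit 0) (BT.br (nat_lit 0) (nat_lit 2) [nat_lit 3, nat_lit 5] (BT.dead (nat_lit 10) (BT.dif (nat_lit 7) (nat_lit 0) (BT.dif (nat_lit 0) (nat_lit 5) (BT.dif (nat_lit 0) (nat_lit 4) (BT.img (nat_lit 1) (nat_lit 3) (BT.dif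 (nat_lit 1) (nat_lit 0) (BT.br (nat_lit 0) (nat_lit 3) [nat_lit 773, nat_lit 1031] (BT.dead (nat_lit 2) (BT.frm (nat_lit 0) (nat_lit 0x1171a1f1925) (nat_lit 0x1041904212325) [nat_lit 0, nat_lit 2, nat_lit 6, nat_lit 8, nat_lit 10] (BT.pln (nat_lit 0) (nat_lit 5) (BT.img (nat_lit 1) (nat_lit 2) (BT.and (nat_lit 1) (nat_lit 0) (BT.cnt (nat_lit 0)))))) BT.nil))))))) (BT.kid (nat_lit 2) (nat_lit 16) (BT.dif (nat_lit 7) (nat_lit 0) (BT.dif (nat_lit 0) (nat_lit 5) (BT.dif (nat_lit 0) (nat_lit 4) (BT.img (nat_lit 1) (nat_lit 3) (BT.dif (nat_lit 1) (nat_lit 0) (BT.br (nat_lit 0) (nat_lit 3) [nat_lit 5, nat_lit 7] (BT.dead (nat_lit 5) (BT.frm (nat_lit 0) (nat_lit 0x1171a1f1925) (nat_lit 0x2081a1f1925) [nat_lit 0, nat_lit 2, nat_lit 6, nat_lit 8, nat_lit 10] (BT.pln (nat_lit 0) (nat_lit 5) (BT.img (nat_lit 1) (nat_lit 2) (BT.and (nat_lit 1) (nat_lit 0) (BT.cnt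 (nat_lit 0)))))) (BT.dead (nat_lit 10) (BT.frm (nat_lit 0) (nat_lit 0x1171a1f1925) (nat_lit 0x31a1f1925) [nat_lit 0, nat_lit 2, nat_lit 6, nat_lit 8, nat_lit 10] (BT.pln (nat_lit 0) (nat_lit 5) (BT.img (nat_lit 1) (nat_lit 2) (BT.and (nat_lit 1) (nat_lit 0) (BT.cnt (nat_lit 0)))))) (BT.kid (nat_lit 3) (nat_lit 1) (BT.dif (nat_lit 13) (nat_lit 0) (BT.dif (nat_lit 0) (nat_lit 11) (BT.dif (nat_lit 0) (nat_lit 10) (BT.dif (nat_lit 0) (nat_lit 9) (BT.dif (nat_lit 0) (nat_lit 6) (BT.img (nat_lit 1) (nat_lit 5) (BT.dif (nat_lit 1) (nat_lit 0) (BT.frm (nat_lit 0) (nat_lit 0x1171a1f1925) (nat_lit 0x1171a1f1925) [nat_lit 7, nat_lit 9, nat_lit 13, nat_lit 15, nat_lit 17] (BT.pln (nat_lit 0) (nat_lit 5) (BT.dif (nat_lit 2) (nat_lit 0) (BT.img (nat_lit 1) (nat_lit 1) (BT.dif (nat_lit 1) (nat_lit 0) (BT.frm (nat_lit 1) (nat_lit 0x801171a1f1925) (nat_lit 0x801171a1f1925)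 [nat_lit 6, nat_lit 12, nat_lit 14, nat_lit 18, nat_lit 20, nat_lit 22] (BT.pln (nat_lit 0) (nat_lit 7) (BT.dif (nat_lit 2) (nat_lit 0) (BT.pln (nat_lit 2) (nat_lit 8) (BT.dif (nat_lit 1) (nat_lit 0) (BT.pln (nat_lit 4) (nat_lit 10) (BT.dif (nat_lit 1) (nat_lit 0) (BT.br (nat_lit 0) (nat_lit 7) [] (BT.dead (nat_lit 21) (BT.frm (nat_lit 2) (nat_lit 0x801171a1f1925) (nat_lit 0x2f0801171a1f1925) [nat_lit 0, nat_lit 14, nat_lit 20, nat_lit 22, nat_lit 26, nat_lit 28, nat_lit 30] (BT.pln (nat_lit 0) (nat_lit 7) (BT.img (nat_lit 1) (nat_lit 2) (BT.and (nat_lit 1) (nat_lit 0) (BT.cnt (nat_lit 0)))))) (BT.dead (nat_lit 11) (BT.frm (nat_lit 2) (nat_lit 0x801171a1f1925) (nat_lit 0x300801171a1f1925) [nat_lit 0, nat_lit 14, nat_lit 20, nat_lit 22, nat_lit 26, nat_lit 28, nat_lit 30] (BT.pln (nat_lit 0) (nat_lit 9) (BT.img (nat_lit 1) (nat_lit 2) (BT.and (nat_lit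 1) (nat_lit 0) (BT.cnt (nat_lit 0)))))) (BT.kid (nat_lit 7) (nat_lit 1) (BT.one (nat_lit 2) (nat_lit 0x801171a1f1925) (nat_lit 0x801171a1f1925) [nat_lit 0, nat_lit 14, nat_lit 20, nat_lit 22, nat_lit 26, nat_lit 28, nat_lit 30]) BT.nil))))))))))))))))))))))) BT.nil))))))))) BT.nil)))))) BT.nil))

theorem m24t_c2_cnt : Cnt 24 (grp 24 m24_E0) [m24_g81] [m24_g81] 0 0 0 0 7680 :=
  BT.sound m24t_c2_cnt_P Known.nil (t := m24t_c2_cnt_t) (d := 0) (by decide +kernel)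

theorem m24t_c2_ge : 7680 ≤ Nat.card (grp 24 m24t_c2_K) :=
  Ch.le_card_grp (k := 5) (L := (lab 24 5)) m24_hn m24t_c2_K_ok (c := (Ch.cons (nat_lit 0) [nat_lit 1] (Ch.cons (nat_lit 2) [nat_lit 3] (Ch.cons (nat_lit 3) [nat_lit 5, nat_lit 7] Ch.nil)))) (by decide +kernel)

theorem m24t_c2_eq : (grp 24 m24_E0) ⊓ Subgroup.centralizer {Net.toPerm 24 m24_g81} = grp 24 m24t_c2_K :=
  cent_eq m24t_c2_sym m24t_c2_cnt m24t_c2_ge

theorem m24t_c2_card : Nat.card ↥((grp 24 m24_E0) ⊓ Subgroup.centralizer {Net.toPerm 24 m24_g81}) = 7680 :=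
  card_cent m24t_c2_sym m24t_c2_cnt m24t_c2_ge

theorem m24t_c2_ord : orderOf (Net.toPerm 24 m24_g81) = 2 :=
  orderOf_net m24_hn m24_hk m24_g81_ok (by decide) (ps := [2]) (by set_option linter.unusedSimpArgs false in simp [Nat.primeFactorsList_ofNat]) (by decide +kernel)

theorem m24_le96 : grp 24 m24t_c3_K ≤ grp 24 m24_E0 :=
  grp_le_of_memB m24_hn m24_hk m24_E0_ok m24t_c3_K_ok (ws := [nat_lit 0x291e171d151c0c14061602, nat_lit 0x25271d171a111a0e050e, nat_lit 0x252911190e06, nat_lit 0x25292b1711050c]) (by decide +kernel)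

theorem m24t_c3_le : grp 24 m24t_c3_K ≤ (grp 24 m24_E0) :=
  (m24_le96.trans m24_T65_s0.le)

theorem m24t_c3_mem : Net.toPerm 24 m24_g91 ∈ (grp 24 m24_E0) :=
  m24t_c3_le (mem_grp_of_memB m24_hn m24_hk m24t_c3_K_ok m24_g91_ok (w := (nat_lit 0x7040703020702)) (by decide +kernel))

theorem m24t_c3_sym : Sym 24 (grp 24 m24_E0) [m24_g91] m24t_c3_K 0 :=
  Sym.of_lab m24_hn m24_hk (okE_cons.2 ⟨m24_g91_ok, okE_nil _⟩) m24t_c3_K_ok m24t_c3_le (kT := 0) (by decide +kernel)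

noncomputable def m24t_c3_cnt_L : List ℕ := [7, 12, m24_T65_s7_O, 1, 0]

theorem m24t_c3_cnt_P : Prob 24 5 (grp 24 m24_E0) m24t_c3_cnt_EG [m24_g91] [m24_g91] m24t_c3_K m24t_c3_cnt_L 0 0 :=
  Sym.prob m24_hn m24_hk m24t_c3_sym m24t_c3_cnt_EG_ok (grp_cons_le m24_g43_m24_T65 (grp_cons_le m24_g41_m24_T65 (grp_cons_le m24_g44_m24_T65 (grp_cons_le m24_g47_m24_T65 (grp_cons_le m24_g42_m24_T65 (grp_cons_le m24_g38_m24_T65 (grp_cons_le m24_g33_m24_T65 (grp_cons_le m24_g34_m24_T65 (grp_cons_le m24_g35_m24_T65 (grp_cons_le m24_g30_m24_T65 (grp_cons_le m24_g26_m24_T65 (grp_cons_le m24_g27_m24_T65 (grp_cons_le m24_g23_m24_T65 (grp_cons_le m24_g19_m24_T65 (grp_cons_le m24_g20_m24_T65 (grp_cons_le m24_g16_m24_T65 (grp_cons_le m24_g12_m24_T65 (grp_cons_le m24_g13_m24_T65 (grp_cons_le m24_g9_m24_T65 (grp_cons_le m24_g5_m24_T65 (grp_cons_le m24_g6_m24_T65 (grp_cons_le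 m24_g1_m24_T65 (grp_cons_le m24_g2_m24_T65 (grp_nil_le _)))))))))))))))))))))))) (Frames.cons m24_T65_s7_F Frames.nil) (okE_cons.2 ⟨m24_g91_ok, okE_nil _⟩) _

noncomputable def m24t_c3_cnt_t : BT := (BT.fix (nat_lit 1) (BT.dif (nat_lit 3) (nat_lit 0) (BT.br (nat_lit 0) (nat_lit 0) [nat_lit 1, nat_lit 3] (BT.kid (nat_lit 0) (nat_lit 60) (BT.dif (nat_lit 1) (nat_lit 0) (BT.img (nat_lit 1) (nat_lit 1) (BT.dif (nat_lit 1) (nat_lit 0) (BT.img (nat_lit 1) (nat_lit 1) (BT.dif (nat_lit 1) (nat_lit 0) (BT.br (nat_lit 0) (nat_lit 5) [nat_lit 3, nat_lit 7] (BT.kid (nat_lit 5) (nat_lit 4) (BT.dif (nat_lit 7) (nat_lit 0) (BT.dif (nat_lit 0) (nat_lit 7) (BT.dif (nat_lit 0) (nat_lit 6) (BT.dif (nat_lit 0) (nat_lit 5) (BT.img (nat_lit 1) (nat_lit 4) (BT.dif (nat_lit 1) (nat_lit 0) (BT.img (nat_lit 1) (nat_lit 1) (BT.dif (nat_lit 1) (nat_lit 0) (BT.br (nat_lit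 0) (nat_lit 6) [nat_lit 5, nat_lit 7] (BT.dead (nat_lit 7) (BT.frm (nat_lit 0) (nat_lit 0x30b13151b1d1f212a) (nat_lit 0x1050b13151b1d1f212a) [nat_lit 0, nat_lit 2, nat_lit 4, nat_lit 9, nat_lit 11, nat_lit 13, nat_lit 15] (BT.pln (nat_lit 0) (nat_lit 7) (BT.img (nat_lit 1) (nat_lit 2) (BT.and (nat_lit 1) (nat_lit 0) (BT.cnt (nat_lit 0)))))) (BT.dead (nat_lit 10) (BT.frm (nat_lit 0) (nat_lit 0x30b13151b1d1f212a) (nat_lit 0x50b13151b1d1f212a) [nat_lit 0, nat_lit 2, nat_lit 4, nat_lit 9, nat_lit 11, nat_lit 13, nat_lit 15] (BT.pln (nat_lit 0) (nat_lit 7) (BT.img (nat_lit 1) (nat_lit 2) (BT.img (nat_lit 1) (nat_lit 0) (BT.and (nat_lit 2) (nat_lit 0) (BT.cnt (nat_lit 0))))))) (BT.kid (nat_lit 6) (nat_lit 1) (BT.one (nat_lit 0) (nat_lit 0x30b13151b1d1f212a) (nat_lit 0x30b13151b1d1f212a) [nat_lit 0, nat_lit 2, nat_lit 4, nat_lit 9, nat_lit 11, nat_lit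 13, nat_lit 15]) BT.nil)))))))))))) BT.nil))))))) BT.nil))))

theorem m24t_c3_cnt : Cnt 24 (grp 24 m24_E0) [m24_g91] [m24_g91] 0 0 0 0 1080 :=
  BT.sound m24t_c3_cnt_P Known.nil (t := m24t_c3_cnt_t) (d := 0) (by decide +kernel)

theorem m24t_c3_ge : 1080 ≤ Nat.card (grp 24 m24t_c3_K) :=
  Ch.le_card_grp (k := 5) (L := (lab 24 5)) m24_hn m24t_c3_K_ok (c := (Ch.cons (nat_lit 0) [nat_lit 1] (Ch.cons (nat_lit 5) [nat_lit 3] (Ch.cons (nat_lit 6) [nat_lit 5, nat_lit 7] Ch.nil)))) (by decide +kernel)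

theorem m24t_c3_eq : (grp 24 m24_E0) ⊓ Subgroup.centralizer {Net.toPerm 24 m24_g91} = grp 24 m24t_c3_K :=
  cent_eq m24t_c3_sym m24t_c3_cnt m24t_c3_ge

theorem m24t_c3_card : Nat.card ↥((grp 24 m24_E0) ⊓ Subgroup.centralizer {Net.toPerm 24 m24_g91}) = 1080 :=
  card_cent m24t_c3_sym m24t_c3_cnt m24t_c3_ge

theorem m24t_c3_ord : orderOf (Net.toPerm 24 m24_g91) = 3 :=
  orderOf_net m24_hn m24_hk m24_g91_ok (by decide) (ps := [3]) (by set_option linter.unusedSimpArgs false in simp [Nat.primeFactorsList_ofNat]) (by decide +kernel)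

theorem m24_le101 : grp 24 m24t_c4_K ≤ grp 24 m24_E0 :=
  grp_le_of_memB m24_hn m24_hk m24_E0_ok m24t_c4_K_ok (ws := [nat_lit 0x252d1e120b16050c0104, nat_lit 0x29171b11160b14060c, nat_lit 0x27190c140508]) (by decide +kernel)

theorem m24t_c4_le : grp 24 m24t_c4_K ≤ (grp 24 m24_E0) :=
  (m24_le101.trans m24_T65_s0.le)

theorem m24t_c4_mem : Net.toPerm 24 m24_g97 ∈ (grp 24 m24_E0) :=
  m24t_c4_le (mem_grp_of_memB m24_hn m24_hk m24t_c4_K_ok m24_g97_ok (w := (nat_lit 257)) (by decide +kernel))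

theorem m24t_c4_sym : Sym 24 (grp 24 m24_E0) [m24_g97] m24t_c4_K 0 :=
  Sym.of_lab m24_hn m24_hk (okE_cons.2 ⟨m24_g97_ok, okE_nil _⟩) m24t_c4_K_ok m24t_c4_le (kT := 0) (by decide +kernel)

noncomputable def m24t_c4_cnt_L : List ℕ := [5, 6, m24_T65_s5_O, 0, 0, 6, 11, m24_T65_s8_O, 0, 0, 7, 12, m24_T65_s9_O, 1, 0]

theorem m24t_c4_cnt_P : Prob 24 5 (grp 24 m24_E0) m24t_c4_cnt_EG [m24_g97] [m24_g97] m24t_c4_K m24t_c4_cnt_L 0 0 :=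
  Sym.prob m24_hn m24_hk m24t_c4_sym m24t_c4_cnt_EG_ok (grp_cons_le m24_g30_m24_T65 (grp_cons_le m24_g26_m24_T65 (grp_cons_le m24_g27_m24_T65 (grp_cons_le m24_g38_m24_T65 (grp_cons_le m24_g33_m24_T65 (grp_cons_le m24_g34_m24_T65 (grp_cons_le m24_g35_m24_T65 (grp_cons_le m24_g43_m24_T65 (grp_cons_le m24_g41_m24_T65 (grp_cons_le m24_g44_m24_T65 (grp_cons_le m24_g47_m24_T65 (grp_cons_le m24_g42_m24_T65 (grp_cons_le m24_g23_m24_T65 (grp_cons_le m24_g19_m24_T65 (grp_cons_le m24_g20_m24_T65 (grp_cons_le m24_g16_m24_T65 (grp_cons_le m24_g12_m24_T65 (grp_cons_le m24_g13_m24_T65 (grp_cons_le m24_g9_m24_T65 (grp_cons_le m24_g5_m24_T65 (grp_cons_le m24_g6_m24_T65 (grp_cons_le m24_g1_m24_T65 (grp_cons_le m24_g2_m24_T65 (grp_cons_le m24_g87_m24_T65 (grp_nil_le _))))))))))))))))))))))))) (Frames.cons m24_T65_s5_F (Frames.cons m24_T65_s8_F (Frames.cons m24_T65_s9_F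 Frames.nil))) (okE_cons.2 ⟨m24_g97_ok, okE_nil _⟩) _

noncomputable def m24t_c4_cnt_t : BT := (BT.br (nat_lit 2) (nat_lit 0) [nat_lit 1, nat_lit 3] (BT.kid (nat_lit 0) (nat_lit 21) (BT.dif (nat_lit 3) (nat_lit 0) (BT.img (nat_lit 1) (nat_lit 1) (BT.dif (nat_lit 1) (nat_lit 0) (BT.img (nat_lit 1) (nat_lit 1) (BT.dif (nat_lit 1) (nat_lit 0) (BT.br (nat_lit 0) (nat_lit 1) [nat_lit 3, nat_lit 5] (BT.dead (nat_lit 3) (BT.dif (nat_lit 9) (nat_lit 0) (BT.dif (nat_lit 0) (nat_lit 7) (BT.dif (nat_lit 0) (nat_lit 6) (BT.dif (nat_lit 0) (nat_lit 5) (BT.img (nat_lit 1) (nat_lit 4) (BT.dif (nat_lit 1) (nat_lit 0) (BT.img (nat_lit 1) (nat_lit 1) (BT.dif (nat_lit 1) (nat_lit 0) (BT.frm (nat_lit 0) (nat_lit 0x1151d232626) (nat_lit 0x104191e232626) [nat_lit 3, nat_lit 8, nat_lit 10, nat_lit 12, nat_lit 14] (BT.pln (nat_lit 0) (nat_lit 5) (BT.dif (nat_lit 2) (nat_lit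 0) (BT.img (nat_lit 1) (nat_lit 1) (BT.dif (nat_lit 1) (nat_lit 0) (BT.img (nat_lit 1) (nat_lit 1) (BT.dif (nat_lit 1) (nat_lit 0) (BT.frm (nat_lit 1) (nat_lit 0x80e01151d232626) (nat_lit 0x70104191e232626) [nat_lit 8, nat_lit 10, nat_lit 15, nat_lit 17, nat_lit 19, nat_lit 21] (BT.pln (nat_lit 0) (nat_lit 8) (BT.dif (nat_lit 2) (nat_lit 0) (BT.pln (nat_lit 2) (nat_lit 10) (BT.dif (nat_lit 1) (nat_lit 0) (BT.br (nat_lit 0) (nat_lit 3) [nat_lit 393989] (BT.dead (nat_lit 7) (BT.frm (nat_lit 2) (nat_lit 0x2f080e01151d232626) (nat_lit 0x2f070104191e232626) [nat_lit 0, nat_lit 14, nat_lit 16, nat_lit 21, nat_lit 23, nat_lit 25, nat_lit 27] (BT.pln (nat_lit 0) (nat_lit 7) (BT.img (nat_lit 1) (nat_lit 2) (BT.and (nat_lit 1) (nat_lit 0) (BT.cnt (nat_lit 0)))))) BT.nil)))))))))))))))))))))) (BT.dead (nat_lit 4) (BT.dif (nat_lit 9) (nat_lit 0) (BT.dif (nat_lit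 0) (nat_lit 7) (BT.dif (nat_lit 0) (nat_lit 6) (BT.dif (nat_lit 0) (nat_lit 5) (BT.img (nat_lit 1) (nat_lit 4) (BT.dif (nat_lit 1) (nat_lit 0) (BT.img (nat_lit 1) (nat_lit 1) (BT.dif (nat_lit 1) (nat_lit 0) (BT.frm (nat_lit 0) (nat_lit 0x1151d232626) (nat_lit 0x1071c232626) [nat_lit 3, nat_lit 8, nat_lit 10, nat_lit 12, nat_lit 14] (BT.pln (nat_lit 0) (nat_lit 5) (BT.dif (nat_lit 2) (nat_lit 0) (BT.img (nat_lit 1) (nat_lit 1) (BT.dif (nat_lit 1) (nat_lit 0) (BT.img (nat_lit 1) (nat_lit 1) (BT.dif (nat_lit 1) (nat_lit 0) (BT.frm (nat_lit 1) (nat_lit 0x80e01151d232626) (nat_lit 0x701071c232626) [nat_lit 8, nat_lit 10, nat_lit 15, nat_lit 17, nat_lit 19, nat_lit 21] (BT.pln (nat_lit 0) (nat_lit 8) (BT.dif (nat_lit 2) (nat_lit 0) (BT.pln (nat_lit 2) (nat_lit 10) (BT.dif (nat_lit 1) (nat_lit 0) (BT.br (nat_lit 0) (nat_lit 3) [nat_lit 394246] (BT.dead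 (nat_lit 18) (BT.frm (nat_lit 2) (nat_lit 0x2f080e01151d232626) (nat_lit 0x701071c232626) [nat_lit 0, nat_lit 14, nat_lit 16, nat_lit 21, nat_lit 23, nat_lit 25, nat_lit 27] (BT.pln (nat_lit 0) (nat_lit 7) (BT.img (nat_lit 1) (nat_lit 2) (BT.and (nat_lit 1) (nat_lit 0) (BT.cnt (nat_lit 0)))))) BT.nil)))))))))))))))))))))) (BT.kid (nat_lit 1) (nat_lit 3) (BT.dif (nat_lit 9) (nat_lit 0) (BT.dif (nat_lit 0) (nat_lit 7) (BT.dif (nat_lit 0) (nat_lit 6) (BT.dif (nat_lit 0) (nat_lit 5) (BT.img (nat_lit 1) (nat_lit 4) (BT.dif (nat_lit 1) (nat_lit 0) (BT.img (nat_lit 1) (nat_lit 1) (BT.dif (nat_lit 1) (nat_lit 0) (BT.frm (nat_lit 0) (nat_lit 0x1151d232626) (nat_lit 0x1151d232626) [nat_lit 3, nat_lit 8, nat_lit 10, nat_lit 12, nat_lit 14] (BT.pln (nat_lit 0) (nat_lit 5) (BT.dif (nat_lit 2) (nat_lit 0) (BT.img (nat_lit 1) (nat_lit 1) (BT.dif (nat_lit 1) (nat_lit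 0) (BT.img (nat_lit 1) (nat_lit 1) (BT.dif (nat_lit 1) (nat_lit 0) (BT.frm (nat_lit 1) (nat_lit 0x80e01151d232626) (nat_lit 0x80e01151d232626) [nat_lit 8, nat_lit 10, nat_lit 15, nat_lit 17, nat_lit 19, nat_lit 21] (BT.pln (nat_lit 0) (nat_lit 8) (BT.dif (nat_lit 2) (nat_lit 0) (BT.pln (nat_lit 2) (nat_lit 10) (BT.dif (nat_lit 1) (nat_lit 0) (BT.br (nat_lit 0) (nat_lit 3) [nat_lit 5] (BT.kid (nat_lit 3) (nat_lit 1) (BT.one (nat_lit 2) (nat_lit 0x2f080e01151d232626) (nat_lit 0x2f080e01151d232626) [nat_lit 0, nat_lit 14, nat_lit 16, nat_lit 21, nat_lit 23, nat_lit 25, nat_lit 27]) BT.nil)))))))))))))))))))))) BT.nil))))))))) BT.nil))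

theorem m24t_c4_cnt : Cnt 24 (grp 24 m24_E0) [m24_g97] [m24_g97] 0 0 0 0 504 :=
  BT.sound m24t_c4_cnt_P Known.nil (t := m24t_c4_cnt_t) (d := 0) (by decide +kernel)

theorem m24t_c4_ge : 504 ≤ Nat.card (grp 24 m24t_c4_K) :=
  Ch.le_card_grp (k := 5) (L := (lab 24 5)) m24_hn m24t_c4_K_ok (c := (Ch.cons (nat_lit 0) [nat_lit 1] (Ch.cons (nat_lit 1) [nat_lit 3] (Ch.cons (nat_lit 3) [nat_lit 5] Ch.nil)))) (by decide +kernel)

theorem m24t_c4_eq : (grp 24 m24_E0) ⊓ Subgroup.centralizer {Net.toPerm 24 m24_g97} = grp 24 m24t_c4_K :=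
  cent_eq m24t_c4_sym m24t_c4_cnt m24t_c4_ge

theorem m24t_c4_card : Nat.card ↥((grp 24 m24_E0) ⊓ Subgroup.centralizer {Net.toPerm 24 m24_g97}) = 504 :=
  card_cent m24t_c4_sym m24t_c4_cnt m24t_c4_ge

theorem m24t_c4_ord : orderOf (Net.toPerm 24 m24_g97) = 3 :=
  orderOf_net m24_hn m24_hk m24_g97_ok (by decide) (ps := [3]) (by set_option linter.unusedSimpArgs false in simp [Nat.primeFactorsList_ofNat]) (by decide +kernel)

theorem m24_le108 : grp 24 m24t_c5_K ≤ grp 24 m24_E0 :=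
  grp_le_of_memB m24_hn m24_hk m24_E0_ok m24t_c5_K_ok (ws := [nat_lit 0x2d1d171b12160c1405090203, nat_lit 0x1e171a110d11061302, nat_lit 0x252b1d171e120b0b0616, nat_lit 0x27291d181f110b12, nat_lit 0x271d172b110d]) (by decide +kernel)

theorem m24t_c5_le : grp 24 m24t_c5_K ≤ (grp 24 m24_E0) :=
  (m24_le108.trans m24_T65_s0.le)

theorem m24t_c5_mem : Net.toPerm 24 m24_g102 ∈ (grp 24 m24_E0) :=
  m24t_c5_le (mem_grp_of_memB m24_hn m24_hk m24t_c5_K_ok m24_g102_ok (w := (nat_lit 0x7090509050204)) (by decide +kernel))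

theorem m24t_c5_sym : Sym 24 (grp 24 m24_E0) [m24_g102] m24t_c5_K 0 :=
  Sym.of_lab m24_hn m24_hk (okE_cons.2 ⟨m24_g102_ok, okE_nil _⟩) m24t_c5_K_ok m24t_c5_le (kT := 0) (by decide +kernel)

noncomputable def m24_T65_s6_O : ℕ := (nat_lit 0x40000000020000001000400000002008000000800000008)

theorem m24_T65_s6_F : Frame 24 (grp 24 m24_E0) 6 8 m24_T65_s6_O 0 1 :=
  Stab.frame m24_hn m24_T65_s6 (by decide +kernel)

noncomputable def m24t_c5_cnt_L : List ℕ := [5, 6, m24_T65_s5_O, 0, 0, 6, 8, m24_T65_s6_O, 0, 0, 7, 12, m24_T65_s7_O, 1, 0]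

theorem m24t_c5_cnt_P : Prob 24 5 (grp 24 m24_E0) m24t_c5_cnt_EG [m24_g102] [m24_g102] m24t_c5_K m24t_c5_cnt_L 0 0 :=
  Sym.prob m24_hn m24_hk m24t_c5_sym m24t_c5_cnt_EG_ok (grp_cons_le m24_g30_m24_T65 (grp_cons_le m24_g26_m24_T65 (grp_cons_le m24_g27_m24_T65 (grp_cons_le m24_g38_m24_T65 (grp_cons_le m24_g33_m24_T65 (grp_cons_le m24_g34_m24_T65 (grp_cons_le m24_g35_m24_T65 (grp_cons_le m24_g43_m24_T65 (grp_cons_le m24_g41_m24_T65 (grp_cons_le m24_g44_m24_T65 (grp_cons_le m24_g47_m24_T65 (grp_cons_le m24_g42_m24_T65 (grp_cons_le m24_g23_m24_T65 (grp_cons_le m24_g19_m24_T65 (grp_cons_le m24_g20_m24_T65 (grp_cons_le m24_g16_m24_T65 (grp_cons_le m24_g12_m24_T65 (grp_cons_le m24_g13_m24_T65 (grp_cons_le m24_g9_m24_T65 (grp_cons_le m24_g5_m24_T65 (grp_cons_le m24_g6_m24_T65 (grp_cons_le m24_g1_m24_T65 (grp_cons_le m24_g2_m24_T65 (grp_nil_le _))))))))))))))))))))))))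 (Frames.cons m24_T65_s5_F (Frames.cons m24_T65_s6_F (Frames.cons m24_T65_s7_F Frames.nil))) (okE_cons.2 ⟨m24_g102_ok, okE_nil _⟩) _

noncomputable def m24t_c5_cnt_t : BT := (BT.fix (nat_lit 257) (BT.dif (nat_lit 3) (nat_lit 0) (BT.br (nat_lit 0) (nat_lit 0) [nat_lit 1, nat_lit 3] (BT.kid (nat_lit 0) (nat_lit 24) (BT.dif (nat_lit 1) (nat_lit 0) (BT.img (nat_lit 1) (nat_lit 1) (BT.dif (nat_lit 1) (nat_lit 0) (BT.img (nat_lit 1) (nat_lit 1) (BT.dif (nat_lit 1) (nat_lit 0) (BT.img (nat_lit 1) (nat_lit 1) (BT.dif (nat_lit 1) (nat_lit 0) (BT.br (nat_lit 0) (nat_lit 2) [nat_lit 5, nat_lit 7, nat_lit 9] (BT.dead (nat_lit 3) (BT.img (nat_lit 1) (nat_lit 0) (BT.frm (nat_lit 1) (nat_lit 0x802041902201a2a) (nat_lit 0x705021902201a2a) [nat_lit 0, nat_lit 1, nat_lit 3, nat_lit 5, nat_lit 7, nat_lit 9] (BT.pln (nat_lit 0) (nat_lit 6) (BT.img (nat_lit 1) (nat_lit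 2) (BT.and (nat_lit 1) (nat_lit 0) (BT.cnt (nat_lit 0))))))) (BT.kid (nat_lit 2) (nat_lit 4) (BT.dif (nat_lit 9) (nat_lit 0) (BT.dif (nat_lit 0) (nat_lit 9) (BT.dif (nat_lit 0) (nat_lit 8) (BT.dif (nat_lit 0) (nat_lit 7) (BT.dif (nat_lit 0) (nat_lit 6) (BT.frm (nat_lit 0) (nat_lit 0x2041902201a2a) (nat_lit 0x2041902201a2a) [nat_lit 5, nat_lit 7, nat_lit 9, nat_lit 11, nat_lit 13] (BT.pln (nat_lit 0) (nat_lit 5) (BT.dif (nat_lit 2) (nat_lit 0) (BT.br (nat_lit 0) (nat_lit 3) [nat_lit 7, nat_lit 9] (BT.dead (nat_lit 4) (BT.img (nat_lit 1) (nat_lit 9) (BT.frm (nat_lit 2) (nat_lit 0xf150802041902201a2a) (nat_lit 0x11130802041902201a2a) [nat_lit 1, nat_lit 0, nat_lit 10, nat_lit 12, nat_lit 14, nat_lit 16, nat_lit 18] (BT.pln (nat_lit 0) (nat_lit 7) (BT.img (nat_lit 1) (nat_lit 3) (BT.and (nat_lit 1) (nat_lit 0) (BT.cnt (nat_lit 0))))))) (BT.kid (nat_lit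 3) (nat_lit 1) (BT.img (nat_lit 1) (nat_lit 9) (BT.one (nat_lit 2) (nat_lit 0xf150802041902201a2a) (nat_lit 0xf150802041902201a2a) [nat_lit 1, nat_lit 0, nat_lit 10, nat_lit 12, nat_lit 14, nat_lit 16, nat_lit 18])) BT.nil))))))))))) BT.nil)))))))))) BT.nil))))

theorem m24t_c5_cnt : Cnt 24 (grp 24 m24_E0) [m24_g102] [m24_g102] 0 0 0 0 384 :=
  BT.sound m24t_c5_cnt_P Known.nil (t := m24t_c5_cnt_t) (d := 0) (by decide +kernel)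

theorem m24t_c5_ge : 384 ≤ Nat.card (grp 24 m24t_c5_K) :=
  Ch.le_card_grp (k := 5) (L := (lab 24 5)) m24_hn m24t_c5_K_ok (c := (Ch.cons (nat_lit 0) [nat_lit 1, nat_lit 3] (Ch.cons (nat_lit 2) [nat_lit 5] (Ch.cons (nat_lit 3) [nat_lit 7, nat_lit 9] Ch.nil)))) (by decide +kernel)

theorem m24t_c5_eq : (grp 24 m24_E0) ⊓ Subgroup.centralizer {Net.toPerm 24 m24_g102} = grp 24 m24t_c5_K :=
  cent_eq m24t_c5_sym m24t_c5_cnt m24t_c5_ge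

theorem m24t_c5_card : Nat.card ↥((grp 24 m24_E0) ⊓ Subgroup.centralizer {Net.toPerm 24 m24_g102}) = 384 :=
  card_cent m24t_c5_sym m24t_c5_cnt m24t_c5_ge

theorem m24t_c5_ord : orderOf (Net.toPerm 24 m24_g102) = 4 :=
  orderOf_net m24_hn m24_hk m24_g102_ok (by decide) (ps := [2]) (by set_option linter.unusedSimpArgs false in simp [Nat.primeFactorsList_ofNat]) (by decide +kernel)

theorem m24_le115 : grp 24 m24t_c6_K ≤ grp 24 m24_E0 :=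
  grp_le_of_memB m24_hn m24_hk m24_E0_ok m24t_c6_K_ok (ws := [nat_lit 0x1d1a11190b0b05100212, nat_lit 0x292d1d171c120f062d021b, nat_lit 0x2d1e1b1811160e0a, nat_lit 0x25292b1e152b0b0d, nat_lit 0x291d171911180b0b0609, nat_lit 0x2527291d1b18161c0c1e050b]) (by decide +kernel)

theorem m24t_c6_le : grp 24 m24t_c6_K ≤ (grp 24 m24_E0) :=
  (m24_le115.trans m24_T65_s0.le)

theorem m24t_c6_mem : Net.toPerm 24 m24_g109 ∈ (grp 24 m24_E0) :=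
  m24t_c6_le (toPerm_mem_grp (E := m24t_c6_K) (List.Mem.head _))

theorem m24t_c6_sym : Sym 24 (grp 24 m24_E0) [m24_g109] m24t_c6_K 0 :=
  Sym.of_lab m24_hn m24_hk (okE_cons.2 ⟨m24_g109_ok, okE_nil _⟩) m24t_c6_K_ok m24t_c6_le (kT := 0) (by decide +kernel)

noncomputable def m24t_c6_cnt_L : List ℕ := [7, 12, m24_T65_s7_O, 1, 0]

theorem m24t_c6_cnt_P : Prob 24 5 (grp 24 m24_E0) m24t_c6_cnt_EG [m24_g109] [m24_g109] m24t_c6_K m24t_c6_cnt_L 0 0 :=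
  Sym.prob m24_hn m24_hk m24t_c6_sym m24t_c6_cnt_EG_ok (grp_cons_le m24_g43_m24_T65 (grp_cons_le m24_g41_m24_T65 (grp_cons_le m24_g44_m24_T65 (grp_cons_le m24_g47_m24_T65 (grp_cons_le m24_g42_m24_T65 (grp_cons_le m24_g38_m24_T65 (grp_cons_le m24_g33_m24_T65 (grp_cons_le m24_g34_m24_T65 (grp_cons_le m24_g35_m24_T65 (grp_cons_le m24_g30_m24_T65 (grp_cons_le m24_g26_m24_T65 (grp_cons_le m24_g27_m24_T65 (grp_cons_le m24_g23_m24_T65 (grp_cons_le m24_g19_m24_T65 (grp_cons_le m24_g20_m24_T65 (grp_cons_le m24_g16_m24_T65 (grp_cons_le m24_g12_m24_T65 (grp_cons_le m24_g13_m24_T65 (grp_cons_le m24_g9_m24_T65 (grp_cons_le m24_g5_m24_T65 (grp_cons_le m24_g6_m24_T65 (grp_cons_le m24_g1_m24_T65 (grp_cons_le m24_g2_m24_T65 (grp_nil_le _)))))))))))))))))))))))) (Frames.cons m24_T65_s7_F Frames.nil) (okE_cons.2 ⟨m24_g109_ok, okE_nil _⟩) _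

noncomputable def m24t_c6_cnt_t : BT := (BT.fix (nat_lit 257) (BT.fix (nat_lit 1) (BT.dif (nat_lit 1) (nat_lit 0) (BT.br (nat_lit 0) (nat_lit 0) [nat_lit 3] (BT.kid (nat_lit 0) (nat_lit 32) (BT.dif (nat_lit 1) (nat_lit 0) (BT.img (nat_lit 1) (nat_lit 1) (BT.dif (nat_lit 1) (nat_lit 0) (BT.br (nat_lit 0) (nat_lit 6) [nat_lit 5] (BT.kid (nat_lit 6) (nat_lit 16) (BT.dif (nat_lit 10) (nat_lit 7) (BT.br (nat_lit 0) (nat_lit 1) [nat_lit 7, nat_lit 9, nat_lit 11] (BT.kid (nat_lit 1) (nat_lit 1) (BT.img (nat_lit 1) (nat_lit 0) (BT.img (nat_lit 1) (nat_lit 0) (BT.dif (nat_lit 7) (nat_lit 4) (BT.dif (nat_lit 0) (nat_lit 7) (BT.one (nat_lit 0) (nat_lit 0x3130c19171f24260b) (nat_lit 0x3130c19171f24260b) [nat_lit 3, nat_lit 2, nat_lit 4, nat_lit 0, nat_lit 6, nat_lit 8, nat_lit 10]))))) BT.nil))) BT.nil))))) BT.nil)))))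

theorem m24t_c6_cnt : Cnt 24 (grp 24 m24_E0) [m24_g109] [m24_g109] 0 0 0 0 128 :=
  BT.sound m24t_c6_cnt_P Known.nil (t := m24t_c6_cnt_t) (d := 0) (by decide +kernel)

theorem m24t_c6_ge : 128 ≤ Nat.card (grp 24 m24t_c6_K) :=
  Ch.le_card_grp (k := 5) (L := (lab 24 5)) m24_hn m24t_c6_K_ok (c := (Ch.cons (nat_lit 0) [nat_lit 1, nat_lit 3] (Ch.cons (nat_lit 6) [nat_lit 5] (Ch.cons (nat_lit 1) [nat_lit 7, nat_lit 9, nat_lit 11] Ch.nil)))) (by decide +kernel)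

theorem m24t_c6_eq : (grp 24 m24_E0) ⊓ Subgroup.centralizer {Net.toPerm 24 m24_g109} = grp 24 m24t_c6_K :=
  cent_eq m24t_c6_sym m24t_c6_cnt m24t_c6_ge

theorem m24t_c6_card : Nat.card ↥((grp 24 m24_E0) ⊓ Subgroup.centralizer {Net.toPerm 24 m24_g109}) = 128 :=
  card_cent m24t_c6_sym m24t_c6_cnt m24t_c6_ge

theorem m24t_c6_ord : orderOf (Net.toPerm 24 m24_g109) = 4 :=
  orderOf_net m24_hn m24_hk m24_g109_ok (by decide) (ps := [2]) (by set_option linter.unusedSimpArgs false in simp [Nat.primeFactorsList_ofNat]) (by decide +kernel)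

theorem m24_le120 : grp 24 m24t_c7_K ≤ grp 24 m24_E0 :=
  grp_le_of_memB m24_hn m24_hk m24_E0_ok m24t_c7_K_ok (ws := [nat_lit 0x25292b1e1719151d0d0b050101, nat_lit 0x27291e181f130c120a010111, nat_lit 0x292d171d11150c13062d, nat_lit 0x292d1d171d151d0d0606]) (by decide +kernel)

theorem m24t_c7_le : grp 24 m24t_c7_K ≤ (grp 24 m24_E0) :=
  (m24_le120.trans m24_T65_s0.le)

theorem m24t_c7_mem : Net.toPerm 24 m24_g116 ∈ (grp 24 m24_E0) :=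
  m24t_c7_le (toPerm_mem_grp (E := m24t_c7_K) (List.Mem.head _))

theorem m24t_c7_sym : Sym 24 (grp 24 m24_E0) [m24_g116] m24t_c7_K 0 :=
  Sym.of_lab m24_hn m24_hk (okE_cons.2 ⟨m24_g116_ok, okE_nil _⟩) m24t_c7_K_ok m24t_c7_le (kT := 0) (by decide +kernel)

noncomputable def m24t_c7_cnt_L : List ℕ := [5, 6, m24_T65_s5_O, 0, 0, 6, 11, m24_T65_s8_O, 0, 0, 7, 12, m24_T65_s9_O, 1, 0]

theorem m24t_c7_cnt_P : Prob 24 5 (grp 24 m24_E0) m24t_c7_cnt_EG [m24_g116] [m24_g116] m24t_c7_K m24t_c7_cnt_L 0 0 :=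
  Sym.prob m24_hn m24_hk m24t_c7_sym m24t_c7_cnt_EG_ok (grp_cons_le m24_g30_m24_T65 (grp_cons_le m24_g26_m24_T65 (grp_cons_le m24_g27_m24_T65 (grp_cons_le m24_g38_m24_T65 (grp_cons_le m24_g33_m24_T65 (grp_cons_le m24_g34_m24_T65 (grp_cons_le m24_g35_m24_T65 (grp_cons_le m24_g43_m24_T65 (grp_cons_le m24_g41_m24_T65 (grp_cons_le m24_g44_m24_T65 (grp_cons_le m24_g47_m24_T65 (grp_cons_le m24_g42_m24_T65 (grp_cons_le m24_g23_m24_T65 (grp_cons_le m24_g19_m24_T65 (grp_cons_le m24_g20_m24_T65 (grp_cons_le m24_g16_m24_T65 (grp_cons_le m24_g12_m24_T65 (grp_cons_le m24_g13_m24_T65 (grp_cons_le m24_g9_m24_T65 (grp_cons_le m24_g5_m24_T65 (grp_cons_le m24_g6_m24_T65 (grp_cons_le m24_g1_m24_T65 (grp_cons_le m24_g2_m24_T65 (grp_cons_le m24_g87_m24_T65 (grp_nil_le _))))))))))))))))))))))))) (Frames.cons m24_T65_s5_F (Frames.cons m24_T65_s8_F (Frames.cons m24_T65_s9_F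 Frames.nil))) (okE_cons.2 ⟨m24_g116_ok, okE_nil _⟩) _

noncomputable def m24t_c7_cnt_t : BT := (BT.br (nat_lit 2) (nat_lit 0) [nat_lit 1, nat_lit 3, nat_lit 7] (BT.kid (nat_lit 0) (nat_lit 4) (BT.dif (nat_lit 3) (nat_lit 0) (BT.img (nat_lit 1) (nat_lit 1) (BT.dif (nat_lit 1) (nat_lit 0) (BT.img (nat_lit 1) (nat_lit 1) (BT.dif (nat_lit 1) (nat_lit 0) (BT.img (nat_lit 1) (nat_lit 1) (BT.dif (nat_lit 1) (nat_lit 0) (BT.br (nat_lit 0) (nat_lit 1) [nat_lit 5, nat_lit 7] (BT.dead (nat_lit 9) (BT.img (nat_lit 1) (nat_lit 0) (BT.frm (nat_lit 1) (nat_lit 0x4091c1e232524) (nat_lit 0x70d02081c1e232524) [nat_lit 0, nat_lit 1, nat_lit 3, nat_lit 5, nat_lit 7, nat_lit 9] (BT.pln (nat_lit 0) (nat_lit 7) (BT.img (nat_lit 1) (nat_lit 2) (BT.img (nat_lit 1) (nat_lit 0) (BT.and (nat_lit 2) (nat_lit 0) (BT.cnt (nat_lit 0)))))))) (BT.dead (nat_lit 15) (BT.img (nat_lit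 1) (nat_lit 0) (BT.frm (nat_lit 1) (nat_lit 0x4091c1e232524) (nat_lit 0x701031c1e232524) [nat_lit 0, nat_lit 1, nat_lit 3, nat_lit 5, nat_lit 7, nat_lit 9] (BT.pln (nat_lit 0) (nat_lit 7) (BT.img (nat_lit 1) (nat_lit 2) (BT.and (nat_lit 1) (nat_lit 0) (BT.cnt (nat_lit 0))))))) (BT.dead (nat_lit 5) (BT.img (nat_lit 1) (nat_lit 0) (BT.frm (nat_lit 1) (nat_lit 0x4091c1e232524) (nat_lit 0x5021c1e232524) [nat_lit 0, nat_lit 1, nat_lit 3, nat_lit 5, nat_lit 7, nat_lit 9] (BT.pln (nat_lit 0) (nat_lit 8) (BT.img (nat_lit 1) (nat_lit 2) (BT.and (nat_lit 1) (nat_lit 0) (BT.cnt (nat_lit 0))))))) (BT.dead (nat_lit 16) (BT.frm (nat_lit 0) (nat_lit 0x4091c1e232524) (nat_lit 0x2091c1e232524) [nat_lit 0, nat_lit 2, nat_lit 4, nat_lit 6, nat_lit 8] (BT.pln (nat_lit 0) (nat_lit 5) (BT.img (nat_lit 1) (nat_lit 2) (BT.and (nat_lit 1) (nat_lit 0) (BT.cnt (nat_lit 0))))))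 (BT.dead (nat_lit 14) (BT.frm (nat_lit 0) (nat_lit 0x4091c1e232524) (nat_lit 0x1171c1e232524) [nat_lit 0, nat_lit 2, nat_lit 4, nat_lit 6, nat_lit 8] (BT.pln (nat_lit 0) (nat_lit 5) (BT.img (nat_lit 1) (nat_lit 2) (BT.and (nat_lit 1) (nat_lit 0) (BT.cnt (nat_lit 0)))))) (BT.dead (nat_lit 4) (BT.frm (nat_lit 0) (nat_lit 0x4091c1e232524) (nat_lit 0x1061c1e232524) [nat_lit 0, nat_lit 2, nat_lit 4, nat_lit 6, nat_lit 8] (BT.pln (nat_lit 0) (nat_lit 5) (BT.img (nat_lit 1) (nat_lit 2) (BT.and (nat_lit 1) (nat_lit 0) (BT.cnt (nat_lit 0)))))) (BT.dead (nat_lit 3) (BT.frm (nat_lit 0) (nat_lit 0x4091c1e232524) (nat_lit 0x1081c1e232524) [nat_lit 0, nat_lit 2, nat_lit 4, nat_lit 6, nat_lit 8] (BT.pln (nat_lit 0) (nat_lit 5) (BT.img (nat_lit 1) (nat_lit 2) (BT.and (nat_lit 1) (nat_lit 0) (BT.cnt (nat_lit 0)))))) (BT.kid (nat_lit 1) (nat_lit 1) (BT.img (nat_lit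 1) (nat_lit 0) (BT.img (nat_lit 1) (nat_lit 0) (BT.one (nat_lit 2) (nat_lit 0x3004091c1e232524) (nat_lit 0x3004091c1e232524) [nat_lit 0, nat_lit 1, nat_lit 2, nat_lit 4, nat_lit 6, nat_lit 8, nat_lit 10]))) BT.nil)))))))))))))))) BT.nil))

theorem m24t_c7_cnt : Cnt 24 (grp 24 m24_E0) [m24_g116] [m24_g116] 0 0 0 0 96 :=
  BT.sound m24t_c7_cnt_P Known.nil (t := m24t_c7_cnt_t) (d := 0) (by decide +kernel)

theorem m24t_c7_ge : 96 ≤ Nat.card (grp 24 m24t_c7_K) :=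
  Ch.le_card_grp (k := 5) (L := (lab 24 5)) m24_hn m24t_c7_K_ok (c := (Ch.cons (nat_lit 0) [nat_lit 1, nat_lit 3] (Ch.cons (nat_lit 1) [nat_lit 5, nat_lit 7] Ch.nil))) (by decide +kernel)

theorem m24t_c7_eq : (grp 24 m24_E0) ⊓ Subgroup.centralizer {Net.toPerm 24 m24_g116} = grp 24 m24t_c7_K :=
  cent_eq m24t_c7_sym m24t_c7_cnt m24t_c7_ge

theorem m24t_c7_card : Nat.card ↥((grp 24 m24_E0) ⊓ Subgroup.centralizer {Net.toPerm 24 m24_g116}) = 96 :=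
  card_cent m24t_c7_sym m24t_c7_cnt m24t_c7_ge

theorem m24t_c7_ord : orderOf (Net.toPerm 24 m24_g116) = 4 :=
  orderOf_net m24_hn m24_hk m24_g116_ok (by decide) (ps := [2]) (by set_option linter.unusedSimpArgs false in simp [Nat.primeFactorsList_ofNat]) (by decide +kernel)

theorem m24_le124 : grp 24 m24t_c8_K ≤ grp 24 m24_E0 :=
  grp_le_of_memB m24_hn m24_hk m24_E0_ok m24t_c8_K_ok (ws := [nat_lit 0x252b1e171d111a0b1606130106, nat_lit 0x25292b1e171a13170f060103, nat_lit 0x292b19160c130509]) (by decide +kernel)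

theorem m24t_c8_le : grp 24 m24t_c8_K ≤ (grp 24 m24_E0) :=
  (m24_le124.trans m24_T65_s0.le)

theorem m24t_c8_mem : Net.toPerm 24 m24_g121 ∈ (grp 24 m24_E0) :=
  m24t_c8_le (toPerm_mem_grp (E := m24t_c8_K) (List.Mem.head _))

theorem m24t_c8_sym : Sym 24 (grp 24 m24_E0) [m24_g121] m24t_c8_K 0 :=
  Sym.of_lab m24_hn m24_hk (okE_cons.2 ⟨m24_g121_ok, okE_nil _⟩) m24t_c8_K_ok m24t_c8_le (kT := 0) (by decide +kernel)

noncomputable def m24t_c8_cnt_L : List ℕ := [5, 6, m24_T65_s5_O, 0, 0, 6, 11, m24_T65_s8_O, 0, 0, 7, 12, m24_T65_s9_O, 1, 0]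

theorem m24t_c8_cnt_P : Prob 24 5 (grp 24 m24_E0) m24t_c8_cnt_EG [m24_g121] [m24_g121] m24t_c8_K m24t_c8_cnt_L 0 0 :=
  Sym.prob m24_hn m24_hk m24t_c8_sym m24t_c8_cnt_EG_ok (grp_cons_le m24_g30_m24_T65 (grp_cons_le m24_g26_m24_T65 (grp_cons_le m24_g27_m24_T65 (grp_cons_le m24_g38_m24_T65 (grp_cons_le m24_g33_m24_T65 (grp_cons_le m24_g34_m24_T65 (grp_cons_le m24_g35_m24_T65 (grp_cons_le m24_g43_m24_T65 (grp_cons_le m24_g41_m24_T65 (grp_cons_le m24_g44_m24_T65 (grp_cons_le m24_g47_m24_T65 (grp_cons_le m24_g42_m24_T65 (grp_cons_le m24_g23_m24_T65 (grp_cons_le m24_g19_m24_T65 (grp_cons_le m24_g20_m24_T65 (grp_cons_le m24_g16_m24_T65 (grp_cons_le m24_g12_m24_T65 (grp_cons_le m24_g13_m24_T65 (grp_cons_le m24_g9_m24_T65 (grp_cons_le m24_g5_m24_T65 (grp_cons_le m24_g6_m24_T65 (grp_cons_le m24_g1_m24_T65 (grp_cons_le m24_g2_m24_T65 (grp_cons_le m24_g87_m24_T65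 (grp_nil_le _))))))))))))))))))))))))) (Frames.cons m24_T65_s5_F (Frames.cons m24_T65_s8_F (Frames.cons m24_T65_s9_F Frames.nil))) (okE_cons.2 ⟨m24_g121_ok, okE_nil _⟩) _

noncomputable def m24t_c8_cnt_t : BT := (BT.fix (nat_lit 1) (BT.dif (nat_lit 3) (nat_lit 0) (BT.br (nat_lit 0) (nat_lit 0) [nat_lit 3, nat_lit 5] (BT.kid (nat_lit 0) (nat_lit 3) (BT.dif (nat_lit 1) (nat_lit 0) (BT.img (nat_lit 1) (nat_lit 1) (BT.dif (nat_lit 1) (nat_lit 0) (BT.img (nat_lit 1) (nat_lit 1) (BT.dif (nat_lit 1) (nat_lit 0) (BT.img (nat_lit 1) (nat_lit 1) (BT.dif (nat_lit 1) (nat_lit 0) (BT.img (nat_lit 1) (nat_lit 1) (BT.dif (nat_lit 1) (nat_lit 0) (BT.frm (nat_lit 0) (nat_lit 0x40919051f1e26) (nat_lit 0x40919051f1e26) [nat_lit 1, nat_lit 3, nat_lit 5, nat_lit 7, nat_lit 9] (BT.pln (nat_lit 0) (nat_lit 5) (BT.dif (nat_lit 13) (nat_lit 0) (BT.frm (nat_lit 1) (nat_lit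 0x8040919051f1e26) (nat_lit 0x8040919051f1e26) [nat_lit 0, nat_lit 4, nat_lit 6, nat_lit 8, nat_lit 10, nat_lit 12] (BT.pln (nat_lit 0) (nat_lit 7) (BT.dif (nat_lit 5) (nat_lit 0) (BT.pln (nat_lit 2) (nat_lit 8) (BT.dif (nat_lit 1) (nat_lit 0) (BT.pln (nat_lit 4) (nat_lit 9) (BT.dif (nat_lit 1) (nat_lit 0) (BT.pln (nat_lit 6) (nat_lit 10) (BT.dif (nat_lit 1) (nat_lit 0) (BT.br (nat_lit 0) (nat_lit 6) [nat_lit 5] (BT.kid (nat_lit 6) (nat_lit 1) (BT.one (nat_lit 2) (nat_lit 0x3008040919051f1e26) (nat_lit 0x3008040919051f1e26) [nat_lit 0, nat_lit 10, nat_lit 14, nat_lit 16, nat_lit 18, nat_lit 20, nat_lit 22]) BT.nil))))))))))))))))))))))) BT.nil))))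

theorem m24t_c8_cnt : Cnt 24 (grp 24 m24_E0) [m24_g121] [m24_g121] 0 0 0 0 60 :=
  BT.sound m24t_c8_cnt_P Known.nil (t := m24t_c8_cnt_t) (d := 0) (by decide +kernel)

theorem m24t_c8_ge : 60 ≤ Nat.card (grp 24 m24t_c8_K) :=
  Ch.le_card_grp (k := 5) (L := (lab 24 5)) m24_hn m24t_c8_K_ok (c := (Ch.cons (nat_lit 0) [nat_lit 1, nat_lit 3] (Ch.cons (nat_lit 6) [nat_lit 5] Ch.nil))) (by decide +kernel)

theorem m24t_c8_eq : (grp 24 m24_E0) ⊓ Subgroup.centralizer {Net.toPerm 24 m24_g121} = grp 24 m24t_c8_K :=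
  cent_eq m24t_c8_sym m24t_c8_cnt m24t_c8_ge

theorem m24t_c8_card : Nat.card ↥((grp 24 m24_E0) ⊓ Subgroup.centralizer {Net.toPerm 24 m24_g121}) = 60 :=
  card_cent m24t_c8_sym m24t_c8_cnt m24t_c8_ge

theorem m24t_c8_ord : orderOf (Net.toPerm 24 m24_g121) = 5 :=
  orderOf_net m24_hn m24_hk m24_g121_ok (by decide) (ps := [5]) (by set_option linter.unusedSimpArgs false in simp [Nat.primeFactorsList_ofNat]) (by decide +kernel)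

theorem m24_le128 : grp 24 m24t_c9_K ≤ grp 24 m24_E0 :=
  grp_le_of_memB m24_hn m24_hk m24_E0_ok m24t_c9_K_ok (ws := [nat_lit 0x1d1719160b0e020b, nat_lit 0x2b1e171b111b0c120601010e, nat_lit 0x27291a111a0c1e]) (by decide +kernel)

theorem m24t_c9_le : grp 24 m24t_c9_K ≤ (grp 24 m24_E0) :=
  (m24_le128.trans m24_T65_s0.le)

theorem m24t_c9_mem : Net.toPerm 24 m24_g125 ∈ (grp 24 m24_E0) :=
  m24t_c9_le (toPerm_mem_grp (E := m24t_c9_K) (List.Mem.head _))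

theorem m24t_c9_sym : Sym 24 (grp 24 m24_E0) [m24_g125] m24t_c9_K 0 :=
  Sym.of_lab m24_hn m24_hk (okE_cons.2 ⟨m24_g125_ok, okE_nil _⟩) m24t_c9_K_ok m24t_c9_le (kT := 0) (by decide +kernel)

noncomputable def m24t_c9_cnt_L : List ℕ := [7, 12, m24_T65_s7_O, 1, 0]

theorem m24t_c9_cnt_P : Prob 24 5 (grp 24 m24_E0) m24t_c9_cnt_EG [m24_g125] [m24_g125] m24t_c9_K m24t_c9_cnt_L 0 0 :=
  Sym.prob m24_hn m24_hk m24t_c9_sym m24t_c9_cnt_EG_ok (grp_cons_le m24_g43_m24_T65 (grp_cons_le m24_g41_m24_T65 (grp_cons_le m24_g44_m24_T65 (grp_cons_le m24_g47_m24_T65 (grp_cons_le m24_g42_m24_T65 (grp_cons_le m24_g38_m24_T65 (grp_cons_le m24_g33_m24_T65 (grp_cons_le m24_g34_m24_T65 (grp_cons_le m24_g35_m24_T65 (grp_cons_le m24_g30_m24_T65 (grp_cons_le m24_g26_m24_T65 (grp_cons_le m24_g27_m24_T65 (grp_cons_le m24_g23_m24_T65 (grp_cons_le m24_g19_m24_T65 (grp_cons_le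 m24_g20_m24_T65 (grp_cons_le m24_g16_m24_T65 (grp_cons_le m24_g12_m24_T65 (grp_cons_le m24_g13_m24_T65 (grp_cons_le m24_g9_m24_T65 (grp_cons_le m24_g5_m24_T65 (grp_cons_le m24_g6_m24_T65 (grp_cons_le m24_g1_m24_T65 (grp_cons_le m24_g2_m24_T65 (grp_nil_le _)))))))))))))))))))))))) (Frames.cons m24_T65_s7_F Frames.nil) (okE_cons.2 ⟨m24_g125_ok, okE_nil _⟩) _

noncomputable def m24t_c9_cnt_t : BT := (BT.fix (nat_lit 65793) (BT.dif (nat_lit 3) (nat_lit 0) (BT.fix (nat_lit 257) (BT.dif (nat_lit 1) (nat_lit 0) (BT.br (nat_lit 0) (nat_lit 0) [nat_lit 1, nat_lit 3] (BT.kid (nat_lit 0) (nat_lit 2) (BT.dif (nat_lit 1) (nat_lit 0) (BT.img (nat_lit 1) (nat_lit 1) (BT.dif (nat_lit 1) (nat_lit 0) (BT.img (nat_lit 1) (nat_lit 1) (BT.dif (nat_lit 1) (nat_lit 0) (BT.img (nat_lit 1) (nat_lit 1) (BT.dif (nat_lit 1) (nat_lit 0) (BT.img (nat_lit 1) (nat_lit 1) (BT.dif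 (nat_lit 1) (nat_lit 0) (BT.img (nat_lit 1) (nat_lit 1) (BT.dif (nat_lit 1) (nat_lit 0) (BT.br (nat_lit 0) (nat_lit 7) [nat_lit 5] (BT.dead (nat_lit 14) (BT.frm (nat_lit 0) (nat_lit 0xb131523261e) (nat_lit 0x1090b131523261e) [nat_lit 0, nat_lit 2, nat_lit 4, nat_lit 6, nat_lit 8, nat_lit 10, nat_lit 12] (BT.pln (nat_lit 0) (nat_lit 7) (BT.and (nat_lit 0) (nat_lit 16) (BT.cnt (nat_lit 0))))) (BT.dead (nat_lit 11) (BT.frm (nat_lit 0) (nat_lit 0xb131523261e) (nat_lit 0x10b131523261e) [nat_lit 0, nat_lit 2, nat_lit 4, nat_lit 6, nat_lit 8, nat_lit 10, nat_lit 12] (BT.pln (nat_lit 0) (nat_lit 7) (BT.and (nat_lit 0) (nat_lit 16) (BT.cnt (nat_lit 0))))) (BT.kid (nat_lit 7) (nat_lit 1) (BT.one (nat_lit 0) (nat_lit 0xb131523261e) (nat_lit 0xb131523261e) [nat_lit 0, nat_lit 2, nat_lit 4, nat_lit 6, nat_lit 8, nat_lit 10, nat_lit 12]) BT.nil)))))))))))))))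 BT.nil))))))

theorem m24t_c9_cnt : Cnt 24 (grp 24 m24_E0) [m24_g125] [m24_g125] 0 0 0 0 24 :=
  BT.sound m24t_c9_cnt_P Known.nil (t := m24t_c9_cnt_t) (d := 0) (by decide +kernel)

theorem m24t_c9_ge : 24 ≤ Nat.card (grp 24 m24t_c9_K) :=
  Ch.le_card_grp (k := 5) (L := (lab 24 5)) m24_hn m24t_c9_K_ok (c := (Ch.cons (nat_lit 0) [nat_lit 1, nat_lit 3] (Ch.cons (nat_lit 7) [nat_lit 5] Ch.nil))) (by decide +kernel)

theorem m24t_c9_eq : (grp 24 m24_E0) ⊓ Subgroup.centralizer {Net.toPerm 24 m24_g125} = grp 24 m24t_c9_K :=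
  cent_eq m24t_c9_sym m24t_c9_cnt m24t_c9_ge

theorem m24t_c9_card : Nat.card ↥((grp 24 m24_E0) ⊓ Subgroup.centralizer {Net.toPerm 24 m24_g125}) = 24 :=
  card_cent m24t_c9_sym m24t_c9_cnt m24t_c9_ge

theorem m24t_c9_ord : orderOf (Net.toPerm 24 m24_g125) = 6 :=
  orderOf_net m24_hn m24_hk m24_g125_ok (by decide) (ps := [2, 3]) (by set_option linter.unusedSimpArgs false in simp [Nat.primeFactorsList_ofNat]) (by decide +kernel)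

theorem m24_le132 : grp 24 m24t_c10_K ≤ grp 24 m24_E0 :=
  grp_le_of_memB m24_hn m24_hk m24_E0_ok m24t_c10_K_ok (ws := [nat_lit 0x2917130f05050205, nat_lit 0x252d1a141610060d0105, nat_lit 0x25292d1d171911180f060d02]) (by decide +kernel)

theorem m24t_c10_le : grp 24 m24t_c10_K ≤ (grp 24 m24_E0) :=
  (m24_le132.trans m24_T65_s0.le)

theorem m24t_c10_mem : Net.toPerm 24 m24_g129 ∈ (grp 24 m24_E0) :=
  m24t_c10_le (toPerm_mem_grp (E := m24t_c10_K) (List.Mem.head _))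

theorem m24t_c10_sym : Sym 24 (grp 24 m24_E0) [m24_g129] m24t_c10_K 0 :=
  Sym.of_lab m24_hn m24_hk (okE_cons.2 ⟨m24_g129_ok, okE_nil _⟩) m24t_c10_K_ok m24t_c10_le (kT := 0) (by decide +kernel)

noncomputable def m24t_c10_cnt_L : List ℕ := [5, 6, m24_T65_s5_O, 0, 0, 7, 12, m24_T65_s9_O, 1, 0]

theorem m24t_c10_cnt_P : Prob 24 5 (grp 24 m24_E0) m24t_c10_cnt_EG [m24_g129] [m24_g129] m24t_c10_K m24t_c10_cnt_L 0 0 :=
  Sym.prob m24_hn m24_hk m24t_c10_sym m24t_c10_cnt_EG_ok (grp_cons_le m24_g30_m24_T65 (grp_cons_le m24_g26_m24_T65 (grp_cons_le m24_g27_m24_T65 (grp_cons_le m24_g38_m24_T65 (grp_cons_le m24_g33_m24_T65 (grp_cons_le m24_g34_m24_T65 (grp_cons_le m24_g35_m24_T65 (grp_cons_le m24_g43_m24_T65 (grp_cons_le m24_g41_m24_T65 (grp_cons_le m24_g44_m24_T65 (grp_cons_le m24_g47_m24_T65 (grp_cons_le m24_g42_m24_T65 (grp_cons_le m24_g23_m24_T65 (grp_cons_le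 m24_g19_m24_T65 (grp_cons_le m24_g20_m24_T65 (grp_cons_le m24_g16_m24_T65 (grp_cons_le m24_g12_m24_T65 (grp_cons_le m24_g13_m24_T65 (grp_cons_le m24_g9_m24_T65 (grp_cons_le m24_g5_m24_T65 (grp_cons_le m24_g6_m24_T65 (grp_cons_le m24_g1_m24_T65 (grp_cons_le m24_g2_m24_T65 (grp_cons_le m24_g87_m24_T65 (grp_nil_le _))))))))))))))))))))))))) (Frames.cons m24_T65_s5_F (Frames.cons m24_T65_s9_F Frames.nil)) (okE_cons.2 ⟨m24_g129_ok, okE_nil _⟩) _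

noncomputable def m24t_c10_cnt_t : BT := (BT.br (nat_lit 2) (nat_lit 0) [nat_lit 3, nat_lit 5] (BT.kid (nat_lit 0) (nat_lit 1) (BT.img (nat_lit 1) (nat_lit 0) (BT.img (nat_lit 1) (nat_lit 0) (BT.img (nat_lit 1) (nat_lit 0) (BT.img (nat_lit 1) (nat_lit 0) (BT.frm (nat_lit 0) (nat_lit 0x1051d07222621) (nat_lit 0x1051d07222621) [nat_lit 0, nat_lit 1, nat_lit 2, nat_lit 3, nat_lit 4] (BT.pln (nat_lit 0) (nat_lit 5) (BT.img (nat_lit 1) (nat_lit 0) (BT.img (nat_lit 1) (nat_lit 0) (BT.img (nat_lit 1) (nat_lit 0) (BT.br (nat_lit 0) (nat_lit 10) [] (BT.dead (nat_lit 19) (BT.img (nat_lit 1) (nat_lit 6) (BT.frm (nat_lit 1) (nat_lit 0x2f1701051d07222621) (nat_lit 0x301701051d07222621) [nat_lit 1, nat_lit 0, nat_lit 7, nat_lit 8, nat_lit 9, nat_lit 10, nat_lit 11] (BT.pln (nat_lit 0) (nat_lit 7) (BT.img (nat_lit 1) (nat_lit 3) (BT.img (nat_lit 1) (nat_lit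 0) (BT.img (nat_lit 1) (nat_lit 0) (BT.and (nat_lit 3) (nat_lit 0) (BT.cnt (nat_lit 0))))))))) (BT.dead (nat_lit 9) (BT.img (nat_lit 1) (nat_lit 6) (BT.frm (nat_lit 1) (nat_lit 0x2f1701051d07222621) (nat_lit 0x1701051d07222621) [nat_lit 1, nat_lit 0, nat_lit 7, nat_lit 8, nat_lit 9, nat_lit 10, nat_lit 11] (BT.pln (nat_lit 0) (nat_lit 7) (BT.img (nat_lit 1) (nat_lit 3) (BT.and (nat_lit 1) (nat_lit 0) (BT.cnt (nat_lit 0))))))) (BT.kid (nat_lit 10) (nat_lit 1) (BT.img (nat_lit 1) (nat_lit 6) (BT.one (nat_lit 1) (nat_lit 0x2f1701051d07222621) (nat_lit 0x2f1701051d07222621) [nat_lit 1, nat_lit 0, nat_lit 7, nat_lit 8, nat_lit 9, nat_lit 10, nat_lit 11])) BT.nil))))))))))))) BT.nil))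

theorem m24t_c10_cnt : Cnt 24 (grp 24 m24_E0) [m24_g129] [m24_g129] 0 0 0 0 24 :=
  BT.sound m24t_c10_cnt_P Known.nil (t := m24t_c10_cnt_t) (d := 0) (by decide +kernel)

theorem m24t_c10_ge : 24 ≤ Nat.card (grp 24 m24t_c10_K) :=
  Ch.le_card_grp (k := 5) (L := (lab 24 5)) m24_hn m24t_c10_K_ok (c := (Ch.cons (nat_lit 0) [nat_lit 1, nat_lit 3, nat_lit 5] Ch.nil)) (by decide +kernel)

theorem m24t_c10_eq : (grp 24 m24_E0) ⊓ Subgroup.centralizer {Net.toPerm 24 m24_g129} = grp 24 m24t_c10_K :=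
  cent_eq m24t_c10_sym m24t_c10_cnt m24t_c10_ge

theorem m24t_c10_card : Nat.card ↥((grp 24 m24_E0) ⊓ Subgroup.centralizer {Net.toPerm 24 m24_g129}) = 24 :=
  card_cent m24t_c10_sym m24t_c10_cnt m24t_c10_ge

theorem m24t_c10_ord : orderOf (Net.toPerm 24 m24_g129) = 6 :=
  orderOf_net m24_hn m24_hk m24_g129_ok (by decide) (ps := [2, 3]) (by set_option linter.unusedSimpArgs false in simp [Nat.primeFactorsList_ofNat]) (by decide +kernel)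

theorem m24_le136 : grp 24 m24t_c11_K ≤ grp 24 m24_E0 :=
  grp_le_of_memB m24_hn m24_hk m24_E0_ok m24t_c11_K_ok (ws := [nat_lit 0x1d18110b1005080203, nat_lit 0x2b1e172b151d0c120a0204, nat_lit 0x252b1a1f13150b0d]) (by decide +kernel)

theorem m24t_c11_le : grp 24 m24t_c11_K ≤ (grp 24 m24_E0) :=
  (m24_le136.trans m24_T65_s0.le)

theorem m24t_c11_mem : Net.toPerm 24 m24_g133 ∈ (grp 24 m24_E0) :=
  m24t_c11_le (toPerm_mem_grp (E := m24t_c11_K) (List.Mem.head _))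

theorem m24t_c11_sym : Sym 24 (grp 24 m24_E0) [m24_g133] m24t_c11_K 0 :=
  Sym.of_lab m24_hn m24_hk (okE_cons.2 ⟨m24_g133_ok, okE_nil _⟩) m24t_c11_K_ok m24t_c11_le (kT := 0) (by decide +kernel)

noncomputable def m24t_c11_cnt_L : List ℕ := [5, 6, m24_T65_s5_O, 0, 0, 7, 12, m24_T65_s7_O, 1, 0]

theorem m24t_c11_cnt_P : Prob 24 5 (grp 24 m24_E0) m24t_c11_cnt_EG [m24_g133] [m24_g133] m24t_c11_K m24t_c11_cnt_L 0 0 :=
  Sym.prob m24_hn m24_hk m24t_c11_sym m24t_c11_cnt_EG_ok (grp_cons_le m24_g30_m24_T65 (grp_cons_le m24_g26_m24_T65 (grp_cons_le m24_g27_m24_T65 (grp_cons_le m24_g38_m24_T65 (grp_cons_le m24_g33_m24_T65 (grp_cons_le m24_g34_m24_T65 (grp_cons_le m24_g35_m24_T65 (grp_cons_le m24_g43_m24_T65 (grp_cons_le m24_g41_m24_T65 (grp_cons_le m24_g44_m24_T65 (grp_cons_le m24_g47_m24_T65 (grp_cons_le m24_g42_m24_T65 (grp_cons_le m24_g23_m24_T65 (grp_cons_le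 m24_g19_m24_T65 (grp_cons_le m24_g20_m24_T65 (grp_cons_le m24_g16_m24_T65 (grp_cons_le m24_g12_m24_T65 (grp_cons_le m24_g13_m24_T65 (grp_cons_le m24_g9_m24_T65 (grp_cons_le m24_g5_m24_T65 (grp_cons_le m24_g6_m24_T65 (grp_cons_le m24_g1_m24_T65 (grp_cons_le m24_g2_m24_T65 (grp_nil_le _)))))))))))))))))))))))) (Frames.cons m24_T65_s5_F (Frames.cons m24_T65_s7_F Frames.nil)) (okE_cons.2 ⟨m24_g133_ok, okE_nil _⟩) _

noncomputable def m24t_c11_cnt_t : BT := (BT.fix (nat_lit 1) (BT.dif (nat_lit 3) (nat_lit 0) (BT.br (nat_lit 0) (nat_lit 0) [nat_lit 3, nat_lit 5] (BT.kid (nat_lit 0) (nat_lit 2) (BT.dif (nat_lit 1) (nat_lit 0) (BT.img (nat_lit 1) (nat_lit 1) (BT.dif (nat_lit 1) (nat_lit 0) (BT.img (nat_lit 1) (nat_lit 1) (BT.dif (nat_lit 1) (nat_lit 0) (BT.img (nat_lit 1) (nat_lit 1) (BT.dif (nat_lit 1) (nat_lit 0) (BT.img (nat_lit 1) (nat_lit 1) (BT.dif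 (nat_lit 1) (nat_lit 0) (BT.frm (nat_lit 0) (nat_lit 0x2081d061f1f2528) (nat_lit 0x2081d061f1f2528) [nat_lit 1, nat_lit 3, nat_lit 5, nat_lit 7, nat_lit 9] (BT.pln (nat_lit 0) (nat_lit 5) (BT.dif (nat_lit 2) (nat_lit 0) (BT.br (nat_lit 0) (nat_lit 1) [nat_lit 5] (BT.dead (nat_lit 3) (BT.img (nat_lit 1) (nat_lit 5) (BT.frm (nat_lit 1) (nat_lit 0x802081d061f1f2528) (nat_lit 0xf13170802081d061f1f2528) [nat_lit 1, nat_lit 0, nat_lit 6, nat_lit 8, nat_lit 10, nat_lit 12, nat_lit 14] (BT.pln (nat_lit 0) (nat_lit 7) (BT.and (nat_lit 0) (nat_lit 18) (BT.cnt (nat_lit 0)))))) (BT.dead (nat_lit 2) (BT.img (nat_lit 1) (nat_lit 5) (BT.frm (nat_lit 1) (nat_lit 0x802081d061f1f2528) (nat_lit 0xf11130802081d061f1f2528) [nat_lit 1, nat_lit 0, nat_lit 6, nat_lit 8, nat_lit 10, nat_lit 12, nat_lit 14] (BT.pln (nat_lit 0) (nat_lit 7) (BT.and (nat_lit 0) (nat_lit 18)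 (BT.cnt (nat_lit 0)))))) (BT.dead (nat_lit 7) (BT.img (nat_lit 1) (nat_lit 5) (BT.frm (nat_lit 1) (nat_lit 0x802081d061f1f2528) (nat_lit 0xf150802081d061f1f2528) [nat_lit 1, nat_lit 0, nat_lit 6, nat_lit 8, nat_lit 10, nat_lit 12, nat_lit 14] (BT.pln (nat_lit 0) (nat_lit 7) (BT.img (nat_lit 1) (nat_lit 3) (BT.and (nat_lit 1) (nat_lit 0) (BT.cnt (nat_lit 0))))))) (BT.dead (nat_lit 9) (BT.img (nat_lit 1) (nat_lit 5) (BT.frm (nat_lit 1) (nat_lit 0x802081d061f1f2528) (nat_lit 0x150802081d061f1f2528) [nat_lit 1, nat_lit 0, nat_lit 6, nat_lit 8, nat_lit 10, nat_lit 12, nat_lit 14] (BT.pln (nat_lit 0) (nat_lit 7) (BT.img (nat_lit 1) (nat_lit 3) (BT.img (nat_lit 1) (nat_lit 0) (BT.img (nat_lit 1) (nat_lit 0) (BT.and (nat_lit 3) (nat_lit 0) (BT.cnt (nat_lit 0))))))))) (BT.dead (nat_lit 5) (BT.img (nat_lit 1) (nat_lit 5) (BT.frm (nat_lit 1) (nat_lit 0x802081d061f1f2528)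 (nat_lit 0xf0802081d061f1f2528) [nat_lit 1, nat_lit 0, nat_lit 6, nat_lit 8, nat_lit 10, nat_lit 12, nat_lit 14] (BT.pln (nat_lit 0) (nat_lit 7) (BT.img (nat_lit 1) (nat_lit 3) (BT.img (nat_lit 1) (nat_lit 0) (BT.and (nat_lit 2) (nat_lit 0) (BT.cnt (nat_lit 0)))))))) (BT.dead (nat_lit 18) (BT.img (nat_lit 1) (nat_lit 5) (BT.frm (nat_lit 1) (nat_lit 0x802081d061f1f2528) (nat_lit 0x170802081d061f1f2528) [nat_lit 1, nat_lit 0, nat_lit 6, nat_lit 8, nat_lit 10, nat_lit 12, nat_lit 14] (BT.pln (nat_lit 0) (nat_lit 7) (BT.and (nat_lit 0) (nat_lit 18) (BT.cnt (nat_lit 0)))))) (BT.kid (nat_lit 1) (nat_lit 1) (BT.img (nat_lit 1) (nat_lit 5) (BT.one (nat_lit 1) (nat_lit 0x802081d061f1f2528) (nat_lit 0x802081d061f1f2528) [nat_lit 1, nat_lit 0, nat_lit 6, nat_lit 8, nat_lit 10, nat_lit 12, nat_lit 14])) BT.nil)))))))))))))))))))) BT.nil))))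

theorem m24t_c11_cnt : Cnt 24 (grp 24 m24_E0) [m24_g133] [m24_g133] 0 0 0 0 42 :=
  BT.sound m24t_c11_cnt_P Known.nil (t := m24t_c11_cnt_t) (d := 0) (by decide +kernel)

theorem m24t_c11_ge : 42 ≤ Nat.card (grp 24 m24t_c11_K) :=
  Ch.le_card_grp (k := 5) (L := (lab 24 5)) m24_hn m24t_c11_K_ok (c := (Ch.cons (nat_lit 0) [nat_lit 1, nat_lit 3] (Ch.cons (nat_lit 1) [nat_lit 5] Ch.nil))) (by decide +kernel)

theorem m24t_c11_eq : (grp 24 m24_E0) ⊓ Subgroup.centralizer {Net.toPerm 24 m24_g133} = grp 24 m24t_c11_K :=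
  cent_eq m24t_c11_sym m24t_c11_cnt m24t_c11_ge

theorem m24t_c11_card : Nat.card ↥((grp 24 m24_E0) ⊓ Subgroup.centralizer {Net.toPerm 24 m24_g133}) = 42 :=
  card_cent m24t_c11_sym m24t_c11_cnt m24t_c11_ge

theorem m24t_c11_ord : orderOf (Net.toPerm 24 m24_g133) = 7 :=
  orderOf_net m24_hn m24_hk m24_g133_ok (by decide) (ps := [7]) (by set_option linter.unusedSimpArgs false in simp [Nat.primeFactorsList_ofNat]) (by decide +kernel)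

theorem m24_le139 : grp 24 m24t_c12_K ≤ grp 24 m24_E0 :=
  grp_le_of_memB m24_hn m24_hk m24_E0_ok m24t_c12_K_ok (ws := [nat_lit 0x2d1e18160e0213, nat_lit 0x25171e12160d11050c0108, nat_lit 0x252b1a1f13150b0d]) (by decide +kernel)

theorem m24t_c12_le : grp 24 m24t_c12_K ≤ (grp 24 m24_E0) :=
  (m24_le139.trans m24_T65_s0.le)

theorem m24t_c12_mem : Net.toPerm 24 m24_g137 ∈ (grp 24 m24_E0) :=
  m24t_c12_le (toPerm_mem_grp (E := m24t_c12_K) (List.Mem.head _))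

theorem m24t_c12_sym : Sym 24 (grp 24 m24_E0) [m24_g137] m24t_c12_K 0 :=
  Sym.of_lab m24_hn m24_hk (okE_cons.2 ⟨m24_g137_ok, okE_nil _⟩) m24t_c12_K_ok m24t_c12_le (kT := 0) (by decide +kernel)

noncomputable def m24t_c12_cnt_L : List ℕ := [5, 6, m24_T65_s5_O, 0, 0, 7, 12, m24_T65_s7_O, 1, 0]

theorem m24t_c12_cnt_P : Prob 24 5 (grp 24 m24_E0) m24t_c12_cnt_EG [m24_g137] [m24_g137] m24t_c12_K m24t_c12_cnt_L 0 0 :=
  Sym.prob m24_hn m24_hk m24t_c12_sym m24t_c12_cnt_EG_ok (grp_cons_le m24_g30_m24_T65 (grp_cons_le m24_g26_m24_T65 (grp_cons_le m24_g27_m24_T65 (grp_cons_le m24_g38_m24_T65 (grp_cons_le m24_g33_m24_T65 (grp_cons_le m24_g34_m24_T65 (grp_cons_le m24_g35_m24_T65 (grp_cons_le m24_g43_m24_T65 (grp_cons_le m24_g41_m24_T65 (grp_cons_le m24_g44_m24_T65 (grp_cons_le m24_g47_m24_T65 (grp_cons_le m24_g42_m24_T65 (grp_cons_le m24_g23_m24_T65 (grp_cons_le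 m24_g19_m24_T65 (grp_cons_le m24_g20_m24_T65 (grp_cons_le m24_g16_m24_T65 (grp_cons_le m24_g12_m24_T65 (grp_cons_le m24_g13_m24_T65 (grp_cons_le m24_g9_m24_T65 (grp_cons_le m24_g5_m24_T65 (grp_cons_le m24_g6_m24_T65 (grp_cons_le m24_g1_m24_T65 (grp_cons_le m24_g2_m24_T65 (grp_nil_le _)))))))))))))))))))))))) (Frames.cons m24_T65_s5_F (Frames.cons m24_T65_s7_F Frames.nil)) (okE_cons.2 ⟨m24_g137_ok, okE_nil _⟩) _

noncomputable def m24t_c12_cnt_t : BT := (BT.fix (nat_lit 1) (BT.dif (nat_lit 3) (nat_lit 0) (BT.br (nat_lit 0) (nat_lit 0) [nat_lit 3] (BT.kid (nat_lit 0) (nat_lit 2) (BT.dif (nat_lit 1) (nat_lit 0) (BT.img (nat_lit 1) (nat_lit 1) (BT.dif (nat_lit 1) (nat_lit 0) (BT.img (nat_lit 1) (nat_lit 1) (BT.dif (nat_lit 1) (nat_lit 0) (BT.img (nat_lit 1) (nat_lit 1) (BT.dif (nat_lit 1) (nat_lit 0) (BT.img (nat_lit 1) (nat_lit 1) (BT.dif (nat_lit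 1) (nat_lit 0) (BT.frm (nat_lit 0) (nat_lit 0x1151d151f2522) (nat_lit 0x1151d151f2522) [nat_lit 1, nat_lit 3, nat_lit 5, nat_lit 7, nat_lit 9] (BT.pln (nat_lit 0) (nat_lit 5) (BT.dif (nat_lit 2) (nat_lit 0) (BT.br (nat_lit 0) (nat_lit 1) [nat_lit 5] (BT.dead (nat_lit 3) (BT.img (nat_lit 1) (nat_lit 5) (BT.frm (nat_lit 1) (nat_lit 0x150801151d151f2522) (nat_lit 0xf13170801151d151f2522) [nat_lit 1, nat_lit 0, nat_lit 6, nat_lit 8, nat_lit 10, nat_lit 12, nat_lit 14] (BT.pln (nat_lit 0) (nat_lit 7) (BT.and (nat_lit 0) (nat_lit 18) (BT.cnt (nat_lit 0)))))) (BT.dead (nat_lit 18) (BT.img (nat_lit 1) (nat_lit 5) (BT.frm (nat_lit 1) (nat_lit 0x150801151d151f2522) (nat_lit 0x13170801151d151f2522) [nat_lit 1, nat_lit 0, nat_lit 6, nat_lit 8, nat_lit 10, nat_lit 12, nat_lit 14] (BT.pln (nat_lit 0) (nat_lit 7) (BT.and (nat_lit 0) (nat_lit 18) (BT.cnt (nat_lit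 0)))))) (BT.dead (nat_lit 9) (BT.img (nat_lit 1) (nat_lit 5) (BT.frm (nat_lit 1) (nat_lit 0x150801151d151f2522) (nat_lit 0x13150801151d151f2522) [nat_lit 1, nat_lit 0, nat_lit 6, nat_lit 8, nat_lit 10, nat_lit 12, nat_lit 14] (BT.pln (nat_lit 0) (nat_lit 7) (BT.and (nat_lit 0) (nat_lit 18) (BT.cnt (nat_lit 0)))))) (BT.dead (nat_lit 2) (BT.img (nat_lit 1) (nat_lit 5) (BT.frm (nat_lit 1) (nat_lit 0x150801151d151f2522) (nat_lit 0x11130801151d151f2522) [nat_lit 1, nat_lit 0, nat_lit 6, nat_lit 8, nat_lit 10, nat_lit 12, nat_lit 14] (BT.pln (nat_lit 0) (nat_lit 7) (BT.and (nat_lit 0) (nat_lit 18) (BT.cnt (nat_lit 0)))))) (BT.dead (nat_lit 5) (BT.img (nat_lit 1) (nat_lit 5) (BT.frm (nat_lit 1) (nat_lit 0x150801151d151f2522) (nat_lit 0x130801151d151f2522) [nat_lit 1, nat_lit 0, nat_lit 6, nat_lit 8, nat_lit 10, nat_lit 12, nat_lit 14] (BT.pln (nat_lit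 0) (nat_lit 7) (BT.and (nat_lit 0) (nat_lit 18) (BT.cnt (nat_lit 0)))))) (BT.dead (nat_lit 7) (BT.img (nat_lit 1) (nat_lit 5) (BT.frm (nat_lit 1) (nat_lit 0x150801151d151f2522) (nat_lit 0x801151d151f2522) [nat_lit 1, nat_lit 0, nat_lit 6, nat_lit 8, nat_lit 10, nat_lit 12, nat_lit 14] (BT.pln (nat_lit 0) (nat_lit 7) (BT.img (nat_lit 1) (nat_lit 3) (BT.and (nat_lit 1) (nat_lit 0) (BT.cnt (nat_lit 0))))))) (BT.kid (nat_lit 1) (nat_lit 1) (BT.img (nat_lit 1) (nat_lit 5) (BT.one (nat_lit 1) (nat_lit 0x150801151d151f2522) (nat_lit 0x150801151d151f2522) [nat_lit 1, nat_lit 0, nat_lit 6, nat_lit 8, nat_lit 10, nat_lit 12, nat_lit 14])) BT.nil)))))))))))))))))))) BT.nil))))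

theorem m24t_c12_cnt : Cnt 24 (grp 24 m24_E0) [m24_g137] [m24_g137] 0 0 0 0 42 :=
  BT.sound m24t_c12_cnt_P Known.nil (t := m24t_c12_cnt_t) (d := 0) (by decide +kernel)

theorem m24t_c12_ge : 42 ≤ Nat.card (grp 24 m24t_c12_K) :=
  Ch.le_card_grp (k := 5) (L := (lab 24 5)) m24_hn m24t_c12_K_ok (c := (Ch.cons (nat_lit 0) [nat_lit 1, nat_lit 3] (Ch.cons (nat_lit 1) [nat_lit 5] Ch.nil))) (by decide +kernel)

theorem m24t_c12_eq : (grp 24 m24_E0) ⊓ Subgroup.centralizer {Net.toPerm 24 m24_g137} = grp 24 m24t_c12_K :=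
  cent_eq m24t_c12_sym m24t_c12_cnt m24t_c12_ge

theorem m24t_c12_card : Nat.card ↥((grp 24 m24_E0) ⊓ Subgroup.centralizer {Net.toPerm 24 m24_g137}) = 42 :=
  card_cent m24t_c12_sym m24t_c12_cnt m24t_c12_ge

theorem m24t_c12_ord : orderOf (Net.toPerm 24 m24_g137) = 7 :=
  orderOf_net m24_hn m24_hk m24_g137_ok (by decide) (ps := [7]) (by set_option linter.unusedSimpArgs false in simp [Nat.primeFactorsList_ofNat]) (by decide +kernel)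

theorem m24_le143 : grp 24 m24t_c13_K ≤ grp 24 m24_E0 :=
  grp_le_of_memB m24_hn m24_hk m24_E0_ok m24t_c13_K_ok (ws := [nat_lit 0x291d171911160d110510021b, nat_lit 0x25292b1d1913170d0f0a, nat_lit 0x29171c12160d0f]) (by decide +kernel)

theorem m24t_c13_le : grp 24 m24t_c13_K ≤ (grp 24 m24_E0) :=
  (m24_le143.trans m24_T65_s0.le)

theorem m24t_c13_mem : Net.toPerm 24 m24_g140 ∈ (grp 24 m24_E0) :=
  m24t_c13_le (toPerm_mem_grp (E := m24t_c13_K) (List.Mem.head _))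

theorem m24t_c13_sym : Sym 24 (grp 24 m24_E0) [m24_g140] m24t_c13_K 0 :=
  Sym.of_lab m24_hn m24_hk (okE_cons.2 ⟨m24_g140_ok, okE_nil _⟩) m24t_c13_K_ok m24t_c13_le (kT := 0) (by decide +kernel)

noncomputable def m24t_c13_cnt_L : List ℕ := [7, 12, m24_T65_s7_O, 1, 0]

theorem m24t_c13_cnt_P : Prob 24 5 (grp 24 m24_E0) m24t_c13_cnt_EG [m24_g140] [m24_g140] m24t_c13_K m24t_c13_cnt_L 0 0 :=
  Sym.prob m24_hn m24_hk m24t_c13_sym m24t_c13_cnt_EG_ok (grp_cons_le m24_g43_m24_T65 (grp_cons_le m24_g41_m24_T65 (grp_cons_le m24_g44_m24_T65 (grp_cons_le m24_g47_m24_T65 (grp_cons_le m24_g42_m24_T65 (grp_cons_le m24_g38_m24_T65 (grp_cons_le m24_g33_m24_T65 (grp_cons_le m24_g34_m24_T65 (grp_cons_le m24_g35_m24_T65 (grp_cons_le m24_g30_m24_T65 (grp_cons_le m24_g26_m24_T65 (grp_cons_le m24_g27_m24_T65 (grp_cons_le m24_g23_m24_T65 (grp_cons_le m24_g19_m24_T65 (grp_cons_le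 m24_g20_m24_T65 (grp_cons_le m24_g16_m24_T65 (grp_cons_le m24_g12_m24_T65 (grp_cons_le m24_g13_m24_T65 (grp_cons_le m24_g9_m24_T65 (grp_cons_le m24_g5_m24_T65 (grp_cons_le m24_g6_m24_T65 (grp_cons_le m24_g1_m24_T65 (grp_cons_le m24_g2_m24_T65 (grp_nil_le _)))))))))))))))))))))))) (Frames.cons m24_T65_s7_F Frames.nil) (okE_cons.2 ⟨m24_g140_ok, okE_nil _⟩) _

noncomputable def m24t_c13_cnt_t : BT := (BT.fix (nat_lit 0x1010101) (BT.fix (nat_lit 257) (BT.dif (nat_lit 1) (nat_lit 0) (BT.br (nat_lit 0) (nat_lit 0) [nat_lit 1] (BT.kid (nat_lit 0) (nat_lit 4) (BT.fix (nat_lit 1) (BT.dif (nat_lit 3) (nat_lit 0) (BT.br (nat_lit 0) (nat_lit 3) [nat_lit 3] (BT.kid (nat_lit 3) (nat_lit 2) (BT.dif (nat_lit 9) (nat_lit 6) (BT.br (nat_lit 0) (nat_lit 1) [nat_lit 5] (BT.dead (nat_lit 4) (BT.dif (nat_lit 7) (nat_lit 2) (BT.dif (nat_lit 0) (nat_lit 5) (BT.dif (nat_lit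 8) (nat_lit 7) (BT.img (nat_lit 1) (nat_lit 8) (BT.dif (nat_lit 1) (nat_lit 0) (BT.img (nat_lit 1) (nat_lit 1) (BT.dif (nat_lit 1) (nat_lit 0) (BT.frm (nat_lit 0) (nat_lit 0x507130b1b212620) (nat_lit 0x509130b1b212620) [nat_lit 7, nat_lit 5, nat_lit 9, nat_lit 0, nat_lit 1, nat_lit 3, nat_lit 12] (BT.pln (nat_lit 0) (nat_lit 7) (BT.img (nat_lit 1) (nat_lit 9) (BT.img (nat_lit 1) (nat_lit 0) (BT.img (nat_lit 1) (nat_lit 0) (BT.img (nat_lit 1) (nat_lit 0) (BT.img (nat_lit 1) (nat_lit 0) (BT.img (nat_lit 1) (nat_lit 0) (BT.and (nat_lit 6) (nat_lit 0) (BT.cnt (nat_lit 0)))))))))))))))))) (BT.dead (nat_lit 5) (BT.dif (nat_lit 7) (nat_lit 2) (BT.dif (nat_lit 0) (nat_lit 5) (BT.dif (nat_lit 8) (nat_lit 7) (BT.img (nat_lit 1) (nat_lit 8) (BT.dif (nat_lit 1) (nat_lit 0) (BT.img (nat_lit 1) (nat_lit 1) (BT.dif (nat_lit 1) (nat_lit 0) (BT.frm (nat_lit 0)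 (nat_lit 0x507130b1b212620) (nat_lit 0x5130b1b212620) [nat_lit 7, nat_lit 5, nat_lit 9, nat_lit 0, nat_lit 1, nat_lit 3, nat_lit 12] (BT.pln (nat_lit 0) (nat_lit 7) (BT.img (nat_lit 1) (nat_lit 9) (BT.img (nat_lit 1) (nat_lit 0) (BT.img (nat_lit 1) (nat_lit 0) (BT.img (nat_lit 1) (nat_lit 0) (BT.img (nat_lit 1) (nat_lit 0) (BT.and (nat_lit 5) (nat_lit 0) (BT.cnt (nat_lit 0))))))))))))))))) (BT.dead (nat_lit 12) (BT.dif (nat_lit 7) (nat_lit 2) (BT.dif (nat_lit 0) (nat_lit 5) (BT.dif (nat_lit 8) (nat_lit 7) (BT.img (nat_lit 1) (nat_lit 8) (BT.dif (nat_lit 1) (nat_lit 0) (BT.img (nat_lit 1) (nat_lit 1) (BT.dif (nat_lit 1) (nat_lit 0) (BT.frm (nat_lit 0) (nat_lit 0x507130b1b212620) (nat_lit 0x107130b1b212620) [nat_lit 7, nat_lit 5, nat_lit 9, nat_lit 0, nat_lit 1, nat_lit 3, nat_lit 12] (BT.pln (nat_lit 0) (nat_lit 7) (BT.img (nat_lit 1) (nat_lit 9)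 (BT.and (nat_lit 1) (nat_lit 0) (BT.cnt (nat_lit 0))))))))))))) (BT.dead (nat_lit 11) (BT.dif (nat_lit 7) (nat_lit 2) (BT.dif (nat_lit 0) (nat_lit 5) (BT.dif (nat_lit 8) (nat_lit 7) (BT.img (nat_lit 1) (nat_lit 8) (BT.dif (nat_lit 1) (nat_lit 0) (BT.img (nat_lit 1) (nat_lit 1) (BT.dif (nat_lit 1) (nat_lit 0) (BT.frm (nat_lit 0) (nat_lit 0x507130b1b212620) (nat_lit 0x305130b1b212620) [nat_lit 7, nat_lit 5, nat_lit 9, nat_lit 0, nat_lit 1, nat_lit 3, nat_lit 12] (BT.pln (nat_lit 0) (nat_lit 7) (BT.img (nat_lit 1) (nat_lit 9) (BT.and (nat_lit 1) (nat_lit 0) (BT.cnt (nat_lit 0))))))))))))) (BT.dead (nat_lit 7) (BT.dif (nat_lit 7) (nat_lit 2) (BT.dif (nat_lit 0) (nat_lit 5) (BT.dif (nat_lit 8) (nat_lit 7) (BT.img (nat_lit 1) (nat_lit 8) (BT.dif (nat_lit 1) (nat_lit 0) (BT.img (nat_lit 1) (nat_lit 1) (BT.dif (nat_lit 1) (nat_lit 0) (BT.frm (nat_lit 0)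 (nat_lit 0x507130b1b212620) (nat_lit 0x109130b1b212620) [nat_lit 7, nat_lit 5, nat_lit 9, nat_lit 0, nat_lit 1, nat_lit 3, nat_lit 12] (BT.pln (nat_lit 0) (nat_lit 7) (BT.img (nat_lit 1) (nat_lit 9) (BT.and (nat_lit 1) (nat_lit 0) (BT.cnt (nat_lit 0))))))))))))) (BT.dead (nat_lit 9) (BT.dif (nat_lit 7) (nat_lit 2) (BT.dif (nat_lit 0) (nat_lit 5) (BT.dif (nat_lit 8) (nat_lit 7) (BT.img (nat_lit 1) (nat_lit 8) (BT.dif (nat_lit 1) (nat_lit 0) (BT.img (nat_lit 1) (nat_lit 1) (BT.dif (nat_lit 1) (nat_lit 0) (BT.frm (nat_lit 0) (nat_lit 0x507130b1b212620) (nat_lit 0x3130b1b212620) [nat_lit 7, nat_lit 5, nat_lit 9, nat_lit 0, nat_lit 1, nat_lit 3, nat_lit 12] (BT.pln (nat_lit 0) (nat_lit 7) (BT.img (nat_lit 1) (nat_lit 9) (BT.img (nat_lit 1) (nat_lit 0) (BT.img (nat_lit 1) (nat_lit 0) (BT.and (nat_lit 3) (nat_lit 0) (BT.cnt (nat_lit 0))))))))))))))) (BT.dead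 (nat_lit 8) (BT.dif (nat_lit 7) (nat_lit 2) (BT.dif (nat_lit 0) (nat_lit 5) (BT.dif (nat_lit 8) (nat_lit 7) (BT.img (nat_lit 1) (nat_lit 8) (BT.dif (nat_lit 1) (nat_lit 0) (BT.img (nat_lit 1) (nat_lit 1) (BT.dif (nat_lit 1) (nat_lit 0) (BT.frm (nat_lit 0) (nat_lit 0x507130b1b212620) (nat_lit 0x130b1b212620) [nat_lit 7, nat_lit 5, nat_lit 9, nat_lit 0, nat_lit 1, nat_lit 3, nat_lit 12] (BT.pln (nat_lit 0) (nat_lit 7) (BT.img (nat_lit 1) (nat_lit 9) (BT.and (nat_lit 1) (nat_lit 0) (BT.cnt (nat_lit 0))))))))))))) (BT.kid (nat_lit 1) (nat_lit 1) (BT.dif (nat_lit 7) (nat_lit 2) (BT.dif (nat_lit 0) (nat_lit 5) (BT.dif (nat_lit 8) (nat_lit 7) (BT.img (nat_lit 1) (nat_lit 8) (BT.dif (nat_lit 1) (nat_lit 0) (BT.img (nat_lit 1) (nat_lit 1) (BT.dif (nat_lit 1) (nat_lit 0) (BT.one (nat_lit 0) (nat_lit 0x507130b1b212620) (nat_lit 0x507130b1b212620) [nat_lit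 7, nat_lit 5, nat_lit 9, nat_lit 0, nat_lit 1, nat_lit 3, nat_lit 12])))))))) BT.nil)))))))))) BT.nil)))) BT.nil)))))

theorem m24t_c13_cnt : Cnt 24 (grp 24 m24_E0) [m24_g140] [m24_g140] 0 0 0 0 16 :=
  BT.sound m24t_c13_cnt_P Known.nil (t := m24t_c13_cnt_t) (d := 0) (by decide +kernel)

theorem m24t_c13_ge : 16 ≤ Nat.card (grp 24 m24t_c13_K) :=
  Ch.le_card_grp (k := 5) (L := (lab 24 5)) m24_hn m24t_c13_K_ok (c := (Ch.cons (nat_lit 0) [nat_lit 1] (Ch.cons (nat_lit 3) [nat_lit 3] (Ch.cons (nat_lit 1) [nat_lit 5] Ch.nil)))) (by decide +kernel)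

theorem m24t_c13_eq : (grp 24 m24_E0) ⊓ Subgroup.centralizer {Net.toPerm 24 m24_g140} = grp 24 m24t_c13_K :=
  cent_eq m24t_c13_sym m24t_c13_cnt m24t_c13_ge

theorem m24t_c13_card : Nat.card ↥((grp 24 m24_E0) ⊓ Subgroup.centralizer {Net.toPerm 24 m24_g140}) = 16 :=
  card_cent m24t_c13_sym m24t_c13_cnt m24t_c13_ge

theorem m24t_c13_ord : orderOf (Net.toPerm 24 m24_g140) = 8 :=
  orderOf_net m24_hn m24_hk m24_g140_ok (by decide) (ps := [2]) (by set_option linter.unusedSimpArgs false in simp [Nat.primeFactorsList_ofNat]) (by decide +kernel)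

theorem m24_le146 : grp 24 m24t_c14_K ≤ grp 24 m24_E0 :=
  grp_le_of_memB m24_hn m24_hk m24_E0_ok m24t_c14_K_ok (ws := [nat_lit 0x291e171911150c1205100104, nat_lit 0x2527291e1912160c1e05080101]) (by decide +kernel)

theorem m24t_c14_le : grp 24 m24t_c14_K ≤ (grp 24 m24_E0) :=
  (m24_le146.trans m24_T65_s0.le)

theorem m24t_c14_mem : Net.toPerm 24 m24_g144 ∈ (grp 24 m24_E0) :=
  m24t_c14_le (toPerm_mem_grp (E := m24t_c14_K) (List.Mem.head _))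

theorem m24t_c14_sym : Sym 24 (grp 24 m24_E0) [m24_g144] m24t_c14_K 0 :=
  Sym.of_lab m24_hn m24_hk (okE_cons.2 ⟨m24_g144_ok, okE_nil _⟩) m24t_c14_K_ok m24t_c14_le (kT := 0) (by decide +kernel)

noncomputable def m24t_c14_cnt_L : List ℕ := [7, 12, m24_T65_s7_O, 1, 0]

theorem m24t_c14_cnt_P : Prob 24 5 (grp 24 m24_E0) m24t_c14_cnt_EG [m24_g144] [m24_g144] m24t_c14_K m24t_c14_cnt_L 0 0 :=
  Sym.prob m24_hn m24_hk m24t_c14_sym m24t_c14_cnt_EG_ok (grp_cons_le m24_g43_m24_T65 (grp_cons_le m24_g41_m24_T65 (grp_cons_le m24_g44_m24_T65 (grp_cons_le m24_g47_m24_T65 (grp_cons_le m24_g42_m24_T65 (grp_cons_le m24_g38_m24_T65 (grp_cons_le m24_g33_m24_T65 (grp_cons_le m24_g34_m24_T65 (grp_cons_le m24_g35_m24_T65 (grp_cons_le m24_g30_m24_T65 (grp_cons_le m24_g26_m24_T65 (grp_cons_le m24_g27_m24_T65 (grp_cons_le m24_g23_m24_T65 (grp_cons_le m24_g19_m24_T65 (grp_cons_le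 m24_g20_m24_T65 (grp_cons_le m24_g16_m24_T65 (grp_cons_le m24_g12_m24_T65 (grp_cons_le m24_g13_m24_T65 (grp_cons_le m24_g9_m24_T65 (grp_cons_le m24_g5_m24_T65 (grp_cons_le m24_g6_m24_T65 (grp_cons_le m24_g1_m24_T65 (grp_cons_le m24_g2_m24_T65 (grp_nil_le _)))))))))))))))))))))))) (Frames.cons m24_T65_s7_F Frames.nil) (okE_cons.2 ⟨m24_g144_ok, okE_nil _⟩) _

noncomputable def m24t_c14_cnt_t : BT := (BT.fix (nat_lit 257) (BT.dif (nat_lit 3) (nat_lit 0) (BT.br (nat_lit 0) (nat_lit 0) [nat_lit 1, nat_lit 3] (BT.kid (nat_lit 0) (nat_lit 1) (BT.img (nat_lit 1) (nat_lit 0) (BT.img (nat_lit 1) (nat_lit 0) (BT.img (nat_lit 1) (nat_lit 0) (BT.img (nat_lit 1) (nat_lit 0) (BT.img (nat_lit 1) (nat_lit 0) (BT.img (nat_lit 1) (nat_lit 0) (BT.img (nat_lit 1) (nat_lit 0) (BT.one (nat_lit 0) (nat_lit 0x1090c140c191d222629) (nat_lit 0x1090c140c191d222629) [nat_lit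 2, nat_lit 0, nat_lit 3, nat_lit 4, nat_lit 5, nat_lit 6, nat_lit 7])))))))) BT.nil))))

theorem m24t_c14_cnt : Cnt 24 (grp 24 m24_E0) [m24_g144] [m24_g144] 0 0 0 0 20 :=
  BT.sound m24t_c14_cnt_P Known.nil (t := m24t_c14_cnt_t) (d := 0) (by decide +kernel)

theorem m24t_c14_ge : 20 ≤ Nat.card (grp 24 m24t_c14_K) :=
  Ch.le_card_grp (k := 5) (L := (lab 24 5)) m24_hn m24t_c14_K_ok (c := (Ch.cons (nat_lit 0) [nat_lit 1, nat_lit 3] Ch.nil)) (by decide +kernel)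

theorem m24t_c14_eq : (grp 24 m24_E0) ⊓ Subgroup.centralizer {Net.toPerm 24 m24_g144} = grp 24 m24t_c14_K :=
  cent_eq m24t_c14_sym m24t_c14_cnt m24t_c14_ge

theorem m24t_c14_card : Nat.card ↥((grp 24 m24_E0) ⊓ Subgroup.centralizer {Net.toPerm 24 m24_g144}) = 20 :=
  card_cent m24t_c14_sym m24t_c14_cnt m24t_c14_ge

theorem m24t_c14_ord : orderOf (Net.toPerm 24 m24_g144) = 10 :=
  orderOf_net m24_hn m24_hk m24_g144_ok (by decide) (ps := [2, 5]) (by set_option linter.unusedSimpArgs false in simp [Nat.primeFactorsList_ofNat]) (by decide +kernel)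

theorem m24_le148 : grp 24 m24t_c15_K ≤ grp 24 m24_E0 :=
  grp_le_of_memB m24_hn m24_hk m24_E0_ok m24t_c15_K_ok (ws := [nat_lit 0x251d1b1811160b14050c020b]) (by decide +kernel)

theorem m24t_c15_le : grp 24 m24t_c15_K ≤ (grp 24 m24_E0) :=
  (m24_le148.trans m24_T65_s0.le)

theorem m24t_c15_mem : Net.toPerm 24 m24_g147 ∈ (grp 24 m24_E0) :=
  m24t_c15_le (toPerm_mem_grp (E := m24t_c15_K) (List.Mem.head _))

theorem m24t_c15_sym : Sym 24 (grp 24 m24_E0) [m24_g147] m24t_c15_K 0 :=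
  Sym.of_lab m24_hn m24_hk (okE_cons.2 ⟨m24_g147_ok, okE_nil _⟩) m24t_c15_K_ok m24t_c15_le (kT := 0) (by decide +kernel)

noncomputable def m24t_c15_cnt_L : List ℕ := [5, 6, m24_T65_s5_O, 0, 0, 7, 12, m24_T65_s7_O, 1, 0]

theorem m24t_c15_cnt_P : Prob 24 5 (grp 24 m24_E0) m24t_c15_cnt_EG [m24_g147] [m24_g147] m24t_c15_K m24t_c15_cnt_L 0 0 :=
  Sym.prob m24_hn m24_hk m24t_c15_sym m24t_c15_cnt_EG_ok (grp_cons_le m24_g30_m24_T65 (grp_cons_le m24_g26_m24_T65 (grp_cons_le m24_g27_m24_T65 (grp_cons_le m24_g38_m24_T65 (grp_cons_le m24_g33_m24_T65 (grp_cons_le m24_g34_m24_T65 (grp_cons_le m24_g35_m24_T65 (grp_cons_le m24_g43_m24_T65 (grp_cons_le m24_g41_m24_T65 (grp_cons_le m24_g44_m24_T65 (grp_cons_le m24_g47_m24_T65 (grp_cons_le m24_g42_m24_T65 (grp_cons_le m24_g23_m24_T65 (grp_cons_le m24_g19_m24_T65 (grp_cons_le m24_g20_m24_T65 (grp_cons_le m24_g16_m24_T65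 (grp_cons_le m24_g12_m24_T65 (grp_cons_le m24_g13_m24_T65 (grp_cons_le m24_g9_m24_T65 (grp_cons_le m24_g5_m24_T65 (grp_cons_le m24_g6_m24_T65 (grp_cons_le m24_g1_m24_T65 (grp_cons_le m24_g2_m24_T65 (grp_nil_le _)))))))))))))))))))))))) (Frames.cons m24_T65_s5_F (Frames.cons m24_T65_s7_F Frames.nil)) (okE_cons.2 ⟨m24_g147_ok, okE_nil _⟩) _

noncomputable def m24t_c15_cnt_t : BT := (BT.fix (nat_lit 1) (BT.dif (nat_lit 3) (nat_lit 0) (BT.br (nat_lit 0) (nat_lit 0) [nat_lit 1] (BT.dead (nat_lit 1) (BT.img (nat_lit 1) (nat_lit 0) (BT.img (nat_lit 1) (nat_lit 0) (BT.img (nat_lit 1) (nat_lit 0) (BT.img (nat_lit 1) (nat_lit 0) (BT.frm (nat_lit 0) (nat_lit 0x2091e1f261e) (nat_lit 0x11c1f19252b25) [nat_lit 0, nat_lit 1, nat_lit 2, nat_lit 3, nat_lit 4] (BT.pln (nat_lit 0) (nat_lit 5) (BT.img (nat_lit 1) (nat_lit 2) (BT.img (nat_lit 1) (nat_lit 0) (BT.and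 (nat_lit 2) (nat_lit 0) (BT.cnt (nat_lit 0))))))))))) (BT.kid (nat_lit 0) (nat_lit 1) (BT.img (nat_lit 1) (nat_lit 0) (BT.img (nat_lit 1) (nat_lit 0) (BT.img (nat_lit 1) (nat_lit 0) (BT.img (nat_lit 1) (nat_lit 0) (BT.img (nat_lit 1) (nat_lit 0) (BT.img (nat_lit 1) (nat_lit 0) (BT.one (nat_lit 1) (nat_lit 0x130702091e1f261e) (nat_lit 0x130702091e1f261e) [nat_lit 1, nat_lit 0, nat_lit 2, nat_lit 3, nat_lit 4, nat_lit 5, nat_lit 6]))))))) BT.nil)))))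

theorem m24t_c15_cnt : Cnt 24 (grp 24 m24_E0) [m24_g147] [m24_g147] 0 0 0 0 11 :=
  BT.sound m24t_c15_cnt_P Known.nil (t := m24t_c15_cnt_t) (d := 0) (by decide +kernel)

theorem m24t_c15_ge : 11 ≤ Nat.card (grp 24 m24t_c15_K) :=
  Ch.le_card_grp (k := 5) (L := (lab 24 5)) m24_hn m24t_c15_K_ok (c := (Ch.cons (nat_lit 0) [nat_lit 1] Ch.nil)) (by decide +kernel)

theorem m24t_c15_eq : (grp 24 m24_E0) ⊓ Subgroup.centralizer {Net.toPerm 24 m24_g147} = grp 24 m24t_c15_K :=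
  cent_eq m24t_c15_sym m24t_c15_cnt m24t_c15_ge

theorem m24t_c15_card : Nat.card ↥((grp 24 m24_E0) ⊓ Subgroup.centralizer {Net.toPerm 24 m24_g147}) = 11 :=
  card_cent m24t_c15_sym m24t_c15_cnt m24t_c15_ge

theorem m24t_c15_ord : orderOf (Net.toPerm 24 m24_g147) = 11 :=
  orderOf_net m24_hn m24_hk m24_g147_ok (by decide) (ps := [11]) (by set_option linter.unusedSimpArgs false in simp [Nat.primeFactorsList_ofNat]) (by decide +kernel)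

theorem m24_le150 : grp 24 m24t_c16_K ≤ grp 24 m24_E0 :=
  grp_le_of_memB m24_hn m24_hk m24_E0_ok m24t_c16_K_ok (ws := [nat_lit 0x292b1d171c120b120609020d]) (by decide +kernel)

theorem m24t_c16_le : grp 24 m24t_c16_K ≤ (grp 24 m24_E0) :=
  (m24_le150.trans m24_T65_s0.le)

theorem m24t_c16_mem : Net.toPerm 24 m24_g149 ∈ (grp 24 m24_E0) :=
  m24t_c16_le (toPerm_mem_grp (E := m24t_c16_K) (List.Mem.head _))

theorem m24t_c16_sym : Sym 24 (grp 24 m24_E0) [m24_g149] m24t_c16_K 0 :=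
  Sym.of_lab m24_hn m24_hk (okE_cons.2 ⟨m24_g149_ok, okE_nil _⟩) m24t_c16_K_ok m24t_c16_le (kT := 0) (by decide +kernel)

noncomputable def m24t_c16_cnt_L : List ℕ := [7, 12, m24_T65_s7_O, 1, 0]

theorem m24t_c16_cnt_P : Prob 24 5 (grp 24 m24_E0) m24t_c16_cnt_EG [m24_g149] [m24_g149] m24t_c16_K m24t_c16_cnt_L 0 0 :=
  Sym.prob m24_hn m24_hk m24t_c16_sym m24t_c16_cnt_EG_ok (grp_cons_le m24_g43_m24_T65 (grp_cons_le m24_g41_m24_T65 (grp_cons_le m24_g44_m24_T65 (grp_cons_le m24_g47_m24_T65 (grp_cons_le m24_g42_m24_T65 (grp_cons_le m24_g38_m24_T65 (grp_cons_le m24_g33_m24_T65 (grp_cons_le m24_g34_m24_T65 (grp_cons_le m24_g35_m24_T65 (grp_cons_le m24_g30_m24_T65 (grp_cons_le m24_g26_m24_T65 (grp_cons_le m24_g27_m24_T65 (grp_cons_le m24_g23_m24_T65 (grp_cons_le m24_g19_m24_T65 (grp_cons_le m24_g20_m24_T65 (grp_cons_le m24_g16_m24_T65 (grp_cons_le m24_g12_m24_T65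 (grp_cons_le m24_g13_m24_T65 (grp_cons_le m24_g9_m24_T65 (grp_cons_le m24_g5_m24_T65 (grp_cons_le m24_g6_m24_T65 (grp_cons_le m24_g1_m24_T65 (grp_cons_le m24_g2_m24_T65 (grp_nil_le _)))))))))))))))))))))))) (Frames.cons m24_T65_s7_F Frames.nil) (okE_cons.2 ⟨m24_g149_ok, okE_nil _⟩) _

noncomputable def m24t_c16_cnt_t : BT := (BT.fix (nat_lit 0x10101010101) (BT.dif (nat_lit 3) (nat_lit 0) (BT.fix (nat_lit 0x1010101) (BT.dif (nat_lit 1) (nat_lit 0) (BT.br (nat_lit 0) (nat_lit 0) [nat_lit 1] (BT.kid (nat_lit 0) (nat_lit 1) (BT.img (nat_lit 1) (nat_lit 0) (BT.img (nat_lit 1) (nat_lit 0) (BT.img (nat_lit 1) (nat_lit 0) (BT.img (nat_lit 1) (nat_lit 0) (BT.img (nat_lit 1) (nat_lit 0) (BT.img (nat_lit 1) (nat_lit 0) (BT.img (nat_lit 1) (nat_lit 0) (BT.img (nat_lit 1) (nat_lit 0) (BT.one (nat_lit 0) (nat_lit 0x30b140c1f192525) (nat_lit 0x30b140c1f192525)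 [nat_lit 3, nat_lit 0, nat_lit 4, nat_lit 5, nat_lit 6, nat_lit 7, nat_lit 8]))))))))) BT.nil))))))

theorem m24t_c16_cnt : Cnt 24 (grp 24 m24_E0) [m24_g149] [m24_g149] 0 0 0 0 12 :=
  BT.sound m24t_c16_cnt_P Known.nil (t := m24t_c16_cnt_t) (d := 0) (by decide +kernel)

theorem m24t_c16_ge : 12 ≤ Nat.card (grp 24 m24t_c16_K) :=
  Ch.le_card_grp (k := 5) (L := (lab 24 5)) m24_hn m24t_c16_K_ok (c := (Ch.cons (nat_lit 0) [nat_lit 1] Ch.nil)) (by decide +kernel)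

theorem m24t_c16_eq : (grp 24 m24_E0) ⊓ Subgroup.centralizer {Net.toPerm 24 m24_g149} = grp 24 m24t_c16_K :=
  cent_eq m24t_c16_sym m24t_c16_cnt m24t_c16_ge

theorem m24t_c16_card : Nat.card ↥((grp 24 m24_E0) ⊓ Subgroup.centralizer {Net.toPerm 24 m24_g149}) = 12 :=
  card_cent m24t_c16_sym m24t_c16_cnt m24t_c16_ge

theorem m24t_c16_ord : orderOf (Net.toPerm 24 m24_g149) = 12 :=
  orderOf_net m24_hn m24_hk m24_g149_ok (by decide) (ps := [2, 3]) (by set_option linter.unusedSimpArgs false in simp [Nat.primeFactorsList_ofNat]) (by decide +kernel)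

theorem m24_le152 : grp 24 m24t_c17_K ≤ grp 24 m24_E0 :=
  grp_le_of_memB m24_hn m24_hk m24_E0_ok m24t_c17_K_ok (ws := [nat_lit 0x2527291a1f11180c1205050103]) (by decide +kernel)

theorem m24t_c17_le : grp 24 m24t_c17_K ≤ (grp 24 m24_E0) :=
  (m24_le152.trans m24_T65_s0.le)

theorem m24t_c17_mem : Net.toPerm 24 m24_g151 ∈ (grp 24 m24_E0) :=
  m24t_c17_le (toPerm_mem_grp (E := m24t_c17_K) (List.Mem.head _))

theorem m24t_c17_sym : Sym 24 (grp 24 m24_E0) [m24_g151] m24t_c17_K 0 :=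
  Sym.of_lab m24_hn m24_hk (okE_cons.2 ⟨m24_g151_ok, okE_nil _⟩) m24t_c17_K_ok m24t_c17_le (kT := 0) (by decide +kernel)

noncomputable def m24t_c17_cnt_L : List ℕ := [5, 6, m24_T65_s5_O, 0, 0, 7, 12, m24_T65_s7_O, 1, 0]

theorem m24t_c17_cnt_P : Prob 24 5 (grp 24 m24_E0) m24t_c17_cnt_EG [m24_g151] [m24_g151] m24t_c17_K m24t_c17_cnt_L 0 0 :=
  Sym.prob m24_hn m24_hk m24t_c17_sym m24t_c17_cnt_EG_ok (grp_cons_le m24_g30_m24_T65 (grp_cons_le m24_g26_m24_T65 (grp_cons_le m24_g27_m24_T65 (grp_cons_le m24_g38_m24_T65 (grp_cons_le m24_g33_m24_T65 (grp_cons_le m24_g34_m24_T65 (grp_cons_le m24_g35_m24_T65 (grp_cons_le m24_g43_m24_T65 (grp_cons_le m24_g41_m24_T65 (grp_cons_le m24_g44_m24_T65 (grp_cons_le m24_g47_m24_T65 (grp_cons_le m24_g42_m24_T65 (grp_cons_le m24_g23_m24_T65 (grp_cons_le m24_g19_m24_T65 (grp_cons_le m24_g20_m24_T65 (grp_cons_le m24_g16_m24_T65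 (grp_cons_le m24_g12_m24_T65 (grp_cons_le m24_g13_m24_T65 (grp_cons_le m24_g9_m24_T65 (grp_cons_le m24_g5_m24_T65 (grp_cons_le m24_g6_m24_T65 (grp_cons_le m24_g1_m24_T65 (grp_cons_le m24_g2_m24_T65 (grp_nil_le _)))))))))))))))))))))))) (Frames.cons m24_T65_s5_F (Frames.cons m24_T65_s7_F Frames.nil)) (okE_cons.2 ⟨m24_g151_ok, okE_nil _⟩) _

noncomputable def m24t_c17_cnt_t : BT := (BT.br (nat_lit 2) (nat_lit 0) [nat_lit 1] (BT.dead (nat_lit 1) (BT.img (nat_lit 1) (nat_lit 0) (BT.img (nat_lit 1) (nat_lit 0) (BT.img (nat_lit 1) (nat_lit 0) (BT.img (nat_lit 1) (nat_lit 0) (BT.frm (nat_lit 0) (nat_lit 0x2041b1d21261b) (nat_lit 0x2081e1f2226212b25) [nat_lit 0, nat_lit 1, nat_lit 2, nat_lit 3, nat_lit 4] (BT.pln (nat_lit 0) (nat_lit 5) (BT.img (nat_lit 1) (nat_lit 0) (BT.img (nat_lit 1) (nat_lit 0) (BT.and (nat_lit 2) (nat_lit 0) (BT.img (nat_lit 1) (nat_lit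 0) (BT.and (nat_lit 3) (nat_lit 0) (BT.img (nat_lit 1) (nat_lit 0) (BT.img (nat_lit 1) (nat_lit 0) (BT.img (nat_lit 1) (nat_lit 0) (BT.and (nat_lit 0) (nat_lit 8) (BT.cnt (nat_lit 0))))))))))))))))) (BT.kid (nat_lit 0) (nat_lit 1) (BT.img (nat_lit 1) (nat_lit 0) (BT.img (nat_lit 1) (nat_lit 0) (BT.img (nat_lit 1) (nat_lit 0) (BT.img (nat_lit 1) (nat_lit 0) (BT.img (nat_lit 1) (nat_lit 0) (BT.frm (nat_lit 0) (nat_lit 0x2041b1d21261b) (nat_lit 0x2041b1d21261b) [nat_lit 1, nat_lit 2, nat_lit 3, nat_lit 4, nat_lit 5] (BT.pln (nat_lit 0) (nat_lit 5) (BT.img (nat_lit 1) (nat_lit 0) (BT.img (nat_lit 1) (nat_lit 0) (BT.and (nat_lit 2) (nat_lit 0) (BT.one (nat_lit 1) (nat_lit 0x131502041b1d21261b) (nat_lit 0x131502041b1d21261b) [nat_lit 5, nat_lit 0, nat_lit 6, nat_lit 7, nat_lit 8, nat_lit 9, nat_lit 10]))))))))))) BT.nil)))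

theorem m24t_c17_cnt : Cnt 24 (grp 24 m24_E0) [m24_g151] [m24_g151] 0 0 0 0 12 :=
  BT.sound m24t_c17_cnt_P Known.nil (t := m24t_c17_cnt_t) (d := 0) (by decide +kernel)

theorem m24t_c17_ge : 12 ≤ Nat.card (grp 24 m24t_c17_K) :=
  Ch.le_card_grp (k := 5) (L := (lab 24 5)) m24_hn m24t_c17_K_ok (c := (Ch.cons (nat_lit 0) [nat_lit 1] Ch.nil)) (by decide +kernel)

theorem m24t_c17_eq : (grp 24 m24_E0) ⊓ Subgroup.centralizer {Net.toPerm 24 m24_g151} = grp 24 m24t_c17_K :=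
  cent_eq m24t_c17_sym m24t_c17_cnt m24t_c17_ge

theorem m24t_c17_card : Nat.card ↥((grp 24 m24_E0) ⊓ Subgroup.centralizer {Net.toPerm 24 m24_g151}) = 12 :=
  card_cent m24t_c17_sym m24t_c17_cnt m24t_c17_ge

theorem m24t_c17_ord : orderOf (Net.toPerm 24 m24_g151) = 12 :=
  orderOf_net m24_hn m24_hk m24_g151_ok (by decide) (ps := [2, 3]) (by set_option linter.unusedSimpArgs false in simp [Nat.primeFactorsList_ofNat]) (by decide +kernel)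

theorem m24_le154 : grp 24 m24t_c18_K ≤ grp 24 m24_E0 :=
  grp_le_of_memB m24_hn m24_hk m24_E0_ok m24t_c18_K_ok (ws := [nat_lit 0x25292d1e171911180b10050b0101]) (by decide +kernel)

theorem m24t_c18_le : grp 24 m24t_c18_K ≤ (grp 24 m24_E0) :=
  (m24_le154.trans m24_T65_s0.le)

theorem m24t_c18_mem : Net.toPerm 24 m24_g153 ∈ (grp 24 m24_E0) :=
  m24t_c18_le (toPerm_mem_grp (E := m24t_c18_K) (List.Mem.head _))

theorem m24t_c18_sym : Sym 24 (grp 24 m24_E0) [m24_g153] m24t_c18_K 0 :=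
  Sym.of_lab m24_hn m24_hk (okE_cons.2 ⟨m24_g153_ok, okE_nil _⟩) m24t_c18_K_ok m24t_c18_le (kT := 0) (by decide +kernel)

noncomputable def m24t_c18_cnt_L : List ℕ := [7, 12, m24_T65_s7_O, 1, 0]

theorem m24t_c18_cnt_P : Prob 24 5 (grp 24 m24_E0) m24t_c18_cnt_EG [m24_g153] [m24_g153] m24t_c18_K m24t_c18_cnt_L 0 0 :=
  Sym.prob m24_hn m24_hk m24t_c18_sym m24t_c18_cnt_EG_ok (grp_cons_le m24_g43_m24_T65 (grp_cons_le m24_g41_m24_T65 (grp_cons_le m24_g44_m24_T65 (grp_cons_le m24_g47_m24_T65 (grp_cons_le m24_g42_m24_T65 (grp_cons_le m24_g38_m24_T65 (grp_cons_le m24_g33_m24_T65 (grp_cons_le m24_g34_m24_T65 (grp_cons_le m24_g35_m24_T65 (grp_cons_le m24_g30_m24_T65 (grp_cons_le m24_g26_m24_T65 (grp_cons_le m24_g27_m24_T65 (grp_cons_le m24_g23_m24_T65 (grp_cons_le m24_g19_m24_T65 (grp_cons_le m24_g20_m24_T65 (grp_cons_le m24_g16_m24_T65 (grp_cons_le m24_g12_m24_T65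 (grp_cons_le m24_g13_m24_T65 (grp_cons_le m24_g9_m24_T65 (grp_cons_le m24_g5_m24_T65 (grp_cons_le m24_g6_m24_T65 (grp_cons_le m24_g1_m24_T65 (grp_cons_le m24_g2_m24_T65 (grp_nil_le _)))))))))))))))))))))))) (Frames.cons m24_T65_s7_F Frames.nil) (okE_cons.2 ⟨m24_g153_ok, okE_nil _⟩) _

noncomputable def m24t_c18_cnt_t : BT := (BT.fix (nat_lit 0x1010101010101) (BT.dif (nat_lit 3) (nat_lit 0) (BT.fix (nat_lit 257) (BT.dif (nat_lit 1) (nat_lit 0) (BT.br (nat_lit 0) (nat_lit 0) [nat_lit 1] (BT.kid (nat_lit 0) (nat_lit 1) (BT.img (nat_lit 1) (nat_lit 0) (BT.img (nat_lit 1) (nat_lit 0) (BT.img (nat_lit 1) (nat_lit 0) (BT.img (nat_lit 1) (nat_lit 0) (BT.img (nat_lit 1) (nat_lit 0) (BT.img (nat_lit 1) (nat_lit 0) (BT.img (nat_lit 1) (nat_lit 0) (BT.img (nat_lit 1) (nat_lit 0) (BT.fix (nat_lit 1) (BT.one (nat_lit 0) (nat_lit 0x105090b131c1f1e2c) (nat_lit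 0x105090b131c1f1e2c) [nat_lit 5, nat_lit 1, nat_lit 6, nat_lit 7, nat_lit 8, nat_lit 9, nat_lit 0])))))))))) BT.nil))))))

theorem m24t_c18_cnt : Cnt 24 (grp 24 m24_E0) [m24_g153] [m24_g153] 0 0 0 0 14 :=
  BT.sound m24t_c18_cnt_P Known.nil (t := m24t_c18_cnt_t) (d := 0) (by decide +kernel)

theorem m24t_c18_ge : 14 ≤ Nat.card (grp 24 m24t_c18_K) :=
  Ch.le_card_grp (k := 5) (L := (lab 24 5)) m24_hn m24t_c18_K_ok (c := (Ch.cons (nat_lit 0) [nat_lit 1] Ch.nil)) (by decide +kernel)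

theorem m24t_c18_eq : (grp 24 m24_E0) ⊓ Subgroup.centralizer {Net.toPerm 24 m24_g153} = grp 24 m24t_c18_K :=
  cent_eq m24t_c18_sym m24t_c18_cnt m24t_c18_ge

theorem m24t_c18_card : Nat.card ↥((grp 24 m24_E0) ⊓ Subgroup.centralizer {Net.toPerm 24 m24_g153}) = 14 :=
  card_cent m24t_c18_sym m24t_c18_cnt m24t_c18_ge

theorem m24t_c18_ord : orderOf (Net.toPerm 24 m24_g153) = 14 :=
  orderOf_net m24_hn m24_hk m24_g153_ok (by decide) (ps := [2, 7]) (by set_option linter.unusedSimpArgs false in simp [Nat.primeFactorsList_ofNat]) (by decide +kernel)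

theorem m24_le156 : grp 24 m24t_c19_K ≤ grp 24 m24_E0 :=
  grp_le_of_memB m24_hn m24_hk m24_E0_ok m24t_c19_K_ok (ws := [nat_lit 0x252711160b1105090202]) (by decide +kernel)

theorem m24t_c19_le : grp 24 m24t_c19_K ≤ (grp 24 m24_E0) :=
  (m24_le156.trans m24_T65_s0.le)

theorem m24t_c19_mem : Net.toPerm 24 m24_g155 ∈ (grp 24 m24_E0) :=
  m24t_c19_le (toPerm_mem_grp (E := m24t_c19_K) (List.Mem.head _))

theorem m24t_c19_sym : Sym 24 (grp 24 m24_E0) [m24_g155] m24t_c19_K 0 :=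
  Sym.of_lab m24_hn m24_hk (okE_cons.2 ⟨m24_g155_ok, okE_nil _⟩) m24t_c19_K_ok m24t_c19_le (kT := 0) (by decide +kernel)

noncomputable def m24t_c19_cnt_L : List ℕ := [7, 12, m24_T65_s7_O, 1, 0]

theorem m24t_c19_cnt_P : Prob 24 5 (grp 24 m24_E0) m24t_c19_cnt_EG [m24_g155] [m24_g155] m24t_c19_K m24t_c19_cnt_L 0 0 :=
  Sym.prob m24_hn m24_hk m24t_c19_sym m24t_c19_cnt_EG_ok (grp_cons_le m24_g43_m24_T65 (grp_cons_le m24_g41_m24_T65 (grp_cons_le m24_g44_m24_T65 (grp_cons_le m24_g47_m24_T65 (grp_cons_le m24_g42_m24_T65 (grp_cons_le m24_g38_m24_T65 (grp_cons_le m24_g33_m24_T65 (grp_cons_le m24_g34_m24_T65 (grp_cons_le m24_g35_m24_T65 (grp_cons_le m24_g30_m24_T65 (grp_cons_le m24_g26_m24_T65 (grp_cons_le m24_g27_m24_T65 (grp_cons_le m24_g23_m24_T65 (grp_cons_le m24_g19_m24_T65 (grp_cons_le m24_g20_m24_T65 (grp_cons_le m24_g16_m24_T65 (grp_cons_le m24_g12_m24_T65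 (grp_cons_le m24_g13_m24_T65 (grp_cons_le m24_g9_m24_T65 (grp_cons_le m24_g5_m24_T65 (grp_cons_le m24_g6_m24_T65 (grp_cons_le m24_g1_m24_T65 (grp_cons_le m24_g2_m24_T65 (grp_nil_le _)))))))))))))))))))))))) (Frames.cons m24_T65_s7_F Frames.nil) (okE_cons.2 ⟨m24_g155_ok, okE_nil _⟩) _

noncomputable def m24t_c19_cnt_t : BT := (BT.fix (nat_lit 0x1010101010101) (BT.dif (nat_lit 3) (nat_lit 0) (BT.fix (nat_lit 257) (BT.dif (nat_lit 1) (nat_lit 0) (BT.br (nat_lit 0) (nat_lit 0) [nat_lit 1] (BT.kid (nat_lit 0) (nat_lit 1) (BT.img (nat_lit 1) (nat_lit 0) (BT.img (nat_lit 1) (nat_lit 0) (BT.img (nat_lit 1) (nat_lit 0) (BT.img (nat_lit 1) (nat_lit 0) (BT.img (nat_lit 1) (nat_lit 0) (BT.img (nat_lit 1) (nat_lit 0) (BT.img (nat_lit 1) (nat_lit 0) (BT.img (nat_lit 1) (nat_lit 0) (BT.img (nat_lit 1) (nat_lit 0) (BT.fix (nat_lit 1) (BT.one (nat_lit 0) (nat_lit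 0x1091315191e211f2c) (nat_lit 0x1091315191e211f2c) [nat_lit 6, nat_lit 1, nat_lit 7, nat_lit 8, nat_lit 9, nat_lit 10, nat_lit 0]))))))))))) BT.nil))))))

theorem m24t_c19_cnt : Cnt 24 (grp 24 m24_E0) [m24_g155] [m24_g155] 0 0 0 0 14 :=
  BT.sound m24t_c19_cnt_P Known.nil (t := m24t_c19_cnt_t) (d := 0) (by decide +kernel)

theorem m24t_c19_ge : 14 ≤ Nat.card (grp 24 m24t_c19_K) :=
  Ch.le_card_grp (k := 5) (L := (lab 24 5)) m24_hn m24t_c19_K_ok (c := (Ch.cons (nat_lit 0) [nat_lit 1] Ch.nil)) (by decide +kernel)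

theorem m24t_c19_eq : (grp 24 m24_E0) ⊓ Subgroup.centralizer {Net.toPerm 24 m24_g155} = grp 24 m24t_c19_K :=
  cent_eq m24t_c19_sym m24t_c19_cnt m24t_c19_ge

theorem m24t_c19_card : Nat.card ↥((grp 24 m24_E0) ⊓ Subgroup.centralizer {Net.toPerm 24 m24_g155}) = 14 :=
  card_cent m24t_c19_sym m24t_c19_cnt m24t_c19_ge

theorem m24t_c19_ord : orderOf (Net.toPerm 24 m24_g155) = 14 :=
  orderOf_net m24_hn m24_hk m24_g155_ok (by decide) (ps := [2, 7]) (by set_option linter.unusedSimpArgs false in simp [Nat.primeFactorsList_ofNat]) (by decide +kernel)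

theorem m24_le158 : grp 24 m24t_c20_K ≤ grp 24 m24_E0 :=
  grp_le_of_memB m24_hn m24_hk m24_E0_ok m24t_c20_K_ok (ws := [nat_lit 0x251e171911190c14050b0204]) (by decide +kernel)

theorem m24t_c20_le : grp 24 m24t_c20_K ≤ (grp 24 m24_E0) :=
  (m24_le158.trans m24_T65_s0.le)

theorem m24t_c20_mem : Net.toPerm 24 m24_g157 ∈ (grp 24 m24_E0) :=
  m24t_c20_le (toPerm_mem_grp (E := m24t_c20_K) (List.Mem.head _))

theorem m24t_c20_sym : Sym 24 (grp 24 m24_E0) [m24_g157] m24t_c20_K 0 :=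
  Sym.of_lab m24_hn m24_hk (okE_cons.2 ⟨m24_g157_ok, okE_nil _⟩) m24t_c20_K_ok m24t_c20_le (kT := 0) (by decide +kernel)

noncomputable def m24t_c20_cnt_L : List ℕ := [7, 12, m24_T65_s7_O, 1, 0]

theorem m24t_c20_cnt_P : Prob 24 5 (grp 24 m24_E0) m24t_c20_cnt_EG [m24_g157] [m24_g157] m24t_c20_K m24t_c20_cnt_L 0 0 :=
  Sym.prob m24_hn m24_hk m24t_c20_sym m24t_c20_cnt_EG_ok (grp_cons_le m24_g43_m24_T65 (grp_cons_le m24_g41_m24_T65 (grp_cons_le m24_g44_m24_T65 (grp_cons_le m24_g47_m24_T65 (grp_cons_le m24_g42_m24_T65 (grp_cons_le m24_g38_m24_T65 (grp_cons_le m24_g33_m24_T65 (grp_cons_le m24_g34_m24_T65 (grp_cons_le m24_g35_m24_T65 (grp_cons_le m24_g30_m24_T65 (grp_cons_le m24_g26_m24_T65 (grp_cons_le m24_g27_m24_T65 (grp_cons_le m24_g23_m24_T65 (grp_cons_le m24_g19_m24_T65 (grp_cons_le m24_g20_m24_T65 (grp_cons_le m24_g16_m24_T65 (grp_cons_le m24_g12_m24_T65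 (grp_cons_le m24_g13_m24_T65 (grp_cons_le m24_g9_m24_T65 (grp_cons_le m24_g5_m24_T65 (grp_cons_le m24_g6_m24_T65 (grp_cons_le m24_g1_m24_T65 (grp_cons_le m24_g2_m24_T65 (grp_nil_le _)))))))))))))))))))))))) (Frames.cons m24_T65_s7_F Frames.nil) (okE_cons.2 ⟨m24_g157_ok, okE_nil _⟩) _

noncomputable def m24t_c20_cnt_t : BT := (BT.fix (nat_lit 0x101010101) (BT.dif (nat_lit 3) (nat_lit 0) (BT.fix (nat_lit 65793) (BT.dif (nat_lit 1) (nat_lit 0) (BT.br (nat_lit 0) (nat_lit 0) [nat_lit 1] (BT.kid (nat_lit 0) (nat_lit 1) (BT.img (nat_lit 1) (nat_lit 0) (BT.img (nat_lit 1) (nat_lit 0) (BT.img (nat_lit 1) (nat_lit 0) (BT.img (nat_lit 1) (nat_lit 0) (BT.img (nat_lit 1) (nat_lit 0) (BT.img (nat_lit 1) (nat_lit 0) (BT.fix (nat_lit 1) (BT.one (nat_lit 0) (nat_lit 0x5090c1915211925292b25) (nat_lit 0x5090c1915211925292b25) [nat_lit 3, nat_lit 1, nat_lit 4, nat_lit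 5, nat_lit 6, nat_lit 7, nat_lit 0])))))))) BT.nil))))))

theorem m24t_c20_cnt : Cnt 24 (grp 24 m24_E0) [m24_g157] [m24_g157] 0 0 0 0 15 :=
  BT.sound m24t_c20_cnt_P Known.nil (t := m24t_c20_cnt_t) (d := 0) (by decide +kernel)

theorem m24t_c20_ge : 15 ≤ Nat.card (grp 24 m24t_c20_K) :=
  Ch.le_card_grp (k := 5) (L := (lab 24 5)) m24_hn m24t_c20_K_ok (c := (Ch.cons (nat_lit 0) [nat_lit 1] Ch.nil)) (by decide +kernel)

theorem m24t_c20_eq : (grp 24 m24_E0) ⊓ Subgroup.centralizer {Net.toPerm 24 m24_g157} = grp 24 m24t_c20_K :=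
  cent_eq m24t_c20_sym m24t_c20_cnt m24t_c20_ge

theorem m24t_c20_card : Nat.card ↥((grp 24 m24_E0) ⊓ Subgroup.centralizer {Net.toPerm 24 m24_g157}) = 15 :=
  card_cent m24t_c20_sym m24t_c20_cnt m24t_c20_ge

theorem m24t_c20_ord : orderOf (Net.toPerm 24 m24_g157) = 15 :=
  orderOf_net m24_hn m24_hk m24_g157_ok (by decide) (ps := [3, 5]) (by set_option linter.unusedSimpArgs false in simp [Nat.primeFactorsList_ofNat]) (by decide +kernel)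

theorem m24_le160 : grp 24 m24t_c21_K ≤ grp 24 m24_E0 :=
  grp_le_of_memB m24_hn m24_hk m24_E0_ok m24t_c21_K_ok (ws := [nat_lit 0x252b1e172d120b0801]) (by decide +kernel)

theorem m24t_c21_le : grp 24 m24t_c21_K ≤ (grp 24 m24_E0) :=
  (m24_le160.trans m24_T65_s0.le)

theorem m24t_c21_mem : Net.toPerm 24 m24_g159 ∈ (grp 24 m24_E0) :=
  m24t_c21_le (toPerm_mem_grp (E := m24t_c21_K) (List.Mem.head _))

theorem m24t_c21_sym : Sym 24 (grp 24 m24_E0) [m24_g159] m24t_c21_K 0 :=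
  Sym.of_lab m24_hn m24_hk (okE_cons.2 ⟨m24_g159_ok, okE_nil _⟩) m24t_c21_K_ok m24t_c21_le (kT := 0) (by decide +kernel)

noncomputable def m24t_c21_cnt_L : List ℕ := [7, 12, m24_T65_s7_O, 1, 0]

theorem m24t_c21_cnt_P : Prob 24 5 (grp 24 m24_E0) m24t_c21_cnt_EG [m24_g159] [m24_g159] m24t_c21_K m24t_c21_cnt_L 0 0 :=
  Sym.prob m24_hn m24_hk m24t_c21_sym m24t_c21_cnt_EG_ok (grp_cons_le m24_g43_m24_T65 (grp_cons_le m24_g41_m24_T65 (grp_cons_le m24_g44_m24_T65 (grp_cons_le m24_g47_m24_T65 (grp_cons_le m24_g42_m24_T65 (grp_cons_le m24_g38_m24_T65 (grp_cons_le m24_g33_m24_T65 (grp_cons_le m24_g34_m24_T65 (grp_cons_le m24_g35_m24_T65 (grp_cons_le m24_g30_m24_T65 (grp_cons_le m24_g26_m24_T65 (grp_cons_le m24_g27_m24_T65 (grp_cons_le m24_g23_m24_T65 (grp_cons_le m24_g19_m24_T65 (grp_cons_le m24_g20_m24_T65 (grp_cons_le m24_g16_m24_T65 (grp_cons_le m24_g12_m24_T65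 (grp_cons_le m24_g13_m24_T65 (grp_cons_le m24_g9_m24_T65 (grp_cons_le m24_g5_m24_T65 (grp_cons_le m24_g6_m24_T65 (grp_cons_le m24_g1_m24_T65 (grp_cons_le m24_g2_m24_T65 (grp_nil_le _)))))))))))))))))))))))) (Frames.cons m24_T65_s7_F Frames.nil) (okE_cons.2 ⟨m24_g159_ok, okE_nil _⟩) _

noncomputable def m24t_c21_cnt_t : BT := (BT.fix (nat_lit 0x101010101) (BT.dif (nat_lit 3) (nat_lit 0) (BT.fix (nat_lit 65793) (BT.dif (nat_lit 1) (nat_lit 0) (BT.br (nat_lit 0) (nat_lit 0) [nat_lit 1] (BT.kid (nat_lit 0) (nat_lit 1) (BT.img (nat_lit 1) (nat_lit 0) (BT.img (nat_lit 1) (nat_lit 0) (BT.img (nat_lit 1) (nat_lit 0) (BT.img (nat_lit 1) (nat_lit 0) (BT.img (nat_lit 1) (nat_lit 0) (BT.img (nat_lit 1) (nat_lit 0) (BT.img (nat_lit 1) (nat_lit 0) (BT.img (nat_lit 1) (nat_lit 0) (BT.img (nat_lit 1) (nat_lit 0) (BT.img (nat_lit 1) (nat_lit 0) (BT.img (nat_lit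 1) (nat_lit 0) (BT.img (nat_lit 1) (nat_lit 0) (BT.fix (nat_lit 1) (BT.one (nat_lit 0) (nat_lit 0x1070c13071d18211f25292b25) (nat_lit 0x1070c13071d18211f25292b25) [nat_lit 9, nat_lit 1, nat_lit 10, nat_lit 11, nat_lit 12, nat_lit 13, nat_lit 0])))))))))))))) BT.nil))))))

theorem m24t_c21_cnt : Cnt 24 (grp 24 m24_E0) [m24_g159] [m24_g159] 0 0 0 0 15 :=
  BT.sound m24t_c21_cnt_P Known.nil (t := m24t_c21_cnt_t) (d := 0) (by decide +kernel)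

theorem m24t_c21_ge : 15 ≤ Nat.card (grp 24 m24t_c21_K) :=
  Ch.le_card_grp (k := 5) (L := (lab 24 5)) m24_hn m24t_c21_K_ok (c := (Ch.cons (nat_lit 0) [nat_lit 1] Ch.nil)) (by decide +kernel)

theorem m24t_c21_eq : (grp 24 m24_E0) ⊓ Subgroup.centralizer {Net.toPerm 24 m24_g159} = grp 24 m24t_c21_K :=
  cent_eq m24t_c21_sym m24t_c21_cnt m24t_c21_ge

theorem m24t_c21_card : Nat.card ↥((grp 24 m24_E0) ⊓ Subgroup.centralizer {Net.toPerm 24 m24_g159}) = 15 :=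
  card_cent m24t_c21_sym m24t_c21_cnt m24t_c21_ge

theorem m24t_c21_ord : orderOf (Net.toPerm 24 m24_g159) = 15 :=
  orderOf_net m24_hn m24_hk m24_g159_ok (by decide) (ps := [3, 5]) (by set_option linter.unusedSimpArgs false in simp [Nat.primeFactorsList_ofNat]) (by decide +kernel)

theorem m24_le162 : grp 24 m24t_c22_K ≤ grp 24 m24_E0 :=
  grp_le_of_memB m24_hn m24_hk m24_E0_ok m24t_c22_K_ok (ws := [nat_lit 0x252b171d152b0d05100105]) (by decide +kernel)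

theorem m24t_c22_le : grp 24 m24t_c22_K ≤ (grp 24 m24_E0) :=
  (m24_le162.trans m24_T65_s0.le)

theorem m24t_c22_mem : Net.toPerm 24 m24_g161 ∈ (grp 24 m24_E0) :=
  m24t_c22_le (toPerm_mem_grp (E := m24t_c22_K) (List.Mem.head _))

theorem m24t_c22_sym : Sym 24 (grp 24 m24_E0) [m24_g161] m24t_c22_K 0 :=
  Sym.of_lab m24_hn m24_hk (okE_cons.2 ⟨m24_g161_ok, okE_nil _⟩) m24t_c22_K_ok m24t_c22_le (kT := 0) (by decide +kernel)

noncomputable def m24t_c22_cnt_L : List ℕ := [7, 12, m24_T65_s7_O, 1, 0]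

theorem m24t_c22_cnt_P : Prob 24 5 (grp 24 m24_E0) m24t_c22_cnt_EG [m24_g161] [m24_g161] m24t_c22_K m24t_c22_cnt_L 0 0 :=
  Sym.prob m24_hn m24_hk m24t_c22_sym m24t_c22_cnt_EG_ok (grp_cons_le m24_g43_m24_T65 (grp_cons_le m24_g41_m24_T65 (grp_cons_le m24_g44_m24_T65 (grp_cons_le m24_g47_m24_T65 (grp_cons_le m24_g42_m24_T65 (grp_cons_le m24_g38_m24_T65 (grp_cons_le m24_g33_m24_T65 (grp_cons_le m24_g34_m24_T65 (grp_cons_le m24_g35_m24_T65 (grp_cons_le m24_g30_m24_T65 (grp_cons_le m24_g26_m24_T65 (grp_cons_le m24_g27_m24_T65 (grp_cons_le m24_g23_m24_T65 (grp_cons_le m24_g19_m24_T65 (grp_cons_le m24_g20_m24_T65 (grp_cons_le m24_g16_m24_T65 (grp_cons_le m24_g12_m24_T65 (grp_cons_le m24_g13_m24_T65 (grp_cons_le m24_g9_m24_T65 (grp_cons_le m24_g5_m24_T65 (grp_cons_le m24_g6_m24_T65 (grp_cons_le m24_g1_m24_T65 (grp_cons_le m24_g2_m24_T65 (grp_nil_le _))))))))))))))))))))))))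 (Frames.cons m24_T65_s7_F Frames.nil) (okE_cons.2 ⟨m24_g161_ok, okE_nil _⟩) _

noncomputable def m24t_c22_cnt_t : BT := (BT.fix (nat_lit 65793) (BT.dif (nat_lit 3) (nat_lit 0) (BT.br (nat_lit 0) (nat_lit 0) [nat_lit 1] (BT.kid (nat_lit 0) (nat_lit 1) (BT.img (nat_lit 1) (nat_lit 0) (BT.img (nat_lit 1) (nat_lit 0) (BT.img (nat_lit 1) (nat_lit 0) (BT.img (nat_lit 1) (nat_lit 0) (BT.img (nat_lit 1) (nat_lit 0) (BT.img (nat_lit 1) (nat_lit 0) (BT.one (nat_lit 0) (nat_lit 0x103130c1914201b25) (nat_lit 0x103130c1914201b25) [nat_lit 1, nat_lit 0, nat_lit 2, nat_lit 3, nat_lit 4, nat_lit 5, nat_lit 6]))))))) BT.nil))))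

theorem m24t_c22_cnt : Cnt 24 (grp 24 m24_E0) [m24_g161] [m24_g161] 0 0 0 0 21 :=
  BT.sound m24t_c22_cnt_P Known.nil (t := m24t_c22_cnt_t) (d := 0) (by decide +kernel)

theorem m24t_c22_ge : 21 ≤ Nat.card (grp 24 m24t_c22_K) :=
  Ch.le_card_grp (k := 5) (L := (lab 24 5)) m24_hn m24t_c22_K_ok (c := (Ch.cons (nat_lit 0) [nat_lit 1] Ch.nil)) (by decide +kernel)

theorem m24t_c22_eq : (grp 24 m24_E0) ⊓ Subgroup.centralizer {Net.toPerm 24 m24_g161} = grp 24 m24t_c22_K :=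
  cent_eq m24t_c22_sym m24t_c22_cnt m24t_c22_ge

theorem m24t_c22_card : Nat.card ↥((grp 24 m24_E0) ⊓ Subgroup.centralizer {Net.toPerm 24 m24_g161}) = 21 :=
  card_cent m24t_c22_sym m24t_c22_cnt m24t_c22_ge

theorem m24t_c22_ord : orderOf (Net.toPerm 24 m24_g161) = 21 :=
  orderOf_net m24_hn m24_hk m24_g161_ok (by decide) (ps := [3, 7]) (by set_option linter.unusedSimpArgs false in simp [Nat.primeFactorsList_ofNat]) (by decide +kernel)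

theorem m24_le164 : grp 24 m24t_c23_K ≤ grp 24 m24_E0 :=
  grp_le_of_memB m24_hn m24_hk m24_E0_ok m24t_c23_K_ok (ws := [nat_lit 0x292d1e1a1f152b0c14050b0104]) (by decide +kernel)

theorem m24t_c23_le : grp 24 m24t_c23_K ≤ (grp 24 m24_E0) :=
  (m24_le164.trans m24_T65_s0.le)

theorem m24t_c23_mem : Net.toPerm 24 m24_g163 ∈ (grp 24 m24_E0) :=
  m24t_c23_le (toPerm_mem_grp (E := m24t_c23_K) (List.Mem.head _))

theorem m24t_c23_sym : Sym 24 (grp 24 m24_E0) [m24_g163] m24t_c23_K 0 :=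
  Sym.of_lab m24_hn m24_hk (okE_cons.2 ⟨m24_g163_ok, okE_nil _⟩) m24t_c23_K_ok m24t_c23_le (kT := 0) (by decide +kernel)

noncomputable def m24t_c23_cnt_L : List ℕ := [7, 12, m24_T65_s7_O, 1, 0]

theorem m24t_c23_cnt_P : Prob 24 5 (grp 24 m24_E0) m24t_c23_cnt_EG [m24_g163] [m24_g163] m24t_c23_K m24t_c23_cnt_L 0 0 :=
  Sym.prob m24_hn m24_hk m24t_c23_sym m24t_c23_cnt_EG_ok (grp_cons_le m24_g43_m24_T65 (grp_cons_le m24_g41_m24_T65 (grp_cons_le m24_g44_m24_T65 (grp_cons_le m24_g47_m24_T65 (grp_cons_le m24_g42_m24_T65 (grp_cons_le m24_g38_m24_T65 (grp_cons_le m24_g33_m24_T65 (grp_cons_le m24_g34_m24_T65 (grp_cons_le m24_g35_m24_T65 (grp_cons_le m24_g30_m24_T65 (grp_cons_le m24_g26_m24_T65 (grp_cons_le m24_g27_m24_T65 (grp_cons_le m24_g23_m24_T65 (grp_cons_le m24_g19_m24_T65 (grp_cons_le m24_g20_m24_T65 (grp_cons_le m24_g16_m24_T65 (grp_cons_le m24_g12_m24_T65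 (grp_cons_le m24_g13_m24_T65 (grp_cons_le m24_g9_m24_T65 (grp_cons_le m24_g5_m24_T65 (grp_cons_le m24_g6_m24_T65 (grp_cons_le m24_g1_m24_T65 (grp_cons_le m24_g2_m24_T65 (grp_nil_le _)))))))))))))))))))))))) (Frames.cons m24_T65_s7_F Frames.nil) (okE_cons.2 ⟨m24_g163_ok, okE_nil _⟩) _

noncomputable def m24t_c23_cnt_t : BT := (BT.fix (nat_lit 65793) (BT.dif (nat_lit 3) (nat_lit 0) (BT.br (nat_lit 0) (nat_lit 0) [nat_lit 1] (BT.kid (nat_lit 0) (nat_lit 1) (BT.img (nat_lit 1) (nat_lit 0) (BT.img (nat_lit 1) (nat_lit 0) (BT.img (nat_lit 1) (nat_lit 0) (BT.img (nat_lit 1) (nat_lit 0) (BT.img (nat_lit 1) (nat_lit 0) (BT.img (nat_lit 1) (nat_lit 0) (BT.img (nat_lit 1) (nat_lit 0) (BT.one (nat_lit 0) (nat_lit 0x1030c131c242629) (nat_lit 0x1030c131c242629) [nat_lit 2, nat_lit 0, nat_lit 3, nat_lit 4, nat_lit 5, nat_lit 6, nat_lit 7])))))))) BT.nil))))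

theorem m24t_c23_cnt : Cnt 24 (grp 24 m24_E0) [m24_g163] [m24_g163] 0 0 0 0 21 :=
  BT.sound m24t_c23_cnt_P Known.nil (t := m24t_c23_cnt_t) (d := 0) (by decide +kernel)

theorem m24t_c23_ge : 21 ≤ Nat.card (grp 24 m24t_c23_K) :=
  Ch.le_card_grp (k := 5) (L := (lab 24 5)) m24_hn m24t_c23_K_ok (c := (Ch.cons (nat_lit 0) [nat_lit 1] Ch.nil)) (by decide +kernel)

theorem m24t_c23_eq : (grp 24 m24_E0) ⊓ Subgroup.centralizer {Net.toPerm 24 m24_g163} = grp 24 m24t_c23_K :=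
  cent_eq m24t_c23_sym m24t_c23_cnt m24t_c23_ge

theorem m24t_c23_card : Nat.card ↥((grp 24 m24_E0) ⊓ Subgroup.centralizer {Net.toPerm 24 m24_g163}) = 21 :=
  card_cent m24t_c23_sym m24t_c23_cnt m24t_c23_ge

theorem m24t_c23_ord : orderOf (Net.toPerm 24 m24_g163) = 21 :=
  orderOf_net m24_hn m24_hk m24_g163_ok (by decide) (ps := [3, 7]) (by set_option linter.unusedSimpArgs false in simp [Nat.primeFactorsList_ofNat]) (by decide +kernel)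

theorem m24_le166 : grp 24 m24t_c24_K ≤ grp 24 m24_E0 :=
  grp_le_of_memB m24_hn m24_hk m24_E0_ok m24t_c24_K_ok (ws := [nat_lit 0x25271c151d0b120101]) (by decide +kernel)

theorem m24t_c24_le : grp 24 m24t_c24_K ≤ (grp 24 m24_E0) :=
  (m24_le166.trans m24_T65_s0.le)

theorem m24t_c24_mem : Net.toPerm 24 m24_g165 ∈ (grp 24 m24_E0) :=
  m24t_c24_le (toPerm_mem_grp (E := m24t_c24_K) (List.Mem.head _))

theorem m24t_c24_sym : Sym 24 (grp 24 m24_E0) [m24_g165] m24t_c24_K 0 :=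
  Sym.of_lab m24_hn m24_hk (okE_cons.2 ⟨m24_g165_ok, okE_nil _⟩) m24t_c24_K_ok m24t_c24_le (kT := 0) (by decide +kernel)

noncomputable def m24t_c24_cnt_L : List ℕ := [7, 12, m24_T65_s7_O, 1, 0]

theorem m24t_c24_cnt_P : Prob 24 5 (grp 24 m24_E0) m24t_c24_cnt_EG [m24_g165] [m24_g165] m24t_c24_K m24t_c24_cnt_L 0 0 :=
  Sym.prob m24_hn m24_hk m24t_c24_sym m24t_c24_cnt_EG_ok (grp_cons_le m24_g43_m24_T65 (grp_cons_le m24_g41_m24_T65 (grp_cons_le m24_g44_m24_T65 (grp_cons_le m24_g47_m24_T65 (grp_cons_le m24_g42_m24_T65 (grp_cons_le m24_g38_m24_T65 (grp_cons_le m24_g33_m24_T65 (grp_cons_le m24_g34_m24_T65 (grp_cons_le m24_g35_m24_T65 (grp_cons_le m24_g30_m24_T65 (grp_cons_le m24_g26_m24_T65 (grp_cons_le m24_g27_m24_T65 (grp_cons_le m24_g23_m24_T65 (grp_cons_le m24_g19_m24_T65 (grp_cons_le m24_g20_m24_T65 (grp_cons_le m24_g16_m24_T65 (grp_cons_le m24_g12_m24_T65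 (grp_cons_le m24_g13_m24_T65 (grp_cons_le m24_g9_m24_T65 (grp_cons_le m24_g5_m24_T65 (grp_cons_le m24_g6_m24_T65 (grp_cons_le m24_g1_m24_T65 (grp_cons_le m24_g2_m24_T65 (grp_nil_le _)))))))))))))))))))))))) (Frames.cons m24_T65_s7_F Frames.nil) (okE_cons.2 ⟨m24_g165_ok, okE_nil _⟩) _

noncomputable def m24t_c24_cnt_t : BT := (BT.fix (nat_lit 1) (BT.dif (nat_lit 3) (nat_lit 0) (BT.br (nat_lit 0) (nat_lit 0) [nat_lit 1] (BT.kid (nat_lit 0) (nat_lit 1) (BT.img (nat_lit 1) (nat_lit 0) (BT.img (nat_lit 1) (nat_lit 0) (BT.img (nat_lit 1) (nat_lit 0) (BT.img (nat_lit 1) (nat_lit 0) (BT.img (nat_lit 1) (nat_lit 0) (BT.img (nat_lit 1) (nat_lit 0) (BT.img (nat_lit 1) (nat_lit 0) (BT.img (nat_lit 1) (nat_lit 0) (BT.img (nat_lit 1) (nat_lit 0) (BT.one (nat_lit 0) (nat_lit 0x10c13161b13211f2c2d) (nat_lit 0x10c13161b13211f2c2d) [nat_lit 5, nat_lit 0, nat_lit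 6, nat_lit 7, nat_lit 8, nat_lit 9, nat_lit 11])))))))))) BT.nil))))

theorem m24t_c24_cnt : Cnt 24 (grp 24 m24_E0) [m24_g165] [m24_g165] 0 0 0 0 23 :=
  BT.sound m24t_c24_cnt_P Known.nil (t := m24t_c24_cnt_t) (d := 0) (by decide +kernel)

theorem m24t_c24_ge : 23 ≤ Nat.card (grp 24 m24t_c24_K) :=
  Ch.le_card_grp (k := 5) (L := (lab 24 5)) m24_hn m24t_c24_K_ok (c := (Ch.cons (nat_lit 0) [nat_lit 1] Ch.nil)) (by decide +kernel)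

theorem m24t_c24_eq : (grp 24 m24_E0) ⊓ Subgroup.centralizer {Net.toPerm 24 m24_g165} = grp 24 m24t_c24_K :=
  cent_eq m24t_c24_sym m24t_c24_cnt m24t_c24_ge

theorem m24t_c24_card : Nat.card ↥((grp 24 m24_E0) ⊓ Subgroup.centralizer {Net.toPerm 24 m24_g165}) = 23 :=
  card_cent m24t_c24_sym m24t_c24_cnt m24t_c24_ge

theorem m24t_c24_ord : orderOf (Net.toPerm 24 m24_g165) = 23 :=
  orderOf_net m24_hn m24_hk m24_g165_ok (by decide) (ps := [23]) (by set_option linter.unusedSimpArgs false in simp [Nat.primeFactorsList_ofNat]) (by decide +kernel)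

theorem m24_le168 : grp 24 m24t_c25_K ≤ grp 24 m24_E0 :=
  grp_le_of_memB m24_hn m24_hk m24_E0_ok m24t_c25_K_ok (ws := [nat_lit 0x271b1813170b11080209]) (by decide +kernel)

theorem m24t_c25_le : grp 24 m24t_c25_K ≤ (grp 24 m24_E0) :=
  (m24_le168.trans m24_T65_s0.le)

theorem m24t_c25_mem : Net.toPerm 24 m24_g167 ∈ (grp 24 m24_E0) :=
  m24t_c25_le (toPerm_mem_grp (E := m24t_c25_K) (List.Mem.head _))

theorem m24t_c25_sym : Sym 24 (grp 24 m24_E0) [m24_g167] m24t_c25_K 0 :=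
  Sym.of_lab m24_hn m24_hk (okE_cons.2 ⟨m24_g167_ok, okE_nil _⟩) m24t_c25_K_ok m24t_c25_le (kT := 0) (by decide +kernel)

noncomputable def m24t_c25_cnt_L : List ℕ := [7, 12, m24_T65_s7_O, 1, 0]

theorem m24t_c25_cnt_P : Prob 24 5 (grp 24 m24_E0) m24t_c25_cnt_EG [m24_g167] [m24_g167] m24t_c25_K m24t_c25_cnt_L 0 0 :=
  Sym.prob m24_hn m24_hk m24t_c25_sym m24t_c25_cnt_EG_ok (grp_cons_le m24_g43_m24_T65 (grp_cons_le m24_g41_m24_T65 (grp_cons_le m24_g44_m24_T65 (grp_cons_le m24_g47_m24_T65 (grp_cons_le m24_g42_m24_T65 (grp_cons_le m24_g38_m24_T65 (grp_cons_le m24_g33_m24_T65 (grp_cons_le m24_g34_m24_T65 (grp_cons_le m24_g35_m24_T65 (grp_cons_le m24_g30_m24_T65 (grp_cons_le m24_g26_m24_T65 (grp_cons_le m24_g27_m24_T65 (grp_cons_le m24_g23_m24_T65 (grp_cons_le m24_g19_m24_T65 (grp_cons_le m24_g20_m24_T65 (grp_cons_le m24_g16_m24_T65 (grp_cons_le m24_g12_m24_T65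 (grp_cons_le m24_g13_m24_T65 (grp_cons_le m24_g9_m24_T65 (grp_cons_le m24_g5_m24_T65 (grp_cons_le m24_g6_m24_T65 (grp_cons_le m24_g1_m24_T65 (grp_cons_le m24_g2_m24_T65 (grp_nil_le _)))))))))))))))))))))))) (Frames.cons m24_T65_s7_F Frames.nil) (okE_cons.2 ⟨m24_g167_ok, okE_nil _⟩) _

noncomputable def m24t_c25_cnt_t : BT := (BT.fix (nat_lit 1) (BT.dif (nat_lit 3) (nat_lit 0) (BT.br (nat_lit 0) (nat_lit 0) [nat_lit 1] (BT.kid (nat_lit 0) (nat_lit 1) (BT.img (nat_lit 1) (nat_lit 0) (BT.img (nat_lit 1) (nat_lit 0) (BT.img (nat_lit 1) (nat_lit 0) (BT.img (nat_lit 1) (nat_lit 0) (BT.img (nat_lit 1) (nat_lit 0) (BT.one (nat_lit 0) (nat_lit 0x513151e21192c2d) (nat_lit 0x513151e21192c2d) [nat_lit 1, nat_lit 0, nat_lit 2, nat_lit 3, nat_lit 4, nat_lit 5, nat_lit 7])))))) BT.nil))))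

theorem m24t_c25_cnt : Cnt 24 (grp 24 m24_E0) [m24_g167] [m24_g167] 0 0 0 0 23 :=
  BT.sound m24t_c25_cnt_P Known.nil (t := m24t_c25_cnt_t) (d := 0) (by decide +kernel)

theorem m24t_c25_ge : 23 ≤ Nat.card (grp 24 m24t_c25_K) :=
  Ch.le_card_grp (k := 5) (L := (lab 24 5)) m24_hn m24t_c25_K_ok (c := (Ch.cons (nat_lit 0) [nat_lit 1] Ch.nil)) (by decide +kernel)

theorem m24t_c25_eq : (grp 24 m24_E0) ⊓ Subgroup.centralizer {Net.toPerm 24 m24_g167} = grp 24 m24t_c25_K :=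
  cent_eq m24t_c25_sym m24t_c25_cnt m24t_c25_ge

theorem m24t_c25_card : Nat.card ↥((grp 24 m24_E0) ⊓ Subgroup.centralizer {Net.toPerm 24 m24_g167}) = 23 :=
  card_cent m24t_c25_sym m24t_c25_cnt m24t_c25_ge

theorem m24t_c25_ord : orderOf (Net.toPerm 24 m24_g167) = 23 :=
  orderOf_net m24_hn m24_hk m24_g167_ok (by decide) (ps := [23]) (by set_option linter.unusedSimpArgs false in simp [Nat.primeFactorsList_ofNat]) (by decide +kernel)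

noncomputable def m24t_xs : List Net := [Net.nil, m24_g66, m24_g81, m24_g91, m24_g97, m24_g102, m24_g109, m24_g116, m24_g121, m24_g125, m24_g129, m24_g133, m24_g137, m24_g140, m24_g144, m24_g147, m24_g149, m24_g151, m24_g153, m24_g155, m24_g157, m24_g159, m24_g161, m24_g163, m24_g165, m24_g167]

noncomputable def m24t_cs : List ℕ := [244823040, 21504, 7680, 1080, 504, 384, 128, 96, 60, 24, 24, 42, 42, 16, 20, 11, 12, 12, 14, 14, 15, 15, 21, 21, 23, 23]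

noncomputable def m24t_os : List ℕ := [1, 2, 2, 3, 3, 4, 4, 4, 5, 6, 6, 7, 7, 8, 10, 11, 12, 12, 14, 14, 15, 15, 21, 21, 23, 23]

theorem m24t_reps : Reps 24 (grp 24 m24_E0) m24t_xs m24t_cs m24t_os :=
  (Reps.cons rfl (one_mem _) (card_cent_nil m24_card0) orderOf_one (Reps.cons m24_g66_ok m24t_c1_mem m24t_c1_card m24t_c1_ord (Reps.cons m24_g81_ok m24t_c2_mem m24t_c2_card m24t_c2_ord (Reps.cons m24_g91_ok m24t_c3_mem m24t_c3_card m24t_c3_ord (Reps.cons m24_g97_ok m24t_c4_mem m24t_c4_card m24t_c4_ord (Reps.cons m24_g102_ok m24t_c5_mem m24t_c5_card m24t_c5_ord (Reps.cons m24_g109_ok m24t_c6_mem m24t_c6_card m24t_c6_ord (Reps.cons m24_g116_ok m24t_c7_mem m24t_c7_card m24t_c7_ord (Reps.cons m24_g121_ok m24t_c8_mem m24t_c8_card m24t_c8_ord (Reps.cons m24_g125_ok m24t_c9_mem m24t_c9_card m24t_c9_ord (Reps.cons m24_g129_ok m24t_c10_mem m24t_c10_card m24t_c10_ord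 (Reps.cons m24_g133_ok m24t_c11_mem m24t_c11_card m24t_c11_ord (Reps.cons m24_g137_ok m24t_c12_mem m24t_c12_card m24t_c12_ord (Reps.cons m24_g140_ok m24t_c13_mem m24t_c13_card m24t_c13_ord (Reps.cons m24_g144_ok m24t_c14_mem m24t_c14_card m24t_c14_ord (Reps.cons m24_g147_ok m24t_c15_mem m24t_c15_card m24t_c15_ord (Reps.cons m24_g149_ok m24t_c16_mem m24t_c16_card m24t_c16_ord (Reps.cons m24_g151_ok m24t_c17_mem m24t_c17_card m24t_c17_ord (Reps.cons m24_g153_ok m24t_c18_mem m24t_c18_card m24t_c18_ord (Reps.cons m24_g155_ok m24t_c19_mem m24t_c19_card m24t_c19_ord (Reps.cons m24_g157_ok m24t_c20_mem m24t_c20_card m24t_c20_ord (Reps.cons m24_g159_ok m24t_c21_mem m24t_c21_card m24t_c21_ord (Reps.cons m24_g161_ok m24t_c22_mem m24t_c22_card m24t_c22_ord (Reps.cons m24_g163_ok m24t_c23_mem m24t_c23_card m24t_c23_ord (Reps.cons m24_g165_ok m24t_c24_mem m24t_c24_card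 m24t_c24_ord (Reps.cons m24_g167_ok m24t_c25_mem m24t_c25_card m24t_c25_ord Reps.nil))))))))))))))))))))))))))

noncomputable def m24t_nc12_11_cnt_L : List ℕ := [6, 8, m24_T65_s6_O, 0, 0]

theorem m24t_nc12_11_cnt_P : Prob 24 5 (grp 24 m24_E0) m24t_nc12_11_cnt_EG [m24_g137] [m24_g133] m24t_c11_K m24t_nc12_11_cnt_L 0 0 :=
  Sym.prob m24_hn m24_hk m24t_c11_sym m24t_nc12_11_cnt_EG_ok (grp_cons_le m24_g38_m24_T65 (grp_cons_le m24_g33_m24_T65 (grp_cons_le m24_g34_m24_T65 (grp_cons_le m24_g35_m24_T65 (grp_cons_le m24_g43_m24_T65 (grp_cons_le m24_g41_m24_T65 (grp_cons_le m24_g44_m24_T65 (grp_cons_le m24_g47_m24_T65 (grp_cons_le m24_g42_m24_T65 (grp_cons_le m24_g30_m24_T65 (grp_cons_le m24_g26_m24_T65 (grp_cons_le m24_g27_m24_T65 (grp_cons_le m24_g23_m24_T65 (grp_cons_le m24_g19_m24_T65 (grp_cons_le m24_g20_m24_T65 (grp_cons_le m24_g16_m24_T65 (grp_cons_le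 m24_g12_m24_T65 (grp_cons_le m24_g13_m24_T65 (grp_cons_le m24_g9_m24_T65 (grp_cons_le m24_g5_m24_T65 (grp_cons_le m24_g6_m24_T65 (grp_cons_le m24_g1_m24_T65 (grp_cons_le m24_g2_m24_T65 (grp_nil_le _)))))))))))))))))))))))) (Frames.cons m24_T65_s6_F Frames.nil) (okE_cons.2 ⟨m24_g137_ok, okE_nil _⟩) _

noncomputable def m24t_nc12_11_cnt_t : BT := (BT.fix (nat_lit 1) (BT.dif (nat_lit 3) (nat_lit 0) (BT.br (nat_lit 0) (nat_lit 0) [nat_lit 3, nat_lit 5] (BT.dead (nat_lit 0) (BT.img (nat_lit 1) (nat_lit 0) (BT.img (nat_lit 1) (nat_lit 0) (BT.img (nat_lit 1) (nat_lit 0) (BT.img (nat_lit 1) (nat_lit 0) (BT.img (nat_lit 1) (nat_lit 0) (BT.frm (nat_lit 0) (nat_lit 0x2130f1d0f1f2522) (nat_lit 0x214021d181f1f2528) [nat_lit 0, nat_lit 1, nat_lit 2, nat_lit 3, nat_lit 4, nat_lit 5] (BT.pln (nat_lit 0) (nat_lit 6) (BT.and (nat_lit 0) (nat_lit 9) (BT.cnt (nat_lit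 0)))))))))) BT.nil))))

theorem m24t_nc12_11_cnt : Cnt 24 (grp 24 m24_E0) [m24_g137] [m24_g133] 0 0 0 0 0 :=
  BT.sound m24t_nc12_11_cnt_P Known.nil (t := m24t_nc12_11_cnt_t) (d := 0) (by decide +kernel)

theorem m24t_nc12_11 : ¬ CjIn (grp 24 m24_E0) (Net.toPerm 24 m24_g137) (Net.toPerm 24 m24_g133) :=
  not_cjIn m24t_nc12_11_cnt

noncomputable def m24t_nc19_18_cnt_L : List ℕ := [5, 6, m24_T65_s5_O, 0, 0]

theorem m24t_nc19_18_cnt_P : Prob 24 5 (grp 24 m24_E0) m24t_nc19_18_cnt_EG [m24_g155] [m24_g153] m24t_c18_K m24t_nc19_18_cnt_L 0 0 :=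
  Sym.prob m24_hn m24_hk m24t_c18_sym m24t_nc19_18_cnt_EG_ok (grp_cons_le m24_g30_m24_T65 (grp_cons_le m24_g26_m24_T65 (grp_cons_le m24_g27_m24_T65 (grp_cons_le m24_g38_m24_T65 (grp_cons_le m24_g33_m24_T65 (grp_cons_le m24_g34_m24_T65 (grp_cons_le m24_g35_m24_T65 (grp_cons_le m24_g43_m24_T65 (grp_cons_le m24_g41_m24_T65 (grp_cons_le m24_g44_m24_T65 (grp_cons_le m24_g47_m24_T65 (grp_cons_le m24_g42_m24_T65 (grp_cons_le m24_g23_m24_T65 (grp_cons_le m24_g19_m24_T65 (grp_cons_le m24_g20_m24_T65 (grp_cons_le m24_g16_m24_T65 (grp_cons_le m24_g12_m24_T65 (grp_cons_le m24_g13_m24_T65 (grp_cons_le m24_g9_m24_T65 (grp_cons_le m24_g5_m24_T65 (grp_cons_le m24_g6_m24_T65 (grp_cons_le m24_g1_m24_T65 (grp_cons_le m24_g2_m24_T65 (grp_nil_le _)))))))))))))))))))))))) (Frames.cons m24_T65_s5_F Frames.nil) (okE_cons.2 ⟨m24_g155_ok, okE_nil _⟩) _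

noncomputable def m24t_nc19_18_cnt_t : BT := (BT.fix (nat_lit 0x1010101010101) (BT.dif (nat_lit 3) (nat_lit 0) (BT.fix (nat_lit 257) (BT.dif (nat_lit 1) (nat_lit 0) (BT.br (nat_lit 0) (nat_lit 0) [nat_lit 1] (BT.dead (nat_lit 0) (BT.img (nat_lit 1) (nat_lit 0) (BT.img (nat_lit 1) (nat_lit 0) (BT.img (nat_lit 1) (nat_lit 0) (BT.fix (nat_lit 1) (BT.frm (nat_lit 0) (nat_lit 0x103191e211f2c) (nat_lit 0x11c1f1e2c) [nat_lit 1, nat_lit 2, nat_lit 3, nat_lit 4, nat_lit 0] (BT.pln (nat_lit 0) (nat_lit 5) (BT.img (nat_lit 1) (nat_lit 3) (BT.img (nat_lit 1) (nat_lit 0) (BT.img (nat_lit 1) (nat_lit 0) (BT.img (nat_lit 1) (nat_lit 0) (BT.img (nat_lit 1) (nat_lit 0) (BT.and (nat_lit 5) (nat_lit 0) (BT.cnt (nat_lit 0)))))))))))))) BT.nil))))))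

theorem m24t_nc19_18_cnt : Cnt 24 (grp 24 m24_E0) [m24_g155] [m24_g153] 0 0 0 0 0 :=
  BT.sound m24t_nc19_18_cnt_P Known.nil (t := m24t_nc19_18_cnt_t) (d := 0) (by decide +kernel)

theorem m24t_nc19_18 : ¬ CjIn (grp 24 m24_E0) (Net.toPerm 24 m24_g155) (Net.toPerm 24 m24_g153) :=
  not_cjIn m24t_nc19_18_cnt

noncomputable def m24t_nc21_20_cnt_L : List ℕ := [5, 6, m24_T65_s5_O, 0, 0]

theorem m24t_nc21_20_cnt_P : Prob 24 5 (grp 24 m24_E0) m24t_nc21_20_cnt_EG [m24_g159] [m24_g157] m24t_c20_K m24t_nc21_20_cnt_L 0 0 :=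
  Sym.prob m24_hn m24_hk m24t_c20_sym m24t_nc21_20_cnt_EG_ok (grp_cons_le m24_g30_m24_T65 (grp_cons_le m24_g26_m24_T65 (grp_cons_le m24_g27_m24_T65 (grp_cons_le m24_g38_m24_T65 (grp_cons_le m24_g33_m24_T65 (grp_cons_le m24_g34_m24_T65 (grp_cons_le m24_g35_m24_T65 (grp_cons_le m24_g43_m24_T65 (grp_cons_le m24_g41_m24_T65 (grp_cons_le m24_g44_m24_T65 (grp_cons_le m24_g47_m24_T65 (grp_cons_le m24_g42_m24_T65 (grp_cons_le m24_g23_m24_T65 (grp_cons_le m24_g19_m24_T65 (grp_cons_le m24_g20_m24_T65 (grp_cons_le m24_g16_m24_T65 (grp_cons_le m24_g12_m24_T65 (grp_cons_le m24_g13_m24_T65 (grp_cons_le m24_g9_m24_T65 (grp_cons_le m24_g5_m24_T65 (grp_cons_le m24_g6_m24_T65 (grp_cons_le m24_g1_m24_T65 (grp_cons_le m24_g2_m24_T65 (grp_nil_le _)))))))))))))))))))))))) (Frames.cons m24_T65_s5_F Frames.nil) (okE_cons.2 ⟨m24_g159_ok, okE_nil _⟩) _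

noncomputable def m24t_nc21_20_cnt_t : BT := (BT.fix (nat_lit 0x101010101) (BT.dif (nat_lit 3) (nat_lit 0) (BT.fix (nat_lit 65793) (BT.dif (nat_lit 1) (nat_lit 0) (BT.br (nat_lit 0) (nat_lit 0) [nat_lit 1] (BT.dead (nat_lit 0) (BT.img (nat_lit 1) (nat_lit 0) (BT.img (nat_lit 1) (nat_lit 0) (BT.img (nat_lit 1) (nat_lit 0) (BT.fix (nat_lit 1) (BT.frm (nat_lit 0) (nat_lit 0x1151d06211f25292b25) (nat_lit 0x1903211925292b25) [nat_lit 1, nat_lit 2, nat_lit 3, nat_lit 4, nat_lit 0] (BT.pln (nat_lit 0) (nat_lit 5) (BT.img (nat_lit 1) (nat_lit 3) (BT.img (nat_lit 1) (nat_lit 0) (BT.img (nat_lit 1) (nat_lit 0) (BT.and (nat_lit 3) (nat_lit 0) (BT.cnt (nat_lit 0)))))))))))) BT.nil))))))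

theorem m24t_nc21_20_cnt : Cnt 24 (grp 24 m24_E0) [m24_g159] [m24_g157] 0 0 0 0 0 :=
  BT.sound m24t_nc21_20_cnt_P Known.nil (t := m24t_nc21_20_cnt_t) (d := 0) (by decide +kernel)

theorem m24t_nc21_20 : ¬ CjIn (grp 24 m24_E0) (Net.toPerm 24 m24_g159) (Net.toPerm 24 m24_g157) :=
  not_cjIn m24t_nc21_20_cnt

noncomputable def m24t_nc23_22_cnt_L : List ℕ := [5, 6, m24_T65_s5_O, 0, 0]

theorem m24t_nc23_22_cnt_P : Prob 24 5 (grp 24 m24_E0) m24t_nc23_22_cnt_EG [m24_g163] [m24_g161] m24t_c22_K m24t_nc23_22_cnt_L 0 0 :=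
  Sym.prob m24_hn m24_hk m24t_c22_sym m24t_nc23_22_cnt_EG_ok (grp_cons_le m24_g30_m24_T65 (grp_cons_le m24_g26_m24_T65 (grp_cons_le m24_g27_m24_T65 (grp_cons_le m24_g38_m24_T65 (grp_cons_le m24_g33_m24_T65 (grp_cons_le m24_g34_m24_T65 (grp_cons_le m24_g35_m24_T65 (grp_cons_le m24_g43_m24_T65 (grp_cons_le m24_g41_m24_T65 (grp_cons_le m24_g44_m24_T65 (grp_cons_le m24_g47_m24_T65 (grp_cons_le m24_g42_m24_T65 (grp_cons_le m24_g23_m24_T65 (grp_cons_le m24_g19_m24_T65 (grp_cons_le m24_g20_m24_T65 (grp_cons_le m24_g16_m24_T65 (grp_cons_le m24_g12_m24_T65 (grp_cons_le m24_g13_m24_T65 (grp_cons_le m24_g9_m24_T65 (grp_cons_le m24_g5_m24_T65 (grp_cons_le m24_g6_m24_T65 (grp_cons_le m24_g1_m24_T65 (grp_cons_le m24_g2_m24_T65 (grp_nil_le _)))))))))))))))))))))))) (Frames.cons m24_T65_s5_F Frames.nil) (okE_cons.2 ⟨m24_g163_ok, okE_nil _⟩) _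

noncomputable def m24t_nc23_22_cnt_t : BT := (BT.fix (nat_lit 65793) (BT.dif (nat_lit 3) (nat_lit 0) (BT.br (nat_lit 0) (nat_lit 0) [nat_lit 1] (BT.dead (nat_lit 0) (BT.img (nat_lit 1) (nat_lit 0) (BT.img (nat_lit 1) (nat_lit 0) (BT.img (nat_lit 1) (nat_lit 0) (BT.img (nat_lit 1) (nat_lit 0) (BT.frm (nat_lit 0) (nat_lit 0x11c242629) (nat_lit 0x1081902201b25) [nat_lit 0, nat_lit 1, nat_lit 2, nat_lit 3, nat_lit 4] (BT.pln (nat_lit 0) (nat_lit 5) (BT.img (nat_lit 1) (nat_lit 2) (BT.img (nat_lit 1) (nat_lit 0) (BT.and (nat_lit 2) (nat_lit 0) (BT.cnt (nat_lit 0))))))))))) BT.nil))))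

theorem m24t_nc23_22_cnt : Cnt 24 (grp 24 m24_E0) [m24_g163] [m24_g161] 0 0 0 0 0 :=
  BT.sound m24t_nc23_22_cnt_P Known.nil (t := m24t_nc23_22_cnt_t) (d := 0) (by decide +kernel)

theorem m24t_nc23_22 : ¬ CjIn (grp 24 m24_E0) (Net.toPerm 24 m24_g163) (Net.toPerm 24 m24_g161) :=
  not_cjIn m24t_nc23_22_cnt

noncomputable def m24t_nc25_24_cnt_L : List ℕ := [5, 6, m24_T65_s5_O, 0, 0]

theorem m24t_nc25_24_cnt_P : Prob 24 5 (grp 24 m24_E0) m24t_nc25_24_cnt_EG [m24_g167] [m24_g165] m24t_c24_K m24t_nc25_24_cnt_L 0 0 :=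
  Sym.prob m24_hn m24_hk m24t_c24_sym m24t_nc25_24_cnt_EG_ok (grp_cons_le m24_g30_m24_T65 (grp_cons_le m24_g26_m24_T65 (grp_cons_le m24_g27_m24_T65 (grp_cons_le m24_g38_m24_T65 (grp_cons_le m24_g33_m24_T65 (grp_cons_le m24_g34_m24_T65 (grp_cons_le m24_g35_m24_T65 (grp_cons_le m24_g43_m24_T65 (grp_cons_le m24_g41_m24_T65 (grp_cons_le m24_g44_m24_T65 (grp_cons_le m24_g47_m24_T65 (grp_cons_le m24_g42_m24_T65 (grp_cons_le m24_g23_m24_T65 (grp_cons_le m24_g19_m24_T65 (grp_cons_le m24_g20_m24_T65 (grp_cons_le m24_g16_m24_T65 (grp_cons_le m24_g12_m24_T65 (grp_cons_le m24_g13_m24_T65 (grp_cons_le m24_g9_m24_T65 (grp_cons_le m24_g5_m24_T65 (grp_cons_le m24_g6_m24_T65 (grp_cons_le m24_g1_m24_T65 (grp_cons_le m24_g2_m24_T65 (grp_nil_le _)))))))))))))))))))))))) (Frames.cons m24_T65_s5_F Frames.nil) (okE_cons.2 ⟨m24_g167_ok, okE_nil _⟩) _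

noncomputable def m24t_nc25_24_cnt_t : BT := (BT.fix (nat_lit 1) (BT.dif (nat_lit 3) (nat_lit 0) (BT.br (nat_lit 0) (nat_lit 0) [nat_lit 1] (BT.dead (nat_lit 0) (BT.img (nat_lit 1) (nat_lit 0) (BT.img (nat_lit 1) (nat_lit 0) (BT.img (nat_lit 1) (nat_lit 0) (BT.frm (nat_lit 0) (nat_lit 0x1031e21192c2d) (nat_lit 0x1041b01211f2c2d) [nat_lit 0, nat_lit 1, nat_lit 2, nat_lit 3, nat_lit 5] (BT.pln (nat_lit 0) (nat_lit 5) (BT.img (nat_lit 1) (nat_lit 2) (BT.img (nat_lit 1) (nat_lit 0) (BT.and (nat_lit 2) (nat_lit 0) (BT.cnt (nat_lit 0)))))))))) BT.nil))))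

theorem m24t_nc25_24_cnt : Cnt 24 (grp 24 m24_E0) [m24_g167] [m24_g165] 0 0 0 0 0 :=
  BT.sound m24t_nc25_24_cnt_P Known.nil (t := m24t_nc25_24_cnt_t) (d := 0) (by decide +kernel)

theorem m24t_nc25_24 : ¬ CjIn (grp 24 m24_E0) (Net.toPerm 24 m24_g167) (Net.toPerm 24 m24_g165) :=
  not_cjIn m24t_nc25_24_cnt

theorem m24t_exc : Exc 24 (grp 24 m24_E0) m24t_xs [25024, 23022, 21020, 19018, 12011] :=
  (Exc.cons 25 24 (by decide) m24t_nc25_24 (Exc.cons 23 22 (by decide) m24t_nc23_22 (Exc.cons 21 20 (by decide) m24t_nc21_20 (Exc.cons 19 18 (by decide) m24t_nc19_18 (Exc.cons 12 11 (by decide) m24t_nc12_11 Exc.nil)))))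

theorem m24t : Table 24 (grp 24 m24_E0) m24t_xs m24t_cs m24t_os :=
  Reps.table (D := 3) m24_hn m24_hk m24t_reps m24t_exc m24_card0 (by decide +kernel)

end Cfsg.Agent.H49
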