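import Cfsg.Agent.H49.M2TmA

/-! The triality tensor on the lattice. -/

set_option autoImplicit false
set_option maxRecDepth 200000

namespace Cfsg.Agent.H49.Tm

open Cfsg Subgroup Cfsg.Agent.H42 Cfsg.Agent.H48 Cfsg.Agent.H48.Rec Cfsg.Agent.H48.M2
open Cfsg.Agent.H74.Mon (iPhi iBT rp repL rep_spec dec_zt sM norm_cm_zt dot_cm)

theorem perm_chk : allB (fun p => tb oct0 p || force (fld 120 PP p) fun g => inM g &&
    permB (permMat g) g && rlB (permMat g) (fld 8 GP p) && Nat.beq (app g 4) p &&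
    allB (fun i => !tb oct0 i || Nat.beq (app g i) i) 24 && Nat.beq (Nat.mod (fld 8 GP p) 16) 0 &&
    (!Nat.beq (fld 8 GP p) 0 || Nat.beq p 4)) 24 = true := by decide +kernel

end Cfsg.Agent.H49.Tm
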