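import Cfsg.Agent.H49.M2TmA

/-! The triality tensor on the lattice. -/

set_option autoImplicit false
set_option maxRecDepth 200000

namespace Cfsg.Agent.H49.Tm

open Cfsg Subgroup Cfsg.Agent.H42 Cfsg.Agent.H48 Cfsg.Agent.H48.Rec Cfsg.Agent.H48.M2
open Cfsg.Agent.H74.Mon (iPhi iBT rp repL rep_spec dec_zt sM norm_cm_zt dot_cm)

theorem rp_chk : allB (fun a => H49.forceL (unp (fld 120 RP a)) (fun l => H48.memL l &&
    Nat.beq (kapL l) (k8 a) && decide (ldot l l ≤ 64) && (decide (ldot l l = 32) == tb Q3 a)) &&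
    H49.forceL (repL a) fun l => dvdB 32 (ldot l l) == !tb Q1 a) 256 = true := by decide +kernel

end Cfsg.Agent.H49.Tm
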