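import Cfsg.Agent.H49.M2TmB
import Cfsg.Agent.H49.M2TmC
import Cfsg.Agent.H49.M2TmD

/-! The triality tensor on the lattice. -/

set_option autoImplicit false
set_option maxRecDepth 200000

namespace Cfsg.Agent.H49.Tm

open Cfsg Subgroup Cfsg.Agent.H42 Cfsg.Agent.H48 Cfsg.Agent.H48.Rec Cfsg.Agent.H48.M2
open Cfsg.Agent.H74.Mon (iPhi iBT rp repL rep_spec dec_zt sM norm_cm_zt dot_cm)

/-- coordinates on the inverted classes -/
noncomputable def al (n : Lam) : V8 := bt (code 8 PA (kap n))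

/-- coordinates on the fixed classes -/
noncomputable def be (v : Lam) : V8 := bt (code 8 iPhi (kap v))

theorem k8_chk {m : ℕ} (h : m < 256) : code 8 PA (k8 m) = m ∧ code 8 iPhi (k8 m) = 0 ∧
    code 8 iPhi (phi 8 iBT m) = m := by
  have : allB (fun m => force (k8 m) fun k => Nat.beq (code 8 PA k) m && Nat.beq (code 8 iPhi k) 0 &&
    Nat.beq (code 8 iPhi (phi 8 iBT m)) m) 256 = true := by decide +kernel
  simpa only [force_eq, Bool.and_eq_true, beq_iff, and_assoc] using of_allB this h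

theorem mem8 {n : Lam} : n ∈ W8 ↔ ∃ m < 256, kap n = k8 m := by rw [W8_eq]; rfl

theorem kap_sub (v w : Lam) : kap (v - w) = kap v ^^^ kap w := by
  rw [← cong_iff_kap.1 (cong_add_sub v w), kap_add]

theorem dec {v : Lam} (hv : H49.Fix zt v) : ∃ n ∈ W8, 32 ∣ sqNorm n.1 ∧
    (∀ b, H49.Fix zt b → 16 ∣ dotInt n.1 b.1) ∧ cong v (rp (code 8 iPhi (kap v)) + n) :=
  let ⟨w, c⟩ := dec_zt hv
  ⟨_, ⟨w, cong_add_sub _ _⟩, norm_cm_zt w, fun _ hb => dot_cm H49.zt_sq w hb, c⟩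

/-- `x` acts on the fixed classes as the tensor with first argument `g` -/
def Rl (x : Co0) (g : ℕ) : Prop := ∀ v, H49.Fix zt v →
  kap (x • v) ^^^ kap v = k8 (tN g (code 8 iPhi (kap v)))

theorem k8_xor (a b : ℕ) : k8 (a ^^^ b) = k8 a ^^^ k8 b := xorC_xor _ _ _ _

theorem Rl.mul {x y : Co0} {g g' : ℕ} (hx : M2.X0 x) (a : Rl x g) (b : Rl y g') :
    Rl (x * y) (g ^^^ g') := fun v hv => by
  have h1 : y • v - v ∈ W8 := mem8.2 ⟨_, tN_lt _ _, (kap_sub _ _).trans (b v hv)⟩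
  have h2 := cong_iff_kap.1 (hx.2 _ h1)
  rw [smul_sub, kap_sub, kap_sub, b v hv] at h2
  rw [tN_left, k8_xor, ← a v hv, h2, mul_smul]
  refine Nat.eq_of_testBit_eq fun j => ?_
  simp only [Nat.testBit_xor]
  cases (kap (x • y • v)).testBit j <;> cases (kap (x • v)).testBit j <;>
    cases (kap v).testBit j <;> rfl

theorem rl_of {x : Co0} {M : List (List ℤ)} {g : ℕ} (hx : M2.X0 x) (hM : IsMat x M)
    (h : rlB M g = true) : Rl x g := fun v hv => by
  obtain ⟨n, hn, -, -, c⟩ := dec hv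
  have hm := code_lt 8 iPhi (kap v)
  generalize code 8 iPhi (kap v) = m at c hm ⊢
  have xl : XL fun v => kap (x • v) ^^^ kap v := fun v w => by
    simp only [smul_add, kap_add]; ac_rfl
  have lt : ∀ {i}, i < 8 → 2 ^ i < 256 := fun hi =>
    Nat.pow_lt_pow_right (a := 2) (n := 8) one_lt_two hi
  have c1 : cong (sumB (fun j => rp (2 ^ j)) m 8) (rp m) := cong_iff_kap.2 (by
    rw [xl_kap.sumB, (rep_spec hm).2.1]
    refine xorC_congr _ fun i hi => ?_
    rw [(rep_spec (lt hi)).2.1]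
    revert i; decide +kernel)
  have e := xl.cong (((c1.add (cong.refl n)).trans c.symm))
  refine e.trans ((xl _ _).trans ?_)
  beta_reduce
  rw [← cong_iff_kap.1 (hx.2 n hn), Nat.xor_self, Nat.xor_zero, tN, k8, xorC_comp]
  refine (xl.sumB _ _ _).trans (xorC_congr _ fun i hi => ?_)
  have := of_allB h hi
  rw [H49.forceL_eq, beq_iff] at this
  rw [rp, hM.kap (rep_spec (lt hi)).1, kap_lamD (rep_spec (lt hi)).1]
  exact this

theorem Rl.uniq {x : Co0} {g g' : ℕ} (hg : g < 256) (hg' : g' < 256) (a : Rl x g) (b : Rl x g') :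
    g = g' := by
  have c : allB (fun g => Nat.beq g 0 || anyB (fun j => !Nat.beq (tN g (2 ^ j)) 0) 8) 256 = true := by
    decide +kernel
  have := of_allB c (xl hg hg')
  simp only [Bool.or_eq_true, beq_iff, anyB_iff, Bool.not_eq_true', beq_false_iff] at this
  refine Nat.eq_of_xor_eq_zero (this.resolve_right fun ⟨j, hj, e⟩ => e ?_)
  have lt : 2 ^ j < 256 := Nat.pow_lt_pow_right (a := 2) (n := 8) one_lt_two hj
  have h1 := (a _ (rep_spec lt).2.2).symm.trans (b _ (rep_spec lt).2.2)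
  rw [(rep_spec lt).2.1, (k8_chk lt).2.2] at h1
  have h2 := congrArg (code 8 PA) h1
  rw [(k8_chk (tN_lt _ _)).1, (k8_chk (tN_lt _ _)).1] at h2
  rw [tN_left, h2, Nat.xor_self]

theorem x0_mul {x y : Co0} (a : M2.X0 x) (b : M2.X0 y) : M2.X0 (x * y) :=
  ⟨by rw [mul_assoc, b.1, ← mul_assoc, a.1, mul_assoc], fun n hn => by
    rw [mul_smul]; exact (a.2 n hn).trans ((b.2 n hn).smul x)⟩

theorem x0_center {x : Co0} (h : x ∈ center Co0) : M2.X0 x :=
  ⟨(mem_center_iff.1 h zt).symm, fun n _ => cong_smul_of_center h n⟩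

theorem rl_zero {x : Co0} (h : ∀ v, H49.Fix zt v → cong v (x • v)) : Rl x 0 := fun v hv => by
  rw [← cong_iff_kap.1 (h v hv), Nat.xor_self, tN, xorC_zero']
  have : ∀ m < 256, k8 (xorC (fld 8 0) m 8) = 0 := by decide +kernel
  exact (this _ (code_lt 8 _ _)).symm

theorem cw_iff {c : ℕ} : cw c = true ↔
    ∀ i ∈ toSet oct0, ∀ j ∈ toSet oct0, (i ∈ toSet c ↔ j ∈ toSet c) := by
  simp only [cw, Bool.or_eq_true, beq_iff, mem_toSet]
  have lt : ∀ j, oct0.testBit j = true → j < 24 := fun j e => by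
    by_contra hj
    rw [Nat.testBit_lt_two_pow ((show oct0 < 2 ^ 24 by decide).trans_le
      (Nat.pow_le_pow_right two_pos (not_lt.1 hj)))] at e
    exact Bool.false_ne_true e
  constructor
  · rintro (e | e) i hi j hj <;>
    · have a := congrArg (Nat.testBit · (idx i)) e
      have b := congrArg (Nat.testBit · (idx j)) e
      change (c &&& oct0).testBit _ = _ at a b
      simp only [Nat.testBit_and, hi, hj, Bool.and_true, Nat.zero_testBit] at a b
      rw [a, b]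
  · intro h
    have k : ∀ j, oct0.testBit j = true → c.testBit j = c.testBit 0 := fun j e => by
      have := h (H42.pt j) (by rwa [idx_pt (lt j e)]) (H42.pt 0) (by decide)
      rw [idx_pt (lt j e), idx_pt (by norm_num)] at this
      exact Bool.eq_iff_iff.2 this
    cases e0 : c.testBit 0
    · refine Or.inl (Nat.eq_of_testBit_eq fun j => ?_)
      change (c &&& oct0).testBit _ = _
      rw [Nat.testBit_and, Nat.zero_testBit]
      cases e : oct0.testBit j
      · simp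
      · rw [k j e, e0]; rfl
    · refine Or.inr (Nat.eq_of_testBit_eq fun j => ?_)
      change (c &&& oct0).testBit _ = _
      rw [Nat.testBit_and]
      cases e : oct0.testBit j
      · simp
      · rw [k j e, e0]; rfl

theorem sign_spec (xe : XeStmt) {m : ℕ} (hm : m < 4096) (h : cw (enc m) = true)
    (hc : IsWord (toSet (enc m))) : M2.X0 (signEl _ hc) ∧ Rl (signEl _ hc) (fld 4 GS m) ∧
      (fld 4 GS m = 0 → signEl _ hc ∈ center Co0 ∨ signEl _ hc * zt ∈ center Co0) := by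
  have : sgB m = true := by
    by_cases c : m < 2048
    · exact of_allB sign_chk0 c
    · have := of_allB sign_chk1 (i := m - 2048) (by omega)
      rwa [show Nat.add (m - 2048) 2048 = m from Nat.sub_add_cancel (not_lt.1 c)] at this
  simp only [sgB, force_eq, h, Bool.not_true, Bool.false_or, Bool.and_eq_true, Bool.or_eq_true, beq_iff,
    Bool.not_eq_true', beq_false_iff] at this
  have x0 : M2.X0 (signEl _ hc) := (xe.1 _).2 ⟨_, hc, 1, by rw [permEl_one, mul_one],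
    fun _ _ => rfl, cw_iff.1 h⟩
  refine ⟨x0, rl_of x0 (isMat_sign hc this.1.1) this.1.2, fun e => sign_cases hc (cw_iff.1 h) ?_⟩
  rcases this.2 with (((c | c) | c) | c) | c
  · exact absurd e c
  all_goals rw [c]; decide +kernel

theorem perm_spec (xe : XeStmt) {p : ℕ} (hp : p < 24) (h : oct0.testBit p = false) :
    (toM (fld 120 PP p)).1 (some 4) = H42.pt p ∧ (∀ i ∈ toSet oct0, (toM (fld 120 PP p)).1 i = i) ∧
    M2.X0 (permEl (toM (fld 120 PP p))) ∧ Rl (permEl (toM (fld 120 PP p))) (fld 8 GP p) ∧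
      fld 8 GP p % 16 = 0 ∧ (fld 8 GP p = 0 → p = 4) := by
  have := of_allB perm_chk hp
  simp only [force_eq, tb_eq, h, Bool.false_or, Bool.and_eq_true, Bool.or_eq_true, beq_iff,
    Bool.not_eq_true', beq_false_iff, allB_iff] at this
  obtain ⟨⟨⟨⟨⟨⟨a, b⟩, c⟩, d⟩, e⟩, f⟩, k⟩ := this
  have fx : ∀ i ∈ toSet oct0, (toM (fld 120 PP p)).1 i = i := fun i hi => by
    have := toM_smul_pt a (idx_lt i)
    rw [(e _ (idx_lt i)).resolve_left (by simp [mem_toSet.1 hi]), pt_idx] at this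
    exact this
  have x0 : M2.X0 (permEl (toM (fld 120 PP p))) := (xe.1 _).2 ⟨∅, isWord_empty, _,
    by rw [signEl_empty, one_mul], fx, by simp⟩
  exact ⟨by have := toM_smul_pt a (i := 4) (by norm_num); rwa [d] at this, fx, x0,
    rl_of x0 (isMat_perm a b) c, f, fun e => k.resolve_left (not_not.2 e)⟩

theorem exists_rl (xe : XeStmt) {x : Co0} (hx : M2.X0 x) : ∃ g < 256, Rl x g ∧
    (g = 0 → x ∈ center Co0 ∨ x * zt ∈ center Co0) := by
  obtain ⟨c, hc, τ, rfl, h1, h2⟩ := (xe.1 x).1 hx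
  obtain ⟨m, hm, rfl⟩ := (mem_codeSets_iff_enc c).1 hc
  obtain ⟨s1, s2, s3⟩ := sign_spec xe hm (cw_iff.2 h2) hc
  have n4 : τ.1 (some 4) ∉ toSet oct0 := fun e => four_notMem_oct0 (τ.1.injective (h1 _ e) ▸ e)
  obtain ⟨p1, p2, -, p4, p5, p6⟩ := perm_spec xe (idx_lt (τ.1 (some 4))) (by simpa using n4)
  have e : (toM (fld 120 PP (idx (τ.1 (some 4)))))⁻¹ * τ = 1 := xe.2 _ (fun i hi => by
      rw [coe_mul, coe_inv, Equiv.Perm.mul_apply, h1 i hi, Equiv.Perm.inv_eq_iff_eq, p2 i hi])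
    (by rw [coe_mul, coe_inv, Equiv.Perm.mul_apply, Equiv.Perm.inv_eq_iff_eq, p1, pt_idx])
  rw [inv_mul_eq_one.1 e] at p4
  have l : fld 4 GS m < 16 := fld_lt 4 _ _
  refine ⟨_, xl (by omega) (fld_lt 8 _ _), s2.mul s1 p4, fun e0 => ?_⟩
  have e1 := Nat.eq_of_xor_eq_zero e0
  have e2 : τ = 1 := xe.2 τ h1 (by
    have := p6 (by omega)
    rw [← pt_idx (τ.1 (some 4)), this]; rfl)
  rw [e2, permEl_one, mul_one]
  exact s3 (by omega)

theorem exists_x (xe : XeStmt) {g : ℕ} (hg : g < 256) : ∃ x, M2.X0 x ∧ Rl x g := by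
  rw [(by decide +kernel : ∀ g < 256, g = xorC (fun i => 2 ^ i) g 8) g hg]
  refine xorC_induction (fun a => ∃ x, M2.X0 x ∧ Rl x a) ⟨1, x0_center (one_mem _),
    rl_zero fun v _ => cong_smul_of_center (one_mem _) v⟩
    (fun a b ⟨x, x0, r⟩ ⟨y, y0, r'⟩ => ⟨_, x0_mul x0 y0, r.mul x0 r'⟩) _ _ _ fun i hi => ?_
  rcases (by decide +kernel : ∀ i < 8, (∃ m ∈ [2960, 3408, 464, 208], m < 4096 ∧ cw (enc m) = true ∧
    fld 4 GS m = 2 ^ i) ∨ ∃ p ∈ [9, 13, 7, 6], p < 24 ∧ oct0.testBit p = false ∧ fld 8 GP p = 2 ^ i)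
    i hi with ⟨m, -, a, b, c⟩ | ⟨p, -, a, b, c⟩
  · have := sign_spec xe a b (isWord_toSet (isCode_enc a))
    exact ⟨_, this.1, c ▸ this.2.1⟩
  · have := perm_spec xe a b
    exact ⟨_, this.2.2.1, c ▸ this.2.2.2.1⟩

open Classical in
/-- coordinates on the group -/
noncomputable def ga (x : Co0) : V8 := if h : ∃ g < 256, Rl x g then bt h.choose else 0

theorem ga_eq {x : Co0} {g : ℕ} (hg : g < 256) (r : Rl x g) : ga x = bt g := by
  have h : ∃ g < 256, Rl x g := ⟨g, hg, r⟩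
  rw [ga, dif_pos h, Rl.uniq h.choose_spec.1 hg h.choose_spec.2 r]

theorem lm (xe : XeStmt) : LM al be ga tv q1 q3 := by
  have ea : ∀ {n m}, m < 256 → kap n = k8 m → al n = bt m := fun hm e => by
    rw [al, e, (k8_chk hm).1]
  refine ⟨fun n _ n' _ => by rw [al, kap_add, H74.Mon.code_xor, bt_xor]; rfl, fun n hn => ?_,
    fun a => ?_, fun n hn => ?_, fun v v' _ _ => by rw [be, kap_add, H74.Mon.code_xor, bt_xor]; rfl,
    fun v hv => ?_, fun a => ⟨rp (nb a), (rep_spec (nb_lt a)).2.2, by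
      rw [be, (rep_spec (nb_lt a)).2.1, (k8_chk (nb_lt a)).2.2, bt_nb]⟩, fun v hv => ?_,
    fun x y hx hy => ?_, fun x hx => ?_, fun a => ?_, fun x v hx hv => ?_⟩
  · obtain ⟨m, hm, e⟩ := mem8.1 hn
    rw [ea hm e, bt_eq_zero hm, cong_iff_kap, xl_kap.zero, e]
    exact ⟨fun c => by rw [c, k8, xorC_zero'], fun c => by
      rw [← (k8_chk hm).1, ← c, code, xorC_zero']⟩
  · have e : kap (sumB (fun i => H49.bas i - zt • H49.bas i) (nb a) 8) = k8 (nb a) :=
      kap_sumB kap_K8 _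
    exact ⟨_, mem8.2 ⟨_, nb_lt a, e⟩, by rw [ea (nb_lt a) e, bt_nb]⟩
  · obtain ⟨m, hm, e⟩ := mem8.1 hn
    have := of_allB rp_chk hm
    simp only [H49.forceL_eq, Bool.and_eq_true, beq_iff, decide_eq_true_iff, beq_iff_eq] at this
    obtain ⟨⟨⟨⟨a, b⟩, c⟩, d⟩, -⟩ := this
    have n1 : sqNorm (lamD (unp (fld 120 RP m))).1 = ldot (unp (fld 120 RP m)) (unp (fld 120 RP m)) := by
      rw [lamD_val a, sqNorm_vec _ (memL_length a)]
    have c1 : cong n (lamD (unp (fld 120 RP m))) := cong_iff_kap.2 (by rw [kap_lamD a, b, e])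
    rw [ea hm e, q3, nb_bt hm, zb_one, ← d, decide_eq_true_iff, ← n1]
    exact ⟨fun k => ⟨_, c1, k⟩, fun ⟨w, k, k'⟩ =>
      ((k.symm.trans c1).norm_eq (by omega) (n1 ▸ c)).trans k'⟩
  · rw [be, bt_eq_zero (code_lt 8 _ _)]
    refine ⟨fun e => ?_, fun h => ?_⟩
    · obtain ⟨n, hn, -, -, c⟩ := dec hv
      rw [e] at c
      refine W8_cong hn (cong_iff_kap.2 ?_)
      rw [cong_iff_kap.1 c, kap_add, (rep_spec (by norm_num)).2.1, phi, xorC_zero', Nat.zero_xor]
    · obtain ⟨m, hm, e⟩ := mem8.1 h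
      rw [e, (k8_chk hm).2.1]
  · obtain ⟨n, hn, n1, n2, c⟩ := dec hv
    have hm := code_lt 8 iPhi (kap v)
    rw [be, q1, nb_bt hm, zb_zero]
    generalize code 8 iPhi (kap v) = m at c hm ⊢
    have := of_allB rp_chk hm
    simp only [H49.forceL_eq, Bool.and_eq_true, beq_iff_eq] at this
    have h1 := c.norm_mod
    have h2 := n2 _ (rep_spec hm).2.2
    rw [AddSubgroup.coe_add, sqNorm_add, dotInt_comm] at h1
    have h3 : sqNorm (rp m).1 = ldot (repL m) (repL m) := by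
      rw [rp, lamD_val (rep_spec hm).1, sqNorm_vec _ (memL_length (rep_spec hm).1)]
    rw [← Bool.not_eq_true', ← this.2, dvdB_iff, ← h3]
    push_cast
    omega
  · obtain ⟨g, hg, r, -⟩ := exists_rl xe hx
    obtain ⟨g', hg', r', -⟩ := exists_rl xe hy
    rw [ga_eq hg r, ga_eq hg' r', ga_eq (xl hg hg') (r.mul hx r'), bt_xor]
  · obtain ⟨g, hg, r, k⟩ := exists_rl xe hx
    rw [ga_eq hg r, bt_eq_zero hg]
    refine ⟨k, fun c => r.uniq hg (by norm_num) (rl_zero fun v hv => ?_)⟩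
    refine c.elim (fun c => cong_smul_of_center c v) fun c => ?_
    have := cong_smul_of_center c (zt • v)
    rw [mul_smul, zt_zt] at this
    exact hv.trans this
  · obtain ⟨x, x0, r⟩ := exists_x xe (nb_lt a)
    exact ⟨x, x0, by rw [ga_eq (nb_lt a) r, bt_nb]⟩
  · obtain ⟨g, hg, r, -⟩ := exists_rl xe hx
    have e := (kap_sub _ _).trans (r v hv)
    refine ⟨mem8.2 ⟨_, tN_lt _ _, e⟩, ?_⟩
    rw [ea (tN_lt _ _) e, ga_eq hg r, tv, be, nb_bt hg, nb_bt (code_lt 8 _ _)]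

theorem tm (xe : XeStmt) : TmStmt := ⟨al, be, ga, tv, q1, q3, tri, lm xe⟩

end Cfsg.Agent.H49.Tm
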