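import Cfsg.Agent.H49.M2Tri

/-! The triality tensor on the lattice. -/

set_option autoImplicit false
set_option maxRecDepth 200000

namespace Cfsg.Agent.H49.Tm

open Cfsg Subgroup Cfsg.Agent.H42 Cfsg.Agent.H48 Cfsg.Agent.H48.Rec Cfsg.Agent.H48.M2
open Cfsg.Agent.H74.Mon (iPhi iBT rp repL rep_spec dec_zt sM norm_cm_zt dot_cm)

/-- the class with given coordinates -/
noncomputable def k8 (m : ℕ) : ℕ := xorC (fld 24 K8) m 8

/-- the test on a basis -/
noncomputable def rlB (M : List (List ℤ)) (g : ℕ) : Bool :=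
  allB (fun j => H49.forceL (repL (2 ^ j)) fun l => Nat.beq (Nat.xor (kapL (lact M l)) (kapL l))
    (k8 (fld 8 (xorC (fld 64 TT) g 8) j))) 8

/-- words that are constant on the octad -/
def cw (c : ℕ) : Bool := Nat.beq (Nat.land c oct0) 0 || Nat.beq (Nat.land c oct0) oct0

/-- the test for a word -/
noncomputable def sgB : ℕ → Bool := fun m => force (enc m) fun c => !cw c || (signB (sM c) c &&
    rlB (sM c) (fld 4 GS m) && (!Nat.beq (fld 4 GS m) 0 || Nat.beq c 0 || Nat.beq c 16777215 ||
      Nat.beq c oct0 || Nat.beq c 8241104))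

theorem sign_chk0 : allB sgB 2048 = true := by decide +kernel

end Cfsg.Agent.H49.Tm
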