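import Cfsg.Agent.H49.M2TmA

/-! The triality tensor on the lattice. -/

set_option autoImplicit false
set_option maxRecDepth 200000

namespace Cfsg.Agent.H49.Tm

open Cfsg Subgroup Cfsg.Agent.H42 Cfsg.Agent.H48 Cfsg.Agent.H48.Rec Cfsg.Agent.H48.M2
open Cfsg.Agent.H74.Mon (iPhi iBT rp repL rep_spec dec_zt sM norm_cm_zt dot_cm)

theorem sign_chk1 : allB (fun m => sgB (Nat.add m 2048)) 2048 = true := by decide +kernel

end Cfsg.Agent.H49.Tm
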