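import Cfsg.Agent.H49.MidU2
import Cfsg.Agent.H48.BuPure
import Cfsg.Agent.H70.BuWcT
import Cfsg.Agent.H47.BuFus
import Cfsg.Agent.H47.BuMain
import Cfsg.Agent.H97.YtMain

/-! Uniqueness of groups of Monster type. -/

set_option autoImplicit false

namespace Cfsg.Agent.H49.Mid

open Cfsg Cfsg.Agent.H48.Mid

universe u

theorem b_uniq : BUniqStmt.{u} :=
  H47.Bu.buniq (H47.Bu.fus H48.BuP.pure H70.BuC.wcT) H97.Yt.bEquiv

theorem k_iso : KIsoStmt.{u} := let ⟨e⟩ := H97.Yt.bEquiv; kiso b_uniq e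

theorem m_uniq : MUniqStmt.{u} := muniq k_iso fun _ _ h => H97.Yt.tup_univ h

end Cfsg.Agent.H49.Mid
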