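import Cfsg.Agent.H89.OlDefs
import Cfsg.Agent.H26.Star

/-! Project OL, piece E5A: the columns for an elementary abelian defect group of order `32`. -/

set_option autoImplicit false
set_option linter.unusedSectionVars false

namespace Cfsg.Agent.H49.OlE5A

open Subgroup Cfsg.Agent.H18 Cfsg.Agent.H17 Cfsg.Agent.H26.K64 MonoidAlgebra Cfsg.Agent.H89.Ol
open Cfsg.Agent.H19 (kk val)
open scoped ComplexConjugate Classical

universe u

variable {G : Type u} [Group G] [Fintype G] [Fintype (IrrCharacter G)] {M : Ideal AlgInt}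
  {B : Set (IrrCharacter G)} {P : Subgroup G} {e : (kk M)[G]} {t z : G}

theorem filt (s : BS M 2 B P e) {ι : Type} [Fintype ι] {w : ι → G}
    (hn : ∀ i j, Fus 2 P e (w i) (w j) → i = j) {v : G} {i : ι} (h : Fus 2 P e (w i) v) :
    ∑ u ∈ Finset.univ.image w with Fus 2 P e u v, (1 : ℂ) = 1 := by
  rw [show (Finset.univ.image w).filter (Fus 2 P e · v) = {w i} from ?_, Finset.sum_singleton]
  ext u'
  rw [Finset.mem_filter, Finset.mem_singleton, Finset.mem_image]
  refine ⟨fun ⟨⟨j, _, h1⟩, h2⟩ => ?_, fun h1 => h1 ▸ ⟨⟨i, Finset.mem_univ _, rfl⟩, h⟩⟩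
  subst h1
  rw [hn _ _ (s.trans h2 (s.symm h))]

theorem inj (s : BS M 2 B P e) {ι : Type} {w : ι → G} (hw : ∀ i, w i ∈ P)
    (hn : ∀ i j, Fus 2 P e (w i) (w j) → i = j) : Function.Injective w :=
  fun i j h => hn i j (h ▸ s.refl (hw i))

theorem half (hz : ∀ g, z * g = g * z) (h2 : z * z = 1) (f : IrrCharacter G → ℂ) :
    ∑ χ ∈ fs B, f χ + ∑ χ ∈ fs B, H20.cw χ z * f χ = 2 * ∑ χ ∈ Xz B z, f χ := by
  rw [Finset.sum_filter (s := fs B), Finset.mul_sum, ← Finset.sum_add_distrib]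
  refine Finset.sum_congr rfl fun χ _ => ?_
  split_ifs with h
  · rw [h]; ring
  · rw [(cw_sq hz h2 χ).resolve_left h]; ring

theorem nil_hyp (h : H5 M B P e t z) {u : G} (hu : u ∈ P) (h1 : u ≠ 1) (h2 : u ≠ z) :
    ∀ g ∈ NP ⊤ P e, g * u = u * g → g ∈ Cz P := by
  intro g hg hc
  obtain ⟨k, hk⟩ := h.cy.gen g hg (mem_top _)
  have h3 : Commute (t ^ k) u := by
    have := (show Commute g u from hc).mul_left (show Commute _ u from (hk u hu).symm).inv_left
    simpa using this
  have h5 : Commute (t ^ 5) u := (h.cy.pow u hu).symm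
  by_cases h4 : 5 ∣ k
  · obtain ⟨m, rfl⟩ := h4
    have := mul_mem (pow_mem h.cy.pow m) hk
    rwa [← pow_mul, mul_inv_cancel_left] at this
  · exfalso
    obtain ⟨m, hm⟩ : ∃ m, k * k * k * k = 5 * m + 1 := by
      refine ⟨k * k * k * k / 5, ?_⟩
      have : k * k * k * k % 5 = 1 := by
        have : k % 5 = 1 ∨ k % 5 = 2 ∨ k % 5 = 3 ∨ k % 5 = 4 := by omega
        rcases this with h | h | h | h <;> simp [Nat.mul_mod, h]
      omega
    have h6 := (h5.pow_left m).inv_left.mul_left (((h3.pow_left k).pow_left k).pow_left k)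
    simp only [← pow_mul] at h6
    rw [hm, pow_succ, inv_mul_cancel_left] at h6
    exact (h.fix u hu h6.eq).elim h1 h2

theorem e5a (e5o : E5OStmt.{u}) (nil : NILStmt.{u}) (fu : FUStmt.{u}) : E5AStmt.{u} := by
  intro G _ _ _ M B P e t z h
  have s := h.bs
  have zz := h.sq z h.mem
  obtain ⟨v, hv, hne, h1, h2, hc, hg⟩ := e5o G M B P e t z h
  choose d hd hd0 using fun i => (nil G M B P e (v i) s h.cy.ab (hv i)
    (nil_hyp h (hv i) (hne i).1 (hne i).2)).2 (h.sq _ (hv i))
  rw [h.card] at hd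
  have fz : ∀ {a b}, Fus 2 P e a b → Fus 2 P e (z * a) (z * b) := fun {a b} hf => by
    obtain ⟨g, hg, rfl⟩ := (fu G M B P e a b s h.cy.ab hf.left).1 hf
    exact (fu G M B P e _ _ s h.cy.ab (mul_mem h.mem hf.left)).2
      ⟨g, hg, by rw [← mul_assoc g, ← h.cen g]; simp only [mul_assoc]⟩
  have fz' : ∀ {a b}, Fus 2 P e (z * a) (z * b) → Fus 2 P e a b := fun {a b} hf => by
    simpa only [← mul_assoc, zz, one_mul] using fz hf
  have f1 : ∀ {b}, Fus 2 P e 1 b → b = 1 := fun hf => isConj_one_right.1 hf.isConj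
  have hzv : ∀ i, z * v i ≠ 1 := fun i e => (hne i).2 (mul_left_cancel (e.trans zz.symm))
  let a : Option (Fin 3) → G := fun o => o.elim 1 v
  have ha : ∀ o, a o ∈ P := fun o => by cases o; exacts [one_mem _, hv _]
  have A1 : ∀ o o', Fus 2 P e (a o) (a o') → o = o' := by
    rintro (_ | i) (_ | j) hf
    exacts [rfl, absurd (f1 hf) (hne j).1, absurd (f1 (s.symm hf)) (hne i).1, congrArg _ (h1 i j hf)]
  have A2 : ∀ o o', ¬ Fus 2 P e (a o) (z * a o') := by
    rintro (_ | i) (_ | j) hf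
    · exact h.ne ((mul_one z).symm.trans (f1 hf))
    · exact hzv j (f1 hf)
    · have := fz (s.symm hf)
      rw [show z * (z * a none) = 1 by rw [← mul_assoc, zz, one_mul]; rfl] at this
      exact hzv i (f1 this)
    · exact h2 i j hf
  let w : Option (Fin 3) ⊕ Option (Fin 3) → G := Sum.elim a fun o => z * a o
  have hw : ∀ x, w x ∈ P := by
    rintro (o | o)
    exacts [ha o, mul_mem h.mem (ha o)]
  have hn : ∀ x y, Fus 2 P e (w x) (w y) → x = y := by
    rintro (o | o) (o' | o') hf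
    exacts [congrArg _ (A1 _ _ hf), absurd hf (A2 _ _), absurd (s.symm hf) (A2 _ _),
      congrArg _ (A1 _ _ (fz' hf))]
  have hcov : ∀ y ∈ P, ∃ x, Fus 2 P e (w x) y := fun y hy => by
    rcases hc y hy with rfl | rfl | ⟨i, hf | hf⟩
    · exact ⟨.inl none, s.refl hy⟩
    · exact ⟨.inr none, by rw [show w (.inr none) = y from mul_one y]; exact s.refl hy⟩
    · exact ⟨.inl (some i), hf⟩
    · exact ⟨.inr (some i), hf⟩
  have hmc : ∀ i χ ψ, mc M 2 P e (v i) χ.1 ψ.1 = (d i χ * d i ψ : ℤ) / 32 := fun i χ ψ => by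
    rw [(hd i).eq']; simp
  have key : ∀ χ ∈ Xz B z, ∀ ψ ∈ Xz B z, 32 * mc M 2 P e 1 χ.1 ψ.1 =
      ((if χ = ψ then 16 else 0) - ∑ i, d i χ * d i ψ : ℤ) := fun χ hχ ψ hψ => by
    obtain ⟨hχ, c1⟩ := Finset.mem_filter.1 hχ
    obtain ⟨-, c2⟩ := Finset.mem_filter.1 hψ
    have h3 := s.classInner_eq (Finset.univ.image w) (fun u hu => by
      obtain ⟨x, -, rfl⟩ := Finset.mem_image.1 hu; exact hw x) (fun _ => 1)
      (fun y hy => (hcov y hy).elim fun x hx => filt s hn hx) (mem_fs.1 hχ) (irr_isClassFunction ψ)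
    rw [Finset.sum_image (inj s hw hn).injOn, Fintype.sum_sum_type, H11.classInner_irr_irr] at h3
    simp only [w, Sum.elim_inl, Sum.elim_inr, s.mc_mul h.mem h.cen (ha _), c1, c2, map_one,
      one_mul] at h3
    simp only [Fintype.sum_option, a, Option.elim, hmc, Fin.sum_univ_three] at h3
    rw [Fin.sum_univ_three]
    push_cast at h3 ⊢
    split_ifs at h3 ⊢ <;> linear_combination (-16) * h3
  have orth : ∀ i j, ∑ x ∈ Xz B z, d i x * d j x = if i = j then 16 else 0 := fun i j => by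
    have hz : Col M 2 B P e (z * v j) 32 fun χ => H20.cw χ z * d j χ :=
      ⟨mul_mem h.mem (hv j), by norm_num, fun χ ψ => by
        rw [s.mc_mul h.mem h.cen (hv j), mul_assoc, (hd j).eq, map_mul]; ring, fun χ hχ h0 => by
        have := (hd j).unit χ hχ h0
        rcases cw_sq h.cen zz χ with c | c <;> simpa [c] using this⟩
    have h3 := (hd i).orth s hz (h2 i j)
    have h4 := half (B := B) h.cen zz fun χ => (d i χ * d j χ : ℤ)
    have h5 : ∑ χ ∈ fs B, H20.cw χ z * (d i χ * d j χ : ℤ) = 0 :=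
      (Finset.sum_congr rfl fun χ _ => by simp; ring).trans h3
    have h6 : ∑ χ ∈ fs B, ((d i χ * d j χ : ℤ) : ℂ) = if i = j then 32 else 0 := by
      split_ifs with hij
      · subst hij
        simpa using (hd i).sum_self s
      · simpa using (hd i).orth s (hd j) fun hf => hij (h1 i j hf)
    rw [h5, h6, add_zero, ← Int.cast_sum] at h4
    split_ifs at h4 ⊢ <;> norm_cast at h4 <;> omega
  refine ⟨d, ⟨orth, fun x hx i => hd0 i x (mem_fs.1 (Finset.mem_filter.1 hx).1), fun x hx => ?_,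
    fun x hx y hy i j => ?_⟩, ?_, key⟩
  · have h3 := H26.K4.mc_pos s (w := 1) ⟨one_mem _, fun _ _ => by simp⟩
      (mem_fs.1 (Finset.mem_filter.1 hx).1)
    have h4 := congrArg Complex.re (key x hx x hx)
    rw [if_pos rfl, Complex.intCast_re, show (32 : ℂ) = (32 : ℕ) by norm_num, natCast_mul_re] at h4
    have h5 : (0 : ℝ) < ((16 - ∑ i, d i x * d i x : ℤ) : ℝ) := by rw [← h4]; positivity
    have := Int.cast_pos.1 h5
    omega
  · have hst : ∀ a b, Fus 2 P e a b → (8 * ((if Fus 2 P e (v i) b then 1 else 0) -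
        if Fus 2 P e (v j) b then 1 else 0) : ℂ) = 8 * ((if Fus 2 P e (v i) a then 1 else 0) -
        if Fus 2 P e (v j) a then 1 else 0) := fun a b hf => by
      rw [s.ind_stable _ a b hf, s.ind_stable _ a b hf]
    have := s.charP
    obtain ⟨n, hn⟩ := H11.exists_int_classInner (isGen_bstar s.hM s.hB s.max (hg i j)
      (isStable_of_fus s.pair hst) (H11.isGen_of_irr x.2)) (H11.isGen_of_irr y.2)
    have h3 := s.classInner_bstar_eq hst (Finset.univ.image v) (fun u hu => by
      obtain ⟨x, -, rfl⟩ := Finset.mem_image.1 hu; exact hv x) (fun _ => 1)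
      (fun y _ hy => by
        by_cases c : Fus 2 P e (v i) y
        · exact filt s h1 c
        · exact filt s h1 (i := j) (by by_contra c'; simp [c, c'] at hy))
      (mem_fs.1 (Finset.mem_filter.1 hx).1) (irr_isClassFunction y)
    have h4 : ∀ i k, Fus 2 P e (v i) (v k) ↔ i = k := fun i k =>
      ⟨h1 i k, fun c => c ▸ s.refl (hv i)⟩
    rw [hn, Finset.sum_image (inj s hv h1).injOn] at h3
    simp only [h4, one_mul, mul_sub, sub_mul, mul_ite, ite_mul, mul_one, mul_zero, zero_mul,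
      Finset.sum_sub_distrib, Finset.sum_ite_eq, Finset.mem_univ, if_true, hmc] at h3
    refine ⟨n, Int.cast_injective (α := ℂ) ?_⟩
    push_cast at h3 ⊢
    linear_combination (-4) * h3
  · have h3 := half (B := B) h.cen zz fun χ => mc M 2 P e 1 χ.1 χ.1
    rw [s.sum_mc_one, s.sum_cw_of_not_fus h.mem h.cen (one_mem _) (A2 none none), add_zero] at h3
    have h4 : ∑ χ ∈ Xz B z, 32 * mc M 2 P e 1 χ.1 χ.1 = (16 * (Xz B z).card - 48 : ℤ) := by
      rw [Finset.sum_congr rfl fun χ hχ => key χ hχ χ hχ, ← Int.cast_sum, Finset.sum_sub_distrib,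
        Finset.sum_comm]
      simp only [orth, if_true]
      simp [mul_comm]
    rw [← Finset.mul_sum] at h4
    refine Nat.cast_injective (R := ℂ) ?_
    push_cast at h4 ⊢
    linear_combination (-1 / 16) * h4 - h3

end Cfsg.Agent.H49.OlE5A
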