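import Cfsg.Agent.H97.U5Defs

/-!
# Automorphisms of the subgroup `q^{1+6}` of the Sylow subgroup of `PSU₅(q)`
-/

set_option autoImplicit false

namespace Cfsg.Agent.H49.U5AQ

open Cfsg.Agent.H97 Cfsg.Agent.H97.U5 Cfsg.Agent.H96.VB Subgroup
open scoped commutatorElement

universe u

variable {K : Type u} [Field K] {T : Hm K}

theorem Z_le_Q : Z T ≤ Q T := Z_le_Z2.trans (Z2_le_QR.trans QR_le_Q)

theorem chZ : Ch (Q T) (Z T) := by
  refine Ch.of_iff IvS.one.commP fun g => ⟨fun h => ⟨Z_le_Q h, fun x _ =>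
    commutatorElement_eq_one_iff_mul_comm.2 (comm_Z h x)⟩, fun ⟨hg, h⟩ => (wv_eq_zero hg).1 ?_⟩
  have k : ∀ w, Perp T (wv g) w := fun w => by
    obtain ⟨x, hx, rfl⟩ := wv_surj (T := T) w
    exact (perp_wv hg hx).2 (h x hx)
  obtain ⟨h1, h2⟩ := perp_perp_P.1 fun x y => k (0, y, x)
  refine Prod.ext h1 (Prod.ext h2 (T.σ_eq_zero.1 (T.eq_zero_of_skew fun x => ?_)))
  have := k (x, 0, 0)
  simp only [Perp, hm, map_zero] at this
  rw [T.inv]
  linear_combination -this

theorem div_mem_Z {x y : U T} (hx : x ∈ Q T) (hy : y ∈ Q T) (h : wv y = wv x) : x⁻¹ * y ∈ Z T := by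
  have m := mul_mem (inv_mem hx) hy
  have := wv_mul (g := x) m
  rw [mul_inv_cancel_left, h, left_eq_add] at this
  exact (wv_eq_zero m).1 this

theorem wv_ext (α : MulAut (Q T)) {x y : U T} (hx : x ∈ Q T) (hy : y ∈ Q T) (h : wv y = wv x) :
    wv (ext α y) = wv (ext α x) := by
  have m := mul_mem (inv_mem hx) hy
  rw [← mul_inv_cancel_left x y, ext_map_mul α hx m, wv_mul (ext_mem α m),
    (wv_eq_zero (ext_mem α m)).2 (chZ.2 α _ m (div_mem_Z hx hy h)), add_zero]

/-- The action on `Q / Z`. -/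
noncomputable def act (α : MulAut (Q T)) (w : W K) : W K := wv (ext α (wv_surj (T := T) w).choose)

theorem act_wv (α : MulAut (Q T)) {x : U T} (hx : x ∈ Q T) : act α (wv x) = wv (ext α x) :=
  wv_ext α hx (wv_surj (wv x)).choose_spec.1 (wv_surj (wv x)).choose_spec.2

/-- The action on `Q / Z` as a homomorphism. -/
noncomputable def rho : MulAut (Q T) →* Function.End (W K) where
  toFun := act
  map_one' := funext fun w => by
    obtain ⟨x, hx, rfl⟩ := wv_surj (T := T) w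
    rw [act_wv _ hx, ext_one]; rfl
  map_mul' α β := funext fun w => by
    obtain ⟨x, hx, rfl⟩ := wv_surj (T := T) w
    change _ = act α (act β (wv x))
    rw [act_wv _ hx, act_wv _ hx, act_wv _ (ext_mem β hx), ext_mul]

theorem aq1 {p : ℕ} [CharP K p] : AQ1 T p where
  chZ := chZ
  rho := by
    refine ⟨rho.toHomPerm, fun α x hx => act_wv α hx, fun α v w => ?_, fun α v w h => ?_⟩ <;>
      obtain ⟨x, hx, rfl⟩ := wv_surj (T := T) v <;> obtain ⟨y, hy, rfl⟩ := wv_surj (T := T) w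
    · change act α _ = act α _ + act α _
      rw [← wv_mul hy, act_wv α (mul_mem hx hy), act_wv α hx, act_wv α hy, ext_map_mul α hx hy,
        wv_mul (ext_mem α hy)]
    · change Perp T (act α _) (act α _)
      rw [act_wv α hx, act_wv α hy, perp_wv (ext_mem α hx) (ext_mem α hy), ← ext_map_comm α hx hy,
        (perp_wv hx hy).1 h, ext_map_one]
  ker α h := by
    have e : ∀ {a b : U T}, a ∈ Z T → b ∈ Z T → a.a = b.a → a = b := fun ha hb k =>
      U.ext (ha.1.trans hb.1.symm) (ha.2.1.trans hb.2.1.symm) (ha.2.2.1.trans hb.2.2.1.symm) k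
        (ha.2.2.2.1.trans hb.2.2.2.1.symm) (ha.2.2.2.2.trans hb.2.2.2.2.symm)
    have hZ : ∀ z ∈ Z T, ext α z = z := fun z hz => by
      obtain ⟨m, hm⟩ := T.exists_skew (c := z.a) (by simpa [hz.2.1] using z.ha)
      have h1 : xt T 1 ∈ Q T := ⟨rfl, rfl⟩
      have h2 : xm T m ∈ Q T := ⟨rfl, rfl⟩
      obtain ⟨c1, c2⟩ := cm_QQ h1 h2
      obtain ⟨d1, d2⟩ := cm_QQ (ext_mem α h1) (ext_mem α h2)
      have k1 := h _ h1
      have k2 := h _ h2
      simp only [wv, Prod.mk.injEq] at k1 k2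
      rw [k1.1, k1.2.1, k1.2.2, k2.1, k2.2.1, k2.2.2, ← c2] at d2
      rw [e hz c1 (by simpa [c2] using hm.symm), ext_map_comm α h1 h2, e d1 c1 d2]
    refine ⟨hZ, MulEquiv.ext fun x => Subtype.ext ?_⟩
    have z := div_mem_Z x.2 (ext_mem α x.2) (h x x.2)
    have k : ∀ n : ℕ, ext (α ^ n) (x : U T) = x * ((x : U T)⁻¹ * ext α x) ^ n := fun n => by
      induction n with
      | zero => simp
      | succ n ih =>
        rw [pow_succ', ext_mul, ih, ext_map_mul α x.2 (Z_le_Q (pow_mem z n)), hZ _ (pow_mem z n), pow_succ',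
          ← mul_assoc, mul_inv_cancel_left]
    rw [← ext_coe, k, pow_V_eq_one p (Z2_le_V (Z_le_Z2 z)), mul_one]
    rfl

end Cfsg.Agent.H49.U5AQ
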